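import Mathlib

/-!
A polycyclic chain of subgroups of a finite group whose action on a regular orbit identifies the
elements with their exponent vectors.
-/

set_option autoImplicit false
set_option linter.unusedSectionVars false

namespace H44.LyTwo

variable {G : Type*} [Group G]

/-- The product of the chosen generators, in increasing order. -/
def wd (x : ℕ → G) : ℕ → ℕ → G
  | 0, _ => 1
  | k + 1, i => wd x k i * (if Nat.testBit i k then x k else 1)

/-- Right multiplication of indices, by the table of the generators. -/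
def mv (sg : ℕ → ℕ → ℕ) : ℕ → ℕ → ℕ → ℕ
  | 0, i, _ => i
  | k + 1, i, j => if Nat.testBit j k then sg k (mv sg k i j) else mv sg k i j

/-- The subgroup of the first generators. -/
def chain (x : ℕ → G) (k : ℕ) : Subgroup G := Subgroup.closure (x '' Set.Iio k)

theorem chain_zero (x : ℕ → G) : chain x 0 = ⊥ := by
  rw [chain, eq_bot_iff, Subgroup.closure_le]
  rintro _ ⟨j, hj, rfl⟩
  exact absurd hj (Nat.not_lt_zero _)

theorem gen_mem_chain (x : ℕ → G) {j k : ℕ} (h : j < k) : x j ∈ chain x k :=
  Subgroup.subset_closure ⟨j, h, rfl⟩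

theorem chain_le_succ (x : ℕ → G) (k : ℕ) : chain x k ≤ chain x (k + 1) :=
  Subgroup.closure_mono (Set.image_mono (Set.Iio_subset_Iio (Nat.le_succ k)))

theorem wd_mem_chain (x : ℕ → G) (i : ℕ) : ∀ k, wd x k i ∈ chain x k
  | 0 => Subgroup.one_mem _
  | k + 1 => by
      refine Subgroup.mul_mem _ (chain_le_succ x k (wd_mem_chain x i k)) ?_
      split
      · exact gen_mem_chain x (Nat.lt_succ_self k)
      · exact Subgroup.one_mem _

theorem wd_congr (x : ℕ → G) {i i' : ℕ} : ∀ k, (∀ j < k, i.testBit j = i'.testBit j) →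
    wd x k i = wd x k i'
  | 0, _ => rfl
  | k + 1, h => by
      show wd x k i * _ = wd x k i' * _
      rw [wd_congr x k fun j hj => h j (Nat.lt_succ_of_lt hj), h k (Nat.lt_succ_self k)]

/-- Power-commutator relations of a chain of length `n`. -/
structure Rels (x : ℕ → G) (n : ℕ) : Prop where
  sq : ∀ k < n, ∃ a, x k * x k = wd x k a
  cm : ∀ k < n, ∀ j < k, ∃ b, x k * x j = wd x k b * x k

variable [Finite G]

theorem chain_forms {x : ℕ → G} {n : ℕ} (R : Rels x n) :
    ∀ k ≤ n, ∀ y ∈ chain x k, ∃ i < 2 ^ k, wd x k i = y := by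
  intro k
  induction k with
  | zero =>
    intro _ y hy
    rw [chain_zero, Subgroup.mem_bot] at hy
    exact ⟨0, Nat.one_pos, hy.symm⟩
  | succ k ih =>
    intro hk
    set K := chain x k
    set β := x k
    obtain ⟨a, ha⟩ := R.sq k hk
    have h2 : β * β ∈ K := ha ▸ wd_mem_chain x a k
    have hn : ∀ y ∈ K, β * y * β⁻¹ ∈ K := by
      have hle : K ≤ K.comap (MulAut.conj β).toMonoidHom := by
        refine (Subgroup.closure_le _).mpr ?_
        rintro _ ⟨j, hj, rfl⟩
        obtain ⟨b, hb⟩ := R.cm k hk j hj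
        show β * x j * β⁻¹ ∈ K
        rw [hb, mul_inv_cancel_right]
        exact wd_mem_chain x b k
      exact fun y hy => hle hy
    have hmul : ∀ y z, (y ∈ K ∨ y * β⁻¹ ∈ K) → (z ∈ K ∨ z * β⁻¹ ∈ K) →
        (y * z ∈ K ∨ y * z * β⁻¹ ∈ K) := by
      rintro y z (hy | hy) (hz | hz)
      · exact Or.inl (K.mul_mem hy hz)
      · exact Or.inr (by rw [mul_assoc]; exact K.mul_mem hy hz)
      · refine Or.inr ?_
        rw [show y * z * β⁻¹ = (y * β⁻¹) * (β * z * β⁻¹) by group]
        exact K.mul_mem hy (hn z hz)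
      · refine Or.inl ?_
        rw [show y * z = (y * β⁻¹) * (β * (z * β⁻¹) * β⁻¹) * (β * β) by group]
        exact K.mul_mem (K.mul_mem hy (hn _ hz)) h2
    intro y hy
    have hy' : y ∈ K ∨ y * β⁻¹ ∈ K := by
      rw [chain] at hy
      induction hy using Subgroup.closure_induction with
      | mem w hw =>
        obtain ⟨j, hj, rfl⟩ := hw
        rcases Nat.lt_succ_iff_lt_or_eq.mp (show j < k + 1 from hj) with hj | rfl
        · exact Or.inl (gen_mem_chain x hj)
        · exact Or.inr (by rw [mul_inv_cancel]; exact K.one_mem)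
      | one => exact Or.inl K.one_mem
      | mul a b _ _ iha ihb => exact hmul a b iha ihb
      | inv a _ iha =>
        have hpow : ∀ m : ℕ, a ^ m ∈ K ∨ a ^ m * β⁻¹ ∈ K := fun m => by
          induction m with
          | zero => exact Or.inl (by rw [pow_zero]; exact K.one_mem)
          | succ m ihm => rw [pow_succ]; exact hmul _ _ ihm iha
        have hinv : a⁻¹ = a ^ (orderOf a - 1) := by
          refine inv_eq_of_mul_eq_one_right ?_
          rw [← pow_succ', Nat.sub_add_cancel (orderOf_pos a), pow_orderOf_eq_one]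
        rw [hinv]
        exact hpow _
    rcases hy' with h | h
    · obtain ⟨i, hi, e⟩ := ih (Nat.le_of_succ_le hk) y h
      refine ⟨i, hi.trans (Nat.pow_lt_pow_right Nat.one_lt_two (Nat.lt_succ_self k)), ?_⟩
      show wd x k i * _ = y
      rw [Nat.testBit_lt_two_pow hi]
      simpa using e
    · obtain ⟨i, hi, e⟩ := ih (Nat.le_of_succ_le hk) _ h
      refine ⟨2 ^ k + i, by rw [pow_succ]; omega, ?_⟩
      show wd x k (2 ^ k + i) * _ = y
      rw [Nat.testBit_two_pow_add_eq, Nat.testBit_lt_two_pow hi]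
      simp only [Bool.not_false, if_true]
      rw [wd_congr x k fun j hj => Nat.testBit_two_pow_add_gt hj i, e, inv_mul_cancel_right]

/-- A regular orbit of the chain: distinct points `o i`, permuted by the table `sg`. -/
structure Regular (x : ℕ → G) (n : ℕ) {α : Type*} (act : α → G → α) (sg : ℕ → ℕ → ℕ)
    (o : ℕ → α) : Prop where
  act_one : act (o 0) 1 = o 0
  act_mul : ∀ (p : α) (g h : G), act p (g * h) = act (act p g) h
  inj : ∀ i < 2 ^ n, ∀ j < 2 ^ n, o i = o j → i = j
  step : ∀ k < n, ∀ i < 2 ^ n, sg k i < 2 ^ n ∧ act (o i) (x k) = o (sg k i)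
  std : ∀ i < 2 ^ n, mv sg n 0 i = i

variable {x : ℕ → G} {n : ℕ} {α : Type*} {act : α → G → α} {sg : ℕ → ℕ → ℕ} {o : ℕ → α}

theorem mv_lt (O : Regular x n act sg o) {i : ℕ} (hi : i < 2 ^ n) (j : ℕ) :
    ∀ k ≤ n, mv sg k i j < 2 ^ n
  | 0, _ => hi
  | k + 1, hk => by
      show (if _ then _ else _) < 2 ^ n
      split
      · exact (O.step k hk _ (mv_lt O hi j k (Nat.le_of_succ_le hk))).1
      · exact mv_lt O hi j k (Nat.le_of_succ_le hk)

theorem act_o (O : Regular x n act sg o) {i : ℕ} (hi : i < 2 ^ n) : act (o i) 1 = o i := by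
  have h0 : ∀ k ≤ n, act (o (mv sg k 0 i)) 1 = o (mv sg k 0 i) := by
    intro k hk
    induction k with
    | zero => exact O.act_one
    | succ k ih =>
      show act (o (if _ then _ else _)) 1 = o (if _ then _ else _)
      split
      · rw [← (O.step k hk _ (mv_lt O (Nat.two_pow_pos n) i k (Nat.le_of_succ_le hk))).2,
          ← O.act_mul, mul_one]
      · exact ih (Nat.le_of_succ_le hk)
  simpa only [O.std i hi] using h0 n le_rfl

theorem act_wd (O : Regular x n act sg o) {i : ℕ} (hi : i < 2 ^ n) (j : ℕ) :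
    ∀ k ≤ n, act (o i) (wd x k j) = o (mv sg k i j)
  | 0, _ => act_o O hi
  | k + 1, hk => by
      show act (o i) (wd x k j * _) = o (if _ then _ else _)
      rw [O.act_mul, act_wd O hi j k (Nat.le_of_succ_le hk)]
      split
      · exact (O.step k hk _ (mv_lt O hi j k (Nat.le_of_succ_le hk))).2
      · exact act_o O (mv_lt O hi j k (Nat.le_of_succ_le hk))

/-- The element with a given index. -/
def el (x : ℕ → G) (n : ℕ) (i : Fin (2 ^ n)) : chain x n := ⟨wd x n i, wd_mem_chain x i n⟩

theorem el_bijective (R : Rels x n) (O : Regular x n act sg o) :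
    Function.Bijective (el x n) := by
  refine ⟨fun i j h => ?_, fun y => ?_⟩
  · have h1 : wd x n i = wd x n j := congrArg Subtype.val h
    have hi := act_wd O (Nat.two_pow_pos n) i n le_rfl
    rw [h1, act_wd O (Nat.two_pow_pos n) j n le_rfl, O.std _ i.isLt, O.std _ j.isLt] at hi
    exact Fin.ext (O.inj _ i.isLt _ j.isLt hi.symm)
  · obtain ⟨i, hi, e⟩ := chain_forms R n le_rfl y y.2
    exact ⟨⟨i, hi⟩, Subtype.ext e⟩

theorem card_chain (R : Rels x n) (O : Regular x n act sg o) :
    Nat.card (chain x n) = 2 ^ n := by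
  rw [← Nat.card_congr (Equiv.ofBijective _ (el_bijective R O)), Nat.card_fin]

theorem el_mul (R : Rels x n) (O : Regular x n act sg o) (i j : Fin (2 ^ n)) :
    el x n i * el x n j = el x n ⟨mv sg n i j, mv_lt O i.isLt j n le_rfl⟩ := by
  obtain ⟨k, hk⟩ := (el_bijective R O).2 (el x n i * el x n j)
  rw [← hk]
  congr 1
  apply Fin.ext
  have h1 : wd x n k = wd x n i * wd x n j := congrArg Subtype.val hk
  have h2 := act_wd O (Nat.two_pow_pos n) k n le_rfl
  rw [h1, O.act_mul, act_wd O (Nat.two_pow_pos n) i n le_rfl, O.std _ i.isLt,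
    act_wd O i.isLt j n le_rfl, O.std _ k.isLt] at h2
  exact (O.inj _ (mv_lt O i.isLt j n le_rfl) _ k.isLt h2).symm

theorem el_zero : el x n ⟨0, Nat.two_pow_pos n⟩ = 1 := by
  refine Subtype.ext ?_
  show wd x n 0 = 1
  have : ∀ k, wd x k 0 = 1 := by
    intro k
    induction k with
    | zero => rfl
    | succ k ih => simp [wd, ih]
  exact this n

end H44.LyTwo
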