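import Mathlib

/-! Generated matrices of named elements and the programs producing them. -/

set_option autoImplicit false
set_option maxRecDepth 100000

namespace H44.LyTwo.Data

/-- named matrix 0 -/
def nm0 : List (List ℕ) := [
 [4,0,1,0,4,3,4,0,0,0,0,4,4,3,3,1,2,1,4,1,4,2,1,2,3,1,4,0,0,1,2,4,4,0,0,4,3,2,1,2,4,4,3,3,2,4,3,2,4,3,4,3,1,2,0,1,3,4,3,1,4,2,2,0,4,1,4,4,3,0,3,0,3,4,0,1,0,3,3,0,0,0,3,4,3,3,0,4,2,3,0,1,0,4,2,0,2,3,3,2,0,4,3,4,4,4,0,2,2,2,4],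
 [0,4,1,4,0,3,2,0,0,1,3,0,4,4,4,3,2,0,3,1,0,3,4,1,4,2,1,0,3,4,0,0,0,2,0,4,0,3,3,2,1,1,4,4,3,3,3,3,4,3,3,1,4,1,3,3,0,4,0,4,3,3,0,4,3,2,2,3,0,1,1,1,0,1,2,2,2,4,1,4,3,3,2,1,1,1,4,4,0,3,1,3,0,1,0,4,0,4,4,3,1,2,3,0,0,2,1,1,1,1,4],
 [0,0,1,0,0,0,4,0,0,0,4,3,3,3,3,1,1,0,4,2,3,3,4,4,2,4,2,4,3,2,0,4,3,4,2,3,3,2,1,1,0,4,0,1,4,4,2,0,2,2,0,2,3,2,0,1,1,2,0,0,3,4,4,4,0,2,4,4,2,4,1,3,4,3,0,2,4,4,4,3,1,1,2,3,1,4,3,3,0,3,2,1,0,1,3,2,0,3,0,3,1,0,4,0,0,4,1,2,2,1,1],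
 [0,0,0,1,0,4,0,0,0,0,3,0,2,4,1,1,2,2,3,2,1,3,3,4,0,2,1,3,0,4,3,0,1,0,4,0,1,3,2,1,1,2,2,2,1,0,0,0,2,3,4,2,0,4,0,4,4,3,2,0,2,4,4,0,4,0,4,1,2,4,1,4,3,2,0,4,0,1,2,4,0,2,4,3,0,1,2,1,2,4,4,1,3,0,2,4,0,3,0,2,4,2,4,2,0,2,3,2,4,3,2],
 [0,0,0,0,1,4,1,0,0,1,3,4,4,3,2,4,1,4,4,1,2,2,4,0,3,2,0,1,2,2,3,1,0,1,4,0,1,3,3,0,3,4,0,4,4,1,1,3,1,0,4,3,2,2,3,4,1,0,1,4,2,3,4,0,0,1,3,3,2,2,2,0,4,2,3,4,0,3,2,1,0,4,4,4,4,3,1,3,3,3,3,3,4,4,3,1,2,4,0,1,4,3,2,1,2,4,4,1,2,4,0],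
 [0,0,0,0,0,4,0,0,0,3,0,4,2,4,0,2,1,1,4,3,4,1,1,3,2,4,4,3,3,3,4,3,3,3,3,3,3,0,2,2,2,3,1,0,1,2,0,3,2,4,3,3,4,4,2,0,4,0,3,4,2,2,0,0,1,3,1,4,3,1,0,4,1,1,1,0,4,3,2,2,1,0,0,2,1,1,2,3,4,1,4,4,2,1,1,3,1,1,4,1,0,1,4,3,1,2,3,0,4,4,3],
 [0,0,0,0,0,0,4,0,0,1,3,0,1,1,3,4,3,2,4,4,3,1,1,0,4,2,0,1,1,0,1,1,3,3,1,0,1,1,3,3,0,3,4,3,1,2,3,1,3,2,0,3,2,2,2,4,0,4,2,2,0,4,3,2,0,3,0,2,3,4,0,1,3,1,0,3,0,3,1,4,0,2,3,0,3,0,2,2,1,3,1,0,3,1,1,0,1,4,3,1,4,1,0,4,4,3,1,4,4,0,0],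
 [0,0,0,0,0,0,0,4,0,1,3,2,0,2,2,2,3,0,4,4,2,1,1,2,4,1,3,1,2,4,3,1,1,0,1,3,3,0,4,1,0,0,4,2,2,3,0,3,4,1,3,2,4,0,4,0,1,1,2,1,1,2,0,4,0,2,4,3,0,2,4,4,1,2,1,2,3,0,2,4,0,4,2,2,0,0,3,4,1,2,2,1,4,0,2,3,2,4,3,1,0,1,2,3,1,1,1,3,2,0,2],
 [0,0,0,0,0,0,0,0,4,4,0,1,3,2,3,2,4,0,1,2,4,1,0,2,1,3,2,2,0,0,1,4,4,0,0,1,1,3,4,2,0,0,4,3,2,4,4,3,0,2,4,0,3,4,3,2,1,3,3,0,3,2,3,4,2,3,4,1,4,3,4,0,3,2,2,4,2,1,3,3,1,1,0,2,1,3,1,1,0,4,0,4,2,3,0,4,2,0,1,0,0,3,0,4,4,2,2,1,0,4,0],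
 [0,0,0,0,0,0,0,0,0,1,3,3,3,1,3,2,4,4,3,0,1,0,3,2,3,4,2,3,0,3,4,1,3,4,4,3,1,1,2,3,1,1,3,0,0,2,3,4,2,3,0,4,3,1,4,1,2,2,1,0,4,3,3,2,4,4,1,2,3,4,2,0,3,3,2,3,3,0,2,3,2,3,3,0,0,3,1,2,0,2,1,2,1,0,3,4,3,1,4,0,4,1,4,3,0,3,1,1,3,1,4],
 [0,0,0,0,0,0,0,0,0,4,2,3,2,2,3,4,3,1,2,1,4,2,0,3,0,4,3,0,4,0,2,1,2,0,1,2,4,3,3,2,3,0,4,3,1,1,2,1,2,0,3,3,1,0,4,4,4,0,3,1,4,4,4,3,1,2,3,2,0,3,0,3,3,3,0,3,3,0,3,2,1,3,3,4,4,2,0,0,1,1,1,0,0,0,1,1,2,1,1,3,3,3,3,3,2,0,0,4,4,4,3],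
 [0,0,0,0,0,0,0,0,0,2,4,2,3,3,2,4,2,1,0,0,3,2,3,2,3,2,2,1,0,0,1,0,1,1,3,4,4,1,2,4,0,1,1,0,4,4,3,2,1,4,0,0,1,4,4,0,0,3,0,4,0,0,3,0,1,0,3,3,4,3,3,4,1,0,2,4,3,2,4,4,0,1,0,2,3,1,1,0,3,3,4,0,3,2,1,2,3,3,4,2,2,4,4,1,2,2,1,4,2,1,0],
 [0,0,0,0,0,0,0,0,0,4,1,0,2,2,0,2,1,1,4,4,2,1,3,4,2,4,4,1,2,4,3,4,4,4,1,4,2,4,2,1,1,0,0,2,3,2,3,0,2,0,2,1,1,1,1,4,4,4,4,2,3,4,3,4,3,3,2,1,4,0,4,3,2,1,4,4,2,0,1,0,4,3,1,1,0,2,4,3,1,4,0,1,0,0,3,3,4,3,2,0,3,4,1,3,4,1,0,1,4,3,2],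
 [0,0,0,0,0,0,0,0,0,3,0,1,3,2,0,3,1,2,3,3,2,2,4,1,4,1,1,3,3,1,1,1,1,3,4,4,0,3,1,3,1,0,4,0,2,2,1,2,4,4,0,1,1,1,0,3,2,4,3,3,2,0,3,3,1,1,0,0,3,0,2,4,2,1,4,2,3,4,1,0,0,0,1,0,1,3,0,4,0,4,0,2,0,2,4,3,3,1,3,4,0,2,2,3,4,4,3,2,3,3,3],
 [0,0,0,0,0,0,0,0,0,1,4,0,3,2,0,3,1,0,1,0,3,3,4,4,3,4,1,2,3,4,0,2,3,1,1,2,2,2,3,3,3,1,3,3,0,3,4,1,2,3,2,4,4,1,3,2,1,1,4,3,4,3,0,1,3,1,3,1,2,3,0,3,3,3,0,0,1,4,1,1,2,4,1,3,4,0,3,3,1,0,1,0,4,0,4,4,3,0,2,2,4,4,3,3,1,4,1,2,2,0,0],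
 [0,0,0,0,0,0,0,0,0,0,0,3,0,0,2,1,4,2,1,3,1,2,2,3,2,2,4,0,4,1,3,2,3,4,1,0,0,2,2,4,3,4,1,3,3,2,1,1,1,4,0,1,3,4,0,2,3,4,1,1,4,4,4,4,4,1,0,0,4,3,1,3,4,0,2,2,1,3,0,4,2,4,2,3,0,1,1,1,1,3,3,0,4,3,0,2,0,2,2,4,4,2,0,1,3,0,4,1,1,2,1],
 [0,0,0,0,0,0,0,0,0,3,3,0,0,1,2,4,2,2,3,2,4,4,0,4,1,0,2,1,1,4,2,0,0,3,4,2,2,1,3,2,2,4,4,2,2,1,4,0,3,0,2,0,1,2,1,2,0,4,0,3,0,1,0,0,0,1,0,3,0,1,1,1,4,4,2,1,3,1,4,4,0,0,2,3,4,4,0,0,3,3,4,3,4,2,4,1,4,0,2,0,3,0,4,3,4,2,4,0,4,1,0],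
 [0,0,0,0,0,0,0,0,0,4,0,0,4,4,0,0,4,4,3,4,4,0,2,1,1,0,3,1,2,1,4,2,2,2,4,2,3,2,4,2,4,4,3,0,0,0,1,4,1,4,2,1,1,4,1,3,1,0,4,0,2,0,2,0,0,0,1,3,0,0,2,3,2,4,0,2,4,3,0,1,4,2,3,0,1,2,3,2,2,3,2,3,4,4,0,1,0,3,2,2,4,0,1,1,1,0,0,3,4,1,4],
 [0,0,0,0,0,0,0,0,0,0,0,1,3,3,0,3,2,4,4,1,3,0,3,2,1,3,0,3,3,2,1,4,4,0,3,3,1,1,0,0,2,0,2,1,3,3,4,2,1,2,1,4,2,1,1,1,4,0,0,3,2,4,0,0,4,1,2,1,0,3,0,2,1,2,4,4,3,0,4,2,3,4,1,1,0,3,3,4,4,4,1,2,3,4,4,4,3,2,1,3,0,3,2,0,3,1,4,3,4,3,3],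
 [0,0,0,0,0,0,0,0,0,2,2,2,4,2,3,1,3,1,0,1,2,0,3,1,0,0,1,0,2,1,0,1,2,0,3,0,4,3,3,4,3,2,4,4,2,0,2,4,1,3,2,1,4,2,4,2,2,0,1,2,1,3,2,0,4,4,4,3,0,1,1,0,3,4,2,0,3,2,4,1,3,1,3,1,2,1,4,1,2,4,1,0,3,2,0,3,0,0,3,2,3,4,1,2,2,2,2,2,3,3,1],
 [0,0,0,0,0,0,0,0,0,2,4,1,1,1,3,1,3,3,1,0,0,3,4,2,2,2,2,2,2,0,3,0,0,2,4,3,0,4,0,1,3,1,2,4,0,2,1,0,0,0,4,2,4,0,0,0,2,0,1,1,4,2,0,3,3,3,1,3,3,2,0,4,0,0,3,3,2,4,0,1,3,2,3,2,2,0,4,1,2,1,1,3,1,0,1,0,2,3,3,0,3,2,4,4,0,3,2,1,0,0,0],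
 [0,0,0,0,0,0,0,0,0,3,4,2,4,2,0,4,4,4,4,1,3,3,2,0,4,4,1,4,3,2,1,4,1,1,3,4,3,4,3,3,3,1,4,4,0,3,2,2,1,2,1,0,2,3,0,2,4,1,0,4,2,1,1,2,1,0,3,1,0,1,3,0,1,1,0,3,1,4,0,1,2,1,0,2,1,4,4,3,1,0,2,1,3,0,0,1,1,3,1,3,4,1,0,1,3,1,2,3,4,0,3],
 [0,0,0,0,0,0,0,0,0,1,1,0,0,1,0,3,0,1,0,1,2,1,0,1,2,4,4,4,1,4,3,1,3,3,2,2,3,1,2,1,2,0,4,1,3,0,4,2,3,2,4,0,2,1,4,2,0,1,2,2,3,3,0,2,4,3,0,0,4,3,4,0,0,0,2,0,0,3,0,3,3,4,2,1,1,3,4,1,4,3,0,4,4,4,3,4,0,4,0,3,0,2,1,4,4,1,2,2,2,2,2],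
 [0,0,0,0,0,0,0,0,0,0,0,4,4,3,0,2,1,0,2,1,2,1,1,0,0,4,0,3,1,4,3,0,4,4,3,1,3,4,0,2,1,1,3,2,4,4,1,2,0,4,1,3,3,1,4,3,2,3,3,1,2,4,1,1,1,4,1,3,0,2,1,0,4,2,2,3,1,1,3,3,3,1,3,3,4,0,2,1,1,1,2,2,3,3,0,1,0,2,1,2,3,3,3,4,0,1,4,4,2,4,1],
 [0,0,0,0,0,0,0,0,0,3,2,3,2,0,2,1,4,2,2,0,1,4,4,3,4,1,4,0,0,4,4,1,4,4,0,0,0,4,4,3,4,0,3,3,1,4,3,1,1,2,0,0,1,3,3,3,1,4,3,0,2,2,0,0,4,4,4,4,2,1,2,1,3,0,2,1,3,1,2,0,3,4,2,4,2,2,4,4,1,0,4,2,3,1,1,3,1,0,1,3,2,0,4,0,4,2,4,1,3,0,2],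
 [0,0,0,0,0,0,0,0,0,4,2,1,2,0,0,1,0,1,3,3,4,2,4,1,3,0,3,1,1,4,4,4,4,4,1,2,0,4,1,2,3,1,0,4,1,0,3,0,0,0,2,3,1,2,2,3,0,1,3,4,1,4,1,0,2,0,2,1,3,3,3,3,2,4,4,4,2,0,4,0,4,2,0,0,0,4,2,0,2,0,1,4,0,0,0,3,1,3,4,0,4,4,2,2,4,1,3,2,2,3,4],
 [0,0,0,0,0,0,0,0,0,3,0,2,0,4,0,3,3,0,2,2,4,4,3,3,4,0,0,3,3,0,0,2,2,2,2,2,3,4,3,0,0,3,0,1,0,4,1,1,3,2,1,0,1,3,1,4,3,3,3,4,3,3,3,4,4,0,1,1,0,0,1,0,3,2,2,1,3,2,1,1,4,0,4,0,4,2,0,1,2,2,0,2,1,4,1,2,4,0,4,2,0,0,3,3,3,0,0,2,1,1,0],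
 [0,0,0,0,0,0,0,0,0,1,4,2,4,3,0,1,1,0,1,0,0,1,4,4,2,3,4,3,0,1,1,0,0,1,2,2,3,4,0,4,4,3,3,3,4,3,3,3,2,1,4,4,2,4,2,3,4,2,1,3,2,1,0,0,3,4,3,4,4,4,3,1,3,0,4,1,0,2,2,3,4,0,3,2,1,3,4,1,0,4,3,4,3,3,2,0,4,4,4,2,4,1,3,3,3,3,3,1,2,3,3],
 [0,0,0,0,0,0,0,0,0,1,4,3,2,0,0,4,1,3,4,2,3,4,2,0,2,0,2,1,1,3,0,1,0,0,1,4,0,3,3,0,4,4,0,4,4,3,2,4,1,3,4,3,3,0,1,4,0,2,4,2,2,1,0,2,1,0,2,3,2,2,0,1,3,4,3,0,3,2,3,3,2,0,1,2,1,0,1,0,3,0,4,0,0,2,2,0,2,4,0,2,3,1,4,4,2,4,2,0,3,0,3],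
 [0,0,0,0,0,0,0,0,0,0,1,4,4,1,0,4,2,1,2,0,3,4,1,0,1,2,1,0,1,3,0,2,3,1,2,2,4,3,3,1,4,2,2,1,0,3,4,1,1,1,1,3,1,3,2,0,1,2,3,4,1,4,0,0,1,1,4,4,2,2,4,0,0,1,0,0,3,0,3,0,0,1,3,4,0,2,1,4,0,1,0,1,1,4,3,1,3,3,0,4,1,0,3,1,4,1,3,1,2,0,0],
 [0,0,0,0,0,0,0,0,0,0,3,0,1,1,4,0,2,1,0,0,3,0,4,1,0,1,2,4,1,4,1,4,4,4,3,3,3,1,3,4,2,1,4,0,4,0,0,3,1,2,4,0,0,3,0,2,2,4,3,2,3,2,3,2,3,2,2,4,4,2,1,4,0,4,0,2,0,3,1,4,2,1,4,1,2,3,4,4,2,2,3,0,1,3,0,1,3,4,0,2,2,1,3,3,3,4,0,0,3,1,1],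
 [0,0,0,0,0,0,0,0,0,2,0,2,1,2,3,4,2,0,1,0,2,1,1,1,4,4,4,2,0,1,2,2,1,3,4,0,3,4,4,4,0,1,1,2,2,4,2,3,4,2,2,1,2,0,3,1,0,3,3,4,0,3,4,2,1,3,3,1,4,1,4,4,3,0,2,1,4,3,1,0,1,3,3,2,3,3,4,0,2,2,0,4,0,1,4,0,0,1,2,4,4,2,0,3,0,1,1,0,4,3,2],
 [0,0,0,0,0,0,0,0,0,3,2,4,0,4,0,3,3,0,1,3,0,3,3,4,0,0,4,2,1,3,2,4,0,2,4,4,0,1,0,3,2,4,0,0,3,0,2,0,0,1,4,3,2,1,4,3,3,2,0,3,3,2,1,3,3,0,0,0,3,0,4,3,4,2,2,2,4,1,1,4,2,2,4,3,2,2,3,2,2,4,2,2,1,3,0,3,4,0,3,2,1,4,2,0,1,4,4,4,3,4,2],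
 [0,0,0,0,0,0,0,0,0,1,4,1,2,3,0,2,4,2,3,3,2,2,1,3,3,1,3,0,1,0,1,0,1,2,4,3,4,4,0,2,3,3,1,3,4,4,0,2,3,3,1,1,1,4,3,4,1,0,4,3,1,3,4,4,1,3,2,1,0,3,2,1,3,4,0,1,4,3,2,2,3,3,1,1,4,4,3,0,3,2,2,0,0,4,0,1,1,2,3,3,1,4,1,2,1,1,4,1,1,2,2],
 [0,0,0,0,0,0,0,0,0,4,0,2,0,1,2,4,2,4,1,0,3,1,3,0,0,2,0,0,2,3,4,1,1,0,4,1,3,3,3,3,1,1,3,4,3,0,4,1,0,1,4,4,3,0,3,4,4,3,4,4,0,0,2,0,0,2,0,4,0,3,3,4,1,0,2,2,2,4,0,0,3,1,2,0,1,2,0,3,0,1,0,2,2,3,3,1,2,3,1,0,0,1,0,0,0,3,4,1,1,2,1],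
 [0,0,0,0,0,0,0,0,0,3,0,4,1,4,0,0,2,3,1,2,1,4,4,2,4,0,4,2,3,3,3,1,1,1,2,1,1,4,0,4,1,1,1,4,3,4,4,3,2,3,3,0,3,1,4,3,4,3,4,3,4,4,3,3,0,0,0,0,0,2,3,4,2,3,0,4,1,0,0,0,2,0,4,1,4,1,1,4,3,0,3,4,1,1,4,2,4,4,2,1,1,4,2,3,4,2,3,2,3,1,0],
 [0,0,0,0,0,0,0,0,0,3,2,2,3,1,0,0,3,0,1,0,1,1,4,4,4,2,4,3,3,2,1,2,2,3,3,2,1,4,1,3,4,0,2,1,0,4,2,4,4,0,4,2,2,4,2,2,3,2,2,1,4,0,3,1,3,0,3,0,1,1,0,1,3,4,3,4,3,1,2,3,2,4,4,1,2,2,0,1,1,0,0,4,1,3,1,2,1,3,3,4,1,3,0,1,3,4,1,0,1,4,3],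
 [0,0,0,0,0,0,0,0,0,1,2,1,2,2,0,1,2,4,4,0,4,0,4,0,0,4,2,3,0,3,0,2,3,0,1,4,4,0,2,0,0,0,4,3,4,4,3,0,3,2,3,3,4,2,3,0,0,1,4,4,3,1,2,2,3,1,4,1,3,4,4,0,1,4,0,1,2,2,0,3,4,0,1,1,2,2,2,2,1,1,3,3,0,4,1,3,4,2,1,4,3,1,1,3,2,2,1,3,3,4,3],
 [0,0,0,0,0,0,0,0,0,3,3,4,4,0,1,1,3,1,3,1,2,3,0,2,3,3,1,0,1,2,1,1,2,2,0,1,2,2,0,3,3,2,4,2,4,3,3,4,2,0,2,0,1,4,2,3,4,4,3,1,1,3,0,0,4,1,2,0,0,1,2,2,0,1,3,2,3,4,2,3,2,2,0,1,1,4,1,2,0,0,0,0,1,1,1,0,1,4,1,1,3,3,2,0,0,2,2,1,4,1,2],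
 [0,0,0,0,0,0,0,0,0,0,3,3,1,4,0,1,0,1,4,2,1,1,4,3,3,4,2,4,0,2,0,2,3,3,2,2,3,0,0,4,4,0,4,4,1,0,1,0,1,4,3,1,4,1,1,4,2,0,2,4,4,1,1,1,3,4,1,4,2,1,0,1,0,2,1,3,0,0,0,0,3,3,3,3,4,4,3,1,1,2,3,2,2,0,1,1,3,4,0,3,1,2,1,3,1,0,4,2,0,2,4],
 [0,0,0,0,0,0,0,0,0,3,0,1,4,0,0,0,0,2,1,0,4,0,0,4,3,4,4,4,2,3,0,1,3,1,1,3,3,4,4,2,1,2,3,1,3,0,1,3,0,4,1,3,1,1,1,2,4,0,1,1,2,3,3,3,0,2,1,2,4,0,1,2,2,4,1,3,2,0,1,1,3,1,2,2,2,4,4,1,3,3,4,1,4,2,1,1,3,0,2,3,0,3,2,0,0,2,4,2,2,2,0],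
 [0,0,0,0,0,0,0,0,0,4,3,2,0,2,0,2,3,0,4,1,4,0,4,1,2,2,4,3,1,1,4,2,3,2,0,0,2,4,2,2,3,4,4,4,2,2,3,4,3,2,1,2,0,1,3,3,0,3,4,4,3,2,0,1,0,3,3,1,3,1,2,4,3,2,0,1,4,1,3,4,2,1,2,4,2,0,3,4,4,1,3,3,1,1,2,4,4,2,0,3,4,0,4,4,1,1,0,3,4,3,4],
 [0,0,0,0,0,0,0,0,0,3,0,3,1,4,0,0,1,4,2,0,3,4,2,1,3,1,2,2,0,3,3,1,3,0,3,0,0,1,0,0,4,0,2,4,3,1,4,1,3,3,1,0,4,0,4,0,4,0,0,3,2,3,4,1,3,0,1,1,2,0,3,1,2,4,0,3,1,1,1,1,2,1,4,0,1,4,3,0,3,2,4,4,2,1,1,4,0,1,2,3,1,3,4,4,0,2,0,4,0,2,0],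
 [0,0,0,0,0,0,0,0,0,0,3,1,3,4,0,0,2,0,4,4,2,0,2,2,0,2,2,3,2,4,0,0,4,1,4,0,2,2,3,2,0,3,0,0,3,4,3,2,1,4,0,2,0,4,4,1,1,4,2,3,3,3,4,2,3,3,0,0,1,0,3,0,3,2,4,0,2,0,1,1,4,3,0,3,3,1,3,3,1,0,3,4,1,4,3,4,3,1,0,1,0,0,1,1,3,3,3,4,2,2,0],
 [0,0,0,0,0,0,0,0,0,2,4,3,1,3,2,4,3,4,2,2,1,4,1,4,3,0,1,2,2,0,4,2,0,2,0,4,4,4,0,3,2,4,4,4,1,0,2,0,2,4,0,0,0,2,4,4,4,4,3,4,4,0,1,2,2,4,0,0,1,1,0,3,3,4,1,0,0,3,1,0,2,0,0,2,0,1,4,0,1,0,0,0,1,1,0,1,0,3,4,3,3,4,0,4,2,0,0,0,1,2,0],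
 [0,0,0,0,0,0,0,0,0,0,1,3,4,3,4,1,4,2,4,3,0,0,2,1,0,0,1,4,0,3,0,3,0,1,1,0,3,3,3,1,4,2,3,1,1,4,1,3,3,0,4,4,0,1,3,4,3,2,1,0,2,3,3,3,1,4,1,2,3,2,0,2,0,2,1,1,2,1,1,3,0,3,0,1,0,4,4,3,2,4,1,0,2,0,4,1,4,1,0,4,0,3,0,4,1,3,2,2,2,4,4],
 [0,0,0,0,0,0,0,0,0,2,2,4,2,1,0,3,3,0,2,2,4,4,1,0,1,0,4,3,2,0,1,1,1,3,4,0,0,0,4,0,2,2,4,3,4,3,0,0,1,3,3,4,1,4,1,4,4,0,0,2,1,1,4,0,0,0,0,1,4,4,0,0,3,2,4,2,1,4,1,2,3,1,2,4,3,3,4,4,2,2,4,4,3,2,2,2,0,4,3,0,4,4,1,4,3,3,3,1,2,4,3],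
 [0,0,0,0,0,0,0,0,0,1,4,3,1,0,3,2,1,1,2,2,0,2,1,0,1,4,3,3,0,2,0,4,4,1,1,2,3,1,3,0,3,0,0,1,1,4,2,1,0,3,2,0,0,2,3,3,0,0,4,1,4,1,2,0,4,1,1,4,0,2,2,4,0,3,1,1,3,1,4,4,3,0,4,2,0,4,0,3,2,1,3,3,3,4,4,3,2,4,0,3,0,0,0,4,4,2,2,2,2,4,2],
 [0,0,0,0,0,0,0,0,0,4,1,2,3,0,2,0,4,3,3,4,2,3,3,3,1,0,0,0,0,3,2,1,4,4,4,1,3,2,2,2,3,0,4,3,1,0,3,3,4,1,1,2,2,3,0,0,3,4,4,0,0,2,1,4,0,4,1,2,4,0,3,0,2,4,1,4,4,1,4,3,1,2,1,4,2,1,3,0,0,0,1,0,2,1,0,4,1,2,2,0,2,0,2,0,3,2,2,0,3,2,1],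
 [0,0,0,0,0,0,0,0,0,3,1,1,1,1,0,2,4,2,2,3,1,2,1,1,4,1,3,4,0,3,3,2,0,1,3,2,2,2,0,4,1,4,3,1,4,3,0,4,4,1,1,3,0,2,2,1,0,0,1,2,4,3,2,4,0,0,2,0,0,4,4,1,3,3,1,0,3,1,3,2,1,0,1,1,2,0,4,2,0,3,3,1,0,1,2,1,0,0,3,4,2,2,4,3,4,4,1,2,1,2,2],
 [0,0,0,0,0,0,0,0,0,1,2,0,0,3,0,0,1,4,1,4,3,4,3,2,3,1,1,4,4,1,4,3,3,0,2,1,0,0,4,0,3,1,2,4,1,0,0,0,0,0,1,3,1,0,3,4,3,4,2,3,3,4,3,0,1,1,4,4,4,1,3,1,1,4,4,0,2,0,1,4,1,0,3,0,2,1,0,2,4,3,3,3,0,4,3,4,0,0,1,0,4,2,3,0,0,4,0,1,3,0,2],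
 [0,0,0,0,0,0,0,0,0,2,0,2,1,2,0,3,0,4,0,2,0,1,2,4,3,3,2,4,2,3,1,1,3,2,3,0,0,1,3,1,4,0,4,0,0,1,1,4,2,4,1,3,4,4,1,3,1,1,0,1,1,1,1,4,4,4,4,3,0,1,1,2,0,2,0,0,2,4,0,3,3,3,2,4,0,3,4,4,3,1,4,4,1,2,3,4,2,1,4,4,1,3,2,4,4,0,0,4,1,4,4],
 [0,0,0,0,0,0,0,0,0,4,2,0,1,0,0,3,3,4,2,1,0,3,3,2,1,0,2,3,2,4,0,2,3,2,1,0,3,1,2,2,4,2,1,0,1,2,3,0,2,2,3,4,3,4,4,2,1,3,4,0,2,3,0,0,1,0,0,3,4,2,4,3,1,1,3,1,2,4,1,2,0,1,0,1,2,3,3,3,3,3,4,3,2,1,3,0,1,1,3,0,3,2,0,1,2,3,1,1,1,0,2],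
 [0,0,0,0,0,0,0,0,0,1,0,1,1,3,0,2,4,2,4,3,1,1,0,1,3,0,4,0,3,1,3,4,3,1,0,4,1,0,3,3,3,3,2,3,2,1,0,4,2,3,2,0,3,1,1,0,2,2,0,0,0,1,2,3,2,2,4,1,0,4,4,4,2,4,0,4,3,1,3,1,3,0,0,2,4,0,2,3,0,0,4,3,2,4,1,4,1,0,1,4,4,1,1,3,2,3,0,2,0,0,3],
 [0,0,0,0,0,0,0,0,0,1,4,1,3,3,0,4,4,2,4,2,1,3,1,4,4,3,3,0,4,1,4,2,2,0,3,4,2,3,4,0,1,4,1,1,2,1,0,2,1,3,1,3,0,4,1,1,4,1,3,0,1,1,2,2,3,4,1,2,3,0,3,1,3,4,3,4,2,2,1,0,4,2,0,1,4,0,4,2,0,1,1,0,2,0,1,1,3,2,2,2,3,2,3,1,4,3,2,4,2,2,3],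
 [0,0,0,0,0,0,0,0,0,0,4,1,2,3,0,2,3,3,2,2,0,1,0,0,4,4,1,1,1,4,3,1,1,4,0,4,0,1,0,3,0,2,4,3,0,2,1,1,0,3,2,1,1,0,2,1,0,4,4,4,1,2,4,2,3,0,1,4,0,1,4,4,0,3,3,2,1,1,0,2,2,0,0,3,0,1,0,4,1,0,1,0,4,1,2,2,1,1,2,3,2,0,1,4,4,3,4,3,2,2,4],
 [0,0,0,0,0,0,0,0,0,3,0,3,3,3,0,1,4,4,2,2,3,1,4,0,2,2,1,4,2,2,0,0,3,3,1,2,0,1,0,4,4,0,2,3,1,1,4,3,4,2,3,4,2,2,2,4,1,0,0,0,3,0,3,4,3,4,3,3,2,4,2,0,3,2,3,2,4,4,3,3,4,4,1,3,2,1,3,3,2,1,1,4,2,1,3,4,0,4,1,4,0,0,2,3,4,1,0,0,2,0,3],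
 [0,0,0,0,0,0,0,0,0,3,3,0,4,3,0,3,0,4,2,0,4,3,4,2,2,2,3,3,3,0,4,4,3,2,4,0,3,0,4,2,4,2,3,1,0,0,2,0,0,2,2,4,2,1,4,0,2,4,2,0,4,4,3,4,4,1,3,0,0,1,3,3,3,2,4,4,1,2,2,2,4,1,3,3,0,0,3,2,0,1,3,4,3,2,1,3,0,3,3,1,4,0,3,3,3,0,1,0,3,3,1],
 [0,0,0,0,0,0,0,0,0,1,2,3,1,2,0,1,0,0,1,0,4,4,0,4,0,3,1,4,4,0,1,1,2,1,3,1,3,3,0,1,0,4,1,4,2,3,2,2,2,4,4,0,0,1,0,2,1,0,2,4,2,2,0,1,2,3,3,0,1,0,2,0,4,1,3,0,1,4,3,4,1,2,1,4,2,0,4,1,3,0,4,0,1,0,0,1,3,3,2,1,2,1,0,1,2,0,0,3,4,0,1],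
 [0,0,0,0,0,0,0,0,0,3,1,3,1,2,0,4,3,4,4,3,2,2,4,3,3,0,3,4,3,1,0,2,0,4,3,1,0,0,3,1,4,3,4,3,2,2,0,1,4,3,0,2,2,2,0,0,0,1,3,2,2,0,0,3,1,1,4,3,3,4,0,3,2,3,0,1,2,2,0,0,3,3,3,1,4,4,2,4,2,2,2,1,0,0,4,4,1,3,0,4,0,1,4,0,3,0,4,3,0,1,4],
 [0,0,0,0,0,0,0,0,0,2,4,4,4,0,0,3,3,3,0,4,1,1,1,2,2,0,3,3,0,2,1,4,0,3,0,0,1,2,3,4,0,2,2,1,1,0,0,1,1,2,4,0,3,4,3,4,4,4,2,4,0,0,2,0,3,4,0,4,4,3,2,3,4,1,2,2,3,4,2,4,0,1,3,4,3,0,0,3,3,2,4,0,3,0,2,1,4,3,4,3,1,0,1,0,4,0,2,4,2,4,1],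
 [0,0,0,0,0,0,0,0,0,4,1,3,1,4,2,1,0,0,1,3,1,3,3,1,2,3,3,4,0,3,4,4,3,0,2,4,2,2,0,0,1,4,3,4,4,1,1,2,0,2,3,1,4,2,2,0,2,1,1,0,0,4,1,4,3,3,3,0,4,3,1,0,2,3,3,2,2,1,1,0,3,4,3,3,0,4,0,2,4,0,1,3,3,3,0,3,1,1,2,0,4,1,0,4,1,2,4,4,0,0,4],
 [0,0,0,0,0,0,0,0,0,1,0,3,2,4,0,2,0,3,3,3,0,3,1,1,1,1,2,3,3,0,3,0,4,4,0,0,4,1,0,1,3,3,3,4,0,2,2,0,0,3,0,2,1,2,3,0,4,0,3,4,4,3,2,2,3,4,1,1,4,3,2,2,4,4,2,2,3,1,0,4,0,0,1,2,0,3,3,4,2,2,0,1,2,2,2,2,1,0,2,2,1,0,3,1,0,3,1,3,1,1,4],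
 [0,0,0,0,0,0,0,0,0,1,0,4,0,4,0,3,4,0,4,0,3,3,1,2,3,4,3,4,2,2,2,2,2,3,3,0,4,4,1,1,0,2,1,1,4,3,3,0,3,2,0,0,1,1,3,0,3,3,0,0,1,3,3,0,2,1,2,2,1,2,0,4,1,0,2,0,0,1,3,4,1,2,2,4,4,3,0,4,0,0,4,4,4,1,0,0,3,4,3,2,3,2,3,0,4,4,1,1,3,0,4],
 [0,0,0,0,0,0,0,0,0,0,2,4,0,0,0,3,1,3,1,2,4,4,3,2,4,1,3,0,2,0,0,4,0,3,4,2,2,2,0,3,0,4,0,3,0,4,4,3,3,3,4,3,2,3,2,3,2,4,1,0,3,3,4,3,2,3,1,0,0,0,1,4,2,0,3,0,4,4,1,3,0,3,0,2,0,1,3,2,1,2,1,1,4,3,4,3,1,4,1,4,2,2,0,4,2,2,3,1,4,2,1],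
 [0,0,0,0,0,0,0,0,0,1,2,2,2,0,0,0,3,3,0,3,3,2,1,1,4,1,1,2,0,2,2,2,0,1,0,1,1,1,3,1,3,0,3,0,3,1,3,2,1,1,4,1,3,3,4,3,3,0,2,0,0,0,4,2,3,4,4,2,1,4,3,0,0,1,2,3,1,2,3,3,3,1,3,4,2,4,1,1,1,0,2,1,3,2,3,0,1,0,3,4,2,1,0,0,4,0,2,1,2,1,3],
 [0,0,0,0,0,0,0,0,0,3,4,4,1,1,0,3,0,3,2,3,0,4,3,4,0,2,1,2,3,0,0,4,0,3,4,1,1,3,3,0,4,3,1,3,1,3,0,1,2,3,3,2,0,3,1,3,1,1,2,0,4,2,0,4,1,3,1,3,4,4,2,2,2,1,3,4,3,3,0,1,2,1,1,3,2,4,1,4,0,0,1,4,3,3,4,0,1,1,1,1,4,3,2,1,4,0,2,1,4,0,4],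
 [0,0,0,0,0,0,0,0,0,1,4,2,3,0,0,4,4,1,3,0,2,4,2,0,2,2,4,4,2,4,3,4,2,0,1,4,0,3,0,4,1,4,2,2,2,0,2,0,4,2,0,1,3,0,1,1,2,1,4,1,2,3,4,0,4,4,0,4,4,3,4,3,2,1,4,1,0,0,3,3,4,3,4,3,1,3,1,0,3,2,2,0,4,3,3,0,0,0,4,4,3,3,3,0,0,1,0,4,1,0,4],
 [0,0,0,0,0,0,0,0,0,0,2,0,4,0,0,0,0,2,3,4,0,4,1,2,2,3,1,2,4,1,2,3,0,1,3,4,4,2,2,2,2,4,1,1,0,2,1,4,0,2,0,0,3,0,0,1,0,1,4,3,4,3,2,0,0,2,3,4,4,1,4,2,1,0,3,3,4,0,3,1,4,0,3,4,2,2,1,4,2,3,2,1,4,1,0,0,1,2,3,3,3,4,3,3,4,0,3,4,3,1,2],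
 [0,0,0,0,0,0,0,0,0,0,1,2,0,3,0,0,0,0,4,0,2,3,0,4,0,3,0,1,4,4,4,1,3,0,4,2,3,2,3,1,4,0,1,0,2,2,1,0,3,0,1,0,0,3,4,1,2,2,4,3,0,3,4,2,4,0,1,1,3,2,1,3,4,3,2,4,1,1,1,0,2,1,0,4,0,1,3,0,2,3,3,0,3,0,0,0,2,4,0,4,3,1,1,1,2,0,0,4,4,3,0],
 [0,0,0,0,0,0,0,0,0,2,2,2,3,3,0,0,0,3,0,4,4,4,2,3,2,0,3,1,1,4,1,4,3,0,0,1,0,4,1,2,0,1,2,2,3,3,2,1,3,0,0,1,0,1,0,0,1,2,0,4,1,3,2,4,1,1,3,1,4,0,2,2,4,2,2,0,0,3,0,1,1,0,0,2,0,2,0,0,1,4,2,2,4,2,1,0,1,0,4,2,3,2,0,0,2,3,4,2,4,2,0],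
 [0,0,0,0,0,0,0,0,0,2,0,3,3,3,0,4,1,4,0,3,0,3,3,3,3,2,0,0,1,0,4,2,2,3,3,1,2,2,0,0,3,2,0,2,4,0,1,1,1,1,0,2,2,2,3,3,2,3,0,2,0,0,4,4,0,3,0,0,1,1,4,1,1,4,1,0,3,3,0,1,4,0,2,1,2,4,3,2,1,3,4,4,4,1,3,2,2,3,1,4,2,4,3,1,0,0,1,3,0,0,4],
 [0,0,0,0,0,0,0,0,0,3,2,2,3,1,0,3,4,0,0,4,3,1,3,3,1,4,4,2,2,0,0,2,3,2,3,2,3,0,1,2,4,0,2,3,4,4,4,1,0,1,4,3,4,1,0,3,1,3,1,2,4,2,4,2,2,0,4,3,3,1,0,0,3,3,1,1,4,4,0,2,4,1,2,2,3,3,2,1,1,3,1,0,3,3,3,2,2,3,1,1,1,2,2,3,2,2,2,2,3,0,4],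
 [0,0,0,0,0,0,0,0,0,3,0,2,2,2,0,2,3,0,4,0,3,1,0,0,4,0,2,1,4,0,4,0,0,1,4,3,1,4,2,2,1,3,3,4,3,1,1,1,0,2,0,1,1,4,3,3,2,2,2,3,2,2,2,1,0,3,2,1,1,2,3,3,1,1,3,0,1,3,2,3,0,4,2,2,4,2,3,0,4,1,0,1,3,1,3,4,0,0,2,4,4,0,3,0,3,3,3,0,2,2,4],
 [0,0,0,0,0,0,0,0,0,0,1,3,0,2,0,4,4,2,2,3,3,0,3,0,3,3,2,4,1,2,3,2,2,1,4,3,3,4,2,2,0,4,3,2,2,0,0,2,1,4,4,3,1,0,2,1,0,3,2,2,0,1,3,3,0,0,1,3,4,2,3,1,1,1,4,2,1,4,1,3,3,2,1,4,4,3,4,1,1,3,3,2,2,3,3,3,4,3,3,1,3,3,2,1,3,3,1,0,1,2,2],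
 [0,0,0,0,0,0,0,0,0,3,0,1,4,3,1,3,0,1,0,3,2,4,1,4,1,4,2,2,3,2,4,2,3,2,4,0,1,1,2,3,1,3,4,0,4,1,3,3,1,4,1,2,4,4,2,4,2,0,1,3,0,2,0,2,1,0,2,2,4,1,3,0,4,0,1,0,2,1,4,2,4,2,2,1,4,2,4,4,0,1,3,2,4,2,3,0,2,3,2,1,1,2,0,2,3,0,4,0,4,1,0],
 [0,0,0,0,0,0,0,0,0,1,4,1,0,1,0,3,2,0,4,0,0,3,0,3,1,2,2,1,3,4,4,3,3,0,2,4,4,0,1,0,2,0,0,1,2,3,1,2,1,4,1,4,3,0,2,1,2,0,1,2,2,3,1,0,0,2,1,4,1,2,1,3,3,3,1,1,2,1,2,1,1,3,1,3,4,2,2,0,3,2,4,1,4,0,2,4,4,0,1,2,0,4,0,1,0,0,3,0,2,2,1],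
 [0,0,0,0,0,0,0,0,0,1,2,0,4,0,0,3,2,0,1,4,0,1,3,3,4,3,4,2,2,1,2,3,3,0,3,3,2,0,4,4,3,0,4,0,3,3,3,3,2,1,1,1,0,1,0,4,0,3,1,3,3,0,3,2,4,3,0,1,1,2,2,2,2,0,1,2,3,4,1,3,0,3,1,1,0,0,4,4,1,1,4,2,0,4,4,3,4,3,4,3,3,2,0,2,4,4,1,0,0,0,2],
 [0,0,0,0,0,0,0,0,0,0,3,2,2,1,0,2,4,3,1,2,0,3,2,2,2,0,4,0,4,1,2,3,4,0,3,4,3,3,2,4,0,3,3,3,3,4,2,1,3,1,0,3,3,1,3,1,2,0,4,2,3,4,4,2,1,0,2,2,3,0,4,0,0,4,2,0,3,2,3,2,2,3,2,4,4,3,1,3,2,4,0,3,4,4,1,3,3,0,4,3,4,0,0,3,4,0,1,0,1,2,4],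
 [0,0,0,0,0,0,0,0,0,2,0,3,3,2,0,3,3,0,3,1,2,4,4,2,4,4,1,2,1,2,0,4,1,3,4,2,3,4,2,4,0,0,4,3,1,2,2,1,1,3,3,1,2,1,4,4,3,1,4,1,0,3,2,0,1,0,2,3,3,2,0,3,3,2,4,0,1,3,1,0,2,3,3,4,1,2,3,3,4,2,3,4,3,2,2,0,0,2,1,4,0,4,3,3,3,3,1,4,3,4,0],
 [0,0,0,0,0,0,0,0,0,4,2,3,4,3,0,2,0,1,0,4,0,4,4,2,4,0,1,2,2,1,0,0,2,1,2,3,1,0,0,0,0,2,2,3,2,1,3,3,2,3,4,4,0,0,0,4,2,4,3,3,2,1,4,4,1,4,0,1,3,4,1,4,1,0,0,3,1,3,4,3,3,0,4,4,3,1,1,2,4,3,2,2,0,4,1,2,2,2,0,2,1,1,1,3,2,1,3,3,1,4,0],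
 [0,0,0,0,0,0,0,0,0,2,4,1,1,2,0,1,0,3,1,1,1,0,4,3,2,3,2,3,4,2,4,0,3,2,0,1,0,1,1,2,4,2,3,4,4,1,3,1,2,4,1,2,3,1,2,4,2,1,2,1,2,0,4,0,4,1,4,0,3,2,2,3,4,0,0,4,0,0,0,0,3,4,3,2,3,3,0,0,4,3,3,3,2,3,1,4,1,4,4,4,2,0,3,1,1,4,4,2,2,2,1],
 [0,0,0,0,0,0,0,0,0,3,3,0,4,2,2,1,4,1,4,1,1,2,4,4,3,1,3,4,2,2,0,2,3,4,4,4,0,2,2,4,2,1,0,4,1,4,0,0,3,2,1,4,4,1,0,0,2,0,4,0,2,0,0,1,0,2,2,1,1,4,0,1,3,2,0,3,4,4,1,0,0,1,3,3,3,1,1,2,4,1,1,4,1,2,4,4,2,1,1,3,2,3,2,2,2,0,1,2,0,1,4],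
 [0,0,0,0,0,0,0,0,0,4,4,4,2,0,0,2,3,2,0,0,3,4,2,1,0,0,1,0,3,2,2,3,4,4,2,1,1,3,0,2,4,4,3,0,2,4,1,4,2,1,2,4,0,4,2,0,3,0,1,0,3,2,2,3,0,0,4,2,1,0,0,3,1,3,1,1,0,4,3,2,3,4,1,3,0,0,3,4,3,3,3,4,3,3,2,4,1,4,1,3,1,4,1,3,3,4,0,1,2,1,3],
 [0,0,0,0,0,0,0,0,0,4,3,4,0,1,0,0,0,2,2,2,0,3,2,0,1,3,1,3,1,2,4,3,1,2,1,0,4,2,4,3,3,3,2,0,2,4,1,1,1,0,0,2,4,1,1,1,3,2,3,2,1,2,4,2,0,4,0,4,4,0,0,0,1,1,1,4,2,2,1,4,3,2,3,1,1,4,3,0,2,1,1,0,1,1,3,4,1,2,4,4,4,0,3,0,3,4,2,0,0,0,3],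
 [0,0,0,0,0,0,0,0,0,1,1,0,2,4,0,3,0,0,0,0,0,2,2,0,4,2,2,1,2,2,1,3,4,0,0,3,1,3,4,3,2,1,2,0,2,1,4,2,2,1,4,0,2,3,4,0,1,4,2,0,0,2,1,2,1,1,0,1,0,1,4,3,0,1,0,4,3,0,0,1,2,0,0,2,0,1,4,3,3,2,3,3,4,2,1,3,3,4,1,1,4,0,0,0,2,2,3,2,1,0,1],
 [0,0,0,0,0,0,0,0,0,0,2,1,1,3,0,1,2,0,4,0,1,1,3,2,1,1,4,2,2,3,4,2,4,0,4,0,2,2,4,3,2,2,0,3,4,2,0,2,0,1,2,1,1,0,1,1,1,4,4,4,0,3,2,3,3,1,1,4,1,2,2,2,2,2,2,2,4,0,2,4,0,0,4,2,4,3,0,4,1,3,2,3,3,4,4,2,0,1,1,0,0,2,4,3,1,4,3,0,0,4,4],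
 [0,0,0,0,0,0,0,0,0,2,4,2,2,0,0,4,1,0,1,1,3,2,2,4,1,1,4,4,0,2,1,2,4,3,0,4,4,2,2,4,1,3,1,0,1,0,4,0,2,0,4,1,2,4,0,4,4,4,0,0,4,0,0,3,3,2,1,3,1,0,4,0,1,4,1,0,1,4,4,3,1,3,0,1,4,4,2,3,3,4,3,2,2,4,0,0,3,2,2,1,2,2,2,2,4,4,4,1,1,1,2],
 [0,0,0,0,0,0,0,0,0,3,4,2,2,4,1,4,0,3,2,0,3,4,4,3,0,4,2,2,0,1,1,0,0,4,0,0,2,3,2,2,1,0,1,4,3,4,2,0,0,0,4,3,2,1,2,3,1,4,0,2,3,4,1,4,0,2,2,1,4,4,2,1,3,4,2,4,2,1,2,4,0,0,0,2,4,1,2,1,4,2,2,3,0,4,1,0,3,0,2,3,1,1,3,3,3,2,4,0,1,4,0],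
 [0,0,0,0,0,0,0,0,0,3,3,3,2,4,0,1,3,3,0,1,3,4,2,2,3,3,0,0,0,3,4,1,3,3,1,4,3,2,3,3,3,1,0,1,0,3,3,0,4,1,2,2,0,1,4,3,2,1,1,3,4,0,3,0,0,4,4,2,2,0,1,2,4,1,0,0,2,3,2,2,3,0,1,4,1,1,3,3,0,2,4,1,4,3,2,3,2,4,4,1,3,0,0,0,1,2,2,1,3,0,0],
 [0,0,0,0,0,0,0,0,0,2,3,4,0,2,0,4,0,3,1,0,4,2,3,3,2,1,0,4,3,2,3,4,3,4,0,4,1,2,2,1,0,1,2,2,4,2,0,2,1,1,1,4,4,2,0,2,4,2,2,2,3,0,3,0,2,3,0,0,1,4,0,1,4,4,4,1,4,2,3,1,2,2,1,3,2,4,3,4,3,0,0,4,3,0,3,2,3,0,1,1,2,3,4,3,0,2,3,4,3,1,1],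
 [0,0,0,0,0,0,0,0,0,2,3,0,1,2,0,4,2,3,3,3,2,4,3,1,4,1,2,0,0,4,3,0,2,2,0,3,3,3,4,1,3,2,1,1,0,2,0,4,1,4,4,4,2,2,2,1,1,1,1,0,2,1,4,3,4,4,2,1,4,3,3,4,1,4,1,0,3,4,2,0,3,4,1,1,3,3,3,4,0,3,0,0,2,0,1,2,2,2,2,3,3,1,2,2,4,4,4,3,3,0,0],
 [0,0,0,0,0,0,0,0,0,4,0,0,1,0,0,1,4,2,2,0,1,0,1,3,2,1,2,2,1,4,2,0,3,0,1,1,4,0,4,3,3,4,4,2,4,2,4,0,3,0,1,1,4,4,1,2,3,1,3,3,1,3,4,0,2,4,0,4,2,2,1,4,3,1,4,1,4,1,3,3,4,4,2,2,3,3,0,1,4,3,2,1,0,3,0,2,3,1,2,1,2,0,3,2,2,2,0,3,0,4,3],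
 [0,0,0,0,0,0,0,0,0,4,4,1,0,2,0,1,3,4,3,2,4,4,0,0,0,0,4,0,2,1,4,4,0,1,1,1,4,4,3,4,4,0,1,3,0,3,4,0,1,3,3,4,4,4,1,1,0,4,0,1,2,0,2,1,0,3,1,3,0,0,2,3,4,0,4,2,0,2,4,2,1,2,3,0,3,1,1,3,2,3,2,0,4,2,4,4,3,2,3,2,0,1,3,0,4,4,0,4,3,4,1],
 [0,0,0,0,0,0,0,0,0,1,0,2,2,0,0,4,2,3,2,2,3,1,4,4,2,4,0,4,1,4,2,1,3,2,3,2,0,3,3,3,2,0,2,2,4,3,0,1,0,4,1,4,4,2,3,0,4,1,2,1,1,0,4,2,1,4,0,0,2,1,1,0,4,4,3,4,2,1,3,4,1,4,2,4,3,3,0,1,0,0,0,4,2,4,1,0,0,3,0,2,4,2,1,0,3,4,0,4,2,2,1],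
 [0,0,0,0,0,0,0,0,0,2,4,4,1,2,0,1,3,0,2,3,4,3,2,1,1,2,2,0,2,1,3,4,0,4,4,4,1,4,3,2,4,1,2,1,0,2,3,4,1,4,1,1,3,0,4,1,1,2,0,4,3,4,3,0,4,1,1,2,0,1,0,3,1,0,4,1,1,1,0,4,0,1,2,4,3,0,3,1,2,4,2,3,4,0,3,2,3,0,0,3,4,4,2,0,4,0,1,2,2,1,1],
 [0,0,0,0,0,0,0,0,0,2,4,0,0,4,0,0,3,1,3,1,0,0,4,1,2,2,4,0,0,4,1,2,1,0,4,4,2,2,3,3,2,3,2,4,0,3,3,0,0,0,0,2,1,2,0,1,3,1,2,1,2,0,4,0,4,2,0,1,1,4,1,0,0,3,2,4,3,3,3,4,2,1,2,4,4,1,2,2,1,3,1,0,0,1,3,4,4,0,1,4,0,4,4,0,4,1,0,2,2,4,2],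
 [0,0,0,0,0,0,0,0,0,2,3,1,4,3,1,1,2,1,3,1,2,4,2,1,4,4,3,2,0,0,1,2,3,2,1,2,3,4,3,1,4,3,2,1,4,4,4,1,0,1,0,1,3,4,2,0,2,2,0,1,4,2,0,1,3,1,1,4,4,0,3,0,3,3,1,3,2,4,2,1,1,3,3,4,2,2,4,0,1,2,4,4,2,4,3,0,0,4,0,2,0,0,0,4,0,4,0,0,2,1,3],
 [0,0,0,0,0,0,0,0,0,2,3,3,1,2,0,0,2,1,4,3,4,3,2,4,2,1,0,4,3,0,3,3,4,4,1,0,4,3,1,4,4,0,0,2,3,2,4,0,2,3,2,3,3,0,2,0,3,4,4,4,2,2,0,2,1,0,4,2,1,3,3,1,1,1,1,4,4,4,3,0,2,3,3,3,4,2,4,1,4,0,1,0,3,4,3,0,3,2,1,3,1,3,1,3,4,0,2,2,1,0,0],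
 [0,0,0,0,0,0,0,0,0,0,4,4,1,0,0,2,2,3,1,3,1,3,4,4,0,1,4,1,3,4,4,0,2,3,2,4,4,1,3,1,3,4,1,4,2,0,3,2,1,3,0,1,1,4,0,4,1,1,2,1,3,0,2,3,3,0,4,2,0,4,3,3,4,4,1,3,0,0,1,2,3,3,1,1,1,0,0,1,4,3,4,1,0,3,3,1,1,1,1,3,0,2,0,0,2,4,1,2,3,0,2],
 [0,0,0,0,0,0,0,0,0,3,4,4,3,2,0,3,1,0,0,1,0,0,2,0,2,2,1,2,0,2,1,3,0,2,1,4,1,3,4,0,2,1,2,2,0,1,2,0,3,2,2,3,0,4,1,3,3,4,3,0,1,0,2,3,4,4,1,2,2,4,0,2,0,0,1,1,0,2,4,4,2,0,4,0,1,0,0,0,1,4,2,0,4,2,0,0,2,4,3,4,1,2,1,0,4,0,2,0,3,2,4],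
 [0,0,0,0,0,0,0,0,0,2,3,0,3,1,0,3,3,3,2,1,4,1,3,2,2,2,2,4,2,1,2,4,4,0,3,1,2,0,2,1,0,1,3,4,3,4,4,0,3,1,1,1,1,3,1,3,4,0,2,0,1,2,2,2,0,3,4,3,0,1,4,0,1,4,2,0,1,3,4,1,1,3,2,3,1,4,0,1,0,2,2,3,2,3,4,1,3,1,2,0,4,4,3,0,0,4,1,3,1,3,0],
 [0,0,0,0,0,0,0,0,0,2,0,2,1,1,3,3,3,1,2,4,0,3,2,4,4,3,1,0,0,3,3,4,1,0,0,2,2,3,1,3,0,3,1,0,4,3,2,3,2,4,4,3,0,2,0,4,3,1,0,2,0,0,2,0,2,2,1,0,3,3,2,0,1,4,4,1,1,3,2,0,3,3,4,3,1,4,4,1,0,1,1,3,1,3,4,1,3,0,3,3,4,0,2,0,3,2,0,2,0,3,2],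
 [0,0,0,0,0,0,0,0,0,4,0,4,1,3,0,2,0,3,1,4,4,1,3,3,0,3,3,2,0,1,4,2,4,1,1,4,4,3,1,4,0,1,2,2,0,1,2,3,0,3,3,2,0,2,2,4,4,1,3,0,2,1,4,2,2,3,0,0,0,3,1,1,1,0,0,1,1,3,0,1,2,1,1,0,0,2,4,1,1,0,0,3,0,3,4,4,3,1,4,4,2,2,4,0,0,1,4,4,4,1,2],
 [0,0,0,0,0,0,0,0,0,0,0,0,0,0,0,0,0,0,0,0,0,0,0,0,0,0,0,0,0,0,0,0,0,0,0,0,0,0,0,0,0,0,0,0,0,0,0,0,0,0,0,0,0,0,0,0,0,0,0,0,0,0,0,0,0,0,0,0,0,0,0,0,0,0,0,0,0,0,0,0,0,0,0,0,0,0,0,0,0,0,0,0,0,0,0,0,0,0,0,0,0,0,0,0,4,0,1,0,4,3,4],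
 [0,0,0,0,0,0,0,0,0,0,0,0,0,0,0,0,0,0,0,0,0,0,0,0,0,0,0,0,0,0,0,0,0,0,0,0,0,0,0,0,0,0,0,0,0,0,0,0,0,0,0,0,0,0,0,0,0,0,0,0,0,0,0,0,0,0,0,0,0,0,0,0,0,0,0,0,0,0,0,0,0,0,0,0,0,0,0,0,0,0,0,0,0,0,0,0,0,0,0,0,0,0,0,0,0,4,1,4,0,3,2],
 [0,0,0,0,0,0,0,0,0,0,0,0,0,0,0,0,0,0,0,0,0,0,0,0,0,0,0,0,0,0,0,0,0,0,0,0,0,0,0,0,0,0,0,0,0,0,0,0,0,0,0,0,0,0,0,0,0,0,0,0,0,0,0,0,0,0,0,0,0,0,0,0,0,0,0,0,0,0,0,0,0,0,0,0,0,0,0,0,0,0,0,0,0,0,0,0,0,0,0,0,0,0,0,0,0,0,1,0,0,0,4],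
 [0,0,0,0,0,0,0,0,0,0,0,0,0,0,0,0,0,0,0,0,0,0,0,0,0,0,0,0,0,0,0,0,0,0,0,0,0,0,0,0,0,0,0,0,0,0,0,0,0,0,0,0,0,0,0,0,0,0,0,0,0,0,0,0,0,0,0,0,0,0,0,0,0,0,0,0,0,0,0,0,0,0,0,0,0,0,0,0,0,0,0,0,0,0,0,0,0,0,0,0,0,0,0,0,0,0,0,1,0,4,0],
 [0,0,0,0,0,0,0,0,0,0,0,0,0,0,0,0,0,0,0,0,0,0,0,0,0,0,0,0,0,0,0,0,0,0,0,0,0,0,0,0,0,0,0,0,0,0,0,0,0,0,0,0,0,0,0,0,0,0,0,0,0,0,0,0,0,0,0,0,0,0,0,0,0,0,0,0,0,0,0,0,0,0,0,0,0,0,0,0,0,0,0,0,0,0,0,0,0,0,0,0,0,0,0,0,0,0,0,0,1,4,1],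
 [0,0,0,0,0,0,0,0,0,0,0,0,0,0,0,0,0,0,0,0,0,0,0,0,0,0,0,0,0,0,0,0,0,0,0,0,0,0,0,0,0,0,0,0,0,0,0,0,0,0,0,0,0,0,0,0,0,0,0,0,0,0,0,0,0,0,0,0,0,0,0,0,0,0,0,0,0,0,0,0,0,0,0,0,0,0,0,0,0,0,0,0,0,0,0,0,0,0,0,0,0,0,0,0,0,0,0,0,0,4,0],
 [0,0,0,0,0,0,0,0,0,0,0,0,0,0,0,0,0,0,0,0,0,0,0,0,0,0,0,0,0,0,0,0,0,0,0,0,0,0,0,0,0,0,0,0,0,0,0,0,0,0,0,0,0,0,0,0,0,0,0,0,0,0,0,0,0,0,0,0,0,0,0,0,0,0,0,0,0,0,0,0,0,0,0,0,0,0,0,0,0,0,0,0,0,0,0,0,0,0,0,0,0,0,0,0,0,0,0,0,0,0,4]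
]

/-- named matrix 1 -/
def nm1 : List (List ℕ) := [
 [0,3,2,0,4,1,2,4,4,0,2,4,3,4,1,4,0,1,1,0,1,4,4,3,0,4,2,3,3,3,0,2,1,1,3,0,3,4,1,2,0,2,3,0,1,1,1,1,2,3,0,2,1,2,0,0,1,1,3,4,1,3,1,0,0,4,1,3,0,1,3,1,3,0,0,4,3,1,2,3,2,1,1,2,0,2,2,1,3,3,4,0,0,1,1,1,2,0,3,2,4,1,4,3,1,4,0,0,2,4,2],
 [3,3,2,2,3,4,1,2,3,1,0,3,3,1,0,4,4,1,1,2,2,0,3,4,2,4,3,1,3,3,1,3,3,0,4,3,3,2,1,1,4,1,4,4,1,3,0,3,0,2,4,2,3,0,4,4,0,1,1,0,3,1,2,2,4,0,3,2,3,1,0,2,4,0,0,3,3,3,1,3,1,4,3,4,1,3,3,1,1,3,4,1,3,4,3,2,0,1,1,3,2,2,4,0,3,4,1,0,2,3,0],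
 [0,0,0,0,2,3,0,0,0,4,4,1,4,4,0,0,0,3,4,1,2,1,2,1,4,4,1,1,2,4,3,4,1,1,0,2,3,1,0,1,0,1,0,2,2,3,2,1,4,4,4,1,4,4,3,1,2,0,1,4,1,4,4,3,4,3,4,1,3,0,4,0,2,2,1,1,2,3,4,1,1,3,0,1,0,4,3,2,2,1,3,2,1,4,4,1,1,3,3,4,1,3,0,2,2,0,3,4,2,0,3],
 [0,0,0,4,4,1,1,0,0,3,3,2,1,2,1,1,1,0,2,3,2,1,2,1,3,4,1,1,2,0,4,4,0,0,3,2,0,4,1,0,3,1,0,1,2,0,0,1,4,2,4,1,0,1,4,2,4,0,4,3,1,4,0,2,2,0,4,2,3,1,4,0,0,2,1,0,0,2,3,4,1,3,2,3,0,4,3,1,4,2,2,3,0,3,2,4,0,1,4,1,3,0,4,2,2,4,4,3,3,3,2],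
 [0,0,3,3,4,0,3,0,0,0,0,1,2,4,2,1,1,0,4,4,3,3,2,4,0,1,0,1,3,4,3,2,1,4,4,3,3,4,0,1,2,0,4,2,3,2,1,2,2,4,3,0,4,3,4,2,1,4,1,1,0,2,2,1,2,3,4,4,3,3,4,2,2,4,2,0,2,3,0,3,4,3,0,1,0,2,3,1,3,3,3,4,3,3,1,2,1,3,4,1,4,3,4,4,1,1,2,2,2,0,4],
 [0,0,0,0,0,0,3,0,0,1,2,2,4,3,3,3,3,2,2,4,3,4,3,4,1,1,1,3,4,3,1,2,2,4,3,0,2,0,4,4,3,0,1,2,3,1,0,2,0,1,0,4,4,0,3,0,0,0,3,3,2,0,2,1,3,4,3,2,0,2,4,4,0,4,2,1,0,4,1,3,2,3,0,3,1,1,3,1,1,4,1,0,0,3,4,4,2,4,3,2,1,3,3,2,2,1,2,2,4,4,0],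
 [0,0,0,0,0,3,3,0,0,4,4,4,2,3,2,4,1,1,4,3,0,3,4,0,4,0,4,4,3,1,0,2,1,1,3,2,4,4,1,0,2,0,3,1,1,4,4,0,2,3,4,2,2,2,4,4,1,2,1,3,2,3,3,2,0,0,3,1,4,2,3,0,3,4,2,3,1,4,3,1,2,3,0,0,4,2,2,2,3,3,2,2,3,0,1,2,3,3,0,3,0,1,0,0,4,1,4,0,1,0,4],
 [0,0,0,0,0,0,0,1,2,4,3,3,0,0,1,3,4,1,0,4,1,0,2,1,3,0,3,0,1,3,3,3,2,3,1,0,3,2,3,3,2,4,0,3,2,1,3,3,1,2,0,2,2,2,1,3,3,2,3,1,4,3,2,4,1,1,1,1,2,4,0,0,0,2,4,4,2,0,4,1,0,4,3,0,1,2,0,1,2,3,0,4,1,4,1,2,2,3,2,0,3,4,0,3,4,1,4,0,2,0,1],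
 [0,0,0,0,0,0,0,3,2,0,1,1,0,3,2,1,4,4,1,1,4,3,3,3,0,3,1,0,2,0,2,1,2,4,4,0,2,4,2,2,1,1,2,4,4,2,3,1,2,2,2,1,0,3,0,3,1,1,3,4,4,0,3,0,1,3,1,0,3,0,0,4,0,1,2,3,3,4,2,0,1,0,4,1,2,0,0,2,2,1,2,3,0,4,0,2,1,4,2,1,2,3,3,2,3,2,4,1,3,2,3],
 [0,0,0,0,0,0,0,0,0,4,1,1,0,0,1,0,2,2,0,3,1,0,4,4,1,1,0,1,0,1,4,3,3,1,4,1,2,4,1,0,3,3,3,4,4,3,3,1,2,1,1,0,3,1,2,0,1,2,2,1,2,3,0,1,0,1,1,1,1,2,0,0,1,0,4,1,0,4,4,1,4,1,4,2,2,0,1,4,4,4,2,3,2,1,2,2,4,2,4,1,2,0,0,2,1,2,0,3,1,0,3],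
 [0,0,0,0,0,0,0,0,0,2,4,4,4,3,1,4,1,3,3,0,2,0,4,0,1,1,3,0,0,4,4,3,1,2,4,1,4,1,1,4,0,1,2,1,4,0,4,3,2,3,3,3,0,4,0,4,1,3,0,0,4,1,3,3,3,1,0,1,1,0,0,0,0,2,1,3,4,4,1,2,1,2,3,0,0,1,2,0,2,4,3,2,0,0,3,4,2,0,4,2,2,0,3,1,1,3,3,0,2,4,2],
 [0,0,0,0,0,0,0,0,0,1,0,2,3,2,1,0,0,1,0,0,3,1,2,2,1,0,1,0,4,4,0,1,4,0,0,0,3,0,3,0,2,3,0,0,3,1,0,1,2,0,2,0,2,1,1,1,1,0,1,3,4,4,3,1,1,4,4,0,0,4,0,4,4,3,4,2,0,2,2,0,0,2,2,3,4,3,2,2,3,3,2,4,3,0,2,2,2,0,3,4,0,3,0,4,0,0,2,0,2,2,3],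
 [0,0,0,0,0,0,0,0,0,3,2,3,0,3,0,1,0,2,2,4,2,2,2,2,2,3,1,2,2,2,3,0,4,3,1,3,3,1,3,3,1,4,1,0,4,1,2,4,3,2,1,4,2,3,0,3,2,4,1,1,3,4,1,4,3,3,1,2,2,1,0,0,2,3,1,0,2,4,3,0,4,0,2,3,4,3,3,2,3,1,1,1,2,0,1,3,4,1,1,4,4,4,4,4,4,4,2,1,0,0,3],
 [0,0,0,0,0,0,0,0,0,4,3,4,0,4,3,3,3,2,0,4,0,0,1,4,0,4,3,2,3,3,3,2,1,2,0,1,1,2,3,4,4,1,2,2,0,2,0,2,4,3,0,0,0,2,3,0,3,0,1,0,4,3,0,1,1,3,4,2,1,3,0,3,1,0,0,3,0,3,1,3,1,1,3,0,1,1,0,2,4,1,3,1,3,3,1,3,0,4,2,3,4,0,3,1,4,0,0,1,3,0,0],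
 [0,0,0,0,0,0,0,0,0,3,0,4,3,4,4,2,3,0,1,1,2,1,1,3,4,2,0,4,3,2,3,2,4,2,3,2,3,4,4,4,2,3,0,2,0,1,0,3,3,3,2,0,2,4,1,3,0,1,0,1,4,4,3,3,0,0,3,0,2,3,0,1,1,3,3,2,0,3,2,2,0,4,4,0,0,2,2,4,1,3,1,2,0,3,2,1,3,4,2,0,3,0,3,2,3,1,1,3,3,0,0],
 [0,0,0,0,0,0,0,0,0,1,0,3,0,2,1,4,3,2,4,4,3,0,0,3,0,1,2,2,2,3,1,1,4,1,2,3,3,2,4,4,3,0,3,1,0,3,2,4,1,0,0,2,0,2,1,3,1,0,3,4,4,0,4,1,0,4,3,2,3,3,0,4,2,1,1,4,1,0,4,3,2,0,3,0,1,4,1,1,1,4,0,0,4,0,3,3,1,3,4,3,2,4,1,2,0,4,1,2,0,3,2],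
 [0,0,0,0,0,0,0,0,0,0,2,4,4,3,0,4,0,2,3,2,0,4,1,0,1,3,0,3,4,4,0,0,2,1,4,3,4,4,0,2,1,1,0,0,4,0,4,2,4,0,4,0,3,0,3,4,2,2,1,0,0,1,4,4,2,2,4,3,1,3,0,4,2,2,1,3,4,1,3,2,4,3,3,4,2,2,3,4,4,4,2,1,1,1,3,1,2,4,2,3,1,2,0,3,4,0,0,3,1,3,2],
 [0,0,0,0,0,0,0,0,0,4,4,2,2,3,3,2,4,4,1,2,3,0,2,4,3,2,1,2,3,0,3,4,1,3,2,4,1,3,0,1,0,1,3,2,0,1,0,3,2,4,2,0,0,1,3,2,3,4,3,2,1,0,3,0,1,2,4,4,1,0,0,2,2,3,0,0,0,2,4,0,4,1,4,3,3,3,4,1,2,0,0,1,0,1,3,2,4,2,2,4,1,1,3,1,4,1,3,4,1,0,3],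
 [0,0,0,0,0,0,0,0,0,3,1,3,4,2,3,2,2,4,0,1,0,2,0,2,4,2,3,1,4,2,0,3,0,1,0,0,2,1,2,4,4,2,2,3,2,1,3,2,2,1,4,0,1,0,0,0,1,1,0,2,3,0,2,0,4,3,1,2,3,3,0,0,0,3,1,1,0,1,0,0,3,1,2,0,4,3,1,0,2,3,4,3,0,4,0,2,4,4,4,4,1,1,2,0,2,1,3,2,0,2,1],
 [0,0,0,0,0,0,0,0,0,2,1,3,2,4,2,3,0,2,0,3,2,1,4,2,0,0,4,1,3,3,0,0,1,1,1,3,0,1,0,1,2,3,1,3,2,4,3,3,0,2,3,0,0,1,4,0,1,3,4,4,4,0,1,3,4,2,3,4,1,0,0,1,0,3,4,1,0,0,3,1,0,3,2,1,2,3,0,0,0,4,4,4,0,0,0,2,4,1,4,4,3,1,0,4,2,2,1,1,4,0,0],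
 [0,0,0,0,0,0,0,0,0,0,4,3,1,0,1,2,1,0,1,2,4,1,3,2,3,1,3,3,2,2,1,2,0,4,3,4,3,3,1,1,1,0,4,2,0,1,0,0,2,3,1,1,4,3,3,2,3,0,1,4,3,1,1,4,4,1,3,3,0,4,0,1,2,0,4,0,3,1,3,0,0,3,4,1,2,2,0,1,4,1,3,3,0,1,0,3,2,0,3,1,3,1,1,3,1,2,1,4,1,3,2],
 [0,0,0,0,0,0,0,0,0,0,2,4,4,3,3,4,1,3,1,0,1,1,1,4,2,4,4,2,0,0,4,1,0,2,1,4,2,1,3,1,1,3,1,2,3,4,0,4,1,3,2,0,0,0,0,1,0,0,2,2,0,4,3,4,1,4,1,4,1,2,0,0,2,0,3,3,0,1,1,3,0,0,3,1,0,0,3,3,1,3,3,3,4,4,1,4,3,3,0,3,1,2,3,1,0,3,3,3,4,4,1],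
 [0,0,0,0,0,0,0,0,0,1,2,4,1,4,1,1,4,2,2,0,1,4,2,2,2,3,3,2,0,4,4,2,0,1,1,1,0,2,3,3,3,0,4,3,3,3,0,2,4,2,2,0,0,2,0,2,1,3,4,3,0,2,0,4,0,2,2,1,1,3,0,3,1,2,0,3,0,3,4,3,1,2,2,3,4,1,3,1,1,2,0,0,0,0,4,4,4,3,3,2,1,4,0,1,0,3,3,3,1,2,2],
 [0,0,0,0,0,0,0,0,0,0,2,0,3,3,1,2,0,1,4,3,1,1,4,3,1,4,3,0,2,3,3,1,1,0,3,1,0,0,2,4,1,4,4,4,4,0,0,4,0,1,0,0,1,4,4,1,0,0,0,1,3,3,0,2,1,1,2,3,0,2,0,1,3,2,1,0,0,0,2,3,0,2,1,4,3,1,2,4,2,4,4,4,0,4,2,0,2,0,4,1,1,4,4,0,2,3,3,1,0,2,4],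
 [0,0,0,0,0,0,0,0,0,1,3,3,1,4,0,2,0,4,4,0,4,2,2,3,4,4,1,3,0,0,4,4,3,2,2,3,1,3,1,3,1,4,0,0,0,1,0,3,4,4,0,4,3,0,3,3,0,4,3,0,1,0,4,4,4,1,4,4,1,0,0,4,3,1,2,3,0,0,2,0,0,2,1,3,1,3,4,0,1,3,1,4,4,2,3,4,2,3,2,1,4,2,2,4,4,4,4,1,2,3,2],
 [0,0,0,0,0,0,0,0,0,2,0,1,3,4,2,1,0,1,4,3,3,3,3,4,1,1,3,1,1,0,3,0,1,4,0,0,4,3,1,0,1,2,3,1,2,3,0,0,4,3,3,0,2,3,1,1,3,3,4,2,2,2,1,0,1,0,2,4,4,1,0,3,4,3,3,1,0,0,0,2,0,0,2,2,0,4,3,2,3,0,2,1,0,1,3,1,1,4,1,0,1,3,3,1,2,3,4,3,2,2,3],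
 [0,0,0,0,0,0,0,0,0,4,4,1,3,2,1,3,3,2,2,4,3,0,2,4,1,0,0,4,4,1,1,2,1,1,2,3,4,4,4,4,2,4,3,3,2,4,1,0,4,2,3,0,0,4,0,3,4,0,0,1,1,1,0,1,0,3,0,3,3,4,0,1,2,1,2,0,0,4,4,3,1,2,3,4,2,4,4,2,1,2,1,4,0,2,3,1,0,4,0,2,2,0,4,2,1,0,4,4,1,0,2],
 [0,0,0,0,0,0,0,0,0,1,0,2,1,4,4,1,1,4,4,0,4,1,2,0,3,1,1,3,2,0,3,3,4,2,4,3,3,4,2,3,3,0,1,0,4,1,1,3,2,4,2,0,3,2,1,3,1,0,4,2,2,0,4,0,1,2,1,1,3,3,0,0,4,2,0,1,0,2,4,4,4,0,0,3,1,2,0,0,4,0,2,2,2,2,1,4,1,4,3,2,3,2,3,0,0,2,3,0,3,2,3],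
 [0,0,0,0,0,0,0,0,0,3,3,3,3,4,2,1,1,4,1,4,1,2,3,2,3,3,0,2,2,0,3,2,4,2,3,1,2,2,0,1,0,3,2,2,2,0,3,4,3,4,1,0,4,4,1,0,4,0,4,3,2,0,4,2,2,1,4,3,0,2,0,3,1,0,2,3,0,3,3,1,3,3,4,1,4,3,1,3,0,0,1,3,3,2,3,2,2,2,2,0,3,2,3,3,4,0,3,3,3,4,2],
 [0,0,0,0,0,0,0,0,0,1,2,3,1,4,2,0,3,1,3,0,0,2,3,0,0,2,1,1,2,4,3,0,3,4,4,4,3,3,4,1,3,4,3,3,2,4,3,3,1,1,1,0,0,0,4,0,0,4,3,1,0,4,2,3,2,0,3,3,2,3,1,2,3,1,4,1,0,4,1,0,4,2,3,1,2,1,2,0,1,3,4,4,4,2,4,3,2,0,0,0,1,0,3,0,4,0,2,4,2,2,2],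
 [0,0,0,0,0,0,0,0,0,0,2,2,1,2,0,4,4,4,4,0,0,1,3,1,1,2,3,2,4,1,4,2,4,1,2,4,4,3,3,4,3,3,2,2,1,2,3,3,3,0,2,2,1,1,0,3,1,1,4,1,1,3,0,1,2,3,4,2,3,4,0,2,2,3,1,2,4,2,3,2,2,4,1,4,2,4,4,2,4,4,1,3,1,0,0,2,2,2,1,1,1,0,0,2,1,2,3,0,3,3,0],
 [0,0,0,0,0,0,0,0,0,4,1,0,4,4,3,4,3,2,2,4,1,0,0,4,1,3,1,1,3,0,4,4,4,4,3,4,0,4,2,0,0,2,4,2,0,2,3,0,3,0,4,4,1,0,4,3,2,3,4,3,3,0,1,4,2,4,4,4,0,0,0,1,4,4,1,4,1,3,2,3,3,3,3,1,1,2,3,3,4,0,1,3,4,2,0,1,4,0,4,1,4,1,2,1,3,1,4,0,2,0,4],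
 [0,0,0,0,0,0,0,0,0,1,2,3,2,4,1,1,4,4,0,3,3,0,3,4,1,1,3,3,3,3,0,0,2,3,2,0,3,0,4,0,2,3,2,2,3,3,4,2,1,1,4,0,3,2,3,3,1,1,1,0,3,0,4,0,2,0,4,4,1,4,0,4,2,3,3,0,0,2,4,1,1,0,0,3,2,1,0,4,4,2,3,2,0,1,4,4,4,0,0,0,0,1,2,4,2,2,3,4,1,4,1],
 [0,0,0,0,0,0,0,0,0,3,4,1,1,0,1,1,3,2,0,2,4,1,4,4,2,4,4,2,0,4,4,2,4,1,4,4,0,1,3,1,1,1,4,1,2,0,2,3,2,4,0,2,0,4,1,1,2,4,2,1,2,0,4,4,3,0,4,2,2,2,0,4,0,3,2,3,1,2,3,3,1,0,2,0,1,0,4,0,3,2,4,0,4,3,2,2,3,0,2,1,1,1,1,1,4,4,0,3,0,3,2],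
 [0,0,0,0,0,0,0,0,0,2,2,4,1,1,4,0,0,2,3,0,0,2,1,3,4,2,1,2,3,1,0,0,3,0,4,0,1,3,1,4,2,2,4,0,1,3,3,0,3,0,4,0,2,2,3,2,0,1,2,3,1,3,1,0,3,0,1,4,4,0,0,1,1,2,3,1,0,1,0,4,4,4,0,3,0,0,1,0,1,1,3,4,2,3,0,0,4,3,2,1,4,1,0,3,1,2,2,4,0,0,2],
 [0,0,0,0,0,0,0,0,0,4,3,2,3,3,2,0,2,2,1,3,1,4,3,1,1,1,1,4,3,4,1,1,1,1,3,0,3,3,2,0,0,1,1,3,4,4,1,3,1,3,1,0,3,0,3,0,2,2,1,0,0,3,4,1,3,2,1,0,4,3,0,4,1,2,1,0,0,1,1,0,4,1,1,3,3,0,4,4,0,1,1,2,3,2,3,3,0,0,2,2,2,2,4,1,1,2,3,4,0,4,4],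
 [0,0,0,0,0,0,0,0,0,4,2,0,2,2,3,2,4,4,4,3,1,2,2,3,4,3,2,1,3,1,0,0,2,2,3,2,0,2,3,0,1,1,4,1,2,2,1,0,3,3,2,0,0,0,2,4,0,4,4,0,1,3,3,2,2,2,4,0,4,2,0,2,0,2,0,3,0,1,1,4,3,3,1,3,0,2,2,1,0,0,1,2,1,1,0,1,0,4,2,4,4,0,3,3,4,3,2,4,4,1,4],
 [0,0,0,0,0,0,0,0,0,2,1,3,1,2,3,1,1,2,2,3,1,3,2,0,2,2,0,3,2,4,2,1,1,4,4,3,2,3,4,2,4,1,1,4,2,1,0,1,3,4,0,0,0,1,3,2,4,4,4,2,2,1,2,1,1,0,4,1,3,1,0,3,4,0,4,2,0,4,1,1,1,4,2,3,1,1,0,0,1,2,0,3,3,1,1,2,3,4,0,1,3,1,3,2,2,2,1,4,1,4,0],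
 [0,0,0,0,0,0,0,0,0,0,2,4,2,3,2,3,4,2,3,3,4,0,2,0,3,1,3,0,4,0,4,0,2,1,0,1,0,4,1,4,0,1,3,3,0,1,4,1,0,1,1,2,4,3,1,2,4,0,0,3,1,4,1,3,1,1,2,4,2,0,0,0,4,2,4,2,1,3,0,3,3,4,4,4,0,4,0,1,4,4,0,0,0,1,4,2,2,4,4,1,0,3,1,2,1,0,1,0,2,1,1],
 [0,0,0,0,0,0,0,0,0,1,4,0,4,1,1,3,2,1,4,1,0,4,1,1,0,2,3,0,2,2,3,3,2,1,3,1,1,0,1,4,0,2,4,2,1,0,2,3,2,4,1,0,1,2,0,1,4,3,1,0,2,1,3,1,0,0,0,3,3,0,0,2,0,1,2,3,0,4,0,1,3,2,1,3,0,2,4,4,0,1,1,3,2,3,4,2,2,3,1,1,1,1,3,3,4,2,4,4,2,4,1],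
 [0,0,0,0,0,0,0,0,0,3,0,1,0,4,2,2,4,3,2,3,1,2,2,3,1,3,2,0,4,4,4,2,1,4,3,1,1,1,4,2,0,4,0,1,4,1,4,2,1,1,2,0,2,4,2,4,2,2,1,4,4,2,4,3,2,3,0,4,2,2,0,4,2,2,4,3,0,1,0,1,1,2,4,4,0,0,1,3,3,4,0,2,1,4,4,3,0,1,4,1,1,3,2,2,3,0,2,2,0,1,2],
 [0,0,0,0,0,0,0,0,0,0,3,2,2,0,0,3,0,0,0,4,4,3,4,4,2,1,4,4,3,0,0,4,1,0,3,2,2,0,4,2,3,4,0,3,3,0,0,4,3,0,1,0,0,3,0,0,1,1,0,0,2,4,0,4,2,4,0,2,2,4,0,3,3,1,3,0,0,0,4,1,1,4,4,1,3,1,2,3,4,2,1,3,0,4,2,2,2,1,4,0,4,3,2,2,4,2,3,3,1,1,1],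
 [0,0,0,0,0,0,0,0,0,3,0,1,3,3,3,0,1,2,2,4,2,1,4,3,0,0,2,3,1,4,1,0,1,4,3,0,1,2,2,0,1,3,0,0,2,1,0,4,1,3,1,0,2,0,2,4,1,2,1,1,3,1,1,0,1,4,1,2,3,4,0,0,0,0,1,3,0,3,3,0,0,2,0,0,4,3,3,4,1,1,2,4,2,4,3,0,4,1,3,0,4,4,4,4,2,4,2,1,0,0,1],
 [0,0,0,0,0,0,0,0,0,0,2,2,1,3,2,2,0,4,1,0,2,4,1,2,1,2,0,0,4,2,3,0,3,1,4,2,3,2,2,3,4,0,2,0,2,4,2,3,2,0,1,0,2,1,2,1,4,3,2,4,2,1,0,2,4,0,2,3,4,3,3,4,1,1,3,3,0,4,4,0,3,4,0,2,1,2,3,4,2,3,4,3,0,1,3,4,1,1,3,0,1,0,0,3,3,1,1,4,0,3,3],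
 [0,0,0,0,0,0,0,0,0,2,1,0,2,0,3,4,1,0,3,2,4,3,2,3,1,2,2,1,1,0,0,0,3,0,1,4,2,4,2,2,4,1,1,1,4,0,0,4,0,2,4,0,4,4,1,2,2,4,0,0,2,4,4,2,3,2,4,4,4,1,0,0,4,4,0,2,2,1,4,4,0,0,1,1,4,4,0,0,1,4,1,4,1,1,3,3,2,1,4,0,1,2,4,2,2,4,4,0,3,4,1],
 [0,0,0,0,0,0,0,0,0,3,3,1,2,1,1,0,1,4,1,4,2,1,3,3,2,2,3,1,0,3,0,4,1,3,3,0,4,0,4,4,1,0,4,1,2,0,0,4,2,3,0,3,4,2,2,0,1,0,3,0,4,4,3,2,4,3,3,1,3,3,0,3,3,0,1,2,4,3,4,3,3,1,2,0,3,0,3,4,3,0,4,1,3,2,3,4,2,1,1,1,4,2,1,2,0,3,2,4,2,3,3],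
 [0,0,0,0,0,0,0,0,0,1,4,0,4,4,3,2,0,2,0,4,4,1,0,1,2,1,3,2,0,2,3,1,4,3,0,0,1,1,3,4,2,4,4,2,2,3,0,0,1,4,0,0,4,4,1,4,0,4,2,0,1,3,4,3,4,1,1,3,3,2,0,0,3,0,2,2,0,1,2,4,4,0,1,3,1,1,0,0,0,2,2,4,3,4,1,4,2,2,0,1,2,4,3,0,0,2,2,1,4,4,3],
 [0,0,0,0,0,0,0,0,0,2,1,2,1,1,3,0,3,1,1,4,3,2,4,2,3,0,1,0,3,0,3,0,4,0,0,3,2,4,4,0,3,3,1,2,4,2,3,4,0,3,2,4,4,1,4,0,4,3,0,3,2,3,3,4,2,0,3,3,2,3,0,0,3,0,2,2,2,3,2,4,1,3,0,0,0,0,4,4,4,2,1,1,2,3,0,4,2,0,3,3,2,2,4,0,0,2,4,1,1,2,0],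
 [0,0,0,0,0,0,0,0,0,4,4,2,2,3,1,4,4,1,4,1,2,4,1,3,0,3,0,0,1,3,0,2,4,4,4,4,3,1,0,4,3,0,0,1,0,4,4,4,0,4,3,1,4,1,2,2,3,2,3,2,3,4,1,4,1,0,0,2,2,1,0,1,3,0,4,3,3,4,3,0,0,2,0,4,1,3,4,4,4,1,2,3,1,4,1,3,3,3,1,1,0,0,0,2,2,1,1,4,3,4,4],
 [0,0,0,0,0,0,0,0,0,2,1,0,2,2,0,2,4,4,1,2,1,3,1,4,2,3,4,2,1,4,2,4,1,1,4,1,3,4,0,1,0,3,3,2,3,2,3,1,2,0,2,0,2,0,0,3,3,0,1,2,0,3,3,1,2,4,4,3,4,4,0,3,0,2,0,1,0,2,3,2,1,3,3,0,4,0,0,1,2,1,4,4,1,0,3,4,4,4,2,2,1,3,3,2,1,4,0,0,4,4,1],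
 [0,0,0,0,0,0,0,0,0,2,3,4,3,2,3,1,3,3,2,0,0,1,0,2,2,1,0,0,1,3,4,4,0,3,2,4,3,1,4,3,3,3,4,4,1,4,3,2,0,1,0,0,4,1,1,1,0,4,2,1,0,4,3,2,1,0,2,3,0,1,0,4,1,1,3,2,0,0,2,2,0,1,4,3,1,4,0,3,4,4,2,2,3,4,0,1,4,2,0,1,1,1,0,1,2,0,4,0,1,2,2],
 [0,0,0,0,0,0,0,0,0,4,2,0,4,3,1,1,4,2,4,3,0,3,3,0,4,4,2,2,4,3,3,2,3,1,2,2,1,0,3,4,4,4,2,3,0,4,4,4,3,0,3,0,2,3,2,4,4,4,4,2,2,4,3,4,3,3,4,3,1,1,0,1,2,4,4,1,0,2,3,1,1,1,4,1,3,3,2,2,1,2,3,0,0,0,3,1,2,3,3,1,3,4,4,0,4,4,3,1,4,4,0],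
 [0,0,0,0,0,0,0,0,0,3,0,4,0,4,4,2,0,2,3,4,1,0,0,3,4,4,3,1,3,3,2,2,4,4,3,2,0,1,2,2,4,1,2,3,2,4,2,4,4,3,4,0,4,2,2,3,2,1,3,0,0,0,4,3,0,4,4,3,0,0,0,4,0,3,2,0,0,1,3,3,3,1,3,1,4,3,0,2,1,1,1,4,1,2,4,1,4,0,2,1,2,3,2,2,1,0,1,1,4,3,3],
 [0,0,0,0,0,0,0,0,0,4,1,0,4,1,4,4,0,4,1,3,1,3,4,2,1,2,4,2,1,3,3,0,2,1,4,3,2,4,3,4,4,1,0,2,1,4,0,1,0,4,1,0,3,1,1,3,4,0,3,2,2,0,2,3,0,3,1,3,0,2,0,1,0,0,3,2,0,2,4,2,1,2,1,1,2,0,4,4,3,2,1,3,1,4,3,3,3,4,2,0,0,4,4,3,0,4,2,2,0,1,2],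
 [0,0,0,0,0,0,0,0,0,0,1,2,1,1,3,3,4,1,4,4,0,4,4,2,1,2,0,3,1,1,0,1,0,0,1,0,0,4,3,0,1,4,0,4,1,4,0,0,0,1,3,0,2,2,2,1,2,4,2,1,1,2,1,0,3,4,0,1,4,4,0,3,4,3,1,4,0,4,1,1,3,2,1,4,2,0,2,3,1,0,1,3,4,0,4,2,2,2,4,3,3,4,4,1,2,0,2,2,3,1,0],
 [0,0,0,0,0,0,0,0,0,0,3,4,3,1,2,0,2,2,3,3,3,3,1,0,4,3,0,1,0,0,2,1,3,4,4,0,0,0,3,4,0,4,4,2,0,0,3,4,1,4,2,0,1,2,2,0,2,0,0,0,3,3,0,2,2,3,4,1,1,1,0,1,1,1,3,2,0,4,0,2,4,3,2,4,0,2,4,1,1,1,3,4,0,2,0,0,4,4,1,1,1,2,0,4,0,4,0,2,0,2,0],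
 [0,0,0,0,0,0,0,0,0,2,2,4,2,1,2,3,1,1,4,4,3,1,0,3,0,2,1,3,2,4,3,4,1,1,2,2,0,0,2,0,2,3,1,1,1,1,1,3,4,2,1,0,3,4,1,4,2,0,4,4,0,1,4,1,4,0,4,2,4,4,0,2,1,0,2,4,0,4,0,3,0,0,3,4,4,0,1,1,2,0,1,4,2,4,4,2,1,1,2,2,2,2,1,4,3,0,1,0,2,2,4],
 [0,0,0,0,0,0,0,0,0,0,0,2,3,1,1,2,4,4,0,3,3,1,0,1,1,4,3,2,0,3,4,1,4,2,2,3,1,3,0,3,1,2,1,0,3,3,2,2,4,4,1,4,2,1,4,0,1,0,3,3,2,4,0,0,1,3,3,2,1,3,0,3,2,1,0,0,3,3,4,2,0,0,3,3,2,2,3,0,2,1,2,3,0,4,1,2,2,4,3,0,0,2,3,0,3,2,0,2,4,3,1],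
 [0,0,0,0,0,0,0,0,0,1,0,4,4,0,4,3,3,4,1,0,4,2,1,3,4,2,1,2,0,2,2,3,1,1,4,0,3,0,0,0,0,2,3,0,3,1,2,0,4,1,0,0,0,2,2,1,3,1,0,4,3,2,2,0,1,4,0,1,1,0,0,3,3,1,4,4,0,0,2,1,0,0,2,1,4,3,3,3,4,1,3,2,4,3,4,2,3,3,4,0,4,4,3,3,3,3,1,4,2,4,1],
 [0,0,0,0,0,0,0,0,0,2,4,4,0,0,0,4,4,0,0,4,2,4,4,4,0,1,4,4,1,4,1,1,2,3,1,1,3,1,3,0,1,1,1,3,1,2,3,0,3,0,4,0,4,2,2,3,2,2,2,0,2,0,1,0,2,4,2,4,1,2,0,4,3,3,4,2,0,0,2,3,2,0,4,1,3,0,3,3,0,2,3,3,3,4,4,3,3,3,2,1,3,1,4,2,4,3,4,2,2,4,4],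
 [0,0,0,0,0,0,0,0,0,4,1,1,4,2,0,0,4,1,3,2,2,2,0,3,0,3,0,1,0,2,1,2,3,1,1,3,2,1,0,4,2,1,1,2,2,2,4,0,2,0,0,0,0,2,3,1,2,1,4,4,2,0,0,3,0,3,3,4,3,2,0,4,0,4,1,4,0,0,1,0,3,0,3,0,0,0,3,0,2,2,2,0,1,1,3,0,4,1,3,0,1,2,1,0,3,2,4,0,2,0,4],
 [0,0,0,0,0,0,0,0,0,3,2,3,3,3,1,1,3,2,4,4,4,4,0,2,3,1,0,1,0,1,0,2,3,2,4,3,1,2,1,0,3,4,1,1,1,4,3,1,0,2,4,2,4,0,0,3,3,2,4,3,4,2,1,4,2,3,0,4,3,0,0,4,3,1,1,1,1,2,3,2,4,3,3,3,2,4,2,4,4,4,1,1,2,4,4,3,4,2,4,2,4,3,2,4,2,3,3,1,0,1,4],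
 [0,0,0,0,0,0,0,0,0,3,1,3,2,2,2,2,1,2,3,4,2,3,2,0,1,4,4,3,4,3,0,2,3,4,4,1,3,4,2,1,1,3,1,4,2,4,1,0,4,2,4,4,0,4,2,3,4,3,1,1,3,3,4,1,2,0,0,3,2,3,0,1,3,4,4,0,2,2,0,0,1,2,3,1,0,4,0,1,0,1,0,4,0,4,0,4,0,1,2,1,1,3,3,2,2,1,1,3,1,0,1],
 [0,0,0,0,0,0,0,0,0,4,3,0,4,1,1,0,1,2,2,2,2,1,2,0,3,1,0,4,3,2,2,4,1,4,2,1,0,0,0,4,0,0,4,3,1,0,4,0,0,0,2,0,1,0,4,0,2,3,4,4,0,3,1,2,3,0,2,4,4,3,0,2,3,3,0,0,0,0,4,3,4,0,3,2,0,1,4,0,4,0,4,3,1,1,0,0,3,2,1,2,1,1,0,1,1,4,0,2,3,1,3],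
 [0,0,0,0,0,0,0,0,0,0,3,0,3,3,2,1,4,3,3,3,4,0,1,1,4,3,2,4,2,4,1,2,3,1,0,3,0,2,2,1,0,4,4,3,0,0,0,1,4,2,4,0,3,2,4,4,2,3,1,3,0,0,4,2,1,4,4,2,1,3,0,0,2,3,3,2,0,2,3,3,1,4,3,4,1,2,3,1,1,4,3,2,1,4,4,0,0,2,0,0,0,3,1,4,0,1,0,1,1,1,1],
 [0,0,0,0,0,0,0,0,0,2,3,3,3,0,1,1,2,4,2,1,2,2,1,3,2,1,3,1,1,4,3,2,2,1,0,3,3,2,2,4,4,3,4,2,1,2,1,2,0,1,1,0,2,4,1,4,0,4,2,2,1,3,1,0,0,4,2,4,4,2,0,0,3,3,3,1,0,0,3,4,4,0,0,4,1,2,3,0,4,3,1,0,4,4,2,4,3,1,1,4,0,2,1,4,4,1,2,3,2,2,1],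
 [0,0,0,0,0,0,0,0,0,1,2,2,1,1,3,3,3,4,1,1,3,0,3,2,4,0,4,3,1,0,1,4,1,3,3,0,2,0,1,1,4,0,4,3,0,2,2,4,1,1,4,0,0,1,0,0,2,3,3,4,0,1,0,1,2,3,4,3,3,4,0,1,0,1,1,3,0,0,0,0,1,1,0,0,0,1,1,4,2,3,0,4,4,3,3,3,4,4,0,3,2,4,4,4,3,0,4,0,0,3,0],
 [0,0,0,0,0,0,0,0,0,3,0,4,0,2,1,4,4,1,4,4,2,3,1,1,0,1,3,0,3,4,1,3,0,3,1,2,0,0,3,0,2,0,2,3,1,4,4,2,3,1,2,0,4,2,2,3,4,0,1,0,1,1,3,2,1,0,3,0,3,0,0,2,0,1,4,3,0,2,3,1,3,2,3,0,2,0,4,2,2,2,1,1,2,2,0,2,1,0,4,2,3,0,4,1,2,1,0,1,1,0,2],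
 [0,0,0,0,0,0,0,0,0,1,0,0,2,2,4,1,2,1,2,4,0,2,2,4,3,1,1,1,3,0,2,0,1,0,1,1,4,4,2,1,0,4,4,1,3,4,1,3,1,4,1,0,0,0,3,2,0,3,3,3,0,4,0,1,0,0,1,3,4,4,0,3,0,0,4,0,0,1,0,1,3,4,3,1,0,0,4,0,4,3,3,1,1,0,3,0,1,2,1,0,1,2,4,3,2,3,0,3,4,4,3],
 [0,0,0,0,0,0,0,0,0,0,2,3,1,3,4,0,3,1,4,0,4,3,4,1,2,0,3,3,0,2,3,0,2,0,1,1,3,3,3,0,2,4,1,1,4,4,4,0,2,1,4,0,3,4,1,4,1,4,4,2,4,0,2,3,0,1,3,0,0,0,0,0,4,2,4,4,0,0,0,4,4,4,2,1,4,0,1,0,0,3,0,3,4,4,0,2,4,3,2,0,4,2,1,0,0,0,1,2,1,1,4],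
 [0,0,0,0,0,0,0,0,0,0,0,4,2,2,3,3,3,2,1,4,2,2,2,1,4,0,3,3,1,1,4,4,1,3,1,4,4,3,4,4,3,3,4,4,3,0,4,0,2,1,0,0,0,3,4,3,1,2,0,2,0,4,2,0,3,4,2,4,4,3,0,3,1,2,0,4,0,0,0,0,3,1,3,2,3,1,1,4,0,2,2,0,1,3,2,1,0,4,1,1,3,1,2,0,0,0,4,2,2,4,2],
 [0,0,0,0,0,0,0,0,0,3,0,1,0,4,0,2,3,3,4,0,1,3,4,1,3,3,3,2,0,3,2,1,3,0,2,4,1,1,4,1,1,1,4,3,4,0,4,4,0,4,3,0,2,2,0,1,2,4,3,4,2,0,3,2,3,2,2,2,1,0,0,4,2,3,0,3,0,0,1,3,1,3,0,2,0,3,2,3,2,1,0,0,2,1,0,1,3,4,0,1,4,1,2,1,2,1,2,4,2,2,4],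
 [0,0,0,0,0,0,0,0,0,3,4,0,0,3,4,4,1,0,2,1,4,0,1,1,2,4,1,4,3,3,4,0,1,3,4,2,3,0,3,3,4,0,4,4,3,1,2,0,2,2,0,0,3,3,3,3,2,0,1,3,2,1,3,0,0,1,3,2,3,0,0,4,1,2,1,4,0,1,2,3,3,3,0,4,3,1,2,1,1,2,1,0,4,1,3,4,3,0,2,1,0,4,0,0,0,3,1,2,1,4,4],
 [0,0,0,0,0,0,0,0,0,1,3,1,4,0,2,0,3,2,3,3,2,1,3,1,2,1,0,4,0,4,3,0,0,4,1,0,1,4,1,2,0,4,2,1,2,2,2,1,1,3,0,0,3,1,3,1,2,4,1,4,0,0,0,1,3,0,2,1,1,1,0,0,3,3,0,0,0,1,0,3,2,1,4,0,0,4,2,0,0,2,1,3,0,0,0,3,4,4,0,4,3,0,4,4,3,1,1,2,2,4,1],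
 [0,0,0,0,0,0,0,0,0,3,3,0,2,1,2,3,0,3,3,3,3,0,1,1,0,3,4,1,0,1,0,2,0,1,1,3,3,3,2,2,1,4,3,0,4,2,3,3,1,1,3,0,2,2,3,1,1,1,2,3,3,3,4,2,4,3,1,1,2,1,0,0,0,3,1,1,0,4,3,2,0,3,2,1,1,1,0,1,1,2,2,4,4,0,1,2,0,3,2,1,1,0,1,4,2,3,2,3,3,0,2],
 [0,0,0,0,0,0,0,0,0,4,2,3,3,2,0,3,0,3,3,0,1,4,2,4,0,1,3,0,1,4,3,3,0,1,2,4,3,3,4,2,0,4,2,1,4,0,4,4,1,0,0,2,3,2,2,0,2,0,2,1,2,2,3,1,1,4,3,2,0,3,0,2,1,0,0,0,1,1,1,0,3,4,3,3,1,3,0,3,1,2,4,1,0,0,0,0,3,2,3,3,4,3,1,0,2,4,3,3,2,4,2],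
 [0,0,0,0,0,0,0,0,0,3,2,0,1,0,1,1,0,1,4,3,2,2,4,2,1,4,0,1,3,1,1,3,0,4,1,0,1,2,2,0,4,0,2,4,3,1,2,1,0,2,1,0,4,2,2,0,2,3,4,3,4,1,0,3,1,4,4,2,2,2,0,4,3,0,4,3,0,4,2,1,0,0,4,0,3,4,3,3,1,0,2,3,3,0,2,2,3,2,1,0,0,2,2,4,3,4,0,0,0,1,4],
 [0,0,0,0,0,0,0,0,0,1,0,4,1,1,2,3,0,0,0,4,1,0,4,0,3,2,3,3,2,4,0,4,0,2,1,0,0,4,0,1,2,4,3,0,1,3,1,3,3,1,4,0,1,4,0,3,0,4,0,3,4,3,3,1,4,4,0,3,1,1,0,3,0,1,0,3,0,3,4,4,0,3,0,1,4,2,2,2,2,2,3,2,1,3,0,0,1,2,4,0,1,4,3,3,3,1,1,1,1,0,0],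
 [0,0,0,0,0,0,0,0,0,3,3,3,2,2,0,3,4,1,3,0,0,3,4,0,2,0,0,4,3,1,4,0,4,0,0,0,0,1,3,3,3,2,1,3,4,2,0,2,0,1,2,0,2,1,4,0,0,4,0,2,0,0,2,0,3,0,1,3,1,4,0,2,4,1,2,4,0,3,3,2,4,2,0,2,4,0,3,3,4,1,1,2,4,0,4,2,2,2,0,2,4,1,0,2,3,2,4,2,0,2,4],
 [0,0,0,0,0,0,0,0,0,2,3,2,1,2,3,0,3,2,2,0,3,0,0,4,3,4,4,0,3,3,3,0,0,0,0,2,1,4,2,3,2,4,2,2,3,0,0,2,1,2,0,0,0,3,4,3,3,2,4,2,4,0,2,2,2,3,0,3,4,0,0,0,0,4,4,3,0,3,4,1,1,3,1,4,0,2,1,2,1,0,4,1,2,0,4,4,1,1,4,1,4,3,4,0,0,4,2,2,0,3,3],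
 [0,0,0,0,0,0,0,0,0,0,0,3,0,3,3,4,4,2,3,2,3,4,1,0,0,1,1,3,3,0,3,2,1,4,2,0,3,1,2,2,4,0,0,0,3,3,1,0,0,3,4,3,4,0,1,0,1,2,4,3,2,4,4,0,4,0,1,4,1,3,0,2,4,0,4,1,3,4,2,2,3,3,2,2,1,1,4,3,3,1,3,0,0,4,0,0,2,2,4,4,1,1,1,1,3,4,3,2,0,3,1],
 [0,0,0,0,0,0,0,0,0,0,1,3,0,1,0,2,3,0,3,4,2,0,1,3,3,0,4,0,2,1,3,2,2,0,0,4,0,1,4,3,1,1,0,3,1,2,4,1,3,2,3,0,3,3,4,4,0,1,2,3,3,1,2,4,1,2,1,4,3,3,0,0,4,4,0,1,0,2,4,3,0,3,1,4,0,3,0,0,4,0,0,2,2,0,2,0,2,1,2,2,3,1,2,4,1,4,1,1,2,4,4],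
 [0,0,0,0,0,0,0,0,0,4,2,0,1,1,1,3,4,3,1,4,2,3,4,3,2,3,2,3,3,2,4,3,0,1,3,2,4,4,2,0,2,1,4,1,2,0,3,1,3,3,1,3,1,3,2,0,0,0,1,2,3,0,3,0,1,4,0,1,0,1,0,2,2,1,1,3,4,1,1,2,4,2,2,2,3,0,2,0,1,1,0,0,1,2,1,3,1,3,4,1,3,0,1,2,1,4,4,1,0,4,0],
 [0,0,0,0,0,0,0,0,0,1,3,4,3,1,0,1,2,2,0,4,2,3,1,4,4,1,2,4,1,3,2,2,0,2,3,0,4,3,3,3,3,3,1,2,1,0,4,4,4,3,1,0,4,4,1,3,0,2,1,1,2,3,1,2,4,3,1,4,0,4,0,1,3,4,2,2,0,3,4,1,2,0,4,1,0,0,0,0,4,3,1,0,4,4,0,1,0,0,3,1,4,4,0,3,3,4,4,4,2,2,3],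
 [0,0,0,0,0,0,0,0,0,2,4,3,0,3,0,2,2,2,3,4,3,3,1,2,1,2,1,1,0,2,1,0,3,0,3,1,2,3,2,4,0,4,1,1,3,3,0,1,4,4,1,0,1,2,2,1,2,4,4,3,2,0,2,3,2,3,2,1,4,2,0,4,2,0,0,4,0,4,1,3,1,1,2,3,2,0,2,4,3,3,0,4,0,0,1,0,4,0,3,4,1,3,4,2,0,4,4,1,4,2,2],
 [0,0,0,0,0,0,0,0,0,2,1,1,3,3,3,0,4,4,3,0,3,3,1,4,2,3,2,3,1,0,1,0,0,1,3,1,1,0,3,0,4,2,2,0,2,0,2,0,2,0,0,0,0,3,3,0,3,3,4,4,3,3,4,0,0,0,1,0,1,4,0,2,3,0,2,3,0,1,3,3,4,3,3,4,0,2,3,3,1,0,4,0,3,2,0,0,2,3,4,1,1,4,3,2,3,1,0,3,1,4,4],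
 [0,0,0,0,0,0,0,0,0,0,2,3,2,2,4,3,3,0,3,2,2,1,4,4,1,1,2,0,4,4,4,0,3,1,0,0,4,1,4,0,3,3,3,4,1,4,0,1,4,0,2,0,2,0,0,4,1,0,4,4,0,4,1,3,3,1,2,3,3,4,0,2,1,0,3,3,0,4,4,3,1,0,1,1,4,4,1,4,0,2,2,3,0,1,2,2,1,4,1,4,1,0,3,0,0,4,2,2,3,2,2],
 [0,0,0,0,0,0,0,0,0,1,0,3,3,1,4,4,0,0,4,2,3,4,1,3,3,2,0,2,1,0,3,1,1,3,2,0,1,3,2,2,3,3,3,1,0,1,4,3,0,4,1,2,3,3,0,1,0,2,2,4,3,4,0,2,2,3,0,1,4,2,0,2,2,0,3,2,1,4,3,4,4,1,0,3,4,3,3,1,0,0,2,1,1,4,0,0,1,3,2,2,0,3,0,3,0,0,2,1,2,3,2],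
 [0,0,0,0,0,0,0,0,0,0,2,1,3,2,4,0,4,2,3,4,4,1,2,0,1,2,2,4,3,2,3,1,1,3,1,0,0,0,1,3,0,2,0,4,0,3,1,3,0,1,1,3,2,2,4,1,0,3,0,4,2,1,0,4,0,3,1,1,2,3,0,4,3,0,4,3,4,2,2,0,0,2,4,1,0,4,2,1,3,3,4,1,0,2,3,3,0,3,4,2,0,3,4,3,0,3,2,4,0,1,0],
 [0,0,0,0,0,0,0,0,0,0,1,4,2,3,2,3,1,1,3,0,3,1,0,3,0,1,4,1,1,2,4,2,3,3,4,2,2,4,0,4,1,0,3,0,0,0,2,4,4,3,4,0,2,3,4,4,4,1,3,2,3,0,0,2,2,0,2,2,0,4,0,0,2,1,2,3,0,0,4,2,2,1,3,4,0,1,1,0,0,3,1,0,2,2,1,1,2,4,1,1,1,4,3,2,0,4,4,0,4,4,0],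
 [0,0,0,0,0,0,0,0,0,4,4,1,3,2,0,2,4,2,4,1,1,0,0,3,0,0,4,4,1,4,3,2,1,3,1,0,3,1,0,1,0,1,1,3,3,1,3,0,2,0,3,0,1,1,1,1,1,0,2,4,0,2,1,4,2,3,1,1,0,3,0,0,4,4,0,2,0,1,2,1,0,2,0,4,4,1,4,0,0,4,4,2,1,1,0,0,2,2,3,3,4,4,4,1,1,3,4,3,0,1,0],
 [0,0,0,0,0,0,0,0,0,0,1,4,0,1,1,1,1,2,4,0,0,3,4,3,2,0,2,2,2,1,4,1,0,3,0,4,2,1,1,4,3,2,3,2,1,4,1,2,2,2,4,0,3,3,3,4,0,1,2,3,4,3,2,4,3,0,3,4,4,0,0,4,1,3,2,3,0,2,1,0,4,0,0,1,3,1,3,4,1,2,1,1,0,3,1,4,3,3,1,2,4,1,3,4,0,1,1,3,2,1,1],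
 [0,0,0,0,0,0,0,0,0,1,1,2,1,2,3,4,3,3,3,3,1,0,4,3,4,0,4,4,4,4,0,3,0,1,2,3,3,0,1,3,3,1,1,4,4,3,0,1,4,3,4,0,4,0,3,4,2,2,4,3,2,4,3,0,0,1,1,0,4,1,0,2,3,3,2,2,0,1,3,4,0,0,4,2,2,2,0,4,4,0,2,4,1,4,2,3,0,2,1,4,2,2,4,0,2,2,4,0,2,2,0],
 [0,0,0,0,0,0,0,0,0,0,2,2,0,3,1,4,2,3,1,1,0,1,4,0,1,2,4,2,1,4,2,0,0,0,2,1,4,0,3,0,3,3,1,1,1,0,3,2,1,3,2,0,1,3,1,0,4,2,3,1,0,0,4,1,0,0,3,1,3,3,0,1,2,0,4,4,0,2,4,2,1,2,3,2,1,3,2,2,0,3,4,1,0,2,0,0,2,4,2,3,0,0,4,4,2,1,1,0,1,2,2],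
 [0,0,0,0,0,0,0,0,0,0,4,0,1,0,1,4,4,4,4,2,1,2,1,0,4,3,1,4,0,1,2,0,4,2,4,1,3,0,4,1,0,3,3,2,0,1,2,0,4,0,1,0,1,3,3,1,3,2,1,2,1,3,2,3,4,0,3,4,2,1,0,2,0,4,1,1,0,1,2,0,3,4,1,1,2,4,4,2,0,1,4,4,3,4,2,3,0,1,2,4,4,2,0,2,1,0,4,4,2,2,3],
 [0,0,0,0,0,0,0,0,0,3,3,3,2,4,4,2,3,4,0,3,4,0,1,2,0,2,4,2,4,3,3,3,0,4,4,3,3,4,2,0,4,0,2,4,2,1,3,1,3,2,2,0,4,2,3,1,4,0,1,4,3,1,2,3,2,0,1,0,3,1,0,0,4,4,1,1,0,0,1,2,2,4,2,0,0,2,3,2,2,4,4,4,3,3,3,4,1,3,2,2,2,0,4,1,3,1,1,3,2,1,0],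
 [0,0,0,0,0,0,0,0,0,2,4,4,0,0,0,0,0,2,2,3,4,0,0,2,1,4,3,2,3,0,1,4,4,3,4,1,1,0,1,3,1,1,1,3,0,4,3,1,1,0,0,0,1,4,3,1,3,4,0,1,4,1,0,4,4,3,4,0,4,3,0,1,0,4,3,1,0,2,4,3,0,4,1,0,1,4,0,0,4,4,2,1,4,3,2,3,3,1,3,3,2,3,3,1,2,1,0,2,2,1,0],
 [0,0,0,0,0,0,0,0,0,3,4,4,4,3,3,2,2,3,2,2,2,2,1,4,0,4,4,2,2,4,3,3,1,0,4,4,0,0,2,4,0,4,2,3,0,4,0,0,2,1,4,3,0,4,3,4,3,0,0,4,4,3,0,4,3,3,3,0,1,1,0,4,3,4,2,1,4,3,0,0,3,0,3,0,2,2,1,0,0,0,2,0,2,0,1,4,1,1,2,2,2,3,3,1,4,2,2,2,3,3,3],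
 [0,0,0,0,0,0,0,0,0,3,0,0,2,0,4,0,1,0,4,3,3,2,1,3,2,3,4,4,2,1,4,1,2,4,4,1,3,1,0,2,0,2,2,0,2,0,1,1,3,3,2,0,0,1,1,3,1,2,4,4,1,0,2,4,0,3,4,1,4,3,0,0,0,3,1,2,0,4,0,3,3,4,0,2,3,4,4,0,1,1,4,3,0,0,0,0,3,0,4,1,4,2,0,0,3,1,4,4,4,2,0],
 [0,0,0,0,0,0,0,0,0,0,3,3,1,1,4,3,2,1,1,4,0,0,4,4,3,4,0,4,1,2,2,1,4,0,2,4,3,0,1,1,4,4,2,1,0,2,0,4,1,1,3,0,4,0,3,0,0,3,2,3,3,2,1,1,0,0,1,2,0,4,0,3,1,2,4,0,0,4,2,2,3,0,1,0,4,2,0,2,4,0,0,2,2,2,3,1,4,3,3,2,4,3,2,1,2,3,1,1,4,1,4],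
 [0,0,0,0,0,0,0,0,0,1,3,3,3,3,1,3,0,3,2,0,0,1,0,3,1,1,1,3,0,3,0,1,4,0,4,1,4,3,0,1,2,3,3,1,0,3,2,4,1,4,1,0,1,3,1,3,2,1,0,2,2,3,3,0,2,2,4,1,3,1,0,3,0,1,1,2,0,1,2,1,2,4,4,3,1,0,1,4,0,1,0,0,2,2,3,3,1,0,4,4,1,1,3,4,0,4,0,2,2,1,0],
 [0,0,0,0,0,0,0,0,0,0,4,1,0,2,4,1,4,0,2,1,1,1,0,4,3,3,3,4,4,4,2,2,3,3,0,4,2,2,2,3,0,4,3,3,2,1,4,1,2,2,4,4,4,2,2,1,4,2,3,3,0,0,1,2,1,0,3,0,1,2,0,3,4,3,1,3,2,4,4,1,0,4,2,1,2,0,3,4,2,4,0,1,2,3,2,0,0,3,3,3,4,0,1,4,2,4,0,2,2,0,3],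
 [0,0,0,0,0,0,0,0,0,4,1,0,0,0,3,1,4,0,4,4,2,1,2,3,1,4,4,4,4,1,4,1,3,1,2,3,0,1,4,2,4,2,3,0,0,0,2,0,0,4,3,2,3,1,2,2,1,3,2,0,1,4,4,1,0,4,0,2,0,4,0,2,2,1,0,2,1,4,2,4,0,0,0,0,3,3,4,3,0,1,0,2,3,2,4,3,3,0,2,1,3,1,1,0,3,3,1,2,4,2,1],
 [0,0,0,0,0,0,0,0,0,3,4,2,2,4,0,1,0,3,3,1,3,2,1,4,3,3,2,0,3,3,0,1,3,4,0,4,3,1,1,3,3,3,2,1,2,4,2,1,2,1,0,0,0,2,3,2,2,4,3,1,4,3,0,1,1,4,3,3,3,3,0,2,0,0,1,1,0,2,2,0,3,4,0,2,0,3,1,2,1,1,1,2,4,1,0,3,0,4,4,1,0,4,0,0,2,3,0,4,2,2,4],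
 [0,0,0,0,0,0,0,0,0,0,0,0,0,0,0,0,0,0,0,0,0,0,0,0,0,0,0,0,0,0,0,0,0,0,0,0,0,0,0,0,0,0,0,0,0,0,0,0,0,0,0,0,0,0,0,0,0,0,0,0,0,0,0,0,0,0,0,0,0,0,0,0,0,0,0,0,0,0,0,0,0,0,0,0,0,0,0,0,0,0,0,0,0,0,0,0,0,0,0,0,0,0,0,0,0,3,2,0,4,1,2],
 [0,0,0,0,0,0,0,0,0,0,0,0,0,0,0,0,0,0,0,0,0,0,0,0,0,0,0,0,0,0,0,0,0,0,0,0,0,0,0,0,0,0,0,0,0,0,0,0,0,0,0,0,0,0,0,0,0,0,0,0,0,0,0,0,0,0,0,0,0,0,0,0,0,0,0,0,0,0,0,0,0,0,0,0,0,0,0,0,0,0,0,0,0,0,0,0,0,0,0,0,0,0,0,0,3,3,2,2,3,4,1],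
 [0,0,0,0,0,0,0,0,0,0,0,0,0,0,0,0,0,0,0,0,0,0,0,0,0,0,0,0,0,0,0,0,0,0,0,0,0,0,0,0,0,0,0,0,0,0,0,0,0,0,0,0,0,0,0,0,0,0,0,0,0,0,0,0,0,0,0,0,0,0,0,0,0,0,0,0,0,0,0,0,0,0,0,0,0,0,0,0,0,0,0,0,0,0,0,0,0,0,0,0,0,0,0,0,0,0,0,0,2,3,0],
 [0,0,0,0,0,0,0,0,0,0,0,0,0,0,0,0,0,0,0,0,0,0,0,0,0,0,0,0,0,0,0,0,0,0,0,0,0,0,0,0,0,0,0,0,0,0,0,0,0,0,0,0,0,0,0,0,0,0,0,0,0,0,0,0,0,0,0,0,0,0,0,0,0,0,0,0,0,0,0,0,0,0,0,0,0,0,0,0,0,0,0,0,0,0,0,0,0,0,0,0,0,0,0,0,0,0,0,4,4,1,1],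
 [0,0,0,0,0,0,0,0,0,0,0,0,0,0,0,0,0,0,0,0,0,0,0,0,0,0,0,0,0,0,0,0,0,0,0,0,0,0,0,0,0,0,0,0,0,0,0,0,0,0,0,0,0,0,0,0,0,0,0,0,0,0,0,0,0,0,0,0,0,0,0,0,0,0,0,0,0,0,0,0,0,0,0,0,0,0,0,0,0,0,0,0,0,0,0,0,0,0,0,0,0,0,0,0,0,0,3,3,4,0,3],
 [0,0,0,0,0,0,0,0,0,0,0,0,0,0,0,0,0,0,0,0,0,0,0,0,0,0,0,0,0,0,0,0,0,0,0,0,0,0,0,0,0,0,0,0,0,0,0,0,0,0,0,0,0,0,0,0,0,0,0,0,0,0,0,0,0,0,0,0,0,0,0,0,0,0,0,0,0,0,0,0,0,0,0,0,0,0,0,0,0,0,0,0,0,0,0,0,0,0,0,0,0,0,0,0,0,0,0,0,0,0,3],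
 [0,0,0,0,0,0,0,0,0,0,0,0,0,0,0,0,0,0,0,0,0,0,0,0,0,0,0,0,0,0,0,0,0,0,0,0,0,0,0,0,0,0,0,0,0,0,0,0,0,0,0,0,0,0,0,0,0,0,0,0,0,0,0,0,0,0,0,0,0,0,0,0,0,0,0,0,0,0,0,0,0,0,0,0,0,0,0,0,0,0,0,0,0,0,0,0,0,0,0,0,0,0,0,0,0,0,0,0,0,3,3]
]

/-- named matrix 2 -/
def nm2 : List (List ℕ) := [
 [4,2,2,3,2,0,1,2,4,4,2,4,1,2,4,2,0,2,1,4,2,1,4,3,3,0,4,0,3,4,1,4,1,2,1,2,2,2,4,4,1,4,0,3,4,3,4,0,0,2,2,0,4,2,2,0,0,0,4,0,2,4,4,4,0,3,3,0,4,0,0,4,1,4,2,4,4,1,3,2,2,1,4,2,0,2,3,4,3,2,2,3,0,2,0,1,4,1,3,4,1,2,0,2,4,0,4,2,2,1,2],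
 [4,2,1,1,1,1,0,4,1,3,2,2,0,2,3,1,3,1,2,0,0,3,4,0,4,2,3,3,1,2,2,0,2,3,1,1,3,2,0,1,0,1,0,3,4,0,1,3,4,1,3,1,2,2,4,0,2,2,2,2,1,1,3,2,0,2,1,4,2,4,4,4,4,0,1,2,2,2,2,1,1,3,4,4,0,3,0,3,3,4,4,1,2,0,4,4,0,3,3,3,2,2,3,1,3,4,1,1,3,0,3],
 [2,4,0,4,3,0,2,4,2,1,1,4,1,4,1,3,2,1,4,4,0,3,2,1,3,3,2,2,2,0,4,2,1,0,1,1,4,4,2,1,4,0,0,0,0,0,0,0,1,0,1,2,2,0,4,1,0,2,0,2,2,3,1,1,0,2,4,1,3,4,1,3,1,3,1,4,3,3,0,1,4,1,3,1,4,0,4,4,4,3,1,2,1,2,4,1,4,4,2,2,4,2,2,1,0,2,4,1,2,4,1],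
 [1,0,2,1,0,4,1,2,0,2,4,2,1,3,2,3,2,2,4,2,3,0,1,2,2,4,2,1,0,3,2,3,3,4,4,3,4,3,3,3,4,2,1,3,3,3,1,2,4,2,0,3,0,3,0,2,1,0,3,4,1,4,4,4,4,4,0,0,2,2,4,1,3,3,1,4,4,2,4,0,2,1,1,0,4,3,1,1,2,4,2,4,2,2,0,4,0,0,0,3,2,3,0,4,1,2,4,2,2,0,3],
 [1,4,0,4,1,0,3,3,0,3,1,4,3,0,1,3,1,2,4,4,3,0,4,3,3,2,4,1,3,4,3,0,2,0,1,1,1,3,0,1,3,4,4,2,1,1,4,1,0,1,0,4,1,1,3,1,3,2,2,4,4,2,3,4,3,4,3,4,0,3,3,0,3,0,2,4,0,4,3,3,4,4,2,3,2,3,4,3,1,2,2,2,3,1,0,3,0,2,2,1,4,1,0,2,3,1,0,3,2,0,4],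
 [2,2,0,4,0,0,4,0,2,3,2,2,3,0,3,2,2,2,3,3,1,0,0,3,0,2,2,3,1,0,3,1,4,1,2,2,0,2,4,1,1,3,3,3,2,4,2,0,1,3,3,0,0,2,3,2,4,0,2,2,3,3,4,0,1,1,2,4,2,1,4,0,0,1,3,3,1,3,3,2,3,3,2,2,1,2,2,2,1,4,1,2,4,2,1,1,2,3,4,1,2,1,4,3,3,0,3,1,3,4,3],
 [4,1,0,2,3,4,4,2,2,4,0,3,2,4,1,3,2,3,1,2,0,3,3,2,0,4,3,4,2,0,2,2,3,3,1,4,0,4,3,1,0,0,1,2,1,0,3,4,1,2,0,1,2,4,0,0,1,1,1,2,1,2,4,0,4,4,0,0,1,3,2,0,4,3,0,1,0,2,0,0,0,4,3,0,4,0,1,4,4,1,3,1,4,3,1,4,1,1,4,2,0,3,1,3,0,1,4,2,3,2,1],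
 [2,1,0,0,2,0,0,4,0,4,0,4,3,3,4,1,4,3,3,3,2,2,4,4,1,0,0,2,0,0,2,4,1,0,0,2,4,4,0,1,1,4,0,3,2,2,1,1,1,0,2,3,2,4,0,2,3,3,3,4,0,4,1,1,1,2,1,3,4,0,4,1,3,2,3,0,0,1,2,1,1,3,2,4,1,4,3,4,4,3,2,4,3,0,1,0,3,1,0,1,4,2,4,1,3,4,0,0,2,2,3],
 [0,2,1,2,0,2,4,1,2,2,0,2,1,0,4,4,1,4,0,1,3,1,1,4,2,1,0,3,1,3,1,1,0,1,0,1,0,2,0,3,0,4,4,2,0,1,3,4,0,0,4,0,4,4,0,3,1,0,2,4,0,4,0,2,3,3,3,4,4,2,3,3,4,0,4,3,3,1,4,0,0,0,4,4,1,1,4,2,3,3,2,2,2,0,1,2,1,3,4,1,2,3,4,1,3,4,3,0,1,0,4],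
 [4,1,4,2,4,2,0,0,4,3,1,3,2,2,1,4,0,1,0,3,2,2,4,2,0,2,1,0,2,2,4,3,2,3,4,1,0,4,3,2,2,0,3,1,4,3,2,0,1,4,4,0,2,4,1,3,0,0,2,3,0,4,4,0,4,0,1,0,0,3,0,2,3,4,1,2,2,2,4,0,2,0,0,4,0,2,3,2,3,0,1,1,3,3,3,2,2,0,3,4,1,3,3,1,2,2,0,3,1,2,3],
 [2,1,4,4,4,1,4,4,0,3,1,4,3,2,2,4,2,2,2,1,4,1,1,1,3,4,2,4,0,2,4,1,3,0,4,1,2,3,1,2,2,4,0,4,2,2,2,2,4,2,3,2,2,2,1,2,4,0,4,0,0,0,4,2,4,0,0,1,1,3,2,2,1,3,0,2,2,0,4,0,2,4,4,4,4,3,2,1,3,3,2,1,0,1,1,2,3,4,4,4,3,0,0,1,1,1,2,0,4,3,1],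
 [0,4,2,0,2,3,0,2,4,2,1,2,2,3,1,4,0,3,1,0,4,2,2,4,2,1,4,2,1,3,4,1,0,2,3,4,1,0,3,1,3,0,4,2,3,1,1,2,4,0,4,2,2,2,3,0,0,2,3,1,2,3,1,3,2,0,4,2,0,1,1,2,0,3,1,0,2,3,0,1,0,4,0,1,0,1,0,4,4,0,2,3,2,3,4,0,1,1,2,1,3,2,3,2,1,4,2,1,1,1,0],
 [4,1,3,0,4,1,2,0,4,2,2,2,0,0,2,1,3,4,2,2,4,2,4,3,4,1,2,1,1,3,2,2,2,2,4,0,2,4,4,2,2,3,4,0,2,2,0,3,3,1,0,2,3,0,3,3,1,0,4,0,3,1,4,1,0,3,4,0,4,0,4,3,2,1,2,2,3,3,2,0,0,1,1,4,2,1,2,3,1,4,2,0,4,1,3,3,0,4,3,4,3,2,2,1,1,3,0,0,0,0,3],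
 [1,0,2,2,4,3,1,3,2,1,1,2,0,1,2,4,2,0,2,4,1,1,0,2,3,1,3,4,2,4,0,3,0,0,4,3,4,4,1,1,3,2,2,3,3,1,2,2,1,2,2,4,4,1,4,0,1,4,0,2,2,1,0,1,0,1,3,2,1,1,1,3,2,4,1,2,1,4,4,0,3,2,0,2,1,1,3,3,1,0,4,1,3,4,3,0,1,1,2,1,4,2,2,1,4,2,2,1,0,0,3],
 [0,3,4,3,2,2,3,4,3,1,0,1,4,2,4,3,4,0,1,4,1,4,1,3,1,1,0,4,0,3,1,0,3,3,3,2,4,0,0,0,3,0,3,4,2,2,1,2,4,1,4,3,4,2,3,0,0,1,3,3,0,0,4,0,4,1,3,1,1,1,0,0,4,4,4,0,4,3,0,3,3,1,1,2,0,0,3,1,0,4,2,0,2,4,0,3,4,0,3,0,1,0,1,1,3,4,3,3,2,2,1],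
 [1,4,3,2,4,2,4,0,1,4,3,1,1,2,2,1,3,1,4,0,1,4,0,1,3,3,4,2,1,3,1,0,1,0,0,0,2,3,0,4,1,1,0,1,2,4,0,0,0,0,4,0,4,3,1,2,2,2,1,4,4,4,1,0,3,1,3,2,4,2,2,3,1,1,0,0,0,1,1,4,4,3,4,1,1,4,1,2,3,2,0,1,2,0,3,0,0,0,3,4,1,2,3,3,1,3,0,0,2,3,2],
 [1,3,1,1,0,0,3,2,0,2,1,1,4,0,4,2,0,2,1,3,0,4,1,1,2,0,3,4,0,0,2,3,0,0,4,1,0,2,2,0,1,1,2,3,0,1,1,3,2,0,3,1,1,4,1,0,0,0,4,2,2,4,2,0,3,2,3,1,3,0,1,0,1,4,2,2,3,2,2,3,0,0,2,4,4,1,2,4,3,3,0,4,3,3,3,3,2,4,4,4,1,3,4,1,4,2,2,4,3,2,2],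
 [4,4,1,4,4,3,4,4,2,3,0,4,2,1,3,4,1,0,1,3,2,4,2,4,0,4,4,0,3,4,1,3,4,1,4,0,1,4,2,2,2,2,2,1,3,3,4,2,1,4,4,2,0,3,2,4,2,2,4,2,3,4,0,3,0,3,4,3,4,1,1,0,0,2,4,0,1,4,2,1,1,4,2,4,3,4,1,0,1,3,4,0,0,3,0,4,1,0,0,3,2,2,2,2,1,3,3,4,4,2,1],
 [0,1,0,2,3,1,4,3,1,2,1,1,0,3,0,4,3,1,3,0,3,4,1,4,4,3,1,0,1,0,0,2,4,3,3,0,2,3,0,0,4,2,0,0,4,3,4,4,3,3,2,4,4,1,2,2,2,4,4,1,2,3,0,3,0,1,3,1,3,1,1,4,0,1,2,1,1,0,4,0,0,0,2,2,3,4,4,0,1,3,4,4,4,3,4,2,2,2,2,2,4,0,2,0,2,3,4,2,3,2,2],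
 [3,2,2,4,3,0,2,0,3,2,2,1,1,2,1,2,0,3,0,3,1,4,0,4,0,4,3,3,2,4,2,4,0,2,0,0,3,2,3,1,4,4,0,0,3,1,0,3,1,1,0,0,2,2,3,1,4,3,3,0,2,3,0,4,2,4,4,4,4,2,3,1,0,1,0,3,2,0,4,0,4,2,4,1,2,4,4,0,0,4,3,4,1,1,3,1,3,2,0,1,2,0,1,4,4,0,3,4,2,4,0],
 [0,1,0,4,1,1,1,3,1,2,4,4,3,1,1,2,3,3,4,2,1,3,1,1,1,1,0,0,3,2,0,4,0,1,2,2,4,4,0,1,2,1,1,2,1,3,2,0,0,1,4,2,0,3,2,2,2,1,1,0,0,4,4,1,3,2,3,3,1,0,2,3,4,2,4,0,0,0,3,1,0,2,0,2,0,0,4,0,1,0,2,1,1,0,3,0,0,4,3,4,0,1,3,3,1,3,1,4,0,2,3],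
 [1,0,4,0,1,2,4,3,2,0,1,2,2,4,4,0,2,4,4,3,0,4,1,4,3,0,3,0,1,0,2,0,0,3,1,2,4,4,2,3,4,0,3,4,1,3,0,0,3,3,1,2,4,2,0,2,1,2,1,1,3,3,1,0,4,3,1,1,0,0,2,1,4,1,0,3,4,4,1,2,3,4,3,3,1,1,4,2,2,3,2,0,3,0,3,2,0,4,0,4,1,4,0,4,2,4,3,4,1,2,3],
 [2,1,0,0,3,2,4,4,0,4,0,0,2,1,2,1,2,3,2,0,1,3,3,1,1,1,0,4,4,1,3,0,1,2,1,3,0,3,1,2,1,0,0,2,4,3,0,4,1,3,2,2,2,1,4,1,3,1,2,1,3,0,0,2,0,4,0,1,1,4,4,2,2,4,2,2,1,1,3,3,0,0,2,1,4,3,3,2,3,1,1,4,1,3,3,0,2,0,1,1,4,4,4,1,3,0,0,0,2,3,4],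
 [4,0,4,2,2,4,2,2,3,4,2,0,4,3,1,1,2,3,1,3,4,1,2,0,0,4,0,1,1,2,3,2,3,3,1,0,2,2,4,0,1,2,2,1,0,3,1,3,4,1,4,1,2,0,2,2,0,1,3,4,4,3,1,3,2,3,0,0,0,3,3,3,3,0,4,0,1,3,4,3,0,3,0,3,3,3,3,0,2,4,0,1,0,1,3,1,2,1,0,3,0,4,3,2,2,2,1,4,0,3,3],
 [0,0,3,2,1,0,2,0,0,2,1,0,4,0,1,4,4,0,2,4,0,3,4,0,4,3,0,1,3,1,3,0,1,2,4,0,0,3,3,3,1,0,3,0,3,3,3,4,1,1,1,0,1,0,2,0,1,2,3,4,3,0,3,1,2,1,1,0,2,1,0,1,3,1,2,0,0,1,0,4,0,1,3,4,0,0,1,4,2,4,0,0,2,1,2,1,0,4,0,0,3,0,2,0,1,0,2,1,3,3,0],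
 [3,0,4,2,3,4,0,4,1,0,2,0,1,2,0,2,2,3,0,2,2,2,1,2,4,3,1,0,1,4,3,1,3,4,1,4,0,3,2,2,3,1,0,4,3,2,1,2,1,3,0,3,0,1,4,4,1,2,2,3,3,3,2,1,2,4,1,3,0,3,2,2,1,2,1,0,1,0,4,1,1,3,0,1,3,0,3,3,3,0,2,0,2,4,3,2,3,2,1,3,2,3,3,1,0,4,4,2,4,0,1],
 [3,0,1,2,1,4,1,4,1,1,3,1,1,4,0,1,3,2,0,4,4,0,0,0,0,4,4,3,1,1,3,2,4,1,4,3,1,4,0,2,3,3,2,0,0,3,1,0,3,0,1,4,1,3,4,3,4,3,1,4,0,0,1,4,2,4,0,0,4,2,2,4,0,4,0,0,4,0,1,1,4,3,2,3,1,4,2,4,0,0,0,2,4,1,2,3,4,1,0,1,3,1,2,2,2,1,0,3,3,3,2],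
 [0,4,2,0,1,0,0,2,4,4,0,0,0,2,2,2,3,2,3,0,0,4,0,3,3,4,3,4,0,1,0,4,4,3,4,4,2,3,0,1,0,1,2,3,3,2,2,3,3,3,0,3,3,4,0,2,0,2,4,3,3,1,0,4,1,2,3,2,3,4,3,0,3,3,1,4,0,4,4,2,1,2,4,2,4,4,4,1,2,1,1,4,0,0,1,3,4,0,1,2,1,4,1,1,1,3,0,2,2,1,1],
 [1,0,3,2,4,2,1,3,2,3,2,1,3,0,1,2,1,1,0,3,3,1,3,0,3,4,4,0,0,2,2,4,2,4,1,0,0,0,0,4,0,0,1,3,2,3,1,3,3,4,0,3,4,3,1,0,2,3,3,3,0,1,4,4,2,3,1,4,1,4,3,2,4,1,3,2,4,2,1,1,0,2,3,0,0,3,3,0,0,1,0,4,2,2,4,1,1,1,0,3,1,1,1,3,3,4,3,4,3,4,0],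
 [3,1,4,1,4,1,2,2,2,3,2,0,3,4,4,4,3,4,2,0,2,0,3,4,0,2,4,4,3,1,0,3,0,3,3,0,2,4,3,3,3,2,1,3,0,0,2,0,1,2,4,4,1,4,1,4,2,1,2,3,0,3,1,4,2,1,2,1,1,1,3,1,4,0,2,0,2,3,0,2,0,2,3,4,3,0,0,2,0,2,4,0,3,1,2,0,2,4,3,2,4,0,3,2,1,0,2,0,2,3,4],
 [4,1,0,4,2,1,1,0,4,4,0,2,3,3,3,2,1,3,4,1,4,2,3,3,1,3,2,1,4,0,3,4,2,4,4,3,0,1,3,2,4,3,3,4,1,2,4,2,0,4,4,4,0,4,2,2,2,1,1,3,3,2,4,1,3,4,4,0,1,2,0,2,0,0,3,4,3,4,4,3,1,1,4,2,2,2,0,3,0,0,0,4,2,0,2,3,2,1,4,3,2,4,1,3,0,0,2,0,3,4,4],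
 [2,3,3,3,2,0,3,0,2,1,4,0,3,3,4,1,2,0,0,3,3,1,0,0,4,2,4,0,2,4,4,0,0,0,1,2,2,4,4,4,2,3,1,2,3,2,3,3,2,4,3,4,3,0,3,0,1,1,2,3,2,0,0,4,3,1,1,2,2,0,0,2,3,3,2,3,3,3,4,4,4,4,0,2,2,0,4,0,2,2,4,2,4,2,4,0,1,4,4,4,0,1,2,1,3,2,4,0,2,3,4],
 [2,3,0,4,3,0,2,0,2,3,4,4,0,1,2,3,2,4,4,2,2,0,0,1,4,3,3,1,2,0,1,3,3,0,1,0,0,1,0,0,1,3,0,1,3,2,2,3,1,2,1,4,1,0,1,2,0,2,4,4,2,2,2,3,3,2,2,4,3,2,2,0,1,2,3,1,4,0,4,0,0,3,0,1,4,1,4,0,4,3,3,2,1,4,0,2,4,3,2,4,0,2,1,0,3,0,3,2,0,0,3],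
 [4,1,1,3,4,0,4,0,4,1,0,4,4,0,0,0,0,3,4,1,3,1,3,4,1,4,4,3,2,1,1,4,0,4,3,4,4,4,4,4,1,1,1,2,1,1,2,4,3,2,0,0,0,4,1,4,2,3,2,2,1,2,4,3,2,4,4,3,3,3,0,2,2,4,0,4,4,4,1,3,4,1,0,0,3,0,1,0,4,1,2,1,4,4,0,1,3,3,2,3,4,3,4,3,1,0,2,3,2,4,1],
 [3,4,4,2,0,1,2,1,0,1,4,0,2,4,1,3,4,4,2,1,3,2,0,2,0,0,4,2,1,4,1,3,4,0,3,1,3,4,3,3,4,4,4,4,3,0,4,3,1,4,1,3,1,0,3,4,4,2,4,2,2,0,2,1,4,0,2,0,0,1,4,0,0,4,0,0,1,1,0,4,1,3,1,3,3,3,2,0,1,0,0,2,3,3,0,4,4,4,2,0,2,2,2,4,3,4,3,3,0,0,3],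
 [1,0,4,4,2,1,3,3,2,2,2,4,4,3,2,0,1,1,4,4,0,1,2,0,1,1,0,3,3,2,3,0,3,2,2,3,4,2,0,3,0,0,2,1,0,0,2,2,2,3,1,2,3,1,1,3,2,4,1,3,3,4,0,4,2,2,4,0,1,1,0,0,3,2,3,0,0,0,0,2,4,4,2,2,0,4,0,3,0,2,4,1,2,4,3,1,3,4,2,1,2,4,4,4,2,2,4,3,0,1,0],
 [0,4,2,1,2,2,1,2,4,0,4,3,3,4,4,0,4,0,0,0,1,2,0,3,4,2,4,4,0,1,2,1,3,2,2,4,3,2,2,4,3,3,2,0,3,1,0,3,1,2,0,0,1,0,0,2,2,0,1,3,3,2,3,1,0,0,1,4,2,3,4,1,2,1,0,3,2,1,4,0,1,4,0,4,2,4,2,3,1,1,4,3,4,3,1,3,3,0,4,3,1,0,2,0,0,4,0,3,4,4,4],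
 [3,3,1,3,1,3,3,3,4,2,3,1,2,4,1,3,2,0,2,2,4,1,4,4,2,2,4,1,0,0,0,0,0,0,0,2,4,3,0,4,0,3,3,3,4,3,1,0,4,0,2,3,1,0,0,4,3,2,1,4,1,1,4,1,0,0,2,3,2,3,1,2,4,0,2,2,1,0,2,4,2,4,2,0,3,2,4,2,2,4,3,2,2,3,4,4,4,1,1,3,2,3,0,1,1,1,1,1,3,4,4],
 [0,2,4,4,0,3,2,1,2,2,3,2,2,4,2,1,3,3,3,4,0,4,1,1,3,3,4,0,4,2,1,2,1,3,1,2,4,3,1,4,4,3,2,3,3,2,0,2,3,2,0,0,2,2,0,4,4,2,3,0,4,1,4,0,4,3,2,0,1,0,3,2,4,2,4,2,4,1,4,1,4,2,3,2,2,4,2,1,0,4,2,4,0,3,4,2,4,4,2,1,2,2,0,0,4,4,1,2,0,4,1],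
 [3,3,2,2,3,4,0,3,4,0,2,1,4,3,0,0,2,4,0,4,4,2,1,2,0,4,0,4,3,3,4,3,4,2,3,4,0,2,2,0,2,0,4,1,4,1,4,0,2,2,2,1,4,4,3,0,0,4,3,4,1,4,4,2,1,1,2,0,2,3,1,3,4,1,2,3,3,4,3,2,0,1,0,0,0,3,2,3,2,2,3,3,1,4,4,4,3,3,3,3,4,2,3,2,2,0,2,0,1,0,4],
 [3,2,3,4,0,4,2,0,3,4,4,0,1,2,1,1,3,4,4,1,3,1,1,4,3,1,4,1,1,0,3,3,3,1,3,1,0,2,0,3,4,2,2,0,2,0,3,3,4,1,3,0,3,1,3,3,0,0,1,4,1,3,4,0,4,2,3,0,3,4,4,3,2,0,3,2,2,0,0,2,0,3,0,3,2,0,1,3,4,2,3,1,3,0,1,3,2,3,0,0,4,1,0,4,4,4,0,4,0,1,0],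
 [4,2,4,2,2,3,2,3,0,0,2,3,3,0,4,1,4,2,2,2,0,1,3,2,1,4,2,2,0,4,3,0,3,4,0,0,1,3,3,0,3,3,2,0,0,0,1,4,3,2,1,4,2,1,0,1,0,4,2,1,1,4,3,4,2,4,4,1,0,2,0,1,2,4,1,2,1,0,3,3,0,4,1,1,2,3,0,3,0,3,3,0,0,1,4,3,4,2,1,2,1,1,4,0,1,1,1,1,0,0,1],
 [0,0,2,0,1,4,0,0,0,3,2,0,3,1,1,2,4,3,1,1,4,1,1,0,4,1,4,4,1,4,4,1,0,4,0,3,0,0,2,0,3,4,2,2,0,1,0,0,1,3,1,0,0,0,2,1,2,3,2,4,0,0,0,2,3,4,4,2,0,0,4,2,2,0,2,0,2,0,0,3,2,1,2,2,0,4,2,4,1,4,2,2,2,3,0,4,0,0,3,1,0,4,2,4,1,0,2,0,0,4,0],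
 [4,3,2,2,4,4,2,1,1,1,1,0,4,1,3,2,2,0,2,4,4,2,3,3,1,2,2,2,1,2,4,0,4,1,0,2,3,4,1,4,3,0,4,2,1,3,2,3,1,1,3,0,3,0,1,1,4,0,3,1,1,2,3,2,1,1,0,3,0,3,1,4,2,1,1,1,2,1,2,2,4,1,2,1,4,4,2,3,3,2,2,1,4,2,4,0,0,1,1,4,0,1,0,4,0,1,2,2,4,0,0],
 [2,0,4,3,4,0,2,1,4,2,3,1,0,0,1,0,2,3,3,1,4,2,0,2,1,0,0,3,0,3,2,0,3,3,0,4,1,2,3,4,3,0,2,0,4,4,0,4,4,2,3,3,0,1,4,3,4,0,0,3,4,3,2,4,2,4,1,3,4,0,2,3,2,0,0,2,4,3,2,2,2,1,0,3,0,2,0,0,3,2,1,1,1,1,4,0,3,2,0,0,2,4,0,1,2,4,0,3,1,4,1],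
 [3,3,4,3,1,0,0,3,4,3,3,3,4,2,4,2,4,2,2,2,2,1,3,0,3,3,1,2,4,3,2,3,0,2,1,3,2,4,1,2,2,0,1,3,4,4,0,4,3,1,0,0,4,2,0,2,1,2,1,2,2,4,1,2,0,4,3,0,2,4,2,2,2,0,4,3,0,1,2,2,0,1,2,1,4,2,3,3,1,2,3,4,4,4,0,0,0,1,0,4,1,2,3,3,2,4,1,2,4,1,0],
 [3,4,1,4,4,3,2,1,0,4,3,1,1,0,4,4,4,1,2,4,0,3,0,3,3,3,0,0,3,1,4,3,0,1,4,1,0,1,3,2,4,2,4,0,2,3,1,0,0,0,3,4,0,0,4,0,2,2,1,0,1,1,4,1,2,2,4,3,2,4,2,2,2,2,0,0,0,1,3,2,1,3,0,2,4,1,0,3,0,1,1,1,3,3,1,4,1,0,4,0,3,0,1,1,1,1,0,1,3,4,3],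
 [0,4,0,4,1,3,3,2,4,4,3,3,0,2,1,1,0,4,1,3,3,4,4,2,2,4,0,0,2,1,3,0,4,3,1,2,3,4,0,3,3,1,2,3,3,2,0,4,4,3,0,0,4,0,4,1,0,0,1,0,3,0,1,4,2,1,1,4,0,2,1,0,4,3,1,2,3,0,2,2,1,2,3,0,1,0,4,4,2,2,0,0,0,3,1,4,2,1,0,3,0,1,4,0,1,1,3,1,2,0,2],
 [0,4,3,4,1,0,3,2,4,1,4,1,2,1,4,0,1,1,0,1,4,0,4,0,0,3,0,1,3,1,3,1,1,0,3,3,3,3,0,4,2,0,4,1,3,3,3,4,0,0,0,0,2,3,3,3,3,4,2,1,2,2,4,4,1,4,3,0,3,3,3,3,4,4,0,2,3,0,4,0,0,4,3,0,1,4,4,1,0,2,2,4,0,4,0,2,0,0,3,4,1,0,0,4,0,2,0,3,4,2,1],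
 [2,4,3,0,0,2,2,3,3,2,1,1,1,1,0,3,3,0,1,4,4,1,2,0,4,0,0,1,0,3,4,3,4,3,4,3,0,2,0,2,4,4,3,1,2,1,3,0,0,0,3,0,0,4,0,1,4,2,2,0,4,0,1,3,0,0,0,3,3,1,4,2,2,1,3,0,3,0,1,4,0,1,1,1,0,1,0,0,3,3,0,4,0,3,2,1,4,1,3,4,3,0,2,4,2,2,3,2,1,4,3],
 [4,2,1,2,2,1,3,3,0,3,1,3,4,2,3,0,0,1,3,4,2,3,1,4,4,3,0,3,4,0,3,0,0,1,2,2,3,2,3,3,1,3,3,3,0,4,4,3,2,4,1,0,4,4,1,3,4,0,0,1,3,2,4,4,2,2,2,1,4,2,1,4,1,3,3,3,1,4,3,3,2,0,4,0,4,0,2,3,1,0,1,3,4,0,4,4,4,0,4,2,2,0,3,0,0,2,4,4,0,1,0],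
 [0,2,1,0,0,1,0,1,2,1,2,2,0,3,3,3,3,3,2,0,0,1,2,0,4,1,1,4,1,3,2,1,3,0,0,2,2,0,3,2,4,4,2,0,1,4,0,0,0,3,0,2,0,0,2,0,1,1,2,3,3,1,0,4,1,2,1,3,1,2,2,1,0,3,1,1,4,3,2,3,1,0,4,4,0,3,1,4,4,0,2,1,4,0,1,4,0,4,1,1,1,0,3,0,2,1,0,2,1,1,1],
 [2,4,0,3,3,2,2,3,3,3,1,3,1,2,0,1,3,3,0,1,0,3,3,1,3,1,2,1,3,3,4,3,3,1,3,2,0,4,2,0,4,0,4,3,1,3,0,4,2,4,3,1,3,0,2,4,1,0,0,3,2,0,1,0,4,4,3,0,1,4,2,3,0,4,3,4,1,2,3,4,2,4,4,1,2,1,3,1,0,1,4,0,3,4,1,1,2,2,4,0,1,4,0,4,0,2,1,2,0,3,3],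
 [1,2,0,4,0,0,0,4,4,0,3,3,0,0,0,1,3,2,2,2,1,0,0,4,0,4,0,0,2,2,4,1,0,0,2,1,0,2,4,1,4,0,0,4,3,1,4,2,3,4,4,1,3,1,1,3,4,2,3,1,2,4,4,2,2,4,0,2,0,0,2,0,4,0,1,1,3,1,0,1,2,1,2,0,4,4,0,4,4,4,0,4,1,0,3,4,4,2,0,1,2,0,0,3,2,0,0,4,0,1,4],
 [2,3,2,3,0,2,3,0,2,1,3,2,2,2,4,1,4,3,4,4,2,1,2,1,4,0,4,1,3,1,2,1,3,1,0,0,3,0,4,2,3,1,4,0,0,3,0,2,4,0,1,2,1,4,2,0,2,2,4,3,0,4,2,4,1,1,4,3,0,0,4,0,1,1,0,2,2,1,4,4,3,2,0,0,0,0,2,3,1,3,3,3,2,2,0,0,4,4,2,1,3,2,3,0,4,3,4,0,4,1,2],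
 [1,2,3,0,2,4,2,4,4,3,2,3,4,1,3,2,0,4,1,2,0,1,4,4,0,0,0,4,1,1,0,2,3,4,4,0,3,4,1,1,0,2,1,3,3,4,3,4,3,2,3,4,3,2,1,0,1,1,0,0,4,4,2,1,0,1,2,0,4,2,0,3,4,4,3,2,3,3,4,4,1,4,1,4,2,2,4,1,3,4,4,1,4,4,2,1,3,3,0,4,1,1,3,2,2,2,0,0,0,0,0],
 [3,3,3,3,4,4,3,3,4,4,0,2,3,3,2,3,1,3,2,4,3,1,0,2,4,0,0,3,1,3,0,2,2,3,2,3,4,1,3,2,3,4,1,3,1,2,0,0,3,3,1,2,4,2,1,3,4,1,1,3,1,1,0,0,3,3,1,3,4,0,3,3,3,0,3,1,2,2,1,1,2,3,2,0,2,3,2,1,2,2,2,4,1,3,0,1,2,1,4,3,3,0,3,4,4,4,2,3,3,0,0],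
 [1,2,2,2,3,0,0,4,4,2,2,4,2,4,1,4,2,2,2,3,0,2,2,0,4,4,4,3,2,0,0,3,2,3,0,4,1,3,0,2,2,0,2,3,3,0,1,4,3,3,4,1,1,2,0,3,0,3,2,0,2,1,2,0,4,3,1,1,2,1,3,2,0,1,4,2,4,2,2,4,3,3,2,2,3,4,3,2,1,1,0,2,0,2,3,0,3,2,1,3,1,2,2,3,3,1,0,1,1,0,3],
 [3,0,3,1,0,2,0,4,1,3,3,4,3,1,4,2,4,2,3,4,1,0,4,2,3,3,0,3,3,0,2,3,1,4,2,3,1,2,2,4,4,0,4,2,3,4,2,2,2,2,0,4,3,2,1,2,2,4,3,0,3,1,0,4,3,2,1,1,1,1,0,0,1,3,4,2,3,2,4,3,4,0,4,4,1,3,2,3,1,2,3,3,4,1,1,0,3,3,3,2,2,0,2,4,3,3,4,3,1,1,0],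
 [2,0,2,0,2,0,3,1,4,3,4,3,0,3,3,4,2,1,2,0,1,2,4,2,3,2,2,4,2,1,3,1,2,3,1,3,1,1,2,0,0,0,4,2,1,3,0,1,4,2,0,1,1,4,4,1,4,2,4,0,3,4,0,0,0,4,4,1,0,3,2,1,0,4,0,2,0,2,0,2,3,0,3,2,0,0,2,4,0,3,2,0,2,3,4,1,0,0,1,4,0,1,0,0,3,3,3,1,4,3,0],
 [4,4,2,4,2,3,1,4,2,3,1,3,2,2,3,3,1,1,3,1,2,3,2,0,2,2,3,0,0,4,3,3,0,2,4,2,4,3,4,0,3,4,3,4,4,4,0,4,4,1,2,3,2,4,0,1,2,1,2,2,0,1,4,1,1,3,2,3,1,0,2,1,2,4,1,2,1,2,1,2,0,2,1,4,3,3,1,3,3,3,1,4,0,4,1,1,4,0,4,4,0,4,4,2,4,2,2,1,2,2,4],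
 [1,4,4,3,3,3,2,0,1,0,3,4,4,0,4,3,4,0,2,1,4,1,3,3,4,4,3,2,3,2,4,2,2,3,2,2,3,4,4,3,2,1,4,0,3,1,4,3,3,4,1,4,2,2,1,4,4,1,0,2,4,4,4,2,1,2,1,1,4,2,4,0,4,0,4,3,1,1,1,4,0,4,1,3,1,1,4,2,0,0,4,2,2,4,2,0,1,3,2,4,2,0,4,0,3,1,1,4,0,3,4],
 [4,3,2,2,1,3,1,1,1,0,2,1,3,4,2,1,2,0,3,4,1,3,1,2,4,4,0,0,2,0,2,3,2,1,3,3,2,4,1,4,1,0,2,0,0,0,1,2,1,2,3,1,0,2,4,3,3,2,4,0,3,0,0,2,1,3,0,3,4,2,3,3,2,3,0,2,4,0,2,1,1,0,4,3,3,0,2,1,0,0,3,4,0,0,2,4,0,3,0,0,2,3,0,4,4,1,0,0,4,3,4],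
 [3,1,0,2,2,4,0,2,2,0,0,2,4,3,2,3,2,4,1,3,0,1,3,4,2,1,0,4,4,0,0,1,3,0,1,1,1,1,1,2,1,4,2,1,4,2,1,4,3,3,4,3,0,4,3,1,2,3,2,2,3,3,1,0,1,2,1,4,2,3,0,4,0,3,0,2,0,4,1,4,2,2,4,0,3,3,0,1,4,4,3,0,2,4,4,0,1,4,0,0,0,4,2,1,4,4,4,2,3,4,0],
 [0,1,4,2,2,0,4,3,1,1,0,2,1,3,4,1,1,1,3,3,1,0,3,3,1,2,1,4,1,0,4,3,0,2,0,4,3,4,0,3,2,2,3,3,4,4,4,4,3,4,0,0,1,1,0,1,2,1,4,0,1,1,2,1,4,0,3,1,1,2,1,2,0,1,4,3,2,1,1,1,4,4,4,0,1,1,4,1,0,2,3,2,4,0,1,1,4,4,0,1,3,1,4,0,1,3,1,4,1,2,1],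
 [1,2,2,1,3,2,0,4,4,2,4,3,0,4,4,1,3,0,0,0,3,3,3,2,0,3,4,4,2,3,4,4,0,2,4,1,2,4,4,0,1,3,4,0,1,2,0,0,2,1,1,0,3,4,3,4,4,1,3,1,1,3,3,0,3,1,4,1,4,0,0,2,1,4,1,4,1,1,0,0,1,1,4,2,0,1,0,3,1,1,4,3,3,3,3,3,4,2,2,4,0,2,3,3,2,1,0,1,4,1,4],
 [0,4,3,4,3,1,1,2,4,4,1,1,1,4,0,3,1,4,0,4,2,4,1,0,4,2,1,3,0,0,3,3,4,2,0,1,3,4,2,1,0,4,4,4,0,3,4,2,0,2,4,2,3,1,3,4,4,1,1,3,4,3,2,3,3,2,2,2,1,2,2,2,4,2,3,1,2,3,2,4,4,3,2,2,0,0,3,3,4,3,3,3,0,4,4,4,2,1,1,2,3,3,4,4,1,4,2,3,2,0,1],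
 [2,2,4,0,0,0,4,2,1,1,0,1,4,3,0,3,3,2,4,3,2,1,2,4,0,1,2,3,3,3,4,1,4,0,2,1,1,3,3,0,1,3,4,0,4,4,1,2,4,1,2,0,4,4,0,2,1,1,4,1,2,1,3,1,0,0,1,1,0,2,4,4,4,2,0,3,1,4,3,4,2,3,1,0,3,1,0,1,4,1,3,3,4,1,0,1,0,2,3,2,0,0,0,3,1,1,4,4,2,2,3],
 [2,3,2,2,0,4,0,0,2,1,3,3,0,1,4,4,4,1,1,3,0,4,1,1,0,1,0,0,2,3,3,3,3,2,2,1,0,3,3,0,3,1,2,2,2,3,2,0,2,3,3,0,4,0,4,3,4,0,3,2,1,4,3,0,3,0,3,4,3,0,4,4,4,4,1,3,0,3,4,2,0,2,2,3,1,3,2,1,2,3,2,1,0,4,1,4,0,1,0,3,0,4,4,0,3,2,2,0,1,3,3],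
 [4,2,3,0,4,0,4,3,0,1,0,1,3,1,0,0,2,2,1,3,3,1,2,3,4,2,1,2,0,4,3,2,2,4,0,3,1,0,2,4,1,0,1,4,2,3,4,2,4,3,4,4,2,1,3,4,4,4,4,4,2,1,2,1,3,2,2,4,4,4,2,3,3,0,0,3,4,4,1,0,3,2,0,3,1,3,1,3,0,0,2,2,1,3,3,1,4,2,4,3,1,0,0,3,4,1,0,1,4,3,4],
 [1,3,2,1,2,2,2,2,0,1,3,3,2,2,1,4,4,0,0,2,3,1,4,3,0,3,0,3,4,0,1,3,4,0,0,3,1,2,2,1,2,3,0,2,0,1,3,0,1,3,4,2,0,1,2,0,2,0,2,2,4,2,3,1,3,3,4,0,4,1,1,1,1,1,4,1,4,1,2,1,0,4,4,3,0,4,2,3,0,4,1,0,2,0,0,0,2,2,4,3,1,2,3,0,0,4,2,2,1,4,1],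
 [4,4,1,4,0,1,1,4,2,0,4,4,4,0,4,2,4,0,0,3,2,2,3,1,1,3,3,1,4,0,3,0,1,1,1,2,4,0,2,2,3,3,3,4,2,1,3,3,0,2,0,0,3,2,0,1,4,1,4,1,4,4,3,4,4,1,4,0,2,2,2,0,3,4,2,4,0,0,0,1,2,2,1,4,4,0,0,2,0,3,4,0,3,1,3,3,0,1,0,2,2,2,4,0,4,0,4,4,0,4,3],
 [3,1,0,2,4,1,2,2,2,4,1,2,3,0,1,2,0,4,1,3,1,4,1,2,1,4,3,4,3,1,2,2,0,4,0,2,0,3,1,3,4,0,1,3,1,3,4,4,0,3,3,0,1,1,3,0,4,1,3,2,4,1,2,4,1,3,2,3,0,4,4,4,0,3,2,4,2,4,4,3,1,4,3,2,4,1,0,3,3,2,4,0,1,1,1,1,0,0,3,1,4,0,3,0,0,3,3,4,3,0,2],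
 [4,4,0,1,4,1,4,4,2,0,3,3,2,4,4,1,2,2,0,0,1,3,4,2,0,2,0,4,0,0,4,3,4,2,4,2,4,0,3,0,1,4,0,3,1,3,4,2,2,3,1,2,1,1,2,3,1,4,2,2,0,2,1,0,0,2,2,1,1,0,1,4,1,2,4,2,3,1,3,1,4,3,4,4,0,3,0,3,4,4,0,3,3,2,1,2,0,4,3,4,1,3,3,3,1,4,2,1,0,1,3],
 [4,4,3,4,1,2,1,4,2,1,4,0,3,1,2,1,0,1,2,0,3,4,3,4,2,2,4,3,3,3,1,4,2,3,3,0,3,3,2,3,1,2,0,4,1,3,0,3,1,4,2,0,3,0,3,3,2,2,3,0,4,4,4,4,4,4,2,4,3,2,4,0,3,0,1,0,3,2,2,3,4,0,2,4,3,4,4,3,1,1,4,2,2,1,3,0,0,0,0,2,2,4,4,4,3,2,1,0,3,3,0],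
 [4,4,3,0,2,3,0,4,2,3,1,3,4,4,1,2,4,1,4,3,0,1,4,4,0,1,4,0,0,3,0,0,4,2,2,3,0,0,0,2,1,3,3,0,0,1,4,3,4,0,1,0,1,1,2,3,4,0,1,1,1,1,1,0,4,2,1,3,2,0,2,1,0,3,1,1,3,3,0,2,1,0,1,2,3,1,0,3,1,1,1,4,3,3,0,2,4,0,0,1,2,0,1,1,0,1,0,4,2,2,3],
 [0,1,3,3,1,0,1,3,1,2,1,4,1,2,0,4,1,3,1,0,3,0,4,3,4,4,2,2,1,0,1,2,1,3,1,3,3,2,1,4,3,4,1,3,0,1,3,3,1,2,1,4,0,4,0,4,1,4,0,0,2,1,2,3,0,2,0,4,4,3,3,4,2,4,3,3,2,1,1,4,1,2,3,4,0,1,4,4,2,3,3,3,3,2,0,2,2,3,4,4,3,1,0,0,4,1,0,4,0,3,3],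
 [0,4,4,4,0,4,0,2,4,1,4,3,3,4,1,2,4,4,2,4,4,0,4,4,2,4,1,2,0,4,0,2,2,3,1,1,1,3,0,0,2,0,1,0,3,2,1,4,4,3,4,1,4,0,4,3,1,2,1,3,2,2,4,0,0,3,1,3,3,1,0,1,2,4,0,1,3,1,1,4,2,1,0,3,0,1,1,4,4,2,0,2,4,3,0,1,3,1,3,1,4,0,1,2,1,2,1,3,3,0,2],
 [0,0,0,1,4,4,3,0,0,1,1,4,1,1,2,4,2,1,0,3,2,3,1,1,1,0,1,3,2,3,1,3,0,1,3,2,4,3,1,4,3,0,4,0,3,1,2,1,3,3,2,4,0,1,2,3,4,1,0,3,1,4,1,0,3,4,0,2,0,0,3,1,1,0,2,4,0,3,4,0,0,4,1,2,0,1,2,3,1,0,0,1,4,0,2,4,4,2,0,0,2,3,3,1,0,2,2,3,1,2,4],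
 [3,2,4,2,4,4,3,0,3,4,3,1,3,2,2,0,3,2,1,4,4,4,2,3,1,4,3,0,3,1,4,0,0,3,3,4,3,3,4,3,2,2,1,2,0,2,0,0,3,4,3,0,0,1,0,1,1,3,4,1,0,1,3,0,0,3,0,4,2,1,0,0,0,2,1,4,2,1,1,3,3,0,1,0,2,0,2,2,3,4,4,3,3,0,2,3,1,0,1,4,1,4,3,1,1,1,2,1,2,2,2],
 [3,2,3,0,0,0,1,0,3,0,1,3,1,2,3,4,2,2,4,2,0,3,2,3,4,3,0,2,0,1,2,1,3,1,2,0,3,2,2,4,2,2,2,2,1,3,3,1,1,3,3,3,0,4,3,1,1,1,2,3,0,1,2,1,0,4,2,2,1,2,3,4,2,0,2,1,4,2,1,3,3,1,0,1,1,3,4,1,0,0,4,2,4,0,0,0,0,4,0,2,2,1,1,0,0,3,1,2,2,3,2],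
 [4,1,0,2,1,2,2,0,4,0,1,2,2,0,4,4,1,1,3,0,2,1,2,3,1,2,3,0,0,2,4,0,2,3,3,0,0,2,1,1,1,3,2,2,2,3,3,4,0,2,1,3,4,2,1,0,1,2,2,2,2,2,1,3,2,4,0,1,1,0,4,2,4,0,4,0,3,4,4,1,4,0,3,3,3,2,4,1,4,4,1,0,0,2,3,3,4,3,1,2,1,2,0,3,1,4,0,3,1,0,1],
 [1,2,0,1,3,0,2,4,4,3,4,2,3,0,1,2,0,2,4,1,3,3,0,0,0,2,2,3,4,1,4,4,2,0,2,2,0,0,0,1,1,0,1,1,3,4,2,0,4,0,4,1,3,3,2,2,2,2,3,3,0,2,3,4,2,4,3,4,2,3,4,4,4,3,1,3,2,2,3,0,1,1,0,3,2,0,3,4,1,3,3,3,3,3,0,4,2,0,0,1,1,0,2,0,4,1,4,3,0,0,1],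
 [0,3,1,3,3,2,0,4,3,3,1,1,2,4,2,2,2,3,4,1,4,3,4,3,1,2,4,3,1,0,4,3,3,0,4,4,4,0,2,2,1,3,0,0,2,4,3,3,2,1,1,3,0,3,0,1,0,0,3,2,2,0,0,3,0,1,2,1,1,1,0,0,1,1,3,3,0,2,1,0,4,4,2,2,3,3,2,2,1,1,0,0,3,4,4,2,4,0,3,4,2,1,0,0,2,4,2,1,1,0,0],
 [1,2,2,0,3,1,4,4,4,4,1,1,1,4,0,2,1,3,4,1,1,2,0,3,1,1,3,1,2,1,1,2,1,3,2,1,4,3,0,0,3,1,0,4,3,0,1,1,3,3,1,3,0,3,1,4,4,1,3,3,3,2,2,3,4,0,3,3,4,4,2,1,4,3,1,3,1,0,1,0,2,1,1,2,0,3,0,3,4,1,0,3,1,4,2,3,2,2,4,4,0,1,4,0,0,3,0,2,0,0,1],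
 [4,1,4,2,4,4,4,0,4,4,1,2,0,1,4,3,1,3,3,0,0,2,4,0,0,2,3,1,0,4,1,1,2,0,0,0,4,4,1,0,1,1,0,4,3,2,3,4,2,0,0,3,1,3,2,3,1,4,2,0,1,1,1,0,1,0,4,4,1,1,1,3,4,1,3,0,0,2,0,2,1,3,0,3,1,2,2,4,2,3,2,0,2,3,4,0,0,2,3,4,3,2,0,3,3,4,0,2,0,0,4],
 [2,4,1,3,2,1,2,3,3,4,3,3,0,2,2,4,1,2,3,2,4,0,3,3,1,0,4,4,0,1,4,4,3,4,1,1,0,4,1,2,0,2,3,0,4,4,4,3,1,0,2,0,1,2,1,2,1,0,3,0,3,2,0,4,2,2,3,2,4,0,1,0,3,2,3,4,1,3,2,3,0,2,1,2,3,3,3,0,1,3,2,1,0,1,1,0,2,0,4,3,3,1,3,0,0,0,1,4,3,0,2],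
 [3,1,4,3,3,2,2,2,2,3,0,3,2,2,1,3,2,2,4,2,1,4,3,1,2,3,3,4,4,1,2,2,1,2,1,0,2,2,4,2,4,3,4,1,0,3,1,4,0,0,1,3,1,2,0,4,1,4,0,3,2,2,1,1,1,0,3,3,3,4,4,4,2,1,1,4,0,2,3,3,3,0,1,2,4,4,2,2,2,1,3,4,0,4,3,1,0,0,4,4,2,1,3,2,0,1,2,0,3,4,1],
 [4,4,0,0,4,0,4,4,2,4,3,4,3,4,0,1,4,0,4,4,2,0,3,2,2,0,0,4,3,1,0,2,4,4,1,0,2,4,4,0,4,1,1,1,2,2,3,4,1,3,3,0,4,0,0,4,1,0,0,0,3,0,3,0,1,3,1,0,2,1,0,1,0,0,0,4,1,0,2,2,4,4,0,2,2,2,1,2,4,2,1,0,2,0,1,1,4,4,0,1,1,4,4,0,4,4,2,1,3,1,2],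
 [4,4,0,1,1,4,0,4,2,2,1,4,0,3,2,2,3,2,1,2,3,3,4,0,3,3,4,2,3,2,3,3,4,4,4,4,3,1,2,1,3,1,2,0,4,2,1,4,0,0,1,2,1,0,2,3,2,4,3,3,2,1,3,2,3,2,3,3,3,4,3,4,1,1,0,1,2,2,4,4,2,3,2,4,1,3,4,2,2,3,1,2,0,1,1,3,0,4,0,2,1,3,4,2,0,1,0,0,1,3,0],
 [1,1,0,2,1,2,3,1,3,3,2,2,1,4,4,3,1,4,0,2,1,3,1,2,3,0,4,0,4,1,2,4,0,4,1,1,0,2,4,1,2,3,4,4,3,3,4,1,4,2,0,3,0,1,4,1,2,4,0,4,4,3,1,4,2,1,1,3,0,3,1,4,4,4,0,2,4,1,4,4,4,3,1,3,1,2,3,0,0,0,1,0,3,0,0,4,2,0,4,2,3,4,1,0,3,4,1,0,2,1,4],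
 [0,0,2,1,4,2,0,0,0,3,4,2,1,1,0,4,2,4,4,2,1,0,1,3,4,1,2,1,4,1,3,0,1,4,0,2,3,3,1,1,4,0,1,3,4,0,1,2,1,2,4,4,4,0,1,2,3,4,2,4,3,1,4,0,4,3,0,2,3,2,0,2,4,2,4,0,2,0,1,4,1,4,3,2,1,3,4,3,1,1,1,2,1,4,1,2,3,1,2,0,4,1,2,2,4,3,4,4,0,2,4],
 [0,1,4,2,0,1,4,3,1,3,4,2,4,1,4,3,3,1,0,3,4,2,2,2,4,1,4,4,0,3,1,2,1,0,1,2,1,3,4,2,3,3,0,2,4,4,1,2,3,1,2,4,1,0,3,0,0,0,0,1,4,0,4,1,1,4,4,1,0,4,3,4,0,4,4,3,3,0,3,1,1,0,2,4,0,2,3,3,0,3,0,3,4,2,4,3,2,3,1,2,2,0,3,1,0,3,1,0,4,1,0],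
 [2,4,3,0,1,2,2,3,3,1,1,2,2,0,2,0,1,3,0,4,3,4,0,3,1,4,0,3,3,4,4,4,4,0,0,0,0,4,4,1,1,4,4,1,4,4,3,1,3,3,3,4,4,3,1,2,0,0,1,3,4,0,4,1,2,2,2,3,3,2,0,0,4,4,3,2,2,4,2,3,2,3,4,0,0,3,3,4,1,1,0,4,4,0,0,2,3,2,0,2,3,0,2,2,3,2,2,1,3,4,1],
 [1,0,3,0,3,3,1,3,2,2,4,1,1,4,4,0,4,3,3,2,3,1,0,1,1,0,0,3,2,4,1,3,2,0,1,0,2,0,2,3,3,3,3,3,3,1,3,1,0,4,1,3,2,0,0,4,0,0,1,2,2,0,0,2,3,1,1,2,3,4,4,2,3,2,3,0,4,1,0,3,3,1,0,0,1,2,3,3,3,3,2,3,3,3,4,3,0,3,1,2,4,3,3,2,1,4,2,0,4,2,4],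
 [0,1,4,2,3,4,2,3,1,1,3,2,4,0,4,2,2,2,4,0,1,4,3,2,0,2,4,4,0,3,1,4,1,1,2,3,1,2,2,1,1,1,3,4,3,4,1,0,4,2,1,4,1,2,4,3,4,3,4,0,1,0,2,0,0,0,0,4,0,1,3,4,2,2,4,3,4,2,1,4,4,3,0,2,1,4,0,2,0,0,1,4,3,3,1,0,1,1,1,3,0,1,3,0,3,2,0,3,1,1,1],
 [0,3,3,1,3,1,4,4,3,4,0,4,1,2,0,4,4,0,4,3,4,3,1,2,1,3,3,1,2,1,4,0,0,2,1,1,3,2,1,1,3,4,1,4,2,2,2,3,2,2,4,4,1,0,0,1,0,3,0,2,4,2,0,2,3,1,4,4,3,4,2,3,3,0,0,0,1,2,3,2,4,1,3,3,0,3,3,3,4,1,3,2,4,3,0,2,4,2,3,2,4,4,2,0,0,0,3,3,2,1,2],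
 [3,4,2,1,2,1,2,1,0,2,1,3,2,0,0,2,1,0,3,2,1,4,2,3,2,3,2,2,2,4,0,2,1,1,2,2,3,1,1,1,1,1,1,1,2,2,1,0,3,3,1,1,1,3,3,4,1,0,2,2,0,0,2,2,4,1,0,2,0,0,0,3,3,0,1,2,4,3,3,2,0,0,1,0,2,2,2,1,4,0,3,1,4,4,3,3,4,4,3,3,3,2,4,3,4,1,3,2,3,1,3],
 [4,4,1,3,1,2,0,4,2,2,1,3,4,2,2,2,2,4,3,0,2,2,3,0,0,4,3,2,3,4,1,0,0,4,4,4,2,4,2,2,0,0,3,0,2,3,3,2,4,0,4,1,2,3,4,3,2,2,0,1,4,4,3,0,4,3,2,2,0,3,2,2,0,0,3,0,1,0,2,3,0,0,0,1,1,1,1,1,3,2,0,2,0,1,4,1,0,4,4,3,0,1,0,4,3,2,3,3,0,1,2],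
 [4,0,3,1,0,0,3,2,3,1,1,0,3,0,2,2,3,0,2,1,3,2,1,1,4,4,4,3,4,1,3,2,4,0,2,1,2,3,2,2,1,1,3,2,2,0,2,1,3,4,0,0,4,3,3,1,2,4,2,2,2,0,1,4,3,1,1,4,2,1,0,4,0,4,0,3,1,2,4,4,2,1,4,1,3,1,1,1,1,2,3,0,4,4,3,4,3,0,0,1,4,4,2,4,2,1,4,3,1,0,2],
 [3,3,0,4,4,2,4,3,4,2,3,0,4,2,4,1,1,4,3,1,1,0,0,0,3,0,1,2,1,3,2,1,3,1,4,2,2,3,0,4,0,3,0,2,0,4,0,3,3,2,1,1,4,4,2,0,3,0,0,4,3,0,2,0,2,4,4,3,3,4,3,3,1,4,4,1,1,4,4,0,0,4,0,4,0,2,0,3,2,1,4,1,4,3,4,4,2,0,0,0,0,2,2,0,1,0,2,0,3,2,3],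
 [1,2,4,4,2,3,4,4,4,2,1,2,0,1,1,2,3,4,1,3,2,0,0,3,4,2,4,4,0,4,2,3,1,2,3,3,3,3,0,0,3,4,3,2,4,1,1,3,1,3,3,3,3,0,3,0,4,4,1,2,2,1,0,2,3,0,1,1,0,0,1,1,2,0,2,4,0,4,4,3,0,1,2,3,1,3,2,2,0,0,0,4,3,4,3,3,2,4,4,1,4,3,0,3,2,1,0,2,4,3,4],
 [4,0,4,2,2,1,4,2,3,2,1,1,4,4,1,2,1,3,1,2,4,3,4,0,1,1,4,2,0,1,1,4,0,2,4,1,1,1,2,2,2,2,1,3,3,2,3,1,3,0,1,2,0,4,4,2,2,3,2,2,4,0,2,0,1,0,4,2,2,4,0,1,3,4,4,2,4,3,2,4,4,4,3,4,0,4,3,3,0,1,3,3,3,0,1,1,1,3,0,1,0,2,3,3,1,3,4,2,0,1,0],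
 [1,1,3,0,4,2,2,1,3,3,1,3,0,1,0,0,2,3,0,3,4,1,4,4,1,2,4,2,1,3,0,1,3,3,0,3,2,2,0,2,3,4,0,2,4,1,2,0,0,4,1,1,3,4,1,1,1,2,4,4,2,4,1,2,1,4,4,0,4,3,1,1,2,4,1,4,3,2,2,3,1,1,4,2,4,0,0,0,3,4,2,1,1,4,2,0,0,1,4,2,4,4,0,1,1,2,2,0,0,3,4],
 [0,0,0,0,0,0,0,0,0,4,3,0,0,4,4,1,0,0,4,2,0,0,2,3,3,3,3,3,1,0,2,0,4,0,2,0,2,2,0,3,4,2,3,4,4,0,1,0,4,4,0,1,4,2,4,0,2,0,3,3,2,2,0,2,2,3,4,0,0,2,1,3,0,0,3,0,4,2,3,2,0,4,0,2,4,4,3,0,3,0,0,0,1,4,3,4,1,0,2,4,4,3,0,0,4,1,1,2,1,3,2],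
 [0,0,0,0,0,0,0,0,0,4,3,3,1,0,3,2,0,1,1,4,0,3,2,2,4,2,4,2,0,1,1,0,1,0,0,0,4,3,4,0,1,3,2,2,2,0,4,0,0,2,1,2,1,0,1,4,3,0,2,2,1,0,0,4,0,2,1,4,4,0,0,2,1,3,3,2,3,4,2,1,0,1,0,3,1,1,2,0,2,1,3,0,4,2,3,2,4,0,3,3,4,1,0,4,1,4,0,4,3,3,2],
 [0,0,0,0,0,0,0,0,0,4,4,2,4,0,2,3,3,3,2,2,2,2,0,1,2,1,4,1,0,2,2,3,3,3,1,0,3,4,0,4,3,4,3,2,3,2,2,2,3,1,1,1,2,1,4,1,0,2,1,1,4,4,4,0,4,2,2,4,0,4,4,1,2,0,0,0,4,3,1,3,3,3,3,1,3,3,1,3,1,2,3,1,3,3,2,0,0,3,4,3,2,3,1,4,2,4,2,4,4,2,1],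
 [0,0,0,0,0,0,0,0,0,2,1,4,3,3,4,0,4,0,1,4,1,2,3,0,3,1,0,0,4,1,0,4,0,4,1,0,4,0,3,3,2,0,2,4,4,1,0,1,2,3,4,4,2,2,0,1,3,1,0,4,1,3,2,1,0,3,2,0,4,0,4,0,0,0,0,1,1,1,0,0,4,0,4,1,0,0,0,4,0,4,2,4,3,2,0,4,4,4,0,4,3,3,3,1,2,1,3,3,2,2,4],
 [0,0,0,0,0,0,0,0,0,1,4,3,4,0,0,1,1,3,1,0,4,3,1,4,2,4,2,4,4,2,0,1,2,1,0,3,4,1,0,1,2,1,4,1,2,4,3,4,0,0,3,3,0,1,3,4,3,4,4,2,0,1,3,2,0,3,0,0,3,0,3,4,0,1,1,4,2,4,4,0,1,2,1,0,2,2,4,1,0,0,1,3,0,0,1,4,4,1,1,3,2,0,2,0,0,2,3,1,4,0,1],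
 [0,0,0,0,0,0,0,0,0,2,3,1,4,0,4,3,3,4,0,3,2,3,4,0,4,4,1,0,4,1,3,3,0,3,4,2,2,0,2,2,4,0,0,0,0,2,0,2,0,1,0,1,4,2,2,4,1,2,0,3,3,3,4,1,1,3,4,0,3,1,1,0,0,0,0,1,3,1,0,3,3,0,3,2,0,0,0,3,0,2,2,0,1,2,4,2,3,3,0,3,1,1,1,3,4,2,1,3,1,0,2],
 [0,0,0,0,0,0,0,0,0,4,2,3,3,3,0,3,1,0,4,0,4,1,0,2,3,4,2,2,3,0,4,1,1,1,4,1,2,3,1,1,0,3,0,4,3,4,4,4,3,1,4,2,4,3,0,4,0,4,2,4,3,4,3,1,0,4,4,2,2,0,1,2,3,4,0,0,1,0,2,4,1,1,1,2,1,1,2,1,0,3,1,0,1,4,0,3,0,1,3,2,3,1,2,2,4,3,3,0,0,4,3]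
]

/-- named matrix 3 -/
def nm3 : List (List ℕ) := [
 [4,4,3,3,4,4,4,2,0,2,3,0,3,2,1,3,0,3,1,4,3,0,3,2,2,2,0,3,0,2,4,1,0,4,3,0,3,2,3,4,0,2,3,1,1,3,1,4,1,3,2,0,4,0,0,1,2,4,1,3,1,3,4,0,0,0,3,3,0,3,2,0,3,4,3,3,3,2,0,0,3,3,4,2,3,4,1,2,2,1,2,2,1,1,0,2,0,3,1,0,4,3,4,3,0,1,0,0,4,3,0],
 [4,3,1,3,0,1,0,4,1,0,1,1,0,0,4,0,2,3,3,3,1,4,0,4,4,2,0,3,4,0,0,3,1,0,3,1,1,3,4,4,4,4,3,1,2,4,2,2,1,0,2,4,2,1,0,3,0,3,4,0,4,0,2,3,3,3,3,3,1,3,1,4,2,4,1,1,0,3,4,3,4,4,4,1,3,4,3,1,2,1,1,1,1,4,4,1,2,4,0,4,1,3,1,0,1,1,0,3,2,3,1],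
 [0,0,1,1,3,0,0,0,0,1,1,1,1,1,1,1,3,0,1,3,2,1,1,1,2,3,2,1,4,3,4,0,0,4,2,1,1,1,2,4,3,4,2,3,2,1,3,3,2,3,3,4,0,1,4,3,2,0,1,4,4,1,3,4,0,0,4,2,3,2,0,3,3,2,0,3,0,0,4,2,2,2,4,2,3,3,1,2,4,4,2,1,3,4,4,2,3,2,1,4,4,3,0,0,0,4,0,4,4,4,2],
 [0,0,2,3,2,2,2,0,0,1,1,1,3,4,2,2,2,2,0,2,0,3,3,2,4,3,0,1,0,2,4,3,0,1,0,1,3,3,0,3,4,0,3,2,4,0,0,0,4,2,1,0,0,4,0,4,3,2,0,1,0,3,3,1,0,4,2,2,2,2,2,4,1,2,3,1,3,1,2,0,2,4,2,1,1,3,0,1,3,1,4,2,0,1,3,2,1,3,2,4,2,0,1,2,2,2,1,3,2,1,2],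
 [0,0,2,4,4,1,4,0,0,4,0,4,1,2,4,4,4,1,3,1,4,0,0,2,3,3,0,3,2,1,2,0,4,4,2,2,2,2,3,3,0,4,1,4,4,2,3,4,1,4,2,3,1,1,4,3,2,2,2,1,1,2,1,2,4,2,2,0,3,2,4,3,3,3,0,2,2,1,4,3,2,3,0,2,3,4,4,4,0,4,3,1,0,4,2,4,0,1,3,4,2,0,4,2,1,0,0,2,3,4,3],
 [0,0,0,0,0,4,4,0,0,4,4,3,1,3,2,0,3,3,4,3,2,0,2,2,1,3,2,1,4,2,0,3,1,2,0,3,1,2,1,0,2,4,1,1,3,0,1,3,2,3,0,4,4,0,3,1,2,3,2,2,3,3,1,3,0,3,2,0,0,2,3,3,3,4,4,4,2,4,1,3,2,4,4,1,4,1,0,0,4,2,3,0,3,1,1,3,0,1,1,3,2,0,2,2,4,0,0,0,0,3,1],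
 [0,0,0,0,0,4,3,0,0,1,2,3,3,3,0,4,1,0,2,3,2,4,1,0,0,2,2,1,4,3,2,4,2,2,0,2,3,1,0,4,2,1,0,0,1,1,1,1,0,0,2,2,0,0,4,0,4,0,3,1,0,4,3,3,0,4,4,3,0,0,0,0,2,2,3,0,1,1,1,4,0,3,1,4,1,1,3,3,4,3,3,3,3,0,4,1,4,0,1,3,2,4,1,4,0,1,1,4,4,0,2],
 [0,0,0,0,0,0,0,2,1,4,3,4,1,4,0,2,0,3,0,3,0,3,1,1,1,3,2,1,4,1,4,1,4,1,4,3,2,2,0,0,4,2,2,2,0,4,3,3,3,3,4,0,3,4,2,0,3,1,4,3,3,3,2,4,0,2,3,0,0,0,2,0,1,3,0,2,3,1,4,3,1,2,1,4,2,4,1,0,4,0,3,4,1,0,2,0,2,3,3,4,4,0,1,4,4,0,3,4,2,2,1],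
 [0,0,0,0,0,0,0,4,0,3,3,0,1,1,2,2,0,4,2,1,0,3,2,1,0,4,0,3,3,2,4,2,1,2,4,4,3,2,3,0,3,0,4,0,3,3,0,1,4,2,3,1,4,1,2,3,4,3,0,1,1,4,3,0,3,4,1,0,4,0,2,0,4,0,2,3,0,2,0,0,3,4,2,2,2,0,0,3,2,2,1,2,1,3,0,3,3,4,3,1,1,0,0,4,3,1,3,3,2,0,1],
 [0,0,0,0,0,0,0,0,0,3,4,0,1,0,1,0,0,4,3,4,0,1,2,4,4,2,1,2,4,1,3,2,4,4,1,1,0,2,1,2,3,3,3,2,3,4,2,4,1,1,3,3,1,1,1,2,3,4,3,4,2,3,2,0,4,3,3,2,2,4,3,1,2,4,0,0,0,3,4,2,0,0,4,1,3,0,0,0,4,2,4,0,3,2,1,1,3,2,2,0,3,3,1,3,1,3,3,1,3,4,2],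
 [0,0,0,0,0,0,0,0,0,4,0,4,0,2,4,3,0,4,1,1,0,4,1,0,0,0,1,4,1,1,3,1,0,1,1,3,2,1,2,3,2,4,3,3,2,0,4,2,0,2,4,3,3,1,0,0,2,4,3,2,4,4,0,2,2,4,2,0,0,1,2,4,1,4,0,3,0,2,0,3,1,4,1,2,0,1,3,4,1,3,3,0,4,4,0,4,2,0,3,3,4,1,1,3,1,1,3,3,0,0,4],
 [0,0,0,0,0,0,0,0,0,3,1,3,0,0,0,1,0,4,2,0,0,0,1,1,1,3,1,4,4,0,1,2,4,3,3,1,0,4,1,1,1,3,3,4,2,2,0,0,4,0,2,3,3,0,0,4,4,1,1,2,3,1,1,4,0,1,1,1,0,3,4,4,2,0,2,2,2,2,0,3,0,3,0,4,1,4,4,4,0,4,4,3,0,2,3,0,1,3,1,0,3,4,3,2,1,1,4,0,4,4,4],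
 [0,0,0,0,0,0,0,0,0,0,1,4,3,1,4,0,0,0,4,3,0,3,1,1,1,0,4,4,2,0,2,1,2,4,1,2,4,4,0,3,3,4,2,0,3,0,1,0,3,2,4,4,0,0,1,4,3,3,4,0,4,0,0,2,2,4,1,4,1,1,2,2,1,0,1,3,0,2,2,4,3,1,1,2,3,2,3,0,4,2,3,2,3,3,4,2,2,4,1,2,3,4,1,1,1,4,3,3,0,3,0],
 [0,0,0,0,0,0,0,0,0,2,1,2,4,3,4,2,0,0,4,2,0,4,4,1,0,0,2,2,4,2,3,3,1,4,0,1,1,3,1,1,3,1,1,4,3,3,1,0,3,4,3,0,0,2,4,1,0,4,2,4,4,0,0,4,4,1,4,0,3,2,4,4,2,4,1,4,3,0,4,0,2,1,0,4,4,0,0,1,4,4,2,3,3,4,1,3,3,1,0,4,2,2,3,2,2,4,4,0,3,2,2],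
 [0,0,0,0,0,0,0,0,0,0,3,3,1,1,0,2,0,3,2,0,0,0,0,2,0,3,0,3,3,1,0,3,4,2,0,2,1,1,0,0,2,4,0,3,2,1,3,0,2,4,3,2,4,4,2,3,2,4,2,3,0,1,0,4,4,0,3,3,0,0,3,4,0,2,3,1,3,4,0,4,0,3,2,1,0,4,1,2,0,3,2,2,2,4,2,3,0,2,0,0,1,0,1,0,3,4,1,1,2,4,4],
 [0,0,0,0,0,0,0,0,0,0,1,3,0,3,4,1,0,0,0,1,0,4,4,1,3,3,2,3,0,1,3,0,4,3,2,1,1,4,0,1,4,3,4,1,0,4,2,2,4,0,0,4,1,3,1,4,2,1,1,3,2,2,4,0,0,4,3,0,3,2,1,0,0,4,0,0,4,0,4,4,0,2,1,4,3,4,2,2,1,1,0,1,4,1,2,2,3,3,4,3,3,0,0,3,3,2,1,0,2,0,3],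
 [0,0,0,0,0,0,0,0,0,4,0,4,4,0,0,0,0,1,3,4,0,1,0,0,4,4,1,2,1,0,1,0,3,0,4,0,3,4,3,1,0,3,1,0,2,4,0,2,1,1,3,1,2,4,2,0,2,1,2,0,2,2,0,3,0,3,1,4,1,4,4,4,3,0,4,3,2,1,1,2,1,4,4,3,1,2,3,3,3,0,4,4,3,2,0,3,4,3,1,0,4,4,2,1,0,1,1,2,4,4,2],
 [0,0,0,0,0,0,0,0,0,1,1,4,3,1,3,0,0,4,3,3,0,0,3,3,0,2,2,1,2,0,0,0,0,4,0,3,2,0,0,3,1,3,2,1,2,4,2,1,4,3,2,0,3,3,0,0,4,2,1,0,1,4,2,1,1,1,1,0,3,2,1,1,2,1,0,0,0,0,4,1,2,3,4,4,3,4,2,0,3,1,4,3,0,4,2,3,2,1,2,2,2,2,0,4,3,1,1,3,2,0,0],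
 [0,0,0,0,0,0,0,0,0,4,1,0,4,4,4,3,0,0,0,2,0,4,0,4,3,1,4,3,2,0,4,1,3,3,1,0,3,1,0,2,4,0,2,2,1,3,1,1,2,2,1,0,4,4,1,2,2,3,2,2,4,1,4,0,1,1,0,2,4,2,1,4,4,1,0,0,4,3,0,0,3,0,1,0,3,1,4,2,0,1,4,3,2,0,0,3,4,4,2,0,3,2,1,4,3,0,4,1,3,3,0],
 [0,0,0,0,0,0,0,0,0,2,1,0,4,2,2,1,0,4,0,1,0,2,3,0,3,2,3,4,0,1,2,4,4,2,0,4,2,0,2,1,2,1,2,3,2,3,3,2,3,2,4,1,1,3,4,2,1,3,1,0,3,2,0,4,3,3,0,3,3,2,2,1,2,2,1,2,0,4,3,4,4,1,3,0,0,4,1,4,2,3,0,1,0,3,4,4,2,4,2,0,4,1,4,2,0,4,4,4,1,1,1],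
 [0,0,0,0,0,0,0,0,0,4,0,2,0,0,3,1,0,1,1,4,0,4,2,4,1,2,4,2,0,0,2,3,1,3,4,1,3,3,3,0,1,2,2,1,1,1,2,1,0,0,0,4,1,0,2,0,0,2,0,3,1,3,0,3,0,2,3,3,1,1,3,1,0,1,1,0,1,2,3,0,3,0,0,4,0,0,4,0,1,3,1,1,1,2,1,2,2,1,3,1,1,2,2,4,2,3,0,1,0,2,4],
 [0,0,0,0,0,0,0,0,0,1,3,4,3,0,2,3,0,1,4,3,0,2,3,2,4,2,1,2,3,1,2,4,1,2,0,1,3,0,3,2,0,4,4,3,2,0,1,2,2,1,0,2,4,2,0,4,0,3,0,4,1,1,1,1,0,1,1,2,3,3,1,3,4,3,0,4,3,1,2,0,3,1,1,4,3,4,1,3,3,1,0,3,1,4,1,0,1,4,2,0,2,2,0,2,1,1,0,1,1,3,4],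
 [0,0,0,0,0,0,0,0,0,3,3,2,0,4,3,3,0,3,0,3,0,3,3,3,0,0,1,4,1,2,3,1,0,4,1,3,1,0,4,1,2,0,2,4,3,0,4,4,0,1,2,2,4,3,4,4,4,0,1,3,1,1,1,3,3,2,0,0,4,1,3,4,2,4,3,4,1,1,2,1,4,2,2,1,1,0,0,0,3,0,2,3,0,0,1,0,4,0,2,0,2,4,1,2,1,3,1,1,3,4,0],
 [0,0,0,0,0,0,0,0,0,4,4,1,3,1,1,3,4,4,2,2,3,0,2,3,4,2,1,4,1,4,3,4,2,2,1,0,3,0,2,4,2,4,0,2,3,4,3,4,3,3,0,4,3,0,1,2,4,0,4,2,2,1,3,4,4,2,1,4,0,3,0,4,4,1,4,3,1,0,0,2,4,1,3,1,0,0,3,4,1,4,3,4,2,2,3,1,3,0,1,4,3,1,1,2,3,0,4,0,4,1,4],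
 [0,0,0,0,0,0,0,0,0,1,1,0,0,2,3,4,0,0,4,0,0,3,0,4,1,3,3,1,0,0,2,4,0,2,2,4,3,4,1,4,1,3,4,3,3,0,3,3,2,0,4,1,0,3,4,2,4,1,2,2,2,4,0,2,1,1,3,4,1,2,0,4,0,4,4,1,2,2,1,3,2,3,0,4,3,4,3,3,1,1,1,0,2,1,2,1,2,3,3,3,1,4,0,0,4,4,1,1,4,2,0],
 [0,0,0,0,0,0,0,0,0,0,3,4,4,0,1,4,0,4,4,4,0,0,0,3,1,4,2,3,3,4,0,1,3,4,3,3,4,0,4,4,3,0,3,1,3,3,1,0,3,0,1,1,2,4,1,3,3,3,0,4,0,0,4,1,0,3,1,0,0,2,3,0,2,1,4,2,2,0,0,3,4,4,3,4,3,1,3,1,3,4,2,0,3,3,0,2,2,4,2,4,4,2,0,1,4,0,3,2,0,1,0],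
 [0,0,0,0,0,0,0,0,0,0,2,3,0,2,4,3,0,0,0,2,0,1,2,2,1,4,2,3,4,1,1,2,0,1,2,2,2,0,1,0,0,1,1,1,4,4,0,3,4,1,0,4,3,0,0,2,3,0,1,0,2,4,3,3,1,2,2,2,3,3,0,3,3,3,1,1,1,0,0,3,0,1,2,0,0,0,0,2,1,0,0,4,1,4,3,0,3,0,0,4,4,2,2,2,0,3,2,1,4,4,1],
 [0,0,0,0,0,0,0,0,0,3,2,1,4,4,2,2,0,1,3,0,0,0,3,2,4,2,2,2,0,4,2,4,1,4,3,4,1,0,4,1,2,1,1,1,0,0,1,4,0,2,1,3,3,1,2,4,0,2,1,2,2,2,2,4,1,3,0,3,0,3,0,0,3,2,0,2,2,4,3,3,0,3,1,3,0,4,3,4,4,0,3,0,3,3,3,3,4,2,3,0,2,3,2,0,0,1,4,0,0,0,1],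
 [0,0,0,0,0,0,0,0,0,4,3,0,2,3,1,1,0,0,3,4,0,4,0,3,4,2,2,4,4,2,1,4,3,4,2,2,4,3,2,3,1,2,4,4,4,3,3,3,2,4,3,2,3,1,2,0,1,4,1,1,4,1,0,0,2,4,0,1,0,0,1,3,0,2,0,1,2,2,1,3,0,1,3,1,2,2,2,4,3,0,0,1,2,4,3,2,4,1,3,0,0,4,3,2,3,2,2,3,3,0,3],
 [0,0,0,0,0,0,0,0,0,3,1,3,0,2,2,0,0,3,1,3,0,0,0,4,1,4,4,3,2,1,0,4,3,0,1,2,0,0,1,0,4,0,3,1,1,4,4,0,2,1,4,1,1,1,0,1,2,0,3,2,4,3,4,3,0,0,1,4,0,4,3,0,0,2,4,3,3,1,3,3,2,2,3,2,0,4,3,1,1,0,0,3,1,0,0,1,3,0,4,2,4,0,3,3,2,1,3,3,3,1,2],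
 [0,0,0,0,0,0,0,0,0,3,4,4,2,4,0,4,0,0,4,0,0,0,1,1,1,2,2,2,4,4,0,2,1,3,1,2,0,4,0,3,3,0,3,4,1,1,1,2,3,4,2,2,4,0,3,2,0,2,3,0,2,1,1,1,2,2,1,4,3,0,2,2,0,3,2,2,1,4,3,0,1,0,4,3,3,2,0,2,1,1,4,0,2,0,2,2,1,1,0,1,1,0,0,1,1,4,3,2,1,4,2],
 [0,0,0,0,0,0,0,0,0,2,1,0,0,0,2,3,0,2,0,3,0,1,0,3,1,1,0,0,1,4,4,1,3,0,4,4,2,0,3,1,0,1,4,1,3,1,0,1,4,1,4,0,3,1,4,1,0,1,0,4,4,4,0,4,4,1,3,4,2,4,1,0,2,0,2,2,3,3,4,3,2,2,3,4,0,2,0,0,1,1,2,0,1,0,0,0,0,3,0,3,2,4,0,3,0,3,1,4,2,3,1],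
 [0,0,0,0,0,0,0,0,0,0,3,2,2,0,4,0,0,1,3,2,0,0,1,4,4,4,4,4,4,3,0,3,4,2,2,0,3,3,0,4,2,4,1,1,4,4,2,3,2,4,0,1,3,4,1,1,4,3,4,0,2,0,3,1,3,3,1,3,3,1,4,2,3,4,4,3,3,4,4,1,0,4,1,1,2,1,1,0,2,4,2,3,0,4,1,0,0,4,1,0,2,2,1,4,0,3,1,0,0,0,1],
 [0,0,0,0,0,0,0,0,0,0,0,2,3,2,3,2,0,3,1,1,0,3,1,2,1,4,2,4,2,1,3,0,4,3,2,2,0,1,0,0,0,2,4,3,1,0,3,2,4,0,0,0,0,3,3,4,0,1,1,2,1,0,2,4,4,4,2,4,3,3,2,3,3,4,0,4,0,1,4,1,2,1,0,0,3,4,1,4,1,3,1,2,2,4,2,0,3,3,0,1,4,1,3,1,0,3,2,4,1,0,0],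
 [0,0,0,0,0,0,0,0,0,2,0,1,3,2,0,3,0,1,3,1,0,4,3,3,0,4,1,4,4,2,2,2,4,2,3,0,2,2,3,4,0,4,4,4,3,0,3,3,1,2,2,4,4,0,0,4,4,0,4,0,1,1,4,1,1,1,1,0,1,4,1,2,3,2,4,0,3,4,0,2,0,3,0,4,2,4,4,2,4,0,1,0,1,4,0,0,0,0,0,2,1,2,1,4,4,3,1,3,3,2,2],
 [0,0,0,0,0,0,0,0,0,1,0,1,3,1,3,4,0,4,1,4,0,2,1,4,1,4,4,2,2,0,4,2,1,0,0,1,0,4,2,1,3,3,2,0,2,2,2,4,2,4,1,2,4,4,4,3,1,3,4,1,3,3,3,3,4,1,1,0,0,4,3,1,1,3,2,1,0,3,1,0,2,1,4,2,2,4,4,0,2,2,1,1,3,3,4,0,1,4,2,2,3,4,0,1,2,2,2,1,0,3,3],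
 [0,0,0,0,0,0,0,0,0,0,0,0,1,2,3,2,0,2,1,0,0,2,3,3,1,1,4,4,2,4,1,0,2,2,3,1,0,3,0,0,4,3,2,0,2,4,3,3,3,0,3,1,0,3,1,4,3,4,1,3,3,0,0,1,1,4,1,4,2,2,4,3,4,0,2,4,1,1,1,0,1,3,1,1,1,1,3,4,1,0,2,2,1,1,1,0,0,2,4,0,4,4,4,3,3,3,0,0,1,3,1],
 [0,0,0,0,0,0,0,0,0,1,4,2,0,4,2,3,0,2,4,4,2,0,3,0,1,2,0,0,4,1,2,0,1,2,3,1,1,3,0,3,3,2,3,2,0,3,0,4,3,4,3,1,4,1,0,0,3,2,3,3,1,0,0,3,0,3,3,0,2,3,1,0,0,0,2,0,0,1,3,0,1,2,2,2,2,3,3,4,2,2,2,4,3,0,4,0,3,1,0,0,3,2,0,0,0,2,2,4,0,3,1],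
 [0,0,0,0,0,0,0,0,0,1,4,0,3,1,0,1,0,3,3,4,0,3,4,0,2,2,2,3,2,2,2,3,4,4,4,3,1,2,3,0,3,3,0,4,1,2,2,3,1,3,0,2,0,2,3,2,1,3,1,0,3,3,4,3,2,2,4,2,4,4,4,2,0,2,0,1,0,1,2,0,1,1,1,4,2,2,1,0,3,4,4,3,2,1,1,4,4,4,4,0,3,1,1,3,2,1,2,4,2,3,0],
 [0,0,0,0,0,0,0,0,0,4,0,4,3,0,4,0,0,1,4,1,0,1,2,2,4,0,2,2,1,3,3,3,3,4,1,1,3,2,4,0,1,1,1,0,2,0,2,3,4,3,1,1,2,4,3,0,0,3,2,2,1,2,3,0,0,0,3,3,0,4,3,3,3,1,0,3,4,2,3,1,2,4,3,0,4,0,1,1,3,0,2,4,2,1,2,3,3,4,1,3,4,3,0,1,2,4,3,0,2,0,1],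
 [0,0,0,0,0,0,0,0,0,3,0,0,1,3,2,1,0,0,3,3,0,4,0,4,4,0,3,3,3,2,4,3,4,1,3,1,2,3,0,3,0,4,0,1,4,3,1,1,2,3,0,1,2,2,0,1,4,2,0,1,4,0,0,2,0,0,1,1,2,3,2,3,1,4,4,2,1,3,3,0,1,1,0,4,3,1,4,3,1,1,1,3,4,0,1,4,2,1,2,0,2,1,1,4,0,0,0,2,2,3,0],
 [0,0,0,0,0,0,0,0,0,3,1,0,4,3,2,2,0,4,1,2,0,3,1,1,2,3,2,1,0,1,3,2,1,2,3,1,0,3,2,1,3,1,4,2,4,2,4,3,2,0,2,2,3,4,3,4,2,0,3,1,1,2,3,3,2,0,3,3,2,0,4,1,2,2,0,1,4,4,3,1,1,2,0,0,3,2,4,3,1,3,0,4,2,2,2,1,3,3,1,2,4,2,2,0,0,0,2,4,3,2,3],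
 [0,0,0,0,0,0,0,0,0,3,0,3,3,0,3,0,0,0,0,4,0,3,3,1,2,0,4,2,3,1,2,0,3,1,3,0,2,1,0,3,1,1,0,4,1,2,1,1,1,0,4,1,3,1,0,0,2,3,2,4,1,0,4,4,3,0,2,0,4,2,4,4,2,3,2,1,1,4,1,1,3,4,4,2,2,4,4,0,0,0,3,1,1,1,3,0,2,4,4,4,0,2,2,0,2,1,0,3,0,2,2],
 [0,0,0,0,0,0,0,0,0,0,0,2,2,2,3,1,0,0,3,4,0,3,0,0,1,3,0,0,0,2,2,2,3,3,0,1,0,4,1,0,2,0,0,2,0,0,1,0,4,1,1,4,0,2,3,3,2,0,3,0,1,4,2,3,2,3,4,1,3,2,2,1,1,0,1,4,3,1,3,2,0,0,3,3,0,3,3,3,3,2,2,0,3,0,3,3,2,0,4,0,0,1,1,4,1,2,3,3,0,2,0],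
 [0,0,0,0,0,0,0,0,0,2,3,1,4,0,3,2,0,2,4,3,0,3,4,4,2,1,2,4,4,1,4,2,4,0,4,2,1,3,0,4,0,1,0,1,2,2,3,4,0,0,0,1,0,0,3,4,4,3,3,4,0,3,3,2,2,3,4,2,2,1,3,1,0,0,4,1,2,4,4,0,2,3,4,3,3,3,1,0,0,3,1,2,4,1,2,2,3,4,4,0,1,2,0,1,0,2,0,1,4,1,1],
 [0,0,0,0,0,0,0,0,0,4,1,1,3,2,3,0,0,4,4,0,0,1,1,0,2,4,1,4,0,4,2,3,3,2,2,2,4,4,3,3,0,3,0,0,0,2,3,2,1,4,4,4,2,0,3,4,3,0,3,3,2,0,4,0,3,3,0,0,1,4,1,0,0,0,2,2,4,4,3,4,1,0,4,0,1,2,0,4,2,2,3,1,0,4,2,2,2,0,4,1,3,0,4,0,4,0,1,0,2,2,1],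
 [0,0,0,0,0,0,0,0,0,0,2,2,1,2,1,0,0,0,4,2,0,3,3,0,4,4,3,2,1,1,0,4,0,4,2,4,4,4,2,4,2,1,1,3,1,4,3,4,1,4,0,1,0,3,4,3,0,0,3,0,2,4,2,4,3,0,4,0,0,2,3,1,3,2,1,1,1,4,1,1,3,4,2,0,3,0,0,1,3,1,3,2,2,1,1,0,4,0,0,1,0,1,1,4,2,1,3,3,0,1,4],
 [0,0,0,0,0,0,0,0,0,3,2,1,1,2,0,0,0,2,0,1,0,0,2,4,4,0,1,3,0,0,4,3,3,1,3,4,0,1,3,0,2,1,4,2,1,4,2,1,2,1,1,1,0,2,0,4,1,2,2,4,4,0,3,1,4,4,2,2,4,4,1,4,3,0,3,3,3,2,2,0,3,2,4,3,1,2,1,0,3,4,4,4,1,0,3,1,4,1,3,3,3,0,4,2,2,2,3,2,4,2,4],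
 [0,0,0,0,0,0,0,0,0,0,4,1,2,3,2,1,0,1,1,2,0,3,4,1,3,1,4,1,3,4,4,4,4,1,1,4,4,1,0,0,1,4,3,2,4,4,1,2,3,0,3,4,2,2,1,2,1,3,2,0,2,2,0,2,1,1,0,1,2,4,1,4,3,1,3,2,3,4,0,1,3,0,3,2,4,3,0,3,4,1,1,3,0,4,1,0,3,4,3,4,3,3,1,2,2,4,0,2,1,4,3],
 [0,0,0,0,0,0,0,0,0,3,0,2,1,4,0,3,0,1,0,0,0,2,0,2,3,4,1,3,3,4,0,3,3,0,3,1,2,0,3,0,1,0,1,0,2,0,0,2,1,0,2,3,0,3,0,0,3,0,4,1,1,4,2,2,3,4,4,1,1,3,0,1,2,1,0,1,3,2,0,3,1,2,3,4,2,4,1,4,2,3,2,4,3,2,4,0,4,0,3,0,0,1,1,4,2,0,2,1,3,3,3],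
 [0,0,0,0,0,0,0,0,0,1,1,0,3,0,3,1,0,3,0,0,0,4,3,3,0,1,0,0,2,1,0,4,1,4,2,3,1,4,4,3,4,2,2,1,2,1,4,1,0,2,4,4,4,0,3,4,4,0,4,2,2,1,1,1,0,0,1,2,3,2,0,1,1,4,3,0,4,1,2,3,2,2,4,3,0,4,4,1,0,0,1,2,4,2,1,0,0,0,1,2,0,2,0,4,0,0,1,1,2,0,3],
 [0,0,0,0,0,0,0,0,0,1,1,4,2,0,0,3,0,1,2,0,0,1,2,4,3,4,0,4,3,3,4,2,4,2,2,4,4,4,4,0,0,4,0,2,0,0,0,1,0,0,0,1,3,2,1,2,3,4,0,1,2,3,1,3,3,0,4,1,2,1,2,3,4,3,4,4,1,3,1,3,2,2,2,2,0,1,3,2,0,4,0,1,3,3,1,4,4,2,3,3,4,0,1,1,1,4,4,3,0,0,4],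
 [0,0,0,0,0,0,0,0,0,0,4,2,2,1,2,1,0,1,3,4,0,0,3,1,2,1,3,0,4,4,0,2,2,2,3,2,1,1,0,0,2,1,1,2,0,0,1,4,0,3,0,3,1,1,2,1,3,3,4,2,3,3,3,4,1,0,3,1,0,1,2,0,4,2,0,0,2,1,3,3,4,2,4,2,3,4,4,2,0,3,2,3,4,2,0,1,4,4,3,3,4,0,1,4,2,4,0,4,1,1,4],
 [0,0,0,0,0,0,0,0,0,0,2,1,1,3,2,3,0,1,1,4,0,1,2,2,1,4,4,3,2,3,2,0,0,4,1,3,4,2,2,1,3,0,0,2,3,0,0,2,3,3,3,3,4,3,0,0,1,1,2,2,4,3,0,1,4,2,3,0,4,1,4,4,1,1,0,2,2,0,4,2,0,1,4,0,1,3,3,2,0,3,3,0,1,2,3,4,2,3,3,4,4,0,4,0,3,3,4,2,3,3,3],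
 [0,0,0,0,0,0,0,0,0,2,1,4,3,0,1,4,0,0,2,0,0,0,3,4,0,3,1,2,4,0,0,3,3,2,0,1,0,2,1,4,4,4,2,4,2,2,0,0,4,0,3,2,4,2,4,3,2,4,4,4,4,3,1,4,0,0,4,4,4,3,3,2,2,2,2,0,2,2,4,2,3,4,1,0,3,4,0,4,4,2,2,2,1,2,2,3,0,2,4,3,4,0,4,2,3,2,0,3,4,0,4],
 [0,0,0,0,0,0,0,0,0,4,2,2,3,3,4,0,0,4,3,0,0,2,2,3,1,4,2,3,2,0,0,0,4,3,1,1,1,2,0,1,2,4,0,0,4,3,0,0,3,3,2,2,0,4,1,0,2,0,4,1,1,4,3,4,2,2,2,2,1,3,1,2,1,3,3,3,2,1,4,2,0,4,4,3,0,3,3,0,1,2,4,1,0,1,2,0,0,0,4,4,1,3,2,4,1,2,1,3,1,4,4],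
 [0,0,0,0,0,0,0,0,0,1,3,0,2,4,0,2,0,4,1,4,0,4,4,2,2,2,4,0,0,0,3,1,4,3,1,2,2,2,1,0,1,1,3,1,1,4,0,1,0,0,2,1,1,2,0,3,1,1,3,1,0,2,3,2,0,4,0,0,2,2,2,1,0,3,3,4,4,2,4,1,2,0,2,3,3,2,0,0,3,3,2,3,1,0,2,3,4,3,1,2,0,0,2,4,4,2,4,1,0,4,4],
 [0,0,0,0,0,0,0,0,0,0,0,2,3,0,1,1,0,0,1,2,0,2,4,1,0,2,1,3,1,3,4,2,4,1,2,2,1,3,1,4,4,1,0,1,3,2,0,0,2,0,0,4,3,1,1,4,2,1,1,4,1,3,0,2,3,2,2,2,3,1,3,3,3,2,3,2,3,4,2,4,4,2,2,3,4,1,2,3,0,3,0,1,0,2,2,3,2,3,3,3,4,3,1,1,0,0,2,3,3,0,2],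
 [0,0,0,0,0,0,0,0,0,3,0,3,0,2,1,0,0,2,1,4,0,0,1,0,3,3,2,2,4,1,0,1,3,0,1,3,1,3,4,2,4,4,2,3,2,1,0,4,1,0,0,1,2,4,3,1,4,0,3,3,1,0,2,1,0,3,2,0,4,3,2,0,2,4,4,4,2,4,0,3,4,3,0,1,2,2,0,0,1,4,0,3,4,1,0,0,0,0,3,4,0,0,0,3,3,1,3,4,2,0,3],
 [0,0,0,0,0,0,0,0,0,4,0,2,2,4,0,2,0,1,4,4,0,0,4,1,0,4,3,2,3,2,4,3,0,4,1,2,4,1,0,2,2,4,0,0,4,1,4,4,4,4,4,0,0,3,2,1,1,0,1,2,1,3,3,4,1,2,1,1,0,4,3,4,0,4,0,0,0,3,2,4,3,0,0,0,3,4,2,2,0,3,3,1,2,1,4,2,4,1,4,0,2,0,3,0,1,2,2,2,0,3,3],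
 [0,0,0,0,0,0,0,0,0,0,3,1,0,4,3,2,0,2,1,2,0,1,1,1,1,2,0,2,3,3,3,1,1,1,1,0,4,2,3,0,2,3,1,4,3,3,2,2,4,3,4,0,3,4,3,0,4,0,3,2,3,2,1,4,0,4,0,0,3,3,3,4,4,3,3,4,4,4,1,4,4,2,1,3,0,3,2,2,4,3,1,1,1,2,1,4,4,0,2,4,0,3,3,4,4,2,3,3,0,0,4],
 [0,0,0,0,0,0,0,0,0,3,2,1,4,4,0,0,0,2,3,0,0,3,1,1,2,1,3,1,3,4,0,1,1,0,4,4,3,1,4,0,1,0,2,4,3,1,1,3,4,4,1,2,1,0,2,4,1,2,1,1,3,3,3,0,2,2,3,4,2,4,4,2,1,4,0,3,0,1,1,1,0,0,1,0,1,3,1,0,0,0,4,2,0,4,4,3,3,1,0,1,1,2,0,2,0,2,4,1,4,0,2],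
 [0,0,0,0,0,0,0,0,0,0,3,0,2,4,1,1,0,0,3,2,0,4,4,2,0,2,0,2,0,0,2,4,2,3,3,1,2,2,1,3,4,2,2,0,1,1,3,0,4,3,0,1,0,4,2,0,1,2,0,1,4,2,4,0,0,0,4,2,2,0,0,2,4,4,1,3,4,2,2,2,0,1,1,4,1,2,3,3,2,2,1,3,4,4,1,3,0,1,4,0,1,3,4,1,1,3,2,0,4,1,2],
 [0,0,0,0,0,0,0,0,0,4,1,2,2,4,2,3,0,2,3,3,0,2,0,2,4,2,3,2,3,2,3,2,3,3,2,4,4,4,2,0,4,2,3,3,2,2,1,1,4,3,2,2,2,3,0,4,0,4,0,4,2,4,0,4,1,1,2,0,4,3,1,3,1,2,2,0,2,1,3,4,4,3,4,0,2,1,1,4,2,2,2,2,4,0,3,3,4,2,1,1,0,0,3,1,3,3,3,0,3,2,0],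
 [0,0,0,0,0,0,0,0,0,0,1,1,4,1,0,0,0,3,4,3,0,2,2,2,3,3,4,2,4,4,1,0,4,4,2,2,1,0,0,3,2,0,3,4,1,1,0,4,1,4,0,1,4,3,4,1,3,2,1,4,1,1,1,1,2,2,2,3,4,0,3,1,2,2,0,4,4,1,4,3,0,2,1,4,4,1,3,4,0,1,1,3,4,0,3,1,1,1,4,2,0,2,2,3,0,4,1,3,0,4,2],
 [0,0,0,0,0,0,0,0,0,0,0,1,3,3,4,2,0,2,0,2,0,0,3,0,1,4,1,0,3,2,1,2,2,4,4,1,3,4,2,1,3,4,4,2,4,2,3,0,1,1,2,2,0,0,4,3,2,1,2,3,1,0,4,2,2,3,0,4,1,2,0,2,1,0,0,2,4,2,0,2,3,1,4,4,0,1,4,2,3,4,3,3,3,1,1,0,1,3,4,1,3,0,4,3,3,0,2,1,3,0,1],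
 [0,0,0,0,0,0,0,0,0,0,1,0,0,1,4,1,0,2,1,4,0,2,3,4,0,3,1,4,1,1,1,4,1,4,2,0,1,4,0,0,3,0,4,3,3,2,0,4,4,4,1,2,0,3,3,1,1,4,4,3,2,4,1,0,0,2,1,2,0,4,4,1,4,1,2,1,1,2,2,0,1,4,0,1,1,1,0,3,3,0,4,1,3,4,1,0,0,2,4,2,2,3,3,1,4,2,3,1,1,3,0],
 [0,0,0,0,0,0,0,0,0,0,2,2,1,2,3,0,0,4,2,0,0,4,0,1,0,4,2,3,3,3,4,1,1,3,1,0,2,0,3,0,1,3,0,1,0,2,1,4,2,2,4,0,0,4,2,4,2,0,2,2,4,1,4,1,0,3,4,3,3,2,3,4,1,1,1,1,0,1,2,1,0,2,1,4,2,0,3,1,2,2,3,1,4,0,1,1,4,0,4,2,2,0,1,4,3,4,3,1,1,3,4],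
 [0,0,0,0,0,0,0,0,0,4,0,4,0,3,2,4,0,4,3,1,0,0,0,3,2,4,3,4,1,0,2,4,0,3,4,4,0,0,1,0,0,0,1,2,2,1,2,1,2,1,1,2,2,1,1,3,0,0,2,0,3,2,3,2,1,0,0,0,4,1,3,2,1,0,1,0,0,1,0,3,4,4,0,1,1,3,3,3,1,1,2,4,3,4,3,4,0,0,2,4,3,2,4,2,0,4,3,2,2,3,2],
 [0,0,0,0,0,0,0,0,0,2,1,1,4,3,1,4,0,0,4,4,0,1,3,1,2,4,0,0,4,2,0,4,4,3,2,2,1,4,1,0,3,1,4,3,0,0,2,2,2,1,2,2,3,3,4,0,0,3,4,0,1,3,4,1,1,2,1,2,3,2,0,1,4,4,2,1,1,0,2,0,1,0,0,3,3,3,0,1,4,0,1,3,4,3,1,1,2,4,1,4,0,0,1,0,2,0,3,0,3,0,1],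
 [0,0,0,0,0,0,0,0,0,1,1,1,4,3,4,3,0,2,1,0,0,1,4,3,1,2,0,4,4,0,1,2,1,1,1,0,3,1,0,3,2,1,2,4,3,1,0,0,4,0,3,0,1,1,2,2,1,1,4,1,0,3,2,1,0,3,0,4,2,3,3,2,3,3,4,0,2,2,3,1,2,1,3,3,1,0,0,1,3,3,0,1,1,2,0,1,1,3,4,4,2,3,3,0,1,1,2,1,0,3,2],
 [0,0,0,0,0,0,0,0,0,1,3,1,3,1,1,4,0,0,3,0,0,4,4,4,1,3,1,2,0,4,4,3,0,2,0,3,2,2,0,1,2,3,3,1,2,2,2,2,1,1,4,3,0,1,1,3,1,0,3,0,1,2,4,3,4,1,0,3,4,1,2,0,2,3,0,0,1,0,4,1,1,4,4,1,2,3,2,4,2,4,3,1,2,1,4,4,0,0,3,1,4,1,4,0,2,4,4,3,2,0,0],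
 [0,0,0,0,0,0,0,0,0,0,4,0,4,3,1,2,0,3,4,1,0,2,1,1,1,4,4,1,4,1,4,0,0,3,1,4,4,2,2,4,2,3,3,2,1,1,4,3,2,1,3,4,4,4,2,0,1,4,3,2,1,4,1,4,0,0,3,3,4,0,0,3,4,3,0,4,2,1,3,1,2,0,4,2,0,0,1,2,0,4,0,2,2,2,0,3,1,2,3,0,4,1,1,4,2,1,1,2,3,4,3],
 [0,0,0,0,0,0,0,0,0,3,4,3,3,1,4,3,0,3,2,3,0,3,0,1,3,2,2,3,4,0,3,3,1,3,2,2,0,3,1,0,3,2,4,2,2,3,3,4,4,3,3,1,1,1,3,3,2,1,4,1,0,1,3,3,3,0,2,3,4,1,2,4,0,3,0,3,1,1,1,3,4,0,0,3,1,1,3,4,2,0,1,4,1,1,4,3,3,3,3,3,1,1,3,4,3,3,4,3,2,4,4],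
 [0,0,0,0,0,0,0,0,0,4,3,1,0,3,1,1,0,0,2,3,0,2,4,1,3,2,1,2,1,0,2,3,1,3,3,1,1,1,2,2,2,2,3,2,2,3,3,4,2,3,2,4,2,1,4,2,0,1,3,4,0,3,3,4,4,1,3,4,3,4,1,4,4,4,1,2,4,3,4,3,4,3,0,4,3,1,2,4,4,3,2,4,0,3,4,0,2,3,1,0,4,2,3,0,1,2,1,1,3,4,4],
 [0,0,0,0,0,0,0,0,0,1,2,1,2,4,0,2,0,2,4,0,0,2,3,2,4,2,4,2,4,3,2,4,4,1,1,4,0,3,1,4,0,4,4,3,3,0,2,1,1,0,2,3,2,3,4,4,1,0,2,4,0,3,4,3,3,3,1,4,3,2,2,3,2,3,3,2,0,0,2,0,1,2,3,3,0,1,1,0,4,2,4,1,4,1,2,1,3,0,1,2,0,4,4,4,1,0,0,4,2,2,0],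
 [0,0,0,0,0,0,0,0,0,2,3,3,2,1,3,3,0,0,3,3,0,4,0,3,0,0,1,0,4,4,1,2,3,4,4,1,3,1,4,3,4,1,2,3,2,0,4,3,2,0,0,0,1,3,1,4,3,0,2,0,3,3,0,0,3,2,1,2,3,0,3,4,2,4,2,4,2,0,1,0,1,1,3,3,3,3,1,3,0,0,3,0,1,3,4,0,2,0,2,3,0,4,3,3,3,3,4,2,3,0,4],
 [0,0,0,0,0,0,0,0,0,2,4,2,2,0,3,0,0,1,0,2,0,0,1,3,0,0,3,2,0,0,1,4,3,4,0,2,4,0,2,4,1,2,0,0,2,0,3,3,1,0,0,0,4,0,0,2,3,1,4,0,1,0,1,4,2,0,2,2,3,2,4,1,4,0,4,0,1,2,1,3,3,2,3,2,0,1,3,4,2,1,1,4,3,2,4,0,4,3,2,4,4,1,2,3,1,0,2,1,3,4,1],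
 [0,0,0,0,0,0,0,0,0,1,1,3,3,0,4,4,0,3,1,3,0,4,1,2,3,1,1,1,1,3,0,3,3,4,3,2,0,4,1,0,4,2,1,0,1,3,4,0,4,3,2,1,0,3,0,4,1,3,0,3,3,3,1,0,2,3,2,0,2,3,0,2,1,1,3,1,0,3,4,0,3,3,0,2,4,2,2,1,1,0,4,3,2,3,4,1,1,4,4,2,0,2,1,3,1,3,1,3,0,1,3],
 [0,0,0,0,0,0,0,0,0,3,0,4,1,3,4,4,0,0,4,2,0,0,2,4,1,3,2,1,2,1,1,1,0,3,3,2,3,0,2,0,1,1,2,0,3,0,2,4,3,3,0,0,4,4,0,4,2,2,4,3,1,1,4,2,2,2,0,0,4,1,4,0,3,0,2,4,2,3,0,4,4,0,0,4,0,3,3,2,3,3,1,2,2,3,4,4,2,0,3,0,2,4,1,4,0,1,2,4,0,1,4],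
 [0,0,0,0,0,0,0,0,0,4,1,4,4,1,3,3,0,1,2,2,0,4,3,1,2,0,3,0,2,0,2,4,3,1,3,3,1,2,2,3,4,4,4,0,2,2,0,0,3,1,4,2,0,0,1,3,4,2,2,2,4,1,1,0,1,4,1,4,2,0,0,2,2,0,0,4,4,0,1,4,1,3,2,1,1,1,3,4,2,1,2,4,2,3,3,2,1,1,3,4,2,3,0,2,2,3,3,0,4,2,4],
 [0,0,0,0,0,0,0,0,0,3,2,1,4,1,4,4,0,3,2,4,0,2,1,0,0,4,4,3,4,3,2,4,0,3,0,3,2,2,4,4,2,0,1,1,2,2,3,4,0,3,2,3,3,0,1,2,2,1,3,0,3,1,2,0,0,0,3,4,0,1,0,1,0,2,4,4,0,4,2,1,3,0,1,2,1,4,0,0,3,0,4,2,1,2,2,3,1,2,2,3,0,3,1,2,4,3,2,2,0,4,3],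
 [0,0,0,0,0,0,0,0,0,4,3,4,4,0,1,0,0,1,1,2,0,4,3,0,0,1,2,1,3,1,1,1,3,4,4,3,3,4,2,4,1,1,3,2,4,2,4,2,4,3,4,4,0,0,2,4,3,4,2,2,2,2,4,2,1,3,3,4,1,4,0,1,2,3,1,1,3,4,0,3,0,3,2,2,1,1,3,4,0,1,4,1,0,1,1,2,0,2,0,4,1,3,2,1,2,3,0,4,4,4,3],
 [0,0,0,0,0,0,0,0,0,4,3,4,4,3,1,1,0,0,0,3,0,2,1,1,1,2,3,1,0,1,2,3,1,1,1,1,1,4,1,0,3,0,0,3,1,4,2,4,3,0,4,1,3,2,2,4,2,1,0,1,1,0,0,4,0,0,1,0,1,0,4,3,0,0,2,2,4,3,4,4,0,4,1,2,3,1,0,0,2,0,2,1,2,4,0,2,3,3,0,3,2,2,4,2,1,4,0,0,1,4,0],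
 [0,0,0,0,0,0,0,0,0,0,0,3,3,0,2,4,0,0,0,0,0,2,0,2,3,0,3,0,2,0,3,1,2,3,0,4,0,4,1,1,2,4,1,3,0,0,4,3,0,1,3,4,3,2,3,3,3,2,3,1,3,3,4,3,1,3,3,3,1,3,0,0,0,2,1,0,0,4,2,1,2,0,4,3,3,4,3,2,1,1,1,3,1,2,1,0,0,1,2,1,0,4,0,0,0,0,3,4,2,0,4],
 [0,0,0,0,0,0,0,0,0,3,0,2,2,4,4,3,0,1,0,0,0,4,4,2,4,4,0,1,2,2,1,2,2,1,4,2,0,3,2,3,4,3,3,2,3,2,1,3,2,2,0,4,3,3,0,2,1,0,0,4,1,1,1,0,1,4,1,0,0,3,0,1,0,4,2,0,0,1,1,4,2,4,2,3,0,4,2,0,4,1,3,4,4,4,2,3,3,0,1,3,4,2,3,0,3,2,2,3,2,1,4],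
 [0,0,0,0,0,0,0,0,0,2,0,4,3,3,1,0,0,1,3,1,0,1,4,3,0,1,1,0,1,4,0,3,2,4,1,1,0,0,0,1,4,4,3,2,4,3,0,0,3,1,1,4,4,2,4,2,2,0,3,3,0,1,3,4,3,3,1,2,2,1,1,0,1,0,0,3,0,1,2,1,3,0,3,3,3,3,1,3,0,2,2,3,3,0,4,4,1,1,4,0,2,2,1,1,0,0,0,1,3,1,2],
 [0,0,0,0,0,0,0,0,0,1,3,0,2,4,4,2,0,1,3,3,0,4,0,3,2,3,1,1,3,3,4,0,2,1,2,2,3,2,2,1,0,0,1,1,0,0,4,0,0,1,2,0,4,4,4,2,2,0,1,3,4,0,3,2,0,1,1,4,1,2,3,0,0,2,2,2,0,3,0,2,3,2,4,4,0,2,1,3,3,3,3,1,2,4,4,2,3,0,2,1,1,2,1,3,0,1,3,2,0,4,0],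
 [0,0,0,0,0,0,0,0,0,3,1,2,1,1,3,2,0,4,3,1,0,0,1,4,4,3,4,1,1,4,0,1,4,0,2,3,3,1,4,4,2,4,0,2,1,3,2,3,0,2,1,2,4,4,2,2,4,2,3,3,4,4,4,2,4,2,0,3,2,1,4,4,4,3,2,2,1,0,1,3,4,0,4,0,0,4,4,4,3,2,4,3,4,3,2,2,4,1,1,4,3,2,1,0,1,4,0,1,2,1,2],
 [0,0,0,0,0,0,0,0,0,0,0,3,4,3,3,3,0,2,1,4,0,0,0,4,3,3,3,0,1,2,1,2,3,1,2,0,4,3,1,4,4,2,2,2,3,4,3,3,1,2,0,1,4,1,1,2,3,0,2,2,3,3,3,4,4,0,1,4,1,3,2,4,4,2,4,3,1,0,2,1,0,1,2,1,1,3,0,2,2,2,4,0,2,4,4,1,2,0,1,4,3,3,2,4,1,1,2,1,4,4,0],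
 [0,0,0,0,0,0,0,0,0,2,3,0,3,3,0,4,0,3,1,3,0,4,0,3,1,2,4,4,3,0,0,1,3,3,1,2,1,4,4,0,1,0,2,1,3,0,3,3,2,3,1,1,0,3,3,4,4,2,2,4,1,0,4,0,1,2,1,4,4,2,3,0,0,3,3,3,2,3,2,0,2,4,4,3,3,2,3,2,0,2,1,4,4,4,1,4,3,1,2,4,3,2,0,1,4,1,1,3,3,3,3],
 [0,0,0,0,0,0,0,0,0,3,0,4,3,0,0,1,0,3,0,4,0,0,4,4,4,3,4,4,2,3,0,0,3,0,3,2,1,2,2,4,3,4,0,0,4,1,2,1,0,2,0,1,3,2,4,1,0,3,2,3,0,4,2,0,2,0,1,4,1,2,2,3,1,1,2,4,3,1,4,4,1,0,3,3,1,3,3,2,4,1,3,4,4,2,4,2,0,4,3,3,4,1,3,3,3,4,1,4,1,2,4],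
 [0,0,0,0,0,0,0,0,0,2,0,2,2,1,3,4,0,4,0,2,0,3,1,3,2,4,3,1,4,1,0,4,0,3,3,4,4,3,0,0,2,2,4,4,4,3,4,4,2,1,1,1,4,0,3,3,2,4,2,0,0,4,1,2,2,3,4,0,2,1,1,0,2,2,2,3,4,3,0,1,0,1,0,4,3,1,0,2,2,1,0,0,2,3,2,3,3,2,0,0,2,1,0,2,4,3,1,1,0,2,3],
 [0,0,0,0,0,0,0,0,0,3,2,0,1,0,1,3,0,0,3,4,0,3,0,1,4,2,4,0,2,1,1,3,2,0,2,0,2,2,2,3,4,2,4,4,0,3,3,4,4,1,0,0,3,1,1,3,3,1,2,2,4,0,4,4,0,4,3,1,4,4,2,0,1,3,4,1,0,2,0,0,0,3,3,0,4,4,0,0,2,0,4,2,1,1,3,4,1,3,4,3,1,4,0,0,1,0,2,0,2,4,4],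
 [0,0,0,0,0,0,0,0,0,1,4,3,1,0,4,0,0,3,2,1,0,1,2,0,4,4,2,0,4,3,4,3,0,0,3,4,4,0,1,1,2,2,4,3,2,0,2,1,4,0,3,0,2,3,2,3,0,2,3,1,2,3,3,4,2,3,4,3,1,3,2,0,3,4,3,3,3,4,3,2,2,1,4,3,2,2,4,4,0,3,0,1,1,4,0,1,3,1,4,4,3,4,1,3,3,3,4,0,4,4,0],
 [0,0,0,0,0,0,0,0,0,3,2,4,3,3,3,0,0,4,4,3,0,4,2,1,3,2,1,1,3,1,1,3,3,1,3,3,2,1,2,1,2,3,0,1,1,2,3,2,1,0,1,1,1,0,1,3,4,0,3,0,4,3,1,3,3,1,3,3,2,1,0,2,1,3,3,1,3,2,4,2,3,4,0,1,1,0,4,1,1,3,3,0,2,3,3,4,4,0,2,2,0,0,3,4,3,1,4,1,3,2,1],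
 [0,0,0,0,0,0,0,0,0,3,0,1,2,2,3,2,0,4,4,2,0,4,3,1,1,1,2,0,2,2,1,3,0,4,2,4,3,2,3,0,2,3,3,2,0,4,1,0,3,1,1,4,2,4,2,1,1,4,3,2,3,0,3,0,3,1,1,4,2,3,4,1,4,4,3,3,3,3,2,3,3,3,2,0,0,2,4,4,3,0,3,3,2,2,3,1,3,2,0,3,2,4,2,4,0,2,0,2,4,2,0],
 [0,0,0,0,0,0,0,0,0,3,3,1,3,2,1,0,0,3,3,4,0,4,0,0,1,2,1,2,4,2,3,0,4,1,2,0,3,1,0,0,0,3,0,0,4,0,4,2,3,0,2,2,1,3,2,0,1,1,4,1,1,0,1,4,2,1,4,3,2,0,3,4,2,2,0,4,2,2,0,2,1,1,2,2,4,3,4,3,3,4,1,3,2,4,4,2,0,3,4,0,2,4,1,0,1,4,4,0,4,3,3],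
 [0,0,0,0,0,0,0,0,0,4,2,3,0,0,3,3,0,1,2,1,0,0,0,4,2,1,4,0,4,3,3,1,4,3,3,3,2,0,1,0,0,0,0,2,3,4,1,2,2,2,2,1,4,1,1,2,4,4,0,2,3,2,2,4,3,2,4,0,0,3,1,1,1,0,3,1,2,3,3,0,1,2,1,4,0,4,3,0,4,2,0,2,3,1,1,0,0,2,2,1,2,0,2,0,1,1,3,0,4,4,0],
 [0,0,0,0,0,0,0,0,0,1,1,3,2,2,0,0,0,3,2,3,0,0,0,2,1,1,0,4,0,1,2,0,3,1,1,0,3,4,0,3,2,0,4,3,1,1,1,0,0,1,1,2,0,3,4,0,4,2,0,4,4,4,0,0,1,1,4,2,1,1,0,2,0,2,2,4,3,3,4,4,3,3,3,4,0,1,4,1,3,0,0,4,4,0,1,1,2,1,3,3,0,0,1,1,4,4,1,3,3,3,1],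
 [0,0,0,0,0,0,0,0,0,0,0,4,1,4,1,2,0,4,0,4,0,2,4,1,0,4,2,3,1,4,4,4,0,2,0,3,1,1,1,2,1,0,4,1,1,1,1,0,4,4,2,3,4,2,0,2,3,2,0,0,0,4,4,0,1,2,0,3,4,4,1,1,3,1,2,0,0,3,0,4,3,1,3,0,4,2,1,1,0,0,1,0,1,1,4,4,4,1,4,4,4,2,3,4,0,4,1,0,4,2,2],
 [0,0,0,0,0,0,0,0,0,0,1,1,1,0,0,3,0,3,3,4,0,4,2,4,1,2,1,0,4,4,1,2,1,4,0,3,1,2,4,1,4,0,4,4,2,2,4,2,0,2,4,2,0,0,1,2,2,2,2,0,0,3,2,1,3,3,3,2,2,1,3,2,4,0,1,4,1,4,3,4,1,1,2,3,2,1,2,2,4,0,4,2,2,0,3,1,3,1,1,1,3,4,4,4,0,2,3,2,0,3,0],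
 [0,0,0,0,0,0,0,0,0,3,1,1,4,0,4,4,0,4,4,2,0,0,3,2,0,3,4,2,3,4,3,4,0,1,1,3,4,2,0,3,0,0,0,3,0,4,0,3,3,0,1,0,1,4,2,0,0,1,3,2,0,3,4,3,1,4,2,4,2,1,1,0,0,4,2,1,3,1,3,4,2,2,2,2,4,3,2,3,0,0,2,3,0,0,4,1,1,3,0,2,3,0,1,2,2,0,4,3,0,4,4],
 [0,0,0,0,0,0,0,0,0,1,2,4,1,3,0,3,0,1,3,3,0,4,2,1,0,3,1,0,2,0,0,3,3,1,3,2,0,0,4,2,2,2,2,3,1,0,0,2,0,3,1,2,2,4,4,0,0,0,2,1,1,1,0,1,4,2,3,4,3,0,1,3,1,2,0,1,4,3,0,2,4,0,2,4,1,4,0,2,4,4,1,4,2,1,2,2,1,0,3,2,2,1,2,1,2,3,3,4,4,1,1],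
 [0,0,0,0,0,0,0,0,0,0,0,0,0,0,0,0,0,0,0,0,0,0,0,0,0,0,0,0,0,0,0,0,0,0,0,0,0,0,0,0,0,0,0,0,0,0,0,0,0,0,0,0,0,0,0,0,0,0,0,0,0,0,0,0,0,0,0,0,0,0,0,0,0,0,0,0,0,0,0,0,0,0,0,0,0,0,0,0,0,0,0,0,0,0,0,0,0,0,0,0,0,0,0,0,4,4,3,3,4,4,4],
 [0,0,0,0,0,0,0,0,0,0,0,0,0,0,0,0,0,0,0,0,0,0,0,0,0,0,0,0,0,0,0,0,0,0,0,0,0,0,0,0,0,0,0,0,0,0,0,0,0,0,0,0,0,0,0,0,0,0,0,0,0,0,0,0,0,0,0,0,0,0,0,0,0,0,0,0,0,0,0,0,0,0,0,0,0,0,0,0,0,0,0,0,0,0,0,0,0,0,0,0,0,0,0,0,4,3,1,3,0,1,0],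
 [0,0,0,0,0,0,0,0,0,0,0,0,0,0,0,0,0,0,0,0,0,0,0,0,0,0,0,0,0,0,0,0,0,0,0,0,0,0,0,0,0,0,0,0,0,0,0,0,0,0,0,0,0,0,0,0,0,0,0,0,0,0,0,0,0,0,0,0,0,0,0,0,0,0,0,0,0,0,0,0,0,0,0,0,0,0,0,0,0,0,0,0,0,0,0,0,0,0,0,0,0,0,0,0,0,0,1,1,3,0,0],
 [0,0,0,0,0,0,0,0,0,0,0,0,0,0,0,0,0,0,0,0,0,0,0,0,0,0,0,0,0,0,0,0,0,0,0,0,0,0,0,0,0,0,0,0,0,0,0,0,0,0,0,0,0,0,0,0,0,0,0,0,0,0,0,0,0,0,0,0,0,0,0,0,0,0,0,0,0,0,0,0,0,0,0,0,0,0,0,0,0,0,0,0,0,0,0,0,0,0,0,0,0,0,0,0,0,0,2,3,2,2,2],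
 [0,0,0,0,0,0,0,0,0,0,0,0,0,0,0,0,0,0,0,0,0,0,0,0,0,0,0,0,0,0,0,0,0,0,0,0,0,0,0,0,0,0,0,0,0,0,0,0,0,0,0,0,0,0,0,0,0,0,0,0,0,0,0,0,0,0,0,0,0,0,0,0,0,0,0,0,0,0,0,0,0,0,0,0,0,0,0,0,0,0,0,0,0,0,0,0,0,0,0,0,0,0,0,0,0,0,2,4,4,1,4],
 [0,0,0,0,0,0,0,0,0,0,0,0,0,0,0,0,0,0,0,0,0,0,0,0,0,0,0,0,0,0,0,0,0,0,0,0,0,0,0,0,0,0,0,0,0,0,0,0,0,0,0,0,0,0,0,0,0,0,0,0,0,0,0,0,0,0,0,0,0,0,0,0,0,0,0,0,0,0,0,0,0,0,0,0,0,0,0,0,0,0,0,0,0,0,0,0,0,0,0,0,0,0,0,0,0,0,0,0,0,4,4],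
 [0,0,0,0,0,0,0,0,0,0,0,0,0,0,0,0,0,0,0,0,0,0,0,0,0,0,0,0,0,0,0,0,0,0,0,0,0,0,0,0,0,0,0,0,0,0,0,0,0,0,0,0,0,0,0,0,0,0,0,0,0,0,0,0,0,0,0,0,0,0,0,0,0,0,0,0,0,0,0,0,0,0,0,0,0,0,0,0,0,0,0,0,0,0,0,0,0,0,0,0,0,0,0,0,0,0,0,0,0,4,3]
]

/-- named matrix 4 -/
def nm4 : List (List ℕ) := [
 [0,1,0,0,0,1,4,4,0,0,3,0,2,0,1,0,2,0,2,0,3,0,2,0,3,3,2,4,3,3,3,4,0,0,0,2,3,1,2,4,0,3,1,3,4,3,2,1,2,2,2,3,4,0,3,4,2,3,2,0,1,3,2,1,2,1,0,1,1,0,0,0,4,4,0,2,4,2,4,2,3,1,0,4,1,3,3,1,2,0,2,4,1,3,0,1,0,0,2,0,0,1,1,3,3,1,4,4,3,1,3],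
 [0,0,4,0,2,2,2,0,0,4,0,0,3,0,0,2,2,1,1,2,2,4,0,1,2,4,3,2,3,2,4,2,2,1,1,1,3,0,3,2,3,4,0,0,4,4,0,3,2,4,4,1,2,4,0,4,0,1,4,2,3,4,1,2,2,2,0,4,1,3,2,4,4,3,0,4,1,4,3,3,1,4,3,3,2,1,0,0,4,3,4,2,3,2,0,3,0,4,0,3,0,1,1,1,1,0,4,1,4,1,4],
 [0,4,1,1,2,2,3,2,1,3,2,0,1,0,1,4,2,0,3,0,1,1,0,4,1,4,3,4,4,3,3,4,0,0,3,4,2,2,2,0,2,2,4,2,4,0,4,3,0,1,2,3,4,4,0,2,3,1,2,3,4,1,2,4,0,2,2,0,4,3,2,2,0,4,1,0,3,4,3,2,2,0,0,2,2,1,1,4,3,2,4,2,1,4,0,3,1,1,2,3,2,0,3,0,0,1,1,1,2,3,0],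
 [0,3,4,1,4,1,4,0,3,4,0,1,0,2,1,0,3,2,1,4,2,2,3,2,3,4,2,2,1,4,0,3,1,2,0,2,3,4,1,2,1,2,3,2,2,3,1,3,3,2,4,2,2,3,4,0,4,0,1,1,3,4,4,2,0,0,3,3,1,3,4,0,1,1,1,1,2,0,3,2,3,3,1,4,0,4,0,0,4,2,4,3,0,0,2,0,4,1,3,1,1,4,0,2,1,0,2,0,3,0,4],
 [3,2,3,1,2,1,0,3,1,3,3,4,4,3,3,4,0,1,2,3,3,0,4,3,4,2,0,1,3,1,1,1,0,3,1,0,0,3,4,3,2,4,3,4,0,1,1,2,1,4,0,1,2,2,1,2,3,2,1,0,1,0,0,3,3,2,3,1,2,2,3,3,4,0,1,3,0,2,2,0,1,0,1,3,0,0,0,4,1,2,0,0,4,4,1,1,4,2,2,1,3,0,0,2,3,0,3,3,4,4,2],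
 [0,1,1,4,3,2,4,2,3,3,4,1,1,0,0,1,0,3,2,4,1,2,2,0,2,3,0,2,2,1,1,1,2,4,3,1,0,3,2,2,0,3,3,1,4,1,0,3,3,0,2,4,4,4,3,1,0,0,3,1,4,1,4,3,0,3,1,3,2,3,2,2,4,1,2,0,1,0,4,4,0,1,4,3,1,2,2,2,4,2,0,1,1,4,2,4,2,2,0,4,2,4,1,0,3,1,4,1,4,1,3],
 [0,1,4,4,4,0,3,4,3,1,0,2,1,4,3,0,3,4,0,4,3,1,0,2,2,0,2,2,3,2,4,1,0,1,2,2,3,4,4,3,1,3,2,4,1,2,2,2,4,2,4,2,1,1,0,2,2,2,2,3,1,3,1,1,2,2,3,1,3,0,3,1,2,0,0,1,4,4,4,2,1,3,0,3,1,1,3,3,1,4,2,3,1,4,4,3,1,4,1,0,1,1,0,3,2,4,2,2,1,3,4],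
 [4,0,3,4,4,2,3,4,2,3,4,3,2,4,2,2,0,0,4,0,0,3,1,4,3,3,2,3,1,1,0,1,1,3,3,1,0,2,3,1,3,4,1,2,2,4,0,3,4,1,2,1,1,0,3,0,4,1,3,2,2,0,2,4,3,2,3,0,2,4,1,3,4,0,0,2,1,4,0,2,3,0,2,2,4,4,2,1,3,4,0,4,4,1,1,4,4,2,3,3,2,3,0,4,0,1,4,3,3,1,4],
 [4,4,4,3,4,3,0,1,3,1,2,3,3,3,4,2,3,1,2,0,2,4,3,2,0,0,0,3,4,0,2,2,4,4,0,0,4,2,3,1,0,4,4,2,4,3,2,2,3,0,3,4,0,3,1,2,0,4,3,0,2,4,2,3,0,2,3,2,4,4,3,3,0,1,1,3,0,1,1,0,2,2,0,2,3,0,3,0,2,3,1,2,2,0,0,0,1,1,2,4,0,2,1,3,2,1,0,1,1,1,1],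
 [1,1,1,2,2,0,0,3,2,2,0,3,2,4,2,1,0,3,1,2,3,3,3,4,4,3,1,0,1,1,0,2,0,3,0,3,3,1,1,4,0,4,2,0,3,1,1,1,3,4,1,4,4,4,4,1,1,0,1,2,0,1,0,3,2,2,3,0,1,1,1,3,2,2,1,4,0,3,2,0,4,2,0,2,4,0,3,4,4,1,2,1,1,0,3,1,0,4,2,0,4,4,2,1,3,4,2,1,3,2,4],
 [0,3,1,0,1,2,2,1,3,4,0,0,1,1,0,3,2,2,0,4,1,2,2,4,3,0,4,2,0,2,0,2,0,2,1,1,0,4,1,0,3,2,2,1,4,1,4,1,3,0,4,0,1,4,4,4,0,1,1,3,4,4,2,1,0,0,2,3,1,1,3,4,1,4,4,2,1,2,3,2,0,4,1,3,2,4,4,0,3,4,4,1,1,3,2,4,4,3,0,2,4,3,0,3,0,4,4,2,0,2,4],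
 [3,0,0,2,3,2,4,0,3,3,4,1,3,4,2,4,3,0,0,4,1,1,4,2,1,1,3,1,0,2,0,0,3,1,0,4,2,2,1,2,0,3,1,3,3,4,1,0,1,3,0,3,0,2,0,1,3,3,2,1,0,3,0,4,4,1,3,2,2,1,0,1,1,0,2,4,3,3,2,0,2,4,1,3,0,4,1,2,1,2,4,0,2,2,1,2,4,1,4,4,1,1,0,3,2,3,4,2,0,0,2],
 [0,1,3,2,1,2,4,4,4,3,4,1,3,1,0,3,3,4,2,0,4,1,2,0,0,1,1,1,2,4,4,0,1,2,0,4,3,0,1,1,3,1,4,2,2,3,0,2,1,0,3,4,3,0,1,2,0,3,1,0,0,3,1,0,3,0,2,3,2,4,2,1,0,0,3,3,2,0,2,3,3,3,3,0,3,1,0,2,2,2,0,2,3,1,4,1,4,0,3,4,0,0,1,1,0,3,0,2,2,4,4],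
 [3,1,1,0,4,4,4,0,1,1,3,3,2,4,4,0,3,0,4,2,2,2,1,4,1,2,0,2,0,2,3,0,0,1,0,0,4,1,0,2,2,4,3,0,2,3,4,2,2,3,3,3,1,3,0,0,4,0,0,3,1,0,0,1,4,4,1,1,1,0,2,2,3,0,1,3,1,3,4,2,2,1,4,3,3,1,2,4,4,1,3,1,3,0,4,4,1,2,4,0,1,1,2,2,3,2,0,3,2,3,3],
 [4,2,1,0,0,2,1,4,4,1,0,3,4,1,0,4,0,3,0,1,4,1,0,0,4,0,3,1,4,0,4,0,1,3,2,2,2,0,4,0,4,3,4,0,3,4,0,1,0,4,1,0,1,1,0,2,2,2,0,2,3,3,3,4,1,2,1,1,0,0,1,0,4,2,0,4,3,4,2,2,3,4,0,3,4,1,3,0,3,3,3,1,4,0,1,4,1,3,4,1,4,3,4,4,4,4,4,2,4,4,4],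
 [4,1,3,2,2,1,3,4,0,4,2,3,3,0,1,0,2,1,4,3,2,1,3,0,3,2,2,4,2,0,3,1,0,3,4,3,0,0,0,1,2,1,2,3,0,2,1,1,0,1,1,3,4,1,2,2,4,4,4,3,3,2,0,3,3,1,2,0,1,4,3,2,2,3,1,1,0,0,0,0,4,3,4,2,3,4,4,1,2,0,2,4,4,3,0,0,1,4,0,1,0,0,2,0,4,0,3,0,4,0,4],
 [4,0,0,3,4,4,4,4,2,3,1,2,4,4,1,3,0,1,0,3,3,0,1,3,1,2,1,1,0,4,0,0,1,2,2,3,2,0,4,1,3,0,1,3,4,0,4,4,3,2,1,2,0,1,3,0,0,3,3,2,4,3,2,3,1,2,0,2,3,3,3,4,1,3,4,1,3,2,3,0,3,1,0,2,0,3,1,4,2,3,4,2,1,1,3,2,4,0,4,2,0,4,0,1,3,0,0,0,0,3,2],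
 [4,1,2,0,1,0,2,4,1,3,1,3,2,1,2,1,3,2,4,0,0,2,0,1,3,2,2,2,1,3,1,1,0,2,3,0,4,4,2,4,0,3,4,0,1,4,3,4,3,4,0,3,2,1,2,2,3,1,0,0,0,1,0,4,2,0,4,4,3,2,1,2,1,0,3,2,4,3,3,3,2,1,4,4,3,2,4,0,1,4,0,4,1,3,3,4,2,3,4,0,0,1,1,3,3,4,3,3,1,4,2],
 [4,4,3,0,3,0,1,2,1,3,3,4,3,3,0,3,1,0,1,4,1,3,2,4,1,2,4,0,2,3,1,2,4,3,0,4,2,4,0,1,0,1,3,4,3,1,4,1,4,0,2,0,4,2,4,0,4,4,0,4,2,4,3,0,4,0,4,2,2,2,1,0,2,1,2,0,0,4,4,0,4,4,3,2,1,0,1,0,3,1,2,1,3,1,1,2,2,0,3,4,2,2,0,1,2,3,3,3,2,3,3],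
 [4,2,2,4,2,4,0,1,4,3,1,3,0,1,1,2,3,3,0,1,3,1,3,2,3,1,3,3,2,4,0,4,2,0,1,4,0,0,4,2,4,4,3,3,1,2,0,4,3,4,4,3,4,0,2,3,1,2,2,0,3,1,1,1,3,4,2,0,3,1,0,3,4,3,3,4,4,1,2,0,2,3,3,1,0,0,0,3,0,2,0,4,1,1,4,0,4,0,0,0,3,1,3,0,4,3,2,2,4,0,3],
 [1,3,0,4,2,0,0,2,2,4,3,0,4,3,3,4,3,4,3,3,3,2,0,3,2,0,3,0,0,1,2,1,0,1,3,0,3,2,3,0,4,0,2,0,1,0,1,4,3,3,1,2,3,0,0,0,3,0,0,3,4,0,2,3,4,3,4,1,3,4,1,0,4,1,3,2,2,1,2,1,0,0,4,3,3,1,0,0,3,4,3,3,3,4,1,4,1,3,4,4,3,3,2,1,2,0,2,2,1,2,0],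
 [4,3,2,0,1,3,4,3,2,3,0,2,0,1,4,2,1,0,0,0,1,0,4,1,4,4,3,2,0,2,4,3,3,4,3,2,2,1,1,1,4,4,2,4,4,0,4,0,2,2,3,1,2,2,0,3,1,0,4,4,3,4,2,0,0,0,2,0,3,4,0,3,2,4,1,2,3,0,4,4,0,4,0,0,4,0,3,0,2,0,4,0,0,2,4,0,2,4,0,2,2,0,4,1,1,0,3,3,1,2,0],
 [4,3,1,4,2,3,2,4,1,0,4,0,3,3,3,1,4,0,1,4,4,2,2,1,1,0,2,3,1,0,1,0,2,4,0,3,3,0,2,3,4,2,1,1,0,3,2,3,1,0,1,2,1,0,0,0,0,1,3,4,2,0,2,2,1,3,1,0,2,3,0,4,2,2,1,4,4,1,3,2,2,2,4,0,2,2,2,3,0,3,2,2,3,3,0,4,1,0,0,2,1,0,0,2,0,0,0,4,1,1,3],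
 [2,3,0,1,4,0,4,2,1,3,0,4,1,4,0,2,3,2,3,4,2,2,3,0,3,3,0,0,4,4,0,0,1,3,0,4,0,4,4,3,1,0,2,4,1,0,2,2,1,4,4,2,0,2,3,3,1,2,2,0,0,2,2,3,3,0,1,3,2,2,2,4,4,3,1,0,0,0,4,3,2,0,3,2,2,0,3,2,1,2,4,1,4,3,1,1,0,3,3,4,4,2,2,3,1,0,2,0,1,0,4],
 [1,1,2,3,1,1,3,2,3,0,2,3,4,0,3,4,0,2,4,3,2,0,0,3,4,1,0,3,4,2,0,1,0,0,2,1,3,3,0,4,3,3,3,0,2,1,2,1,2,0,3,3,0,3,0,2,0,3,1,1,0,4,1,0,2,4,1,0,4,2,3,0,4,1,0,0,1,3,0,1,4,2,3,3,3,0,2,2,3,3,1,4,4,4,0,4,1,0,4,2,2,4,0,4,0,4,2,0,4,2,1],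
 [1,3,4,3,2,0,2,4,1,2,1,1,3,3,4,4,2,3,0,3,1,0,0,3,2,4,1,1,4,1,3,0,1,0,4,0,2,3,0,0,4,4,1,0,1,0,4,1,1,2,3,3,0,1,1,1,0,2,3,1,4,3,1,3,3,0,2,1,0,4,2,3,2,0,4,3,1,0,4,3,0,3,2,2,4,0,4,4,0,4,2,1,3,2,2,0,1,2,2,1,1,4,1,2,2,2,0,3,1,3,3],
 [2,1,2,4,2,0,3,2,2,1,1,2,1,4,1,1,0,0,3,4,4,4,4,0,0,3,4,2,2,1,0,0,3,1,4,4,1,2,2,0,2,4,3,0,0,4,2,3,3,2,3,1,4,1,0,1,2,1,1,3,0,2,0,2,2,1,2,1,2,1,2,2,3,2,4,0,0,3,3,4,0,3,1,1,1,4,2,1,3,1,4,3,1,4,1,3,2,3,0,2,1,0,4,2,4,4,2,4,2,3,1],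
 [4,1,0,3,2,4,4,2,0,4,2,0,1,1,1,2,0,4,2,2,0,3,3,2,2,1,1,3,4,4,3,3,4,3,2,0,3,0,4,1,1,3,2,2,1,3,3,4,4,3,0,3,4,0,2,3,1,3,3,0,1,1,0,3,0,4,0,2,0,1,0,1,2,2,4,4,1,4,0,4,1,1,0,2,0,3,1,4,3,0,2,3,2,0,0,2,1,4,0,2,1,2,1,3,0,2,0,0,2,0,4],
 [3,3,4,2,1,2,2,4,1,2,0,4,0,1,3,0,2,3,4,1,4,1,4,3,0,4,1,2,0,2,2,2,1,0,2,4,1,2,1,1,2,1,3,0,4,0,2,1,3,2,0,1,2,3,2,3,1,2,0,3,3,1,2,1,0,2,2,1,0,2,3,0,0,2,2,3,0,1,2,1,3,4,4,1,2,0,3,2,1,1,0,0,3,1,1,0,2,0,3,2,4,4,2,3,4,1,3,0,3,4,1],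
 [0,1,0,3,0,2,4,3,4,0,1,1,4,4,1,4,0,0,3,2,2,1,4,1,1,3,3,0,1,4,4,4,0,3,1,0,3,0,1,1,2,0,3,4,1,0,4,2,3,0,1,4,3,2,2,2,0,3,3,4,2,0,0,3,0,3,1,2,4,2,4,4,1,0,3,2,4,4,2,2,2,2,0,4,3,3,4,3,3,4,0,3,0,1,1,0,4,2,3,2,0,0,3,4,1,1,2,3,3,3,0],
 [1,1,2,2,0,4,1,0,2,1,3,2,4,2,2,4,3,1,3,1,0,0,0,2,2,0,4,1,2,1,2,0,0,3,4,1,4,3,2,0,3,3,4,0,1,3,3,3,0,1,1,4,0,1,1,1,0,0,0,2,0,2,0,0,1,0,0,2,4,0,0,3,2,3,3,1,2,1,0,2,1,3,0,3,0,1,1,4,3,3,1,4,2,2,4,0,4,3,1,4,0,4,2,4,2,3,1,0,3,4,0],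
 [1,3,4,4,2,4,1,3,2,0,1,4,1,2,2,4,2,0,0,0,1,3,2,0,3,1,1,4,0,1,2,3,2,3,2,1,4,3,0,4,4,3,0,2,3,0,4,0,2,3,4,1,0,2,3,4,1,0,0,4,1,3,4,0,1,3,3,1,3,0,1,2,2,2,1,0,3,2,2,0,2,4,0,4,0,2,1,4,2,3,1,3,2,3,4,3,2,0,4,0,2,3,1,2,4,4,4,2,1,4,3],
 [2,1,0,4,1,2,3,2,4,3,1,1,2,3,3,0,2,2,1,2,3,0,1,0,0,4,1,1,0,4,1,4,4,3,0,4,0,3,3,3,1,0,2,1,1,0,4,1,3,0,4,4,2,2,3,2,1,2,2,0,2,2,1,2,1,2,4,4,3,3,1,2,3,4,0,3,1,2,2,2,0,2,0,0,1,3,1,1,1,0,0,2,1,3,3,4,2,4,1,2,2,4,4,0,4,3,4,4,0,2,0],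
 [0,3,2,3,4,2,4,2,0,3,2,4,0,4,3,3,2,0,1,3,2,4,3,2,1,0,2,2,1,3,0,4,4,0,0,0,0,1,4,3,1,4,3,1,0,2,1,4,1,2,2,1,1,0,2,2,1,2,4,3,1,4,1,1,3,1,4,2,4,2,2,0,1,1,1,0,4,2,1,3,0,1,2,3,3,2,2,3,4,2,3,4,3,2,3,0,1,2,3,1,0,1,0,2,3,4,2,4,2,1,3],
 [1,4,4,3,0,3,1,3,3,0,2,1,2,0,1,1,3,3,1,1,0,2,2,1,2,4,4,2,0,1,0,1,1,2,2,0,3,0,1,4,1,2,3,3,1,4,3,0,1,0,3,1,4,3,1,0,3,0,1,0,1,3,0,0,4,1,3,0,1,0,4,3,0,4,4,4,4,3,1,1,0,1,3,4,1,4,3,1,4,3,0,0,4,2,3,3,1,4,2,1,4,1,4,0,2,1,4,3,2,0,2],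
 [3,4,3,4,3,2,0,4,0,1,1,1,4,2,0,1,1,3,4,1,1,2,4,2,1,4,2,4,3,0,2,4,1,3,4,4,3,2,1,1,4,3,2,2,0,1,4,4,2,4,1,4,3,4,0,3,3,2,2,3,0,2,2,0,2,3,2,4,2,0,4,3,3,0,1,0,0,3,4,0,0,1,1,1,2,4,3,3,2,3,3,2,3,0,2,3,2,1,4,3,1,2,2,1,2,0,3,1,4,3,4],
 [3,4,0,4,0,3,4,1,2,4,1,1,3,0,2,3,0,2,2,3,1,4,2,4,1,3,0,4,3,2,2,0,1,2,0,4,4,2,2,2,2,2,3,3,1,4,3,0,1,3,2,3,0,3,4,1,2,3,3,0,1,3,2,3,3,1,4,2,2,3,0,0,3,1,3,3,4,4,2,0,1,2,2,4,2,4,0,3,2,2,4,1,1,4,4,2,1,1,3,0,4,2,4,2,0,2,1,2,4,1,0],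
 [4,2,1,1,0,3,0,4,1,2,2,3,3,2,1,3,0,3,1,4,3,2,3,0,4,3,2,4,0,4,3,1,1,4,3,4,3,1,1,0,4,2,2,4,1,0,1,0,2,0,4,2,1,3,1,1,4,3,4,0,4,3,1,1,4,4,3,0,2,3,4,1,1,4,0,4,1,2,3,4,2,1,1,4,0,1,0,2,0,0,4,1,2,4,2,2,0,0,1,3,3,3,2,2,0,4,3,0,1,4,0],
 [3,0,1,3,2,0,4,2,3,1,3,2,1,4,3,4,0,4,3,4,0,3,4,0,0,1,0,2,1,1,3,1,2,1,4,2,2,0,4,4,0,3,3,2,3,0,0,4,2,2,1,4,4,0,2,2,2,2,4,2,4,4,1,3,3,0,0,1,2,3,0,4,4,4,1,1,2,3,3,3,3,1,2,0,0,4,2,3,0,0,3,3,3,4,1,0,4,2,4,0,4,0,3,2,0,1,0,4,0,0,0],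
 [1,1,1,4,1,4,1,3,2,2,3,3,2,2,2,2,1,2,2,2,3,3,3,4,0,3,2,2,0,2,4,1,3,2,3,0,1,0,0,0,1,0,3,4,4,3,2,2,4,4,2,4,1,0,4,2,4,2,3,0,2,3,2,4,2,3,2,1,2,1,1,4,4,2,1,2,4,3,2,1,0,1,1,0,2,2,4,1,1,2,1,1,0,0,0,1,1,3,3,2,1,0,0,2,2,1,3,2,2,3,3],
 [4,4,4,0,4,2,4,2,2,3,3,1,4,0,3,4,3,1,0,2,0,4,3,2,4,0,3,1,3,3,4,1,2,1,1,2,2,3,3,1,2,0,2,4,3,2,2,4,3,2,2,1,3,0,0,4,4,2,1,3,1,4,0,4,1,3,3,3,2,2,4,3,3,1,2,3,2,1,1,0,2,2,3,0,4,0,4,1,3,3,4,4,3,4,4,3,1,3,4,3,4,4,3,0,1,0,2,4,3,2,1],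
 [0,2,4,0,4,2,0,2,3,0,3,2,4,1,3,1,4,3,4,3,4,4,4,1,3,3,3,0,0,0,2,2,2,3,2,4,0,4,0,1,2,0,1,0,4,2,1,3,3,4,3,4,0,0,1,1,3,1,3,4,4,3,2,0,3,2,0,0,2,1,1,4,1,4,1,0,4,4,4,4,4,1,1,4,1,4,4,4,4,2,2,2,0,3,2,0,2,4,1,0,2,3,0,1,0,3,1,0,4,4,1],
 [1,0,4,1,1,4,0,3,4,4,1,3,1,2,3,1,3,1,0,0,0,4,1,0,0,1,1,1,0,0,3,1,3,4,3,1,2,1,1,0,4,0,3,0,1,0,0,1,2,4,4,4,1,0,1,4,0,4,3,0,3,3,2,1,1,1,4,3,3,4,4,1,2,2,0,4,1,0,3,1,1,3,0,4,3,0,3,0,4,1,3,0,3,1,4,3,2,4,3,2,3,2,2,2,0,1,1,1,0,0,3],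
 [0,2,4,0,4,1,0,3,4,3,0,2,0,3,2,3,1,2,0,4,3,1,2,2,1,4,4,1,2,4,4,4,4,2,4,3,0,4,2,4,2,1,2,4,3,2,0,4,4,1,2,0,3,1,3,1,3,1,1,3,1,4,3,0,0,2,3,2,1,0,2,0,1,1,3,0,1,3,0,0,3,0,4,1,1,1,4,0,0,4,2,1,1,4,3,3,0,3,1,2,1,2,0,2,4,1,2,3,1,1,1],
 [4,4,3,2,0,2,0,1,2,3,2,1,1,3,3,0,0,0,4,4,4,4,1,3,4,1,4,1,1,3,1,1,1,2,1,3,1,2,0,2,4,3,4,1,4,3,4,3,0,0,1,2,2,3,0,3,0,4,3,3,4,0,4,1,2,3,4,0,1,4,2,0,1,4,4,2,0,4,2,0,4,0,4,4,3,0,2,1,0,4,1,2,2,0,1,1,4,4,4,0,1,1,2,3,3,4,4,0,2,3,2],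
 [0,4,0,1,3,3,2,3,2,0,2,3,4,4,4,0,1,4,4,1,4,2,0,2,4,3,2,0,4,4,0,3,0,3,0,2,4,1,4,2,1,0,4,1,0,4,1,1,3,4,4,1,1,1,4,0,1,1,4,3,2,2,4,0,4,4,2,1,3,3,2,1,1,1,4,4,0,2,3,4,0,1,4,2,3,1,0,4,2,3,1,3,1,1,0,0,3,2,2,0,4,1,4,0,1,3,1,3,1,3,3],
 [2,0,1,1,2,4,1,3,4,0,0,1,3,3,4,4,4,3,4,1,3,4,2,2,2,4,4,2,3,4,4,4,2,3,2,0,0,1,1,3,2,2,4,1,0,2,2,1,0,4,1,1,2,1,2,2,0,3,0,1,0,2,2,4,0,0,3,1,1,3,2,3,2,3,2,3,3,3,3,0,1,4,4,0,2,3,2,2,4,2,0,3,1,1,3,4,0,4,3,2,4,4,2,3,0,0,2,4,0,2,2],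
 [4,0,3,3,0,2,4,0,2,1,2,4,1,4,4,3,1,3,0,0,1,0,3,0,3,0,0,0,1,0,4,3,1,4,1,3,0,3,3,1,3,3,3,0,2,4,4,0,4,3,0,2,4,4,0,0,0,2,3,1,0,4,4,3,2,1,4,1,3,3,4,2,0,3,2,2,2,1,0,3,2,3,3,0,4,0,2,1,0,3,2,2,0,2,4,2,1,3,0,2,0,1,4,2,1,2,0,3,0,2,0],
 [0,2,4,3,0,4,3,1,0,3,0,1,3,1,4,1,1,2,2,3,0,0,3,4,0,0,2,2,0,0,1,0,3,0,2,3,2,0,3,4,1,3,0,2,1,1,1,4,1,1,2,1,2,0,0,3,2,3,1,3,2,4,1,3,2,4,4,4,3,2,4,1,2,4,4,4,2,4,0,2,4,3,4,1,2,0,1,4,2,4,1,1,1,3,1,1,1,2,1,1,2,0,0,3,0,0,4,1,3,1,1],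
 [2,3,2,4,3,0,2,4,1,0,3,1,2,0,3,0,3,3,3,2,2,1,2,1,0,4,3,3,2,1,4,3,0,0,4,2,4,1,4,3,1,4,0,4,2,3,1,1,3,3,2,1,0,4,3,4,0,2,4,2,4,3,4,0,2,0,0,0,2,4,2,3,4,0,2,1,1,2,4,4,1,3,0,2,1,1,0,4,4,3,3,1,0,2,0,2,0,1,2,2,3,2,1,3,1,1,2,4,1,1,0],
 [0,1,3,4,4,1,3,4,4,4,0,1,1,1,0,1,2,3,1,3,0,2,1,0,0,4,4,1,2,1,1,1,1,0,4,0,4,2,1,3,1,3,1,3,3,0,0,1,0,2,3,2,4,0,3,3,2,4,3,3,3,2,2,4,0,0,1,2,0,1,4,3,2,3,0,3,3,3,4,1,0,2,1,4,3,3,0,4,2,3,2,3,0,1,3,3,3,0,0,0,2,1,2,3,4,2,2,4,2,4,2],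
 [3,3,4,2,0,1,0,1,0,4,0,3,4,2,3,4,1,0,0,2,0,1,0,4,0,1,1,3,4,0,3,2,2,1,0,4,1,3,4,2,4,4,3,0,3,2,1,4,2,0,0,1,3,0,4,1,2,4,1,1,4,4,0,2,3,3,0,1,1,0,2,3,0,0,0,2,4,0,1,2,1,4,0,0,3,2,4,1,4,2,1,1,3,2,3,4,0,3,2,1,4,3,4,1,3,3,0,4,2,4,0],
 [3,4,3,2,1,0,2,3,1,2,3,0,2,2,3,1,3,0,2,1,1,4,1,2,2,4,3,2,2,1,2,2,2,0,2,1,2,2,2,0,2,3,2,3,3,1,1,1,1,1,0,1,4,3,3,3,3,0,4,1,1,0,2,2,3,3,0,4,1,2,2,3,0,0,1,4,0,2,4,0,0,2,2,3,0,4,1,0,1,3,1,2,2,4,0,1,2,3,4,2,3,0,4,3,2,1,1,0,0,4,4],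
 [4,0,2,3,4,3,4,0,1,1,1,0,1,0,4,4,3,4,0,4,2,0,2,2,3,0,2,2,4,3,2,2,0,1,2,4,4,0,1,0,1,3,3,3,2,2,4,1,0,0,3,4,0,4,0,2,1,3,1,4,0,3,4,0,1,3,1,4,1,4,2,0,1,4,4,2,0,2,1,0,2,1,4,3,0,3,3,3,3,3,2,1,1,3,4,3,3,1,4,3,3,3,4,3,2,1,1,2,2,0,4],
 [0,2,0,2,0,4,3,2,2,0,4,1,3,1,0,3,1,0,1,1,2,0,1,3,2,4,3,4,2,4,0,3,4,2,3,4,1,4,3,0,0,0,2,4,1,4,4,1,3,0,2,2,1,1,1,2,2,0,2,0,0,4,1,3,2,0,0,1,3,2,4,1,1,2,1,1,0,3,1,1,1,0,4,1,2,2,3,1,3,3,3,4,0,3,2,4,1,4,1,2,0,0,2,0,3,4,1,0,1,3,2],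
 [2,4,2,3,1,0,0,3,3,1,3,4,3,2,2,1,0,2,0,3,3,2,4,3,4,2,2,3,4,1,3,0,3,2,1,4,1,3,2,4,4,1,2,0,0,0,4,0,4,4,1,0,3,1,4,1,0,0,4,4,4,4,1,2,2,3,4,2,2,2,2,4,2,1,3,0,4,4,2,4,2,1,3,4,0,3,4,4,4,3,2,1,0,0,1,1,0,0,1,1,3,2,1,3,1,3,3,0,0,1,0],
 [3,2,0,2,2,1,1,2,4,2,4,2,2,1,3,2,2,3,1,1,4,0,3,4,0,1,3,0,4,1,0,0,0,3,2,0,2,0,2,1,0,3,3,1,1,3,4,1,1,4,1,2,2,1,3,3,0,2,3,4,3,0,3,3,0,0,0,4,3,0,0,3,1,0,0,3,1,4,0,3,4,2,2,1,1,0,1,0,1,2,0,3,3,2,2,1,0,4,0,3,0,4,0,2,1,3,2,1,3,4,3],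
 [1,0,2,3,2,1,1,4,0,0,3,3,1,0,3,1,0,3,3,1,2,3,3,2,4,4,2,2,4,2,3,4,0,0,4,1,1,4,4,4,3,3,4,4,0,3,4,1,0,3,4,3,1,4,0,1,0,4,4,1,0,2,3,3,2,1,0,3,0,4,4,4,1,1,0,3,4,0,2,3,0,4,1,2,4,4,1,1,2,1,1,1,3,1,3,2,1,0,1,3,0,4,4,2,4,1,2,2,2,3,0],
 [3,0,2,1,3,2,3,1,3,0,0,3,0,1,1,2,3,2,0,1,4,4,4,2,2,4,3,3,4,3,3,2,1,4,4,1,0,4,2,4,3,2,2,3,1,3,3,4,0,1,4,0,4,2,2,3,2,4,0,3,2,1,4,3,4,1,1,0,3,2,2,2,2,1,3,2,1,3,0,0,2,1,3,3,3,2,1,1,3,2,0,3,4,1,2,2,1,2,2,3,0,3,4,3,2,1,4,0,2,1,4],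
 [3,2,3,2,4,0,1,3,4,0,0,0,3,4,1,1,1,4,1,2,1,3,2,1,4,3,4,4,4,0,1,2,4,2,1,1,1,4,2,4,2,3,2,3,4,2,0,3,3,3,1,4,0,3,1,4,4,0,4,3,2,1,4,4,4,2,0,2,4,0,3,0,4,4,4,2,3,3,3,3,0,4,3,1,3,4,0,3,1,0,1,3,4,1,3,0,4,1,2,0,2,0,1,0,0,4,1,2,2,0,2],
 [2,4,0,0,2,1,0,3,2,1,2,4,3,4,0,2,4,4,4,0,1,3,0,3,1,0,0,3,4,0,4,3,1,1,4,0,0,3,0,3,2,2,4,1,0,2,0,4,4,4,3,4,2,3,1,1,0,3,3,2,1,0,0,4,4,2,4,0,0,2,2,1,1,4,4,0,3,2,2,1,1,1,2,4,3,3,2,3,1,4,0,1,0,3,1,1,3,3,4,1,4,0,0,3,1,2,0,3,2,4,3],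
 [4,1,0,3,4,4,3,0,2,2,2,4,1,3,3,1,0,0,4,3,0,4,4,4,3,1,4,4,3,0,1,1,2,0,2,0,3,2,4,1,2,2,4,2,2,3,0,4,2,3,3,3,0,3,3,3,3,3,1,3,1,3,3,3,4,1,1,0,3,0,1,4,0,2,3,2,0,2,0,2,2,1,3,2,0,3,0,4,1,3,1,1,2,3,1,1,2,3,1,4,3,1,1,4,1,4,4,0,2,2,0],
 [4,1,0,1,1,3,0,0,0,4,2,1,2,2,4,1,1,1,1,4,2,4,3,2,4,4,0,1,2,0,0,0,2,4,3,3,0,2,4,1,2,1,0,3,3,2,3,3,3,3,4,2,1,2,0,2,1,4,1,4,2,0,0,3,0,1,2,1,1,1,3,2,1,0,4,0,1,3,0,1,1,1,3,3,2,3,3,2,1,2,0,2,1,3,3,3,3,3,0,0,1,2,0,0,2,0,0,3,3,4,2],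
 [0,4,3,0,1,3,4,0,2,3,1,4,0,2,2,1,3,1,4,4,1,1,0,0,3,2,3,0,3,0,2,4,3,1,3,2,2,1,4,2,0,4,1,1,3,3,3,1,4,0,2,3,1,2,2,4,0,3,0,2,3,2,0,0,2,3,3,3,3,3,3,2,0,4,0,2,3,2,4,1,0,4,4,1,3,4,2,1,0,3,2,0,1,3,3,4,3,4,2,4,4,4,4,0,2,4,1,4,4,2,1],
 [0,2,4,2,2,0,2,3,3,3,4,1,0,3,4,0,4,4,3,3,0,2,4,2,0,4,0,2,3,3,0,3,0,1,4,0,3,3,0,3,4,0,0,1,4,3,3,1,0,1,4,4,0,3,1,3,1,0,1,1,4,1,3,0,1,0,3,0,4,2,0,3,3,1,0,2,3,2,0,1,3,1,2,4,3,1,3,2,1,3,0,0,3,0,2,1,2,3,2,0,4,3,2,2,3,0,0,0,3,2,1],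
 [2,1,1,2,1,1,3,2,1,0,2,3,3,2,3,4,4,0,3,4,3,1,0,1,0,3,4,0,4,0,1,0,1,4,3,3,3,1,0,3,4,3,3,2,4,3,4,0,3,2,2,0,1,2,1,1,1,2,3,3,3,2,0,4,3,4,2,1,2,4,2,0,1,1,1,3,0,1,4,2,3,0,0,1,1,0,0,4,2,3,2,3,0,2,1,1,0,1,0,0,1,2,4,1,2,3,2,4,0,1,2],
 [1,3,3,2,1,4,4,4,1,3,2,0,1,3,0,4,1,0,0,0,3,0,2,4,1,3,4,0,1,1,1,4,1,0,2,0,3,3,0,4,4,4,4,1,4,0,3,1,1,3,4,0,3,2,1,0,3,4,2,1,1,0,0,0,2,0,1,2,3,3,0,4,2,4,4,2,4,0,0,2,1,0,0,3,1,4,3,4,1,0,0,4,3,0,2,4,0,2,1,2,3,2,3,1,4,4,2,1,0,3,4],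
 [4,2,0,3,4,2,0,0,4,3,2,3,0,0,4,0,4,3,3,0,0,2,2,0,2,2,3,0,1,2,0,2,0,1,0,1,1,3,4,3,0,3,0,1,1,3,3,3,0,2,4,1,3,4,0,0,4,4,0,3,3,0,2,4,1,4,1,4,1,1,3,3,0,4,1,4,2,1,2,2,3,1,2,0,2,4,0,0,1,1,1,4,4,4,0,4,4,1,0,2,1,4,4,4,1,2,4,4,2,4,1],
 [1,3,4,4,0,1,3,4,2,2,1,3,3,2,3,4,1,2,0,4,0,1,2,0,0,3,3,3,3,3,2,1,4,2,2,2,0,0,0,3,4,0,0,3,2,2,1,2,1,4,2,2,4,2,3,2,4,4,2,2,3,1,2,4,4,3,4,1,4,0,1,1,4,3,1,1,0,2,1,3,4,2,2,4,0,0,2,0,2,2,1,0,4,2,4,0,0,1,1,2,1,2,0,0,3,2,1,1,1,0,4],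
 [4,3,2,1,0,2,0,2,1,3,1,4,3,4,3,1,2,2,1,3,1,1,3,2,2,0,1,4,2,4,4,3,0,1,3,2,2,1,4,3,3,3,1,3,3,0,0,0,4,4,0,4,3,0,4,3,4,1,2,0,1,0,3,0,2,2,4,1,3,4,3,2,2,4,4,1,0,0,0,4,1,0,2,3,1,4,0,2,0,3,3,4,4,3,4,0,0,2,0,1,0,2,4,1,4,2,3,0,1,2,0],
 [0,1,4,2,3,4,1,4,1,2,4,4,2,2,1,1,3,4,4,3,1,0,4,1,3,4,4,1,4,2,4,1,1,4,0,1,3,0,0,0,1,3,0,1,2,1,2,0,4,0,2,3,3,2,4,2,4,3,1,4,2,1,1,4,4,1,2,0,0,3,1,2,0,3,0,3,4,2,2,0,4,4,3,0,2,2,4,3,0,1,1,2,2,0,4,1,2,1,1,0,1,4,3,3,3,3,2,3,1,2,2],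
 [2,0,3,4,3,0,0,0,3,4,4,4,3,4,0,4,4,2,3,1,2,2,4,4,1,4,0,2,4,0,2,4,3,2,0,0,1,0,1,0,2,3,4,3,0,1,2,2,4,4,0,3,3,4,0,4,3,4,4,2,1,2,4,4,2,2,2,1,2,4,1,0,4,0,0,2,1,0,2,2,2,4,2,0,1,4,1,0,0,0,0,2,2,4,0,1,1,2,1,0,3,2,1,1,4,2,0,4,4,2,3],
 [1,3,0,0,1,4,2,2,2,1,3,2,0,1,0,3,3,3,3,1,0,3,2,4,4,3,0,2,3,0,1,2,4,0,1,3,4,0,2,0,3,2,1,2,2,4,0,3,2,1,3,4,1,2,0,3,4,3,3,1,1,4,3,0,1,1,1,2,4,0,1,2,4,2,1,4,3,1,4,0,1,0,2,1,3,2,1,1,4,2,0,1,2,1,1,0,2,2,1,1,0,2,1,3,2,3,2,3,1,2,2],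
 [2,4,2,3,0,2,2,4,1,2,4,0,3,0,4,2,4,0,4,3,0,4,4,0,4,1,4,4,2,1,1,3,4,3,1,3,2,0,3,1,3,3,2,3,4,1,4,3,0,0,2,3,4,2,4,0,4,0,2,4,0,0,3,2,2,1,0,1,0,1,4,3,1,1,2,0,4,2,1,0,3,2,1,0,1,1,2,4,2,4,2,0,3,3,3,3,1,1,0,2,0,2,2,3,4,4,0,1,0,4,4],
 [3,3,4,1,0,1,3,3,4,0,2,2,4,1,2,4,2,2,1,4,1,1,3,3,1,4,3,0,0,3,1,0,4,0,2,3,4,3,4,4,2,1,3,1,1,4,2,0,1,0,2,0,1,1,0,0,3,1,2,3,0,0,0,3,0,1,3,0,3,1,2,3,3,4,0,1,1,1,0,0,4,0,2,3,2,3,2,0,4,0,3,1,1,3,2,2,1,3,3,0,2,4,1,1,0,1,2,4,3,2,0],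
 [2,3,2,1,3,3,1,3,4,4,1,3,0,0,0,2,3,2,3,0,4,4,3,0,3,3,1,3,4,4,0,1,4,1,0,3,2,0,0,1,4,0,1,1,2,0,3,1,4,4,1,2,4,4,4,3,4,3,0,4,1,1,2,0,3,4,4,3,0,4,0,0,4,1,0,3,4,2,0,1,0,0,2,2,2,3,2,3,2,1,1,1,4,3,0,2,4,3,3,1,4,4,3,4,3,2,1,2,1,1,0],
 [3,1,4,4,3,1,4,0,4,2,0,1,4,3,0,1,4,4,2,0,2,3,3,3,4,3,4,1,1,3,3,0,0,1,0,3,2,1,4,3,0,1,1,2,2,2,1,0,1,1,0,2,0,0,4,3,1,1,0,2,4,4,0,2,1,2,0,3,0,0,0,4,0,0,1,1,2,4,4,1,4,0,4,1,3,1,3,0,2,0,2,3,4,1,4,3,1,0,3,0,2,2,0,3,1,4,1,4,1,4,0],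
 [3,1,0,2,2,3,4,0,1,2,3,4,3,3,0,3,0,2,2,0,4,4,1,2,0,0,1,1,0,3,2,0,4,2,2,0,3,3,2,4,4,3,3,3,2,4,2,2,2,4,2,1,3,0,4,4,1,2,4,1,0,2,1,1,4,0,2,2,0,0,0,2,3,4,1,2,1,4,2,2,1,0,3,3,4,2,2,3,2,3,3,0,2,0,3,0,2,0,3,0,2,4,1,0,4,3,1,3,2,0,4],
 [4,0,1,4,2,2,3,2,1,3,1,2,1,1,2,1,2,2,2,0,1,3,4,2,3,2,0,2,2,2,2,1,3,4,0,2,2,3,2,3,4,2,1,4,1,3,2,1,0,4,2,1,3,1,4,2,2,3,2,1,2,0,1,4,2,2,3,1,4,2,2,1,0,3,0,0,0,2,2,2,2,0,4,2,0,4,0,1,4,1,4,1,4,0,3,0,3,2,1,1,3,4,3,1,3,1,0,2,4,2,1],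
 [1,4,2,0,0,2,2,3,3,1,0,4,1,3,2,1,4,3,2,4,2,2,1,1,1,0,3,2,0,0,2,0,0,1,0,1,0,1,2,3,1,4,4,3,3,2,2,4,4,4,2,0,2,1,4,0,0,1,0,4,0,1,4,1,0,1,2,0,4,3,0,4,1,0,0,2,1,0,3,1,2,4,2,1,0,3,0,2,2,1,0,1,4,3,2,0,2,3,2,3,2,1,0,1,0,1,0,2,2,3,3],
 [3,4,4,4,4,2,2,2,4,1,2,3,0,3,4,0,0,3,1,2,1,2,4,2,0,1,1,2,1,0,2,3,4,0,0,2,1,0,1,0,4,1,3,1,2,0,1,2,4,3,3,0,3,1,1,2,1,4,4,2,1,0,2,2,1,2,0,3,3,0,2,3,1,3,3,2,4,0,3,2,4,4,2,1,1,3,1,0,3,0,3,3,2,2,0,1,3,2,0,3,4,4,1,3,3,3,2,1,3,2,2],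
 [0,1,1,0,0,0,0,2,0,1,2,1,2,0,3,4,4,1,3,2,1,0,4,2,2,1,3,0,2,4,4,1,2,4,0,3,4,4,2,4,4,1,1,0,2,0,1,1,1,4,1,2,0,1,4,4,1,1,1,4,3,0,4,3,3,3,3,4,0,0,4,2,3,2,1,1,2,2,4,2,1,1,1,0,4,4,1,0,2,1,2,1,2,4,1,0,0,0,0,2,0,0,1,3,4,0,3,4,3,0,1],
 [3,0,3,1,1,0,1,2,4,3,1,3,0,2,3,4,2,4,4,4,1,1,4,3,3,0,2,3,4,2,4,2,2,0,4,4,3,1,4,4,3,3,3,1,3,3,0,0,4,1,3,1,3,3,0,2,0,1,1,0,1,4,4,3,3,1,2,4,1,4,2,3,3,2,4,1,0,4,1,1,1,2,2,1,0,2,3,4,4,4,0,4,1,0,4,1,1,3,1,3,2,4,1,3,1,2,2,4,0,1,1],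
 [3,0,2,0,3,3,2,0,0,3,1,1,1,3,4,1,4,0,0,2,1,1,4,1,2,3,4,3,0,0,4,3,2,4,3,2,0,0,1,0,1,0,4,0,4,3,2,0,4,4,0,1,0,2,1,3,2,1,4,4,3,0,2,2,2,3,3,1,4,2,2,3,1,3,1,2,3,4,2,1,2,0,1,4,0,3,2,1,3,2,0,2,1,3,2,0,3,0,1,4,0,4,4,3,0,3,2,1,1,2,1],
 [2,1,2,1,3,2,4,2,2,3,0,4,4,3,0,3,4,0,2,0,1,1,1,3,0,0,2,0,0,4,3,2,2,3,3,4,0,3,0,1,3,1,0,0,3,1,0,3,4,2,2,3,4,1,2,0,3,3,0,4,4,2,0,1,0,1,3,4,3,0,2,2,3,4,2,4,0,0,1,3,0,1,1,1,1,3,1,1,3,1,3,3,3,4,0,3,2,3,3,2,2,2,1,0,4,1,1,1,1,2,4],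
 [1,2,2,1,3,1,3,2,3,0,0,4,2,0,1,0,0,1,2,4,2,3,2,0,1,0,4,0,3,2,3,2,1,1,2,0,0,0,1,3,0,2,0,3,0,2,2,4,4,0,3,2,1,2,4,2,2,4,3,0,3,3,3,3,0,2,4,0,4,0,1,3,3,4,0,1,0,1,2,3,2,3,4,3,3,1,3,2,0,3,1,4,2,1,4,4,2,0,3,0,2,4,2,3,2,3,3,3,3,2,2],
 [1,4,0,3,3,4,2,2,1,2,1,3,2,0,4,1,3,1,0,1,0,1,3,2,2,2,4,0,2,3,2,2,2,0,4,4,0,1,3,4,3,4,1,2,3,0,1,4,2,2,0,3,3,0,0,3,3,3,0,0,0,4,2,3,3,1,3,0,1,1,0,0,4,1,3,4,2,1,0,3,1,3,3,4,2,4,0,0,0,4,2,1,2,0,0,0,2,2,2,1,1,1,3,0,1,0,2,2,3,1,0],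
 [1,4,4,4,0,4,4,1,3,0,1,4,4,4,2,2,4,0,4,4,1,0,3,1,4,0,2,4,2,4,1,1,4,4,3,0,4,1,1,4,1,0,1,2,2,3,4,0,4,1,2,0,1,2,1,3,1,0,3,1,2,0,1,2,2,4,4,2,0,0,3,4,3,1,4,2,0,2,4,1,0,2,0,4,1,3,0,1,3,4,2,1,2,3,1,0,3,4,1,3,2,3,3,1,1,0,0,4,4,4,4],
 [0,2,1,0,0,1,4,1,3,1,0,0,2,1,3,4,3,2,0,2,4,3,0,3,4,4,0,4,1,2,4,2,2,0,4,1,2,1,4,2,2,2,3,4,4,2,3,1,4,1,3,1,0,0,2,1,3,4,2,4,3,1,2,2,1,1,0,4,1,1,2,3,1,0,1,0,0,4,0,2,0,3,0,1,2,2,2,1,0,2,1,1,0,0,1,2,0,4,0,3,3,0,0,2,1,1,2,3,4,0,4],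
 [1,1,3,1,2,0,3,4,2,2,0,3,4,0,0,4,3,3,4,0,4,3,3,0,3,1,3,1,3,0,0,4,3,4,0,0,3,4,1,4,2,0,0,1,0,1,2,0,3,0,2,0,3,1,3,1,4,4,4,3,3,1,2,3,3,3,0,1,3,2,3,2,3,0,0,2,4,2,0,0,4,3,3,2,2,1,2,3,3,0,1,1,0,4,3,3,1,0,2,3,4,2,4,0,2,0,0,2,3,4,3],
 [0,0,4,3,4,1,0,1,2,3,2,2,3,1,2,0,1,4,3,3,3,4,4,0,1,4,3,3,2,3,0,1,3,4,1,4,1,1,0,4,4,1,3,2,3,0,4,3,1,3,3,4,1,0,0,2,4,1,3,0,1,2,2,4,4,0,4,4,4,1,2,1,4,1,3,4,3,1,0,0,4,4,4,4,2,2,0,2,2,3,1,0,3,3,2,4,4,0,4,1,3,0,4,4,1,0,2,2,0,0,2],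
 [4,1,0,1,4,4,1,4,1,1,2,3,1,2,1,4,0,1,3,0,1,4,1,1,1,2,2,0,0,2,2,3,3,4,0,1,3,0,3,2,0,1,0,0,2,1,0,2,3,2,2,0,0,0,4,3,1,3,4,1,1,2,0,2,4,0,2,3,3,2,3,4,1,1,1,4,1,1,1,0,1,4,0,2,0,4,0,1,1,3,4,1,3,4,3,3,4,1,1,0,2,2,0,3,0,0,1,1,3,1,2],
 [4,1,3,4,0,4,4,0,2,0,3,3,4,1,4,3,4,4,4,2,0,1,1,4,0,3,1,1,1,3,0,0,2,0,0,4,3,1,3,4,4,4,1,0,2,0,3,4,4,1,0,2,4,1,1,2,3,1,3,3,4,3,0,1,2,3,4,2,3,3,4,2,2,2,3,3,3,1,4,0,4,1,0,1,0,4,3,4,3,3,2,3,2,1,0,3,1,0,0,4,0,2,3,1,4,3,1,2,1,4,1],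
 [4,0,3,4,0,4,3,2,0,2,0,3,4,2,1,1,2,4,3,2,3,1,2,2,1,4,1,2,2,0,4,4,3,1,0,1,3,0,2,4,3,4,3,3,4,1,0,1,1,3,1,0,0,0,4,4,2,3,0,1,2,2,0,2,0,1,3,4,1,3,1,0,4,2,4,0,2,3,2,3,3,2,2,3,2,1,3,4,0,3,2,2,2,2,1,1,0,2,4,3,4,1,2,1,4,2,1,4,1,0,4],
 [1,4,4,1,3,2,4,4,0,4,2,1,4,4,3,2,0,1,0,3,0,4,2,1,3,3,0,4,2,4,1,1,2,0,0,0,0,1,0,1,3,2,2,4,1,0,2,3,0,3,1,0,2,0,4,3,0,1,3,2,1,3,4,1,2,2,1,0,2,3,0,2,0,1,3,4,0,4,2,0,4,0,4,3,4,0,4,1,3,4,0,2,1,4,1,1,3,1,0,4,3,1,1,2,2,2,2,0,1,3,4],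
 [4,0,3,3,2,1,1,2,3,3,1,2,2,3,4,2,4,3,0,0,4,3,2,3,2,1,0,0,2,3,1,4,4,4,2,1,3,1,0,3,3,1,3,1,3,1,2,3,4,3,1,0,0,1,0,1,1,2,3,2,2,3,3,3,2,2,0,3,0,2,4,3,0,1,3,2,4,1,0,2,1,1,4,0,3,3,4,2,3,2,1,2,0,1,0,0,4,3,1,0,0,3,1,2,4,0,4,1,1,4,3],
 [0,3,3,3,3,3,4,2,0,4,3,0,2,1,4,0,2,0,3,0,2,3,2,2,0,0,0,3,2,2,4,1,2,0,2,3,2,1,3,2,4,4,4,1,1,4,3,4,0,3,1,1,1,0,0,2,2,2,3,1,3,2,4,1,2,3,4,2,2,3,4,2,1,3,4,1,2,3,3,3,2,1,3,4,0,2,3,2,4,3,0,2,2,3,0,1,4,0,2,1,1,0,2,2,0,0,3,4,1,3,3],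
 [0,3,0,1,3,4,4,4,4,4,4,1,1,1,1,1,1,2,2,1,2,1,0,2,1,4,4,1,4,3,1,2,2,3,4,2,0,0,3,3,4,1,4,3,2,0,4,0,3,0,2,2,2,1,2,4,3,1,3,4,4,1,3,1,3,2,2,0,2,3,0,4,2,3,3,1,2,2,1,4,0,2,0,3,1,2,3,3,2,1,2,2,0,2,2,1,1,4,0,0,3,1,0,3,3,1,0,2,3,3,1],
 [2,4,2,1,1,4,2,0,0,3,2,1,0,1,0,3,4,2,0,1,3,1,0,3,2,4,2,4,0,4,1,0,2,2,0,2,0,3,2,0,0,2,3,0,4,1,1,1,4,1,4,2,4,4,2,2,3,2,0,2,4,2,1,4,0,2,4,4,1,4,3,1,0,2,2,0,1,4,1,0,2,4,4,2,1,0,0,3,0,3,2,4,1,0,4,1,0,0,4,3,0,1,0,1,2,0,2,2,3,0,0],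
 [0,3,4,0,4,4,1,3,2,1,1,4,2,1,4,0,1,0,0,0,4,2,0,1,0,0,2,3,0,2,3,4,1,4,3,0,3,4,0,2,1,4,0,4,0,0,0,0,2,3,2,1,3,4,2,1,3,1,4,1,4,0,2,0,4,3,1,4,1,3,0,4,1,3,4,0,3,1,2,0,0,2,0,3,1,3,2,1,1,4,1,3,3,1,2,2,4,0,3,3,0,0,2,1,4,1,4,0,0,0,0],
 [1,0,2,0,3,2,0,4,0,3,0,2,3,4,3,0,2,4,0,4,1,1,2,2,0,2,0,3,4,0,3,1,3,3,0,4,0,2,1,4,0,3,2,3,1,4,4,1,2,4,1,4,1,4,2,1,1,0,3,0,2,0,4,4,2,2,3,4,0,0,4,2,0,3,2,2,3,2,1,1,0,4,1,0,2,3,1,0,0,1,3,4,2,2,4,4,2,0,1,2,2,1,2,1,0,4,0,2,4,3,1],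
 [3,1,3,0,1,1,1,3,4,4,1,4,3,0,3,0,4,4,2,3,1,0,0,3,2,1,4,1,3,4,4,4,3,4,1,1,2,2,3,1,0,2,1,0,4,3,3,4,1,2,3,1,4,2,0,2,2,4,0,4,4,4,0,1,1,2,3,0,3,4,3,3,1,0,1,1,2,2,0,2,3,0,3,3,3,1,2,4,3,1,0,3,4,2,3,4,3,1,3,0,2,1,2,0,3,3,4,1,2,2,1],
 [2,1,3,2,1,3,1,4,2,1,1,1,3,1,3,0,2,4,2,0,0,1,1,2,3,1,3,4,1,2,4,2,2,2,2,2,1,4,0,1,2,3,0,0,3,2,4,2,4,1,0,2,0,3,0,3,3,4,0,3,2,1,4,3,4,1,2,4,2,3,3,4,4,3,1,2,0,4,4,0,1,3,1,4,1,3,2,3,1,0,4,4,1,0,4,4,0,2,2,1,0,4,4,2,0,4,3,2,0,3,4],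
 [0,0,3,4,0,3,1,2,2,4,3,4,4,4,1,2,1,3,1,1,4,0,0,3,2,1,4,1,0,4,0,4,2,2,0,4,4,4,1,4,1,2,3,3,0,1,4,2,0,4,0,4,3,1,3,3,1,0,1,1,1,2,0,2,2,0,4,1,0,4,3,1,2,1,1,1,0,4,1,4,0,2,1,3,1,4,0,1,4,4,1,3,0,3,3,4,4,3,4,0,0,4,0,3,3,2,1,4,2,2,3],
 [2,3,0,4,1,2,4,1,0,4,2,1,3,2,1,0,4,1,3,0,2,2,3,1,0,3,0,0,4,3,2,0,4,2,0,0,2,1,1,4,0,0,1,0,2,3,0,3,3,0,4,2,0,0,1,4,2,4,2,1,3,4,0,1,0,3,0,2,3,0,2,3,4,4,4,1,2,2,3,3,3,0,4,4,1,4,1,4,2,0,0,2,4,1,4,3,0,1,2,4,0,4,4,3,3,3,0,0,2,4,1],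
 [1,0,4,0,0,1,3,2,0,4,2,1,2,3,0,1,2,1,1,4,4,1,1,4,2,4,0,3,2,4,0,2,2,2,2,4,0,0,1,3,3,2,3,3,0,3,1,4,2,4,1,3,2,0,2,3,1,0,4,1,3,2,2,2,3,0,0,0,2,2,0,4,0,4,0,1,4,0,2,4,3,3,2,4,1,4,4,1,3,1,0,2,2,2,1,1,3,1,0,3,3,3,2,1,1,2,3,3,4,2,2],
 [4,4,0,2,1,0,1,2,2,3,1,2,2,4,3,0,0,4,4,1,4,1,4,3,2,3,0,4,2,1,0,4,0,1,3,1,2,0,4,4,4,1,4,2,4,3,1,4,4,3,1,1,4,1,0,4,2,0,1,0,3,4,1,3,0,3,0,1,0,3,4,3,1,4,1,0,0,2,2,1,2,3,3,3,2,2,2,1,2,2,4,3,2,0,4,2,0,4,2,4,1,3,0,3,2,3,0,4,2,1,1],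
 [1,3,3,4,3,0,1,2,4,4,0,0,3,0,1,1,4,1,4,1,4,3,3,1,3,4,4,0,2,0,3,0,4,1,2,3,0,2,4,2,1,0,4,2,2,0,2,4,0,2,1,0,2,0,0,4,0,2,4,3,1,2,2,2,4,4,3,2,2,1,1,0,3,1,0,3,2,2,2,3,3,3,3,2,4,2,2,4,3,3,1,0,1,4,4,1,1,3,3,2,1,2,1,0,4,2,3,1,4,1,4],
 [2,4,1,2,0,1,0,0,2,2,0,2,3,0,3,4,4,1,2,4,0,1,3,2,3,0,2,0,2,1,1,3,3,4,0,1,2,1,4,4,0,0,3,4,0,4,3,1,4,3,4,4,0,2,2,1,3,4,4,4,0,2,1,0,4,1,1,4,2,0,3,4,4,1,2,1,4,2,1,3,2,0,0,1,4,2,0,3,1,1,0,0,2,4,0,1,1,1,1,0,4,0,3,2,3,3,1,3,1,3,0],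
 [2,1,1,3,1,0,2,4,3,3,4,4,4,4,2,4,0,3,0,4,4,4,2,1,4,4,0,2,1,3,0,1,4,0,3,3,2,1,4,2,3,2,2,4,0,3,4,4,0,0,4,4,3,0,4,1,1,2,0,4,3,4,4,0,0,0,2,4,4,2,4,3,2,0,2,1,4,3,3,1,3,4,3,1,0,1,0,4,1,4,0,2,1,1,1,4,4,4,2,0,3,0,2,0,1,3,2,1,0,3,2],
 [3,3,2,4,4,4,2,4,4,0,1,3,4,0,1,0,0,1,2,3,3,1,1,2,3,2,3,2,2,2,1,3,1,3,3,4,2,0,1,3,2,0,0,1,1,0,1,4,3,0,1,3,1,3,0,3,0,1,1,1,4,0,0,0,1,0,0,0,3,4,0,2,4,4,3,3,1,4,4,1,3,0,2,2,2,1,0,3,0,0,4,1,1,1,3,1,0,4,4,4,3,4,0,4,4,1,1,4,1,3,1]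
]

/-- named matrix 5 -/
def nm5 : List (List ℕ) := [
 [4,4,1,2,1,1,3,3,0,0,1,3,2,0,3,0,1,4,4,3,2,3,4,2,0,4,0,1,4,1,3,2,0,2,2,4,3,1,0,4,2,4,0,1,0,0,0,2,0,3,2,0,4,0,4,0,1,3,3,1,0,1,1,0,4,2,4,4,0,2,1,3,1,1,3,3,1,2,0,0,1,0,1,3,3,1,1,0,0,2,4,3,1,1,3,1,0,4,1,4,1,1,0,0,0,0,4,1,4,3,0],
 [0,3,2,0,3,0,4,4,0,1,4,0,2,0,4,0,0,0,3,0,3,0,3,0,2,0,3,0,2,2,2,4,0,2,2,4,3,1,2,0,2,2,3,2,2,4,2,0,1,1,0,4,2,3,3,0,2,1,0,4,4,4,1,4,3,0,2,1,1,2,1,0,3,1,2,4,3,3,4,0,0,1,4,0,0,3,2,3,2,1,4,3,4,3,4,0,3,0,2,0,4,2,1,2,3,0,4,1,0,4,3],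
 [4,3,4,1,3,0,1,2,1,1,2,0,4,3,2,1,1,2,1,4,2,2,2,0,2,4,1,3,0,2,0,2,4,4,0,4,2,2,0,1,1,4,0,1,3,3,3,0,3,0,2,0,2,0,3,1,1,2,2,3,2,3,0,4,0,1,0,4,4,2,2,2,3,2,0,0,3,0,2,4,0,0,2,0,4,1,2,4,2,4,2,2,4,0,0,2,1,2,2,4,3,1,1,4,3,1,2,1,3,1,2],
 [2,3,0,0,1,2,2,0,2,2,3,0,2,4,1,2,2,2,1,3,2,3,2,2,1,4,3,3,2,4,0,1,1,3,2,2,1,4,0,3,4,3,3,4,0,0,3,2,4,4,1,3,0,3,2,1,2,2,3,3,4,2,4,2,0,2,1,4,4,2,4,3,0,2,0,1,1,1,3,4,0,3,0,1,2,2,4,1,0,4,3,0,2,0,3,1,3,3,1,1,0,3,1,0,3,3,1,3,2,3,1],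
 [3,4,3,1,4,3,0,0,1,4,2,4,3,3,0,0,2,0,1,3,0,3,4,2,0,2,0,1,0,3,3,2,2,1,2,3,4,0,3,0,4,0,1,2,1,3,3,0,4,2,0,0,4,3,0,0,4,3,2,1,0,3,1,1,4,0,2,2,0,4,3,3,0,2,0,4,2,0,4,4,0,1,1,2,4,4,0,4,0,3,2,1,0,1,4,3,1,3,3,1,0,4,1,3,0,4,3,1,4,0,0],
 [3,0,1,2,4,2,2,1,0,1,1,4,3,2,2,3,4,3,1,3,3,3,2,1,3,0,3,4,0,4,1,3,2,2,2,3,2,2,0,0,1,4,1,2,4,0,1,1,0,1,2,0,4,2,0,4,3,4,1,3,3,3,3,2,1,1,0,2,1,0,0,4,3,0,3,1,0,4,0,3,3,1,2,0,4,1,0,4,0,3,3,2,2,2,2,2,0,1,0,4,4,3,4,1,3,0,3,4,0,3,4],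
 [3,1,2,2,4,2,4,0,1,4,4,3,4,4,3,2,1,3,3,0,0,4,1,2,2,4,1,1,0,0,2,3,0,4,4,3,4,3,1,0,4,4,1,4,1,2,1,1,1,2,3,3,0,0,1,0,1,0,4,3,0,0,0,2,2,2,1,3,2,0,0,2,4,3,2,1,0,2,0,2,2,1,4,2,4,1,3,0,0,1,2,4,1,4,4,2,3,2,3,0,0,1,3,2,1,3,4,4,1,2,3],
 [4,1,3,3,2,2,4,3,4,1,3,2,4,3,4,2,1,2,0,1,3,3,1,3,0,0,1,1,4,1,2,4,1,2,3,2,2,0,4,4,0,2,2,2,1,2,0,3,2,0,1,0,4,3,4,1,0,4,2,0,3,0,2,1,1,2,1,1,1,0,3,4,1,2,4,2,4,2,3,1,1,3,1,4,1,2,3,4,4,4,2,1,4,3,0,3,1,3,4,1,4,2,4,4,2,4,1,3,2,1,3],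
 [0,1,4,3,0,0,0,4,3,2,0,2,2,0,2,0,0,1,1,1,4,0,1,4,4,3,0,3,0,2,0,2,0,1,1,3,3,2,3,4,3,3,2,2,3,3,4,1,0,4,0,3,3,3,1,1,4,0,1,4,4,2,4,1,1,2,0,1,3,0,0,1,2,3,2,1,2,0,2,1,0,2,1,4,0,1,2,2,3,4,2,4,0,4,3,3,0,0,4,1,4,3,2,2,0,1,4,3,3,3,4],
 [0,3,3,2,2,0,0,0,0,0,2,2,0,1,1,1,1,0,4,4,0,1,1,3,0,2,2,1,0,2,3,1,0,0,1,1,2,0,4,4,1,0,3,2,0,0,1,0,4,4,4,4,2,0,3,4,2,2,3,4,2,1,3,4,4,2,4,1,1,2,0,0,3,4,1,3,2,3,0,0,3,4,1,4,1,0,2,1,1,2,1,4,1,4,1,0,3,1,1,2,2,4,2,0,3,1,2,3,4,2,0],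
 [3,4,3,0,2,3,0,4,0,4,2,4,3,4,3,1,0,1,0,2,1,2,4,2,4,0,0,0,2,0,1,0,0,0,2,0,0,0,3,0,2,4,3,2,2,0,1,1,4,1,1,2,4,2,1,3,0,3,0,3,3,4,2,4,0,2,4,4,3,2,4,1,1,4,1,4,3,1,3,2,3,0,2,0,3,1,4,4,2,0,3,0,4,2,0,1,4,0,4,2,3,0,2,3,0,1,3,0,3,4,2],
 [2,1,0,2,2,2,1,3,4,3,0,3,2,4,3,0,1,1,4,1,4,1,3,4,3,1,0,4,3,3,1,0,4,2,3,3,4,0,0,0,4,0,1,2,2,0,4,2,2,1,3,4,3,3,0,0,2,4,3,1,4,1,2,3,0,2,3,1,0,2,1,3,4,0,3,1,3,1,4,0,1,4,4,0,1,3,4,2,2,2,0,4,0,4,0,1,1,3,0,1,0,1,0,4,1,4,4,1,1,1,4],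
 [2,2,2,3,0,0,0,2,2,4,3,2,1,3,0,4,1,3,1,3,3,0,3,0,0,1,1,4,1,2,2,0,3,1,4,2,1,3,1,2,1,3,0,0,3,4,3,2,1,4,1,1,1,4,4,1,0,2,2,0,1,2,2,4,0,2,0,4,4,3,0,3,2,2,4,4,1,3,3,1,2,1,0,2,3,1,2,2,3,2,0,0,2,2,3,2,2,3,2,4,1,2,3,2,4,1,0,4,2,3,3],
 [0,0,4,1,3,3,2,1,3,4,2,2,3,4,3,0,2,1,3,0,4,3,4,1,1,2,1,4,1,4,3,1,1,1,0,1,0,0,1,4,3,1,2,3,0,3,0,4,2,2,4,4,0,1,1,1,3,0,3,2,3,1,0,0,1,1,4,3,4,0,4,0,4,2,0,4,1,3,2,2,2,3,1,1,1,3,3,1,0,0,1,0,1,0,1,2,1,2,2,2,0,0,2,4,1,0,0,2,0,4,3],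
 [1,2,4,2,1,2,2,4,3,0,4,3,3,1,4,2,0,0,4,3,1,0,0,1,2,1,1,4,2,0,3,0,1,2,1,0,0,1,1,1,3,4,2,3,1,0,3,2,2,4,1,1,3,3,2,2,4,1,2,4,1,4,1,0,4,4,0,0,2,4,4,1,2,2,0,3,1,4,4,0,4,4,2,3,0,2,2,4,3,0,0,0,3,0,3,0,2,4,1,0,1,1,1,3,4,0,2,4,3,2,3],
 [4,4,1,0,3,3,4,3,3,0,2,1,4,3,4,3,2,2,1,2,1,3,0,1,3,2,1,2,4,1,2,0,4,1,0,0,3,0,2,2,0,0,4,1,2,2,3,2,1,1,4,2,0,1,4,2,2,2,2,0,4,3,4,2,3,2,3,0,3,2,2,1,3,3,1,3,1,4,3,0,0,0,0,3,3,3,0,3,4,3,4,4,4,1,2,0,1,0,3,0,0,2,0,2,1,3,3,0,3,4,4],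
 [1,1,0,0,2,4,1,0,2,0,4,2,2,4,2,4,2,0,4,1,3,4,2,3,4,0,1,1,3,0,0,1,4,1,1,1,1,1,0,3,2,1,3,1,4,2,4,4,1,2,4,3,3,0,2,4,1,1,1,1,3,0,3,3,1,2,2,0,3,0,0,1,2,2,2,1,4,1,1,0,3,3,2,4,1,1,2,3,3,3,2,4,4,1,4,2,2,4,4,4,4,3,2,4,1,0,2,0,3,3,4],
 [2,2,3,0,3,0,0,1,2,4,0,4,4,3,0,4,1,2,0,2,1,2,1,1,1,3,4,3,1,1,4,0,1,3,0,4,0,4,4,3,1,0,1,3,2,4,3,0,4,4,0,1,3,0,2,4,2,3,2,0,1,0,1,0,1,2,3,4,4,4,0,3,3,2,2,0,1,1,3,4,0,4,4,3,3,4,4,3,4,1,1,3,2,3,4,0,0,0,1,2,2,2,3,0,3,2,4,2,4,1,0],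
 [1,1,4,1,0,2,2,0,1,0,3,4,0,2,4,1,1,2,2,0,2,4,1,4,2,1,2,0,4,0,3,0,3,4,2,3,4,1,4,0,3,4,2,0,1,0,4,1,0,1,2,1,3,2,4,0,2,4,3,3,2,3,4,3,3,2,1,3,0,2,4,2,4,1,4,2,1,3,4,3,1,4,0,2,4,1,0,3,1,2,1,3,4,2,3,1,1,0,2,0,1,1,2,2,2,2,1,3,4,3,2],
 [0,4,2,2,1,0,1,2,1,2,2,1,2,4,1,1,2,3,3,3,3,0,0,1,0,1,4,1,1,1,1,1,1,0,2,4,0,3,4,3,2,4,4,1,2,2,0,0,1,3,1,1,1,1,1,2,1,0,0,4,0,2,4,0,2,2,4,0,1,0,0,1,1,3,3,2,3,4,0,0,0,2,0,0,2,2,0,3,4,1,2,3,1,3,3,4,3,2,4,2,1,2,4,4,3,4,2,1,1,3,0],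
 [4,3,2,0,1,3,2,1,1,0,3,3,1,1,1,0,4,0,0,0,3,2,4,2,4,3,2,1,3,1,4,4,2,4,4,2,3,0,3,2,1,0,1,4,0,1,1,4,2,2,0,3,3,0,0,1,2,4,0,2,4,1,4,2,3,3,0,2,2,2,4,1,4,4,0,1,1,1,2,1,3,3,4,3,3,1,4,3,1,0,1,3,2,4,3,2,1,2,2,3,3,0,2,2,0,1,0,4,4,4,0],
 [4,4,0,3,2,2,0,2,3,4,2,4,2,2,4,0,3,1,3,0,2,4,4,2,1,3,3,0,2,1,2,2,0,4,3,2,1,1,0,3,3,3,3,1,4,1,2,2,3,3,1,0,2,3,2,1,1,2,0,1,1,0,0,2,1,3,0,3,3,2,0,0,3,4,4,3,4,4,2,2,2,4,2,1,4,4,3,4,3,3,4,2,4,3,4,2,3,2,2,4,4,1,3,0,3,2,0,2,1,1,3],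
 [4,0,0,4,1,4,3,4,1,3,0,0,0,2,4,2,2,0,2,3,4,2,3,2,0,4,1,4,0,2,0,1,3,3,4,0,1,2,0,3,2,0,4,0,3,3,0,2,2,2,2,3,2,0,1,3,4,0,1,4,4,4,4,0,2,4,3,4,1,4,0,2,4,0,4,3,0,4,1,1,2,2,3,3,3,3,1,3,0,4,0,4,0,3,1,3,3,3,1,0,3,2,3,2,4,3,1,1,4,3,3],
 [0,3,4,0,3,2,4,4,1,1,1,2,0,1,1,3,2,2,2,4,4,0,4,2,3,3,2,0,0,1,3,3,2,2,4,0,0,3,3,0,3,4,2,2,0,2,4,0,3,3,1,3,4,1,0,1,1,2,4,4,0,1,2,2,0,0,2,3,3,2,1,4,4,1,0,2,3,0,3,1,2,4,3,2,0,3,0,1,4,3,4,1,2,0,4,0,1,1,4,2,3,3,3,3,0,2,1,2,0,2,3],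
 [1,3,0,2,4,0,4,2,0,1,3,1,3,1,4,2,4,2,1,1,0,2,1,2,0,3,2,2,1,2,1,1,2,2,0,4,0,0,0,0,1,2,2,1,1,0,1,3,1,3,0,4,0,3,1,2,2,1,1,3,3,0,4,3,0,4,1,3,3,3,4,3,2,1,4,4,3,1,1,3,4,0,3,1,4,3,1,4,1,4,4,4,4,0,4,2,3,0,0,1,4,2,1,2,1,0,4,0,1,4,1],
 [4,2,4,2,4,0,2,2,4,1,2,0,3,2,3,1,1,4,2,4,1,2,1,2,4,0,4,4,3,4,0,2,0,4,1,3,0,4,3,4,2,1,1,1,1,3,1,0,3,0,4,1,3,2,4,1,3,2,4,2,2,3,2,3,2,4,3,3,2,3,2,3,1,0,3,1,3,0,1,3,2,1,2,2,2,0,4,2,2,4,1,2,2,4,3,1,3,3,4,0,2,0,0,0,3,3,4,0,4,3,4],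
 [4,2,2,4,0,3,3,2,4,3,4,3,2,4,2,1,2,3,2,1,0,1,0,3,4,3,3,2,0,0,2,4,4,4,2,1,0,2,3,2,3,0,0,4,2,3,2,4,3,1,1,3,3,4,0,4,1,4,4,3,1,0,1,0,0,0,4,1,0,3,3,1,4,2,2,0,4,1,3,1,2,3,3,4,1,0,0,2,4,4,0,1,0,0,2,4,0,4,0,2,4,1,4,3,3,3,3,1,4,2,2],
 [1,2,3,0,4,1,3,4,0,3,3,1,4,3,1,2,0,4,0,1,0,4,4,0,0,4,2,4,2,4,4,2,2,0,1,1,0,1,3,0,0,1,1,3,2,2,0,0,3,3,1,2,3,3,3,4,4,1,3,0,3,1,0,1,3,2,3,4,3,2,2,2,4,1,4,0,4,3,2,0,1,4,2,2,0,3,3,0,3,4,3,4,4,1,0,0,0,1,2,1,2,0,2,0,1,2,0,2,4,0,2],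
 [4,3,3,2,4,3,0,0,0,0,4,3,0,4,1,1,4,3,2,4,3,0,2,4,4,2,0,1,3,2,3,4,3,1,0,3,3,3,2,2,3,0,2,2,1,0,4,0,1,0,0,1,2,3,2,3,4,2,1,1,1,1,4,0,4,2,4,1,0,2,1,4,1,4,0,3,3,4,1,1,3,4,1,3,1,4,1,0,0,1,2,1,4,3,3,2,1,1,2,3,3,2,1,3,1,0,3,4,1,3,3],
 [4,3,4,2,0,4,3,2,4,4,0,0,3,3,0,1,0,3,2,3,0,0,4,0,3,3,4,1,2,4,3,3,0,0,3,2,2,1,2,1,3,0,1,3,4,2,3,3,3,0,4,4,4,2,3,2,2,4,0,4,3,1,4,2,2,1,1,4,4,1,3,3,2,2,3,2,0,3,0,1,2,3,4,4,4,0,4,1,2,1,1,3,2,2,3,4,4,0,2,2,3,0,4,2,2,3,2,2,0,2,3],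
 [1,1,1,3,4,2,1,2,1,3,3,3,4,2,1,0,0,0,4,0,3,1,2,3,2,0,0,2,1,0,3,2,2,2,4,1,3,2,2,3,4,2,3,3,1,4,1,2,2,2,2,2,1,3,0,4,2,2,0,4,2,2,0,0,3,4,1,2,2,3,2,3,0,2,1,3,4,3,1,0,0,0,2,3,0,2,0,3,3,4,3,1,3,0,0,4,0,0,1,2,0,0,2,1,0,2,2,0,1,0,2],
 [0,0,0,2,1,4,4,2,3,1,1,3,1,3,0,3,0,3,0,3,2,3,3,0,0,3,1,2,2,2,1,1,2,2,3,1,0,4,4,1,0,3,1,4,3,2,4,0,4,0,0,2,1,1,4,4,3,2,0,2,4,3,2,0,1,4,2,3,4,4,0,3,2,0,3,0,1,3,4,1,4,0,3,1,3,0,0,2,4,4,2,2,4,2,2,2,3,0,4,4,1,0,0,0,2,2,4,3,2,3,4],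
 [2,0,3,4,3,0,4,3,2,3,0,4,2,3,0,0,1,1,1,4,0,1,4,2,4,3,3,2,0,4,2,3,4,0,3,1,3,4,0,2,1,1,0,2,1,4,2,4,1,0,0,3,1,4,4,4,0,0,4,0,1,1,2,4,2,1,2,0,4,4,2,3,2,3,4,0,4,4,0,3,3,0,2,1,1,3,4,1,2,1,0,3,2,4,0,4,4,3,1,2,2,4,0,0,2,4,2,4,0,2,4],
 [3,0,2,0,1,0,1,1,2,3,2,4,0,2,4,0,2,1,1,4,2,1,0,2,0,2,3,0,3,2,2,2,1,2,0,2,1,2,0,0,1,3,1,1,0,2,4,2,4,3,3,2,1,2,1,0,0,3,3,3,2,2,4,0,2,1,4,3,1,3,4,4,4,1,2,3,2,0,4,1,2,3,4,3,4,4,1,2,0,4,1,1,4,1,4,3,3,0,4,4,2,3,3,0,4,0,4,1,3,0,3],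
 [3,0,3,1,0,1,0,3,3,2,3,4,1,4,2,0,2,1,4,1,4,4,3,3,3,4,4,2,4,1,2,3,0,1,3,2,1,3,2,0,3,1,1,0,2,0,3,2,2,1,1,1,4,0,4,3,1,3,4,1,0,4,0,4,4,1,0,4,2,4,4,1,1,4,1,4,1,3,4,0,1,4,2,1,3,2,1,3,1,4,1,1,0,1,2,4,3,4,1,4,1,0,0,0,3,0,1,3,2,3,4],
 [3,2,3,3,3,2,1,0,3,1,1,1,3,4,4,0,2,4,3,1,2,2,4,3,0,4,3,1,2,1,4,0,1,4,1,3,3,0,4,3,0,0,4,1,2,4,1,2,4,0,3,4,0,1,2,1,4,2,2,3,1,2,3,3,2,0,2,0,0,2,0,0,4,3,1,3,4,1,2,3,2,0,4,0,4,2,2,4,3,2,3,1,0,4,4,2,4,4,3,0,4,3,1,0,1,1,3,1,4,1,2],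
 [0,1,2,1,2,4,1,4,0,3,2,2,4,2,1,0,0,3,2,2,3,3,4,4,2,2,0,4,2,2,1,0,4,3,2,0,2,0,0,2,4,1,3,2,3,0,0,1,3,0,2,4,2,3,0,2,3,4,3,4,0,4,1,1,3,2,3,2,1,2,3,2,4,2,3,4,3,4,3,0,2,0,1,4,4,4,2,1,2,2,4,3,2,3,2,4,0,0,3,3,3,1,0,0,4,2,1,4,4,4,2],
 [4,0,2,4,3,4,1,1,1,0,2,2,2,4,4,0,1,0,4,3,2,2,1,4,3,3,1,3,3,1,3,1,4,4,4,3,4,2,3,3,3,3,1,1,2,2,3,1,2,0,0,0,0,2,3,3,1,1,1,0,3,2,1,3,0,1,3,2,2,3,2,0,2,4,1,4,4,1,4,4,4,2,2,2,0,0,1,2,1,4,2,4,2,3,4,4,1,4,4,0,4,2,2,3,3,3,2,2,2,1,1],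
 [3,0,2,4,1,4,4,3,0,3,0,1,1,2,2,2,2,4,1,4,2,1,1,4,3,4,0,3,2,3,0,3,2,0,4,0,2,1,4,2,3,3,4,1,1,4,4,4,2,4,0,4,2,4,4,2,0,1,4,1,3,2,0,0,1,4,4,4,1,1,4,2,2,3,0,3,0,3,4,2,0,0,4,2,1,1,0,3,4,0,3,2,0,2,0,4,3,2,4,0,0,4,3,3,0,4,0,0,3,0,4],
 [4,4,1,4,3,4,3,3,3,2,0,0,0,4,4,1,0,0,3,0,4,1,0,1,1,4,0,1,3,4,4,3,1,2,0,3,3,1,4,0,4,1,3,2,3,4,0,4,4,1,0,1,0,0,2,1,1,3,0,0,2,3,2,4,4,3,0,0,2,4,2,4,2,2,2,3,1,2,4,1,3,4,2,4,1,2,1,3,3,2,0,4,0,1,2,2,2,1,1,4,0,2,0,4,0,2,3,0,1,4,0],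
 [2,0,2,2,4,4,0,2,2,2,3,4,2,1,2,4,2,2,1,3,2,1,1,2,0,3,0,4,0,3,0,4,1,3,0,0,2,2,1,0,3,3,0,4,4,2,2,3,0,4,4,0,1,0,3,3,3,2,0,2,3,4,4,3,0,2,3,0,1,4,1,0,4,0,4,3,3,4,4,1,3,3,3,4,3,4,1,2,3,0,2,0,4,3,0,0,1,3,2,2,3,2,2,2,2,2,3,1,2,3,3],
 [4,1,0,3,2,0,0,3,2,4,0,3,1,2,0,0,4,1,1,3,4,4,1,1,0,0,1,2,0,1,3,3,0,0,3,0,1,4,4,0,4,3,0,3,4,3,0,0,0,3,3,4,1,1,4,4,3,3,1,0,0,3,4,3,0,3,3,1,1,0,2,3,0,1,2,4,4,1,2,4,4,1,2,1,1,1,4,0,0,0,1,1,1,3,3,3,1,1,2,0,1,0,4,2,4,4,3,1,4,0,3],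
 [0,0,1,0,0,2,0,3,3,3,3,0,2,4,2,0,3,0,0,3,4,4,4,3,1,0,4,4,2,2,1,2,1,2,4,0,0,2,3,4,4,4,2,1,3,4,0,1,1,1,3,1,2,3,2,2,3,1,4,1,0,2,2,0,0,3,4,0,2,1,1,3,0,4,4,3,4,4,0,1,0,2,0,0,1,3,2,3,0,2,0,2,0,4,4,0,1,0,0,1,0,0,2,0,3,3,0,2,0,2,3],
 [4,2,3,4,4,4,0,4,4,0,4,3,3,1,1,4,4,1,4,0,0,4,3,3,1,1,4,1,4,3,2,0,1,3,2,2,4,2,2,4,3,1,3,4,4,1,0,4,2,2,4,3,3,3,4,4,2,4,4,3,0,2,1,1,0,1,2,3,1,0,0,4,4,1,0,1,1,0,4,4,0,2,1,1,4,4,0,1,0,4,2,0,4,3,1,0,0,3,1,1,2,4,4,1,2,4,1,3,0,3,4],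
 [4,2,1,1,3,2,4,3,2,3,3,3,2,4,4,0,2,4,4,3,0,1,1,0,3,2,0,2,0,4,3,1,0,2,1,2,4,3,4,3,2,0,3,4,3,1,3,0,3,3,2,0,0,1,4,2,3,1,2,3,2,0,0,3,2,2,2,2,1,0,4,2,4,1,0,4,4,2,3,2,4,2,2,4,0,4,1,0,3,0,3,0,1,0,4,1,0,2,1,3,2,1,3,4,1,3,3,3,0,0,1],
 [0,0,1,0,1,3,3,2,0,2,3,4,3,0,2,4,4,3,1,3,2,2,1,1,0,1,0,1,4,1,2,1,1,1,4,4,0,1,1,2,3,1,4,1,0,2,1,3,2,2,2,1,1,1,1,0,4,1,4,2,0,4,0,4,3,2,1,2,2,3,0,2,2,1,4,1,0,2,4,3,0,1,1,3,3,1,4,4,2,1,3,0,0,4,3,1,4,3,3,3,4,3,3,2,4,3,0,2,2,0,4],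
 [3,0,1,2,3,4,4,3,0,4,2,1,3,3,1,0,1,1,3,2,4,1,3,3,1,4,3,1,1,4,1,0,1,4,0,3,3,0,0,2,4,2,0,3,1,2,4,3,3,1,1,0,1,0,1,3,3,1,4,0,0,1,2,1,3,0,1,1,4,1,1,2,0,2,3,0,0,3,2,2,4,1,4,3,1,1,0,1,2,3,1,0,1,1,4,0,0,3,2,4,0,0,0,1,0,3,4,3,4,4,2],
 [4,2,4,0,2,3,0,0,0,2,1,3,4,4,3,4,0,3,3,4,0,3,2,4,3,1,4,0,2,0,0,1,3,4,0,3,0,0,0,0,3,3,1,1,3,2,1,3,1,4,2,2,4,2,2,3,0,1,3,4,3,3,0,1,1,0,3,3,0,3,0,3,0,4,3,4,3,3,4,3,0,3,3,4,1,2,4,0,3,0,3,3,2,4,0,4,2,0,1,2,3,0,2,4,1,4,1,2,2,0,0],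
 [0,1,3,2,4,3,1,4,1,1,0,0,3,1,1,1,1,1,0,1,1,1,4,3,0,2,0,1,0,0,4,0,0,0,2,0,3,1,3,3,3,1,1,4,3,4,3,3,4,2,1,0,4,1,2,0,0,1,0,4,1,3,4,0,3,3,3,1,4,0,4,4,4,1,3,2,3,0,2,2,1,0,0,2,1,1,4,4,0,2,0,2,3,2,4,2,3,3,2,3,0,1,3,1,1,4,2,2,0,2,4],
 [0,1,1,4,1,1,1,3,3,1,2,3,0,0,2,2,1,1,3,4,4,4,1,3,2,4,4,3,1,0,2,1,0,0,1,0,4,4,3,4,1,0,1,1,4,0,0,2,0,0,2,3,0,2,3,2,3,4,2,2,2,1,4,4,4,0,2,4,1,0,3,4,2,4,0,0,0,4,4,0,4,4,1,4,0,1,2,3,2,2,1,1,3,4,1,0,0,1,2,0,2,3,4,0,0,0,1,4,0,0,1],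
 [2,4,0,4,1,2,2,3,3,1,3,2,4,2,2,2,4,2,4,2,4,4,0,4,4,4,4,1,3,0,0,3,1,4,2,0,2,0,3,2,4,2,1,3,0,3,4,2,4,1,2,3,0,3,4,4,4,3,2,3,0,4,4,3,2,2,4,2,2,1,2,3,2,3,3,2,4,3,2,0,2,0,4,1,4,2,1,0,4,2,2,1,2,4,4,4,0,0,1,4,0,3,1,3,3,0,0,4,0,3,0],
 [2,3,4,1,1,3,2,1,1,0,3,3,4,1,2,1,2,0,4,1,3,1,1,4,3,0,1,2,1,0,0,0,0,0,4,2,2,3,1,4,1,2,1,2,1,2,1,0,0,4,4,4,2,2,0,1,2,0,0,1,1,4,1,4,4,3,1,0,2,1,3,0,0,4,2,4,4,2,3,4,0,0,1,3,0,1,4,3,3,2,2,3,0,3,3,4,2,1,4,1,2,0,4,0,2,2,3,2,0,3,3],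
 [4,4,2,2,2,2,1,4,0,3,3,1,2,2,2,1,4,2,0,3,0,0,0,3,0,1,2,3,0,3,0,1,4,3,1,4,2,2,0,0,4,1,2,2,0,3,2,3,1,1,0,0,4,1,4,3,4,4,3,4,2,0,4,0,4,0,2,4,1,4,1,1,2,3,0,4,3,4,0,2,2,0,2,1,0,4,4,1,3,4,3,0,2,0,4,4,2,3,0,0,3,0,4,1,4,3,3,2,2,3,0],
 [0,3,0,2,2,2,2,0,0,4,1,0,0,0,3,4,0,1,0,0,4,0,1,0,1,3,2,3,3,1,0,1,4,1,2,1,4,3,3,4,0,3,3,1,4,2,2,1,4,3,3,4,2,0,1,2,0,2,3,2,0,0,0,4,2,0,2,0,0,0,4,2,4,2,1,2,3,1,1,3,1,1,4,0,4,0,4,3,1,4,2,4,1,4,3,3,1,2,3,2,4,3,4,1,3,3,2,2,1,3,4],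
 [2,3,3,0,3,4,1,1,0,2,0,1,4,1,3,0,0,3,0,1,4,3,0,1,1,4,4,2,4,0,3,1,1,1,0,1,2,0,0,1,2,2,0,0,3,3,4,4,2,3,2,2,4,3,3,1,3,0,3,1,1,4,0,1,3,3,0,2,2,4,3,4,0,3,4,2,2,0,1,2,2,1,0,4,2,2,2,0,1,3,0,2,4,2,4,2,1,1,0,2,1,1,0,2,3,1,2,0,1,3,2],
 [4,2,1,4,2,0,0,4,2,2,0,1,3,1,0,0,2,1,0,3,0,2,3,0,3,1,3,1,4,3,1,3,4,1,3,0,3,1,1,1,1,1,0,0,4,4,1,0,2,2,1,4,3,0,2,4,2,4,3,3,1,4,3,0,2,4,3,1,3,1,4,1,1,4,1,4,1,0,4,4,4,3,4,2,0,2,4,3,2,1,0,1,1,4,3,0,4,3,4,2,0,2,4,2,0,2,1,2,0,3,2],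
 [0,3,1,3,1,3,3,3,0,3,1,3,1,4,4,4,1,1,0,0,2,3,1,2,4,3,0,3,2,0,0,0,3,2,1,2,2,2,2,0,1,0,1,2,3,3,3,3,2,1,2,2,4,1,4,1,0,2,2,2,4,1,2,1,4,2,4,4,2,1,3,4,2,4,3,3,0,2,0,3,1,2,1,1,0,2,2,0,2,3,1,3,0,2,4,3,3,1,3,4,3,0,2,0,2,4,4,4,2,4,0],
 [4,1,2,4,1,1,4,3,1,2,1,1,0,4,0,1,3,2,2,2,1,0,4,4,1,1,0,0,3,2,3,1,2,4,0,1,0,2,0,3,2,0,3,2,1,2,1,3,4,3,4,4,4,0,2,2,0,1,3,1,4,0,1,2,3,4,1,2,4,0,0,3,2,4,3,0,3,0,4,1,2,2,0,1,1,0,3,0,3,4,1,1,1,4,3,1,1,0,2,4,2,3,2,1,4,4,4,1,1,4,1],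
 [2,1,1,3,4,2,1,2,0,0,3,2,0,2,0,3,2,2,0,2,4,0,3,3,0,4,1,4,0,3,1,1,0,2,0,4,1,1,4,0,0,4,3,1,3,3,0,3,0,0,2,3,1,0,1,3,3,0,0,1,4,0,0,3,2,0,4,2,0,2,3,1,3,0,3,2,0,4,4,1,3,1,1,2,2,4,4,2,4,2,0,0,3,0,2,2,3,1,1,2,1,4,0,2,0,4,4,2,1,3,1],
 [1,0,4,0,0,2,1,3,2,2,1,4,4,2,3,4,1,4,0,0,1,2,2,2,2,4,1,1,1,0,4,1,1,2,0,1,3,0,4,2,1,0,2,4,0,2,4,2,0,2,4,0,4,1,1,4,3,4,4,2,2,0,1,3,3,0,2,4,1,2,4,2,3,2,0,0,0,2,1,4,4,2,0,0,1,4,1,1,3,2,4,3,0,3,1,2,4,3,0,2,0,4,1,4,3,2,3,1,2,4,3],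
 [4,1,0,1,0,1,1,1,2,1,1,0,4,0,0,0,4,1,2,0,1,3,2,4,1,2,0,0,2,4,4,2,1,0,1,0,4,0,3,4,1,0,3,0,0,1,3,1,0,4,2,3,4,1,2,1,4,4,1,0,4,1,2,2,2,3,4,2,3,2,2,1,1,0,4,0,1,2,0,4,2,1,3,0,3,1,4,4,0,1,2,1,4,4,1,4,2,3,4,0,3,4,0,0,1,3,0,3,3,0,4],
 [2,0,3,4,4,0,3,1,0,2,0,2,1,3,4,3,1,4,1,2,4,4,0,1,2,3,2,3,1,1,4,2,4,4,2,1,0,2,2,0,3,2,1,0,4,4,1,2,1,2,3,4,1,2,4,3,2,4,1,3,4,0,2,2,1,2,4,3,1,3,2,2,4,0,4,3,2,0,2,0,1,3,4,3,4,3,0,4,0,0,3,1,2,2,4,1,4,2,4,4,2,3,0,1,3,4,3,0,4,0,2],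
 [1,2,3,2,0,4,2,4,1,3,1,0,2,1,0,2,2,2,4,4,0,0,2,4,2,4,2,0,3,1,0,0,1,2,1,1,4,0,3,3,0,1,3,0,0,3,4,1,4,1,0,0,1,1,3,0,0,4,0,1,1,2,1,0,3,1,2,1,1,3,4,0,1,3,4,1,1,1,3,4,3,3,0,1,1,3,1,1,0,4,1,3,1,2,3,4,4,4,1,0,2,0,1,0,2,0,2,1,0,4,2],
 [4,3,1,3,2,0,3,3,0,2,0,1,3,0,2,4,3,2,4,0,4,0,2,3,3,2,2,1,1,3,0,3,0,3,0,0,2,1,0,1,3,3,3,2,1,1,4,0,3,1,4,2,4,2,3,1,2,4,0,2,1,1,1,1,0,3,1,3,0,3,3,0,2,3,2,2,1,3,2,0,0,1,4,0,4,4,3,1,2,0,1,2,2,1,2,0,2,4,3,3,0,1,4,2,1,1,4,0,0,3,3],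
 [3,1,1,2,2,1,4,1,0,4,2,1,3,1,3,1,4,3,2,3,2,0,2,1,0,3,3,2,0,2,1,0,0,0,3,2,2,3,3,0,0,2,0,0,0,0,0,2,1,3,0,1,4,3,0,4,0,1,0,0,4,3,3,3,1,3,0,4,0,1,2,2,0,4,0,4,1,2,2,2,2,3,1,1,0,0,2,4,4,3,0,2,0,3,0,0,3,1,3,2,0,4,1,3,0,1,3,3,3,0,1],
 [1,1,3,1,3,3,2,0,2,0,2,1,1,2,1,3,4,3,2,1,2,2,2,0,1,1,0,4,4,0,0,1,4,0,0,4,2,4,4,3,1,1,3,4,0,4,0,2,3,1,4,3,1,3,3,4,4,4,0,4,1,2,3,0,0,0,0,0,4,3,3,2,2,1,1,4,2,0,4,0,2,4,1,0,4,0,0,4,1,3,4,3,0,3,4,3,1,1,4,4,2,4,1,3,4,1,3,3,1,3,0],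
 [1,0,1,2,2,3,1,3,4,4,4,4,0,2,4,0,2,0,2,3,2,3,3,3,0,3,4,4,2,0,0,4,4,0,0,2,1,0,4,4,1,4,3,1,4,3,1,0,3,4,4,1,0,2,2,4,3,1,4,1,4,0,4,3,0,2,0,3,3,1,4,1,0,0,2,1,3,2,4,3,2,4,3,3,3,3,3,0,0,4,4,3,2,1,1,2,0,1,4,2,1,4,0,4,2,1,2,3,0,2,0],
 [0,2,4,2,4,1,1,3,2,3,0,2,4,2,0,3,2,4,3,4,0,2,3,2,0,4,3,2,2,0,1,1,4,4,3,0,0,0,0,3,2,2,1,0,2,1,0,0,1,3,0,0,4,2,4,3,2,2,1,4,2,3,4,3,2,3,4,3,0,3,0,0,1,1,0,0,4,3,2,4,1,0,3,3,4,3,0,2,2,1,1,4,0,1,3,4,0,3,4,4,4,2,4,1,0,1,2,4,1,1,0],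
 [2,1,1,1,1,2,3,2,2,4,1,2,4,3,1,3,1,4,3,3,3,3,1,0,0,3,0,2,2,0,3,4,3,4,4,2,0,1,2,0,1,1,1,0,2,0,4,1,0,1,2,2,3,2,2,0,4,0,3,1,3,0,4,2,1,2,2,0,2,3,1,4,0,3,0,1,3,3,2,1,2,2,0,1,1,4,2,1,4,4,0,4,1,4,2,3,0,1,2,2,4,0,2,4,3,4,2,1,2,0,1],
 [2,3,4,1,2,3,1,4,2,4,2,4,4,4,4,4,2,4,4,3,4,2,3,1,0,4,4,2,2,0,4,2,1,1,0,4,1,3,4,3,0,1,1,2,3,4,2,3,0,2,0,3,4,1,2,1,3,1,4,4,0,4,1,3,4,0,2,1,4,0,2,1,3,1,4,2,2,0,4,4,3,1,4,4,0,4,1,1,1,0,0,2,2,3,4,3,0,0,1,4,3,1,4,1,2,2,0,0,2,1,0],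
 [4,4,3,3,0,1,2,1,2,1,1,1,0,4,4,1,1,1,4,3,1,3,3,3,2,3,1,3,2,0,3,0,3,1,4,4,4,4,2,0,4,4,3,4,4,1,2,3,3,3,1,3,0,1,0,1,0,1,2,1,3,2,0,4,1,1,0,3,4,2,2,1,1,2,3,1,0,0,0,0,0,3,2,3,1,4,1,3,2,3,0,3,0,2,2,3,4,0,1,4,0,4,4,4,1,1,1,0,1,1,4],
 [0,4,3,2,0,0,2,1,3,2,3,2,4,0,4,3,0,2,1,0,0,4,0,1,0,3,0,4,1,2,4,0,1,4,3,2,3,1,2,0,2,3,4,0,2,2,3,3,2,0,0,4,3,1,2,2,2,0,3,2,4,1,1,4,3,2,1,1,1,3,3,0,1,4,3,4,2,4,4,0,0,4,1,2,3,0,3,1,4,4,3,3,1,2,1,0,3,2,3,0,1,1,0,0,4,0,2,4,0,3,3],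
 [2,2,3,4,0,1,3,4,2,4,0,1,1,2,4,0,4,1,1,0,1,0,1,3,0,1,3,0,3,4,4,3,4,2,3,4,1,1,3,0,0,4,1,4,2,2,1,2,1,2,1,4,3,4,2,2,1,1,4,2,1,2,0,1,2,0,4,1,3,1,1,0,4,1,3,1,3,3,0,4,1,4,0,3,4,4,2,1,3,0,1,0,0,2,3,3,1,4,4,2,1,3,4,4,3,4,2,0,0,2,3],
 [4,4,2,3,3,3,1,2,1,2,0,4,3,4,2,2,0,2,1,2,3,4,4,2,0,1,2,3,0,1,3,4,1,0,0,0,2,0,0,2,0,2,0,2,0,4,1,4,1,3,4,0,3,4,0,3,4,4,4,3,2,2,4,0,0,2,4,4,3,0,0,2,2,4,2,2,2,2,1,2,0,4,3,1,1,4,2,1,3,0,3,3,0,4,0,4,0,0,3,2,0,2,1,3,4,3,0,3,1,0,2],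
 [2,1,0,3,2,2,3,3,0,4,1,3,4,1,1,1,2,0,2,2,4,2,0,1,2,2,1,2,2,1,4,4,0,4,2,4,2,1,3,3,2,3,0,4,4,0,0,0,4,0,2,1,0,0,0,4,2,0,3,1,2,4,3,1,3,2,3,3,1,3,3,4,1,2,3,4,3,3,3,1,0,3,4,4,0,3,3,2,1,4,0,1,1,2,3,2,3,1,2,3,3,1,3,1,0,2,0,2,3,0,1],
 [1,4,3,1,3,2,2,1,0,3,0,1,2,3,4,4,1,2,4,0,2,4,3,0,2,0,0,2,1,2,0,0,2,4,4,2,1,1,2,0,0,0,3,4,0,1,4,3,1,0,2,0,3,2,1,3,4,3,0,4,0,0,0,2,1,2,0,4,3,2,3,0,3,4,1,1,4,2,0,4,4,4,1,3,1,2,1,4,0,1,1,1,0,2,0,1,4,3,3,0,3,4,0,4,4,4,3,3,1,1,0],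
 [0,0,0,0,3,0,4,2,1,1,1,4,2,2,2,0,3,4,3,2,4,0,2,1,2,4,3,0,0,4,2,3,2,2,4,1,2,1,1,2,4,1,0,0,3,4,1,3,1,2,3,2,3,4,2,2,2,0,3,4,2,0,4,3,2,4,3,0,2,4,0,2,3,4,1,0,0,4,4,1,0,1,1,4,1,2,4,4,3,1,3,1,1,0,3,4,4,2,4,0,3,1,3,0,4,0,0,0,1,0,3],
 [3,1,4,1,1,2,4,4,0,1,3,4,2,2,0,1,0,2,1,2,2,4,3,1,2,0,0,1,4,0,4,4,3,4,1,1,2,1,0,0,4,0,0,3,4,1,0,4,4,3,3,0,2,3,0,2,4,3,2,0,1,1,4,4,2,3,1,4,0,4,0,4,3,1,0,1,1,0,0,0,2,1,4,0,1,1,1,1,0,3,1,2,1,3,0,3,4,2,1,1,0,0,4,1,0,2,1,2,4,2,3],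
 [3,0,3,1,1,1,3,0,0,0,3,0,4,3,0,3,3,0,4,4,1,0,3,4,1,4,3,0,2,1,2,1,3,4,1,3,0,3,0,0,1,2,3,3,1,1,4,0,3,2,1,2,0,4,3,1,3,3,0,1,1,4,3,1,3,2,1,4,4,0,3,3,2,3,2,3,1,2,3,0,4,2,3,2,4,3,4,2,2,2,3,3,2,3,1,2,1,3,3,4,0,1,3,0,2,2,1,1,3,2,0],
 [2,2,3,1,0,2,0,2,4,0,1,4,3,3,0,3,1,0,2,1,0,0,3,3,4,3,2,3,0,1,2,3,1,1,4,1,3,2,0,2,4,2,4,0,3,3,2,0,0,0,4,3,1,1,1,0,0,0,1,3,4,0,3,1,3,1,3,0,4,1,4,3,2,2,4,4,0,1,0,1,2,2,3,3,2,0,2,4,1,0,4,1,3,4,1,4,2,3,3,3,1,4,0,0,1,0,1,4,2,1,4],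
 [2,4,0,1,4,2,2,0,1,0,4,1,1,2,4,0,0,3,0,0,4,4,1,1,2,2,1,2,2,1,4,1,4,3,3,0,4,4,3,1,4,1,2,4,0,2,0,2,4,4,0,1,2,2,4,1,0,0,2,3,2,4,3,4,4,2,2,3,4,0,2,3,3,0,2,2,0,0,3,2,1,1,0,3,0,0,1,3,2,3,3,2,2,2,3,2,2,1,0,1,0,2,2,3,4,2,2,1,2,4,1],
 [2,3,2,1,0,4,3,2,3,3,0,2,1,4,4,3,0,2,2,3,4,1,4,3,4,4,1,0,4,3,3,0,3,4,2,1,0,1,4,2,1,0,4,1,3,2,1,0,2,3,0,1,4,1,1,4,1,3,1,4,4,4,1,3,4,2,3,0,2,3,3,0,1,2,3,0,2,2,0,1,4,2,0,3,1,1,3,1,4,0,3,2,4,3,1,0,0,4,3,0,4,1,1,0,4,0,3,3,0,2,0],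
 [1,3,0,3,2,4,0,0,0,2,3,3,0,3,0,2,2,2,3,2,2,2,4,1,4,0,0,0,1,2,2,1,2,0,1,0,3,3,0,3,2,3,4,0,2,4,0,0,0,0,2,1,2,0,2,0,2,1,4,3,1,4,3,0,0,1,1,3,1,1,1,2,2,2,0,2,4,0,4,0,1,0,2,0,2,0,3,1,2,4,1,2,2,3,4,3,4,4,1,4,0,1,0,4,1,0,1,4,1,4,1],
 [3,2,4,3,1,1,1,1,2,0,3,2,1,0,2,3,2,0,0,2,1,3,4,4,1,4,1,3,4,1,3,2,4,3,0,0,3,4,2,4,1,4,1,1,3,1,3,3,3,4,2,2,3,4,0,4,4,0,3,3,0,3,0,2,4,0,0,4,4,0,2,1,3,1,4,1,0,2,4,4,3,1,4,4,1,1,1,0,2,0,2,2,4,1,0,4,0,0,1,4,0,4,1,4,2,1,1,3,1,3,2],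
 [0,4,4,3,1,2,0,4,2,4,1,0,4,1,2,2,0,0,4,3,3,3,2,2,4,3,3,1,0,4,1,2,4,0,4,3,0,2,1,4,2,1,1,0,3,2,4,3,4,2,1,4,1,1,0,1,2,1,3,3,4,2,3,3,0,3,2,4,1,2,1,2,4,1,0,4,2,4,0,3,2,1,1,0,2,0,1,3,3,0,3,2,0,4,3,2,3,0,2,2,2,1,3,4,0,4,4,2,0,0,4],
 [1,0,0,1,0,2,0,1,4,1,2,2,1,2,1,4,2,2,0,0,3,1,0,2,4,2,3,3,0,0,0,1,0,2,1,3,4,1,0,0,1,0,3,1,0,1,0,3,4,2,4,3,0,3,0,0,2,3,4,1,0,0,3,1,0,3,2,4,4,4,0,3,0,2,2,4,3,1,0,2,3,1,4,2,1,1,1,3,4,4,4,4,1,2,1,1,3,3,3,0,4,1,2,2,1,1,4,3,2,2,2],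
 [0,4,2,4,2,3,1,3,0,2,0,1,0,0,4,4,0,1,0,1,3,0,0,3,2,0,2,0,4,0,2,1,0,0,2,3,1,1,0,2,4,4,3,4,0,4,1,2,2,2,0,1,0,1,4,1,3,2,2,2,4,1,0,1,2,1,4,0,1,0,2,2,2,3,3,2,2,3,4,3,0,0,4,1,1,2,2,1,0,3,3,2,2,0,3,3,0,2,3,0,4,2,1,1,1,2,3,4,4,1,4],
 [0,0,3,1,0,1,1,4,4,0,1,3,0,2,1,4,0,3,0,3,1,4,0,4,1,0,1,2,1,2,4,4,0,0,3,3,2,4,1,2,3,2,3,0,1,4,1,3,2,0,3,4,0,1,2,4,3,0,4,2,4,4,1,2,1,3,3,0,2,4,3,3,1,1,3,0,1,2,2,3,4,3,1,2,1,4,4,4,4,4,3,4,2,3,4,4,2,0,4,3,3,4,3,3,2,4,0,0,2,4,3],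
 [3,4,0,0,2,1,3,4,1,0,1,3,0,4,0,0,1,4,1,1,1,3,4,2,3,3,4,2,2,4,3,0,1,0,1,2,0,0,1,1,3,4,2,1,1,3,1,3,1,1,2,4,4,0,2,2,2,4,3,1,4,2,1,2,3,3,2,2,3,0,4,3,3,2,0,4,4,4,1,4,0,0,1,4,1,3,3,1,3,0,3,3,2,3,3,2,1,3,1,3,1,0,4,3,1,2,3,0,2,1,3],
 [4,2,0,1,0,3,1,4,3,2,1,4,4,3,0,0,4,0,2,1,0,3,1,3,2,3,0,0,0,2,0,4,3,1,0,4,4,1,3,3,4,3,4,2,1,4,3,0,2,3,4,3,3,3,3,3,4,4,4,4,0,4,1,3,1,0,4,4,2,0,1,0,0,4,3,2,0,2,0,2,3,4,2,0,1,4,2,2,4,0,4,4,1,3,1,1,3,3,0,3,2,1,1,3,1,3,2,1,1,0,2],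
 [1,0,2,1,4,1,0,3,1,2,1,0,4,1,2,4,1,4,0,2,1,2,4,4,4,0,0,0,4,2,2,1,3,2,4,0,1,1,2,1,1,3,3,1,0,2,0,4,0,3,1,2,2,1,2,4,2,4,3,3,1,2,0,0,3,0,1,1,0,1,3,3,3,4,4,2,3,1,4,2,3,1,4,3,0,2,1,1,1,4,1,2,3,2,3,3,3,4,2,4,1,0,0,0,4,3,4,2,4,0,4],
 [2,0,4,0,3,0,3,1,4,2,0,0,2,3,4,3,4,1,2,3,0,3,3,3,1,2,3,2,2,1,0,3,4,2,0,4,1,1,4,4,2,2,4,0,0,1,3,3,2,4,0,4,0,1,3,2,4,0,0,0,1,3,0,1,1,2,1,0,1,2,4,0,4,1,3,0,0,2,3,3,4,1,2,3,0,0,1,4,4,0,1,4,1,0,4,3,2,3,4,1,0,1,1,1,3,4,3,2,1,1,4],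
 [0,4,3,4,3,3,0,0,0,4,3,4,3,0,4,1,3,3,1,2,2,3,1,2,1,3,0,3,3,0,4,1,4,0,4,0,1,3,0,1,2,2,1,4,1,1,2,1,4,3,2,2,3,4,2,3,3,0,2,2,3,1,2,0,3,3,0,2,4,1,0,0,4,0,2,4,1,4,1,4,3,4,1,3,3,1,1,1,1,2,4,3,0,4,1,1,4,2,1,3,4,3,1,2,4,4,3,2,4,0,0],
 [1,1,1,2,0,0,3,3,3,2,4,3,3,2,2,0,3,4,2,2,1,3,1,3,2,1,3,1,3,0,1,4,0,1,0,2,3,1,4,2,0,1,1,2,1,1,3,3,0,4,4,4,1,3,0,1,4,4,0,3,2,0,4,1,4,4,2,1,4,0,2,0,2,0,4,3,4,4,3,4,3,1,2,0,4,4,2,3,2,2,1,1,1,2,3,2,1,1,3,4,1,0,1,3,4,0,4,0,1,0,2],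
 [3,4,0,2,3,0,4,3,0,0,3,4,2,3,2,4,2,1,2,4,4,0,0,4,1,0,1,4,4,3,2,2,2,4,4,0,0,0,2,2,4,3,2,4,4,0,2,4,3,1,1,1,4,2,0,4,1,1,0,3,4,2,0,3,4,3,3,1,4,4,3,3,4,0,4,1,4,3,3,1,4,0,1,2,1,3,4,3,1,0,0,3,3,4,2,3,0,1,0,0,3,3,4,0,2,2,4,1,3,1,1],
 [0,1,0,4,1,1,4,2,3,3,1,4,2,2,1,0,1,2,1,1,0,1,4,0,4,2,2,1,0,4,4,2,3,0,3,4,2,2,0,3,2,0,2,1,4,2,1,2,2,3,1,2,2,1,2,1,1,1,4,3,4,4,3,2,1,4,3,4,2,3,3,2,4,2,3,2,2,4,2,1,3,4,1,1,2,0,4,3,4,4,3,2,4,1,0,3,0,0,2,4,1,0,2,3,0,2,3,1,4,3,2],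
 [4,3,0,3,3,4,2,0,3,0,2,3,3,3,1,2,4,4,3,1,2,1,3,1,4,0,4,2,1,3,0,4,1,0,0,2,1,1,4,4,4,3,3,4,1,1,0,0,2,1,0,0,0,2,0,1,1,3,3,1,0,0,2,1,0,4,1,0,3,0,0,3,0,0,1,0,1,3,4,3,0,4,4,2,0,4,2,2,1,1,4,2,1,0,2,3,0,3,1,0,1,2,1,3,1,2,4,2,4,4,2],
 [3,2,1,3,0,4,2,2,2,4,4,2,1,2,1,1,0,0,1,1,2,4,2,0,4,3,0,4,0,2,4,2,0,4,0,0,2,1,1,1,2,1,1,2,1,0,3,3,0,0,3,4,0,3,4,0,1,0,3,4,4,1,2,3,0,2,4,2,4,1,3,4,1,3,3,4,3,0,1,4,2,1,3,1,0,2,3,2,2,3,4,0,3,0,4,3,3,1,3,3,2,0,0,1,0,1,3,4,2,1,3],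
 [0,4,2,2,4,4,2,3,2,2,4,4,3,2,0,2,3,0,0,3,0,3,1,3,1,0,0,3,1,2,0,4,2,0,2,3,3,1,0,1,3,3,4,4,2,3,2,2,1,3,0,4,4,4,3,1,0,4,1,0,1,3,1,1,1,4,4,4,2,0,4,0,1,0,1,1,0,2,4,0,2,3,1,1,4,1,1,3,0,1,1,3,0,3,0,0,3,3,2,3,3,3,2,2,0,2,2,4,1,2,1],
 [3,1,3,1,0,2,4,3,1,4,4,2,0,4,2,2,1,1,0,0,4,3,1,2,3,0,0,0,3,0,1,2,3,0,2,0,0,2,3,1,3,3,1,0,0,4,3,1,3,3,1,1,3,0,0,1,3,1,1,3,3,3,2,3,0,4,3,3,2,0,3,0,3,4,2,1,3,1,0,4,3,0,1,0,3,2,0,3,3,3,2,3,2,2,3,4,0,2,3,4,1,0,0,2,4,1,0,0,0,2,0],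
 [1,4,4,4,4,2,3,1,1,3,2,1,4,2,0,2,3,1,2,1,2,0,4,0,2,3,3,3,0,0,2,3,0,3,1,3,2,4,0,2,3,1,2,1,4,1,2,0,0,3,2,3,2,3,0,1,3,4,1,0,1,2,2,1,1,0,3,1,3,3,3,3,1,0,1,0,2,4,0,0,4,3,4,0,0,1,3,3,0,2,4,2,2,2,0,1,0,0,3,1,3,1,3,2,3,4,1,4,1,4,0],
 [0,0,3,4,3,3,4,2,4,1,1,2,3,0,0,4,4,2,0,1,4,0,2,4,1,0,0,4,2,1,2,0,2,0,2,0,0,0,3,2,4,3,4,2,2,1,2,0,1,3,3,4,1,2,4,1,2,3,2,3,4,3,3,4,3,3,4,1,3,1,0,1,1,4,1,3,0,4,0,4,4,3,3,2,1,2,2,3,0,4,0,4,3,0,4,0,2,0,2,3,0,4,4,1,3,4,2,2,3,4,4],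
 [3,1,0,3,4,0,4,3,1,1,4,0,0,2,4,3,2,4,0,0,2,0,1,0,0,4,4,2,3,2,4,3,1,1,1,3,0,2,3,2,4,2,0,1,1,0,4,1,4,0,2,2,3,1,1,4,4,0,0,3,1,2,2,2,0,4,3,2,3,0,2,2,1,2,0,3,2,3,2,0,3,0,0,3,0,4,4,0,3,4,4,4,1,0,0,2,2,2,0,4,3,0,0,4,0,1,4,4,1,0,1],
 [3,3,1,2,4,2,1,2,1,3,4,3,3,0,2,0,1,4,1,2,4,0,4,0,2,2,2,0,1,0,1,1,1,3,0,4,1,4,3,2,4,2,3,4,2,0,3,4,2,3,3,2,3,4,3,1,0,3,0,2,4,2,0,0,1,0,4,4,3,4,4,3,3,4,2,0,0,0,2,1,1,0,2,4,1,3,2,2,0,4,0,1,0,3,1,1,4,4,4,0,2,3,4,4,1,3,2,4,2,4,0],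
 [3,1,3,3,4,1,1,1,1,2,1,0,0,4,4,4,0,3,4,4,0,0,3,4,2,4,4,2,2,4,1,1,4,3,4,2,1,0,3,3,2,4,4,4,3,3,1,0,4,3,0,3,1,0,3,4,2,1,4,0,0,0,3,0,1,3,1,1,2,1,2,2,2,3,4,3,4,0,1,2,0,3,0,4,3,2,2,1,3,0,4,3,2,4,1,0,2,3,3,2,4,1,2,4,4,4,3,0,1,1,3],
 [1,4,2,2,0,1,4,0,1,0,3,0,4,4,0,2,3,1,4,4,0,1,0,1,3,1,1,3,1,2,0,1,4,1,0,3,4,4,3,3,4,4,3,1,4,4,2,1,2,0,2,2,1,4,3,4,3,0,4,2,1,3,4,3,0,2,2,3,1,1,0,0,1,1,0,0,3,4,3,0,2,1,0,1,2,4,0,4,3,1,4,0,2,4,3,3,0,1,1,1,4,3,4,4,3,1,4,2,3,3,0],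
 [1,4,4,2,2,0,4,1,2,0,3,1,2,3,2,0,1,0,4,2,0,2,1,1,4,4,1,2,3,0,3,3,0,1,3,3,0,2,3,3,0,0,0,4,2,1,0,4,0,0,1,3,3,2,2,2,1,4,2,0,2,1,0,4,4,2,4,0,1,0,3,4,3,0,2,0,2,2,3,4,0,0,1,2,2,4,2,1,3,2,2,3,1,1,1,0,4,4,1,3,0,3,4,1,3,3,1,3,3,0,4],
 [1,2,1,1,3,2,2,1,3,4,2,2,2,2,4,2,2,3,3,2,1,0,2,1,4,2,2,3,3,3,2,2,0,0,0,2,2,2,1,3,1,1,0,0,2,0,0,1,2,1,3,0,2,0,2,1,2,1,0,2,1,0,4,0,0,0,2,4,1,1,0,3,0,2,0,1,3,3,4,0,4,4,1,4,4,4,3,4,3,1,4,1,3,0,4,4,2,0,3,2,4,4,4,1,2,2,0,1,2,0,1],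
 [0,3,0,4,4,3,3,0,1,0,4,0,3,4,0,3,2,4,3,4,4,1,2,1,4,4,0,1,1,2,1,4,4,4,0,2,1,0,3,4,2,2,2,1,4,3,3,3,2,1,3,0,1,3,2,3,3,1,3,4,1,0,2,3,1,1,4,4,3,3,1,0,2,1,2,1,4,0,4,2,0,3,1,1,3,3,4,0,2,3,4,1,0,3,4,0,4,3,1,1,0,3,0,0,0,3,3,2,2,2,0],
 [2,4,2,2,1,4,4,2,1,3,2,3,3,0,0,1,0,4,1,2,4,4,0,1,3,2,2,3,0,4,1,2,0,1,3,3,4,1,2,1,1,3,2,0,4,2,4,4,4,3,4,3,4,2,1,2,4,4,3,3,0,0,3,3,3,4,1,0,1,2,2,0,4,4,2,3,3,1,4,4,3,4,0,3,0,4,0,4,2,0,2,1,3,2,1,4,0,4,0,0,2,2,3,2,4,4,4,4,3,1,3],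
 [2,3,0,4,1,4,3,2,4,0,2,1,0,3,0,3,4,3,1,4,0,3,1,1,4,2,1,2,2,1,2,2,2,3,1,4,1,3,1,3,3,1,4,4,4,0,4,1,1,0,4,0,2,0,3,3,3,1,2,0,1,0,3,1,2,2,1,0,1,1,2,3,0,3,2,4,2,4,4,0,2,0,2,4,0,4,1,3,1,1,0,0,4,1,4,2,0,1,3,0,2,3,3,1,2,3,2,4,3,2,2]
]

/-- named matrix 6 -/
def nm6 : List (List ℕ) := [
 [1,0,0,4,4,3,3,2,2,3,1,1,2,3,0,3,1,1,0,3,4,4,3,1,1,2,3,0,0,3,4,1,1,1,2,3,1,3,2,4,1,3,0,0,0,4,0,3,3,3,3,0,3,4,4,4,1,3,0,2,2,2,2,0,0,1,0,1,1,2,2,2,4,4,0,1,2,1,0,2,3,3,4,1,1,0,4,1,1,2,1,2,0,2,3,1,0,1,4,2,4,1,2,3,4,1,3,4,1,0,3],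
 [4,1,1,4,2,1,1,0,1,1,2,0,0,4,1,4,3,0,1,2,3,0,1,4,0,4,2,2,1,2,4,4,2,2,3,1,4,3,3,4,0,1,4,4,3,4,0,4,2,2,1,0,3,0,3,3,3,0,2,0,4,1,2,4,2,3,4,2,3,1,0,1,1,0,0,4,4,0,4,0,4,0,4,4,4,0,2,0,2,1,4,3,2,0,3,0,0,4,2,1,0,3,2,0,2,2,1,0,2,1,0],
 [0,1,0,2,2,3,4,3,1,4,1,0,2,1,1,2,0,3,0,3,2,2,4,0,0,1,2,3,1,2,2,2,3,3,1,4,0,3,0,1,1,2,0,2,1,0,1,3,4,2,1,3,0,4,3,2,4,1,3,1,1,0,4,2,3,0,1,0,3,3,0,1,1,4,4,2,1,4,2,4,1,0,4,0,3,1,1,1,1,1,0,4,4,2,1,0,3,1,0,4,3,4,2,4,1,1,2,0,0,1,1],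
 [0,0,3,0,0,3,3,2,0,2,1,0,0,2,3,2,1,0,2,2,2,2,2,2,2,1,3,2,2,3,1,3,3,4,0,3,1,1,2,1,1,4,4,0,3,4,2,2,4,0,0,4,3,0,3,4,0,0,3,0,2,2,1,3,2,4,3,3,1,2,4,1,1,1,1,4,0,3,0,2,4,2,1,2,4,3,1,4,4,4,1,3,4,0,2,3,0,1,3,2,3,0,3,2,1,1,0,0,0,1,3],
 [3,0,4,4,4,0,4,4,0,4,0,0,2,4,2,2,3,0,3,4,0,1,3,1,3,4,0,2,4,1,1,3,3,3,4,1,3,3,3,0,1,0,1,2,0,4,4,1,4,2,1,1,1,3,0,3,4,2,2,3,0,0,1,2,1,2,0,3,0,2,2,3,3,1,3,4,1,3,0,3,2,4,4,3,0,1,4,1,0,4,2,1,3,2,4,0,2,1,1,1,4,1,1,3,2,3,2,1,2,4,3],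
 [0,3,1,2,1,4,2,1,3,2,0,0,2,3,2,0,0,3,4,1,3,0,3,2,1,1,2,2,3,2,4,3,2,2,4,4,2,0,3,4,0,0,2,0,1,4,0,1,0,4,3,4,0,4,1,2,0,2,4,1,2,2,0,2,0,0,0,2,4,1,0,0,0,1,4,4,1,4,3,0,2,0,1,1,1,1,3,1,1,4,1,3,1,3,3,0,1,4,4,1,3,3,1,0,2,0,1,2,1,4,2],
 [0,3,3,0,3,1,2,3,3,2,0,2,4,1,2,4,4,1,1,4,1,2,3,3,4,2,2,0,2,0,3,0,4,0,4,4,3,1,2,4,2,2,0,4,1,4,4,3,2,0,3,0,0,4,1,4,2,3,3,4,3,4,1,4,3,3,4,4,3,2,1,0,4,3,3,2,1,2,3,3,1,0,0,0,4,3,4,1,0,1,4,0,1,2,0,3,1,1,2,4,3,0,2,2,1,4,3,0,1,2,3],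
 [2,2,0,4,3,2,1,4,2,2,3,0,0,3,1,3,1,3,1,3,0,1,3,3,1,0,3,4,4,1,3,2,3,4,2,0,2,3,2,3,0,4,4,3,4,4,4,2,4,4,0,3,3,0,4,1,0,4,2,4,2,3,1,2,1,1,4,4,0,1,3,2,0,0,1,3,1,1,3,3,1,3,0,1,4,4,1,0,2,3,2,2,0,1,4,1,0,2,4,0,2,1,1,2,0,2,4,4,2,4,2],
 [4,3,2,1,4,0,1,0,0,3,4,4,3,0,3,0,1,2,4,3,2,4,2,4,3,0,3,4,3,0,3,3,3,4,0,1,4,2,1,3,3,3,1,4,1,0,3,0,3,4,0,4,3,2,2,1,2,2,3,4,4,3,3,4,0,3,4,3,1,1,3,4,2,3,2,1,1,1,1,2,1,0,3,0,1,3,3,4,1,3,1,1,3,0,1,3,0,3,2,1,2,3,4,3,3,1,3,2,3,3,4],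
 [1,1,3,1,4,4,3,1,4,0,1,3,4,2,0,3,3,4,0,0,0,0,1,2,4,3,2,1,2,4,3,0,0,4,2,4,1,1,2,2,2,3,3,1,0,2,3,2,0,0,3,4,1,2,1,2,4,4,1,3,0,0,1,4,4,0,4,3,2,3,3,1,3,3,3,0,3,0,3,1,0,4,3,4,3,2,3,2,0,0,1,0,2,2,1,2,1,3,1,1,0,0,3,3,1,1,0,4,2,1,4],
 [3,2,4,2,3,4,1,4,2,4,4,1,0,0,4,4,4,4,0,4,2,3,3,4,2,0,1,3,4,1,1,2,2,4,4,1,1,2,0,2,2,4,1,4,3,2,3,2,4,3,2,2,0,1,3,2,2,2,3,2,0,0,2,3,2,4,0,0,0,0,1,3,3,4,1,2,3,0,1,3,0,4,0,4,0,1,3,0,1,2,3,0,1,0,3,3,1,4,1,0,0,4,3,1,2,1,3,2,0,1,1],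
 [2,1,0,1,3,3,3,2,2,2,4,4,3,1,3,1,3,4,3,2,3,4,2,0,2,4,3,3,3,4,0,0,0,0,2,1,2,1,3,4,4,3,1,0,2,3,3,0,0,4,4,2,3,0,0,4,4,4,2,0,1,4,4,0,4,3,0,0,1,4,2,1,4,1,0,2,4,4,1,4,3,1,0,0,1,2,1,4,4,2,4,3,3,3,2,4,4,4,2,4,3,4,0,1,2,4,0,1,2,1,0],
 [2,1,1,1,0,4,1,4,0,1,2,4,4,2,1,3,3,0,1,0,3,3,0,3,0,4,3,0,1,0,3,3,1,4,0,0,4,1,4,3,3,1,0,4,0,4,1,2,1,3,3,3,2,2,0,2,3,0,4,3,1,3,0,3,2,3,2,1,0,0,4,0,1,0,4,4,4,4,1,4,4,1,0,3,3,2,3,2,2,1,0,2,3,0,0,0,4,1,1,3,2,3,4,0,4,4,1,3,1,3,3],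
 [2,0,4,2,3,3,1,0,4,1,0,2,4,3,0,2,4,2,0,4,0,0,1,0,0,0,4,0,2,3,0,1,1,0,0,2,4,4,0,2,0,4,1,0,2,4,3,4,1,2,1,3,3,2,1,1,2,1,0,1,3,4,2,2,3,1,3,1,0,4,2,3,0,1,2,2,3,1,3,3,1,2,2,2,4,4,2,3,2,4,2,4,4,1,0,3,1,2,1,1,1,0,3,1,0,4,1,2,2,2,1],
 [4,0,3,4,2,1,4,3,4,0,0,1,3,1,1,2,4,0,0,1,0,3,3,2,2,4,0,2,3,3,0,0,2,2,3,1,1,3,2,2,4,2,0,3,4,2,0,1,4,2,2,0,4,0,2,4,2,3,4,2,1,2,1,4,4,0,2,0,0,2,4,1,4,0,1,2,3,2,1,3,4,4,1,3,3,0,2,2,4,0,4,4,1,1,3,4,4,2,1,2,1,3,0,4,3,4,2,3,4,1,0],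
 [1,3,1,4,0,0,0,3,0,3,2,4,4,1,4,3,3,3,4,3,4,0,2,0,4,1,1,4,2,0,1,1,4,4,1,0,1,3,4,1,4,0,2,1,0,2,1,1,2,2,1,1,1,2,0,4,3,3,0,1,2,4,2,3,4,2,3,2,0,1,4,2,0,0,2,4,2,2,1,1,4,0,2,1,0,2,1,0,2,4,0,3,1,0,3,1,3,1,4,3,3,2,1,2,2,2,1,4,2,0,1],
 [1,2,3,3,4,2,2,4,3,3,0,2,0,4,1,1,1,3,2,2,4,4,4,2,0,2,0,1,4,1,3,4,1,1,1,3,0,0,3,3,1,2,2,3,3,0,0,3,4,0,3,2,4,2,0,0,4,0,0,3,3,4,4,1,3,1,0,1,1,3,2,3,3,1,3,1,2,1,4,1,0,0,1,3,4,0,2,0,0,0,3,2,4,0,2,1,1,1,1,2,2,0,1,0,0,0,0,2,0,2,4],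
 [0,4,0,1,4,4,1,4,4,1,1,0,2,4,4,0,4,1,3,4,1,3,0,0,3,2,3,2,3,2,3,4,4,0,0,0,3,3,0,4,2,3,0,2,4,2,1,3,1,2,1,1,1,3,4,2,1,0,1,2,2,4,0,2,4,2,2,0,2,1,2,4,2,1,0,0,3,4,0,1,4,1,0,3,3,0,0,3,2,0,0,3,3,1,4,2,2,2,1,0,3,4,1,2,0,2,0,3,0,1,3],
 [3,2,1,1,1,1,0,2,3,2,0,1,3,4,4,0,4,2,2,0,2,3,3,4,0,1,4,0,4,2,3,4,4,0,2,4,2,3,0,0,2,0,1,2,3,2,0,3,0,2,1,3,3,3,4,0,3,1,4,4,0,3,1,2,2,1,2,0,3,2,1,4,0,3,2,2,4,4,1,0,1,3,3,4,1,3,4,4,3,2,0,2,3,1,3,1,3,4,3,0,4,4,4,3,3,1,2,2,1,0,3],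
 [0,1,1,2,1,3,2,3,4,2,3,0,1,0,1,4,3,0,1,2,1,4,4,3,1,0,1,2,2,3,0,1,0,0,4,2,4,2,3,0,3,1,4,0,0,3,3,1,0,3,1,0,0,2,2,1,3,2,2,1,3,1,0,3,4,0,2,2,0,3,0,1,2,2,4,0,3,3,0,4,0,0,0,0,0,2,1,0,3,4,3,0,3,3,1,1,1,3,2,1,2,3,0,3,2,0,2,2,2,0,1],
 [3,3,4,0,1,3,3,3,0,4,1,1,3,2,2,4,1,1,1,2,1,3,4,2,3,0,4,1,3,3,0,4,4,3,2,3,2,3,3,1,1,1,0,2,4,2,1,1,1,3,4,1,2,1,3,1,2,3,3,3,2,4,2,3,3,2,0,1,2,1,4,0,1,1,3,1,1,1,0,3,1,1,0,2,4,4,3,3,4,2,2,2,3,4,0,0,2,3,1,3,3,3,1,3,1,0,1,0,0,2,2],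
 [2,4,1,0,2,1,3,3,2,2,0,4,2,3,1,3,0,1,0,1,4,1,4,2,3,2,0,2,1,4,0,2,3,4,4,4,4,3,1,4,4,1,0,1,3,0,2,4,0,3,0,3,0,0,0,3,4,3,4,0,0,2,1,3,2,4,3,1,1,1,3,3,1,3,4,0,1,3,4,2,4,4,0,0,0,1,3,2,2,0,0,3,0,0,0,0,4,1,2,0,0,0,0,2,4,2,0,0,4,1,4],
 [0,2,1,2,4,3,4,2,0,0,4,2,1,1,0,3,1,0,3,1,4,2,0,4,4,1,2,0,3,0,1,2,3,2,2,0,3,1,2,1,0,2,3,3,4,1,2,0,0,3,1,0,4,2,2,1,1,3,0,1,2,1,0,3,4,0,1,0,3,2,4,1,4,2,3,1,2,2,4,3,1,1,0,4,3,0,4,3,2,1,2,2,3,4,2,0,4,1,1,3,2,2,0,2,0,1,3,2,4,2,0],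
 [3,4,4,3,3,4,1,4,1,3,1,3,3,0,4,4,3,4,4,2,3,4,2,0,0,1,0,1,0,0,2,1,0,3,4,0,2,2,4,2,2,1,0,1,4,0,3,0,1,4,2,3,0,3,3,2,1,1,1,1,2,2,1,1,4,0,4,4,0,4,4,0,3,3,4,0,3,1,2,2,3,1,4,1,1,0,4,0,0,4,3,2,0,1,1,4,3,3,2,1,3,0,4,3,1,1,0,1,4,3,1],
 [4,0,4,2,0,2,1,3,1,1,2,3,1,1,2,1,0,1,0,3,2,1,3,0,1,3,4,1,2,1,0,3,4,4,1,4,1,4,4,3,1,2,4,2,3,4,4,0,2,4,1,2,3,1,0,2,0,0,3,1,3,2,0,1,3,3,2,0,1,0,1,1,4,4,2,3,0,0,0,2,4,1,4,2,3,4,0,1,0,3,4,3,2,0,0,4,4,4,2,3,2,1,4,4,3,4,2,3,2,0,0],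
 [0,3,0,1,0,2,4,1,1,2,3,0,2,4,2,0,2,0,3,3,0,0,4,0,1,3,4,1,4,2,3,2,1,3,2,2,0,1,0,2,2,1,3,2,2,4,0,1,0,3,4,4,2,0,3,0,3,2,2,0,2,1,0,3,2,3,0,4,3,3,2,1,2,0,2,1,1,0,3,4,1,1,4,2,3,3,0,4,4,2,4,4,1,3,1,2,1,4,1,2,0,1,4,3,0,4,1,4,1,0,3],
 [0,1,2,3,4,2,0,0,0,0,2,2,1,2,3,3,2,1,3,0,0,1,2,3,4,1,4,4,2,2,0,1,2,4,2,2,1,2,4,1,1,0,4,4,1,1,4,4,1,1,4,0,3,3,4,0,0,2,2,3,0,4,3,3,1,0,2,0,0,1,4,3,0,3,0,4,1,0,0,0,0,1,2,1,2,4,4,3,3,1,1,2,4,4,4,0,4,0,4,4,3,3,2,4,4,2,1,1,4,2,3],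
 [4,4,2,1,3,4,4,1,0,1,4,3,3,0,4,2,1,2,0,3,0,1,3,0,1,0,3,3,0,4,2,3,1,4,3,4,1,1,4,4,3,1,3,0,3,4,1,2,1,2,3,1,1,2,1,1,4,4,4,4,4,2,1,0,1,1,1,2,4,1,3,3,2,3,2,3,3,1,2,0,1,4,3,4,0,3,0,0,2,4,1,2,3,2,4,1,2,0,1,4,2,4,1,0,3,1,0,4,0,3,0],
 [4,4,3,0,3,4,1,1,2,2,3,3,0,4,1,2,4,1,3,2,3,3,2,2,3,3,0,4,3,4,3,2,1,2,3,2,2,0,4,4,1,2,1,3,4,3,3,2,2,2,2,0,0,2,2,1,2,1,1,2,4,0,3,2,2,0,4,4,4,1,3,3,2,4,1,0,2,1,2,0,3,4,1,1,1,2,0,1,0,4,2,0,1,4,4,0,2,3,1,0,0,3,0,4,3,0,2,4,3,4,3],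
 [2,1,4,3,0,1,2,2,2,2,3,3,0,2,2,4,3,4,0,4,0,2,4,3,3,0,0,1,4,2,1,2,0,0,2,4,1,3,4,2,1,3,3,0,1,1,4,3,2,0,2,2,2,4,2,3,0,4,1,3,3,4,0,0,2,2,0,2,0,3,2,1,2,4,2,2,2,4,3,3,0,4,4,2,2,2,3,3,4,0,3,4,3,3,2,2,4,4,2,1,2,0,1,4,1,0,1,2,0,1,1],
 [1,1,0,1,3,1,1,2,1,1,3,4,4,1,2,0,4,0,1,1,2,1,3,2,3,4,0,2,0,2,0,4,2,3,1,4,3,0,3,2,2,3,4,0,1,4,3,4,2,3,0,2,1,0,3,3,0,3,1,2,0,3,1,3,2,1,2,0,0,0,4,0,3,1,3,0,1,0,2,0,1,3,0,3,1,3,0,4,3,4,2,3,2,0,3,3,2,3,1,1,2,3,3,4,0,3,2,4,0,2,3],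
 [3,1,3,3,4,1,2,4,3,2,4,3,4,2,1,3,1,2,0,2,0,4,3,1,1,0,0,3,0,4,3,0,2,3,3,0,4,1,4,3,2,4,0,0,2,1,2,2,3,3,0,3,4,1,2,3,2,1,3,2,3,1,2,3,4,4,1,1,3,3,1,2,0,1,4,2,4,4,3,2,4,3,4,0,3,0,0,1,4,3,2,2,2,1,3,3,4,2,4,3,1,1,1,4,2,2,0,4,4,2,1],
 [2,4,3,3,4,2,2,0,2,3,1,3,3,3,4,3,1,4,2,3,1,1,2,3,2,0,0,4,2,0,0,1,4,2,4,3,3,3,0,3,0,0,4,4,4,3,2,3,2,3,0,3,1,0,1,2,2,0,4,0,3,3,3,2,4,1,3,1,1,3,3,3,3,3,2,2,0,4,1,3,1,0,2,1,0,4,1,2,4,2,1,1,2,3,3,0,4,0,1,1,4,4,1,4,2,1,0,0,0,2,0],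
 [0,2,4,2,4,1,4,0,2,3,3,0,3,4,2,1,0,0,3,1,2,0,4,2,4,0,4,4,3,0,1,2,1,3,0,1,1,1,0,0,0,1,4,4,0,4,4,4,3,1,0,4,3,1,0,4,2,2,4,1,2,4,0,3,4,2,4,3,1,0,4,2,0,3,0,0,3,1,0,4,2,0,0,4,4,4,2,4,3,4,4,2,4,4,0,1,1,2,2,1,1,0,4,4,2,2,0,4,1,2,1],
 [4,4,3,4,2,1,3,0,1,3,0,0,3,1,0,1,2,2,0,0,0,1,1,4,3,2,4,4,1,0,2,3,3,1,4,1,2,4,4,0,0,3,4,4,4,2,4,3,4,0,4,4,0,3,0,0,0,0,3,0,3,1,3,4,0,4,4,2,3,4,3,4,1,3,3,4,1,0,0,2,0,2,2,1,1,3,4,4,0,0,0,3,4,1,0,4,2,1,0,0,3,0,1,0,2,0,1,2,0,4,0],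
 [4,4,3,1,1,1,4,1,1,4,3,3,0,3,2,3,4,4,0,2,4,0,0,1,3,3,1,1,1,1,0,2,3,1,1,2,1,1,4,3,1,2,0,3,4,3,4,3,3,1,1,0,2,4,1,3,4,1,1,3,0,0,2,0,0,2,1,4,4,2,2,4,0,2,1,0,2,4,2,0,1,1,2,2,4,2,1,2,0,4,2,1,3,0,2,0,4,0,4,4,0,0,3,4,3,3,4,0,4,2,2],
 [1,3,0,2,1,3,4,3,4,4,3,0,3,2,0,2,0,1,3,0,0,1,1,0,4,1,1,0,2,2,2,1,0,4,4,3,2,0,4,3,4,4,4,1,0,2,4,1,1,3,4,4,3,0,4,0,1,4,4,4,0,2,0,2,0,2,3,0,4,2,1,2,3,2,1,2,1,0,1,4,4,4,4,1,3,4,3,1,0,0,1,0,1,2,2,3,3,0,2,4,3,1,3,2,4,2,0,3,3,2,0],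
 [1,3,0,2,3,4,1,0,0,1,1,0,1,0,4,1,3,1,0,4,2,0,1,3,4,0,1,4,0,2,4,0,3,0,3,4,0,0,0,4,4,2,1,0,0,0,4,4,2,4,1,3,1,0,4,2,4,1,2,0,0,2,1,1,0,1,0,4,3,1,2,1,0,0,1,4,0,4,4,3,2,4,4,2,3,2,4,1,0,1,3,3,1,4,0,3,2,3,2,4,1,0,2,2,4,4,1,4,3,0,0],
 [4,0,3,3,4,0,4,1,1,4,3,3,1,0,1,4,0,3,3,2,1,3,3,0,4,2,2,1,0,3,3,2,4,0,3,2,3,4,3,0,2,0,3,2,1,0,2,3,0,3,4,0,1,2,1,2,1,4,3,0,0,4,0,4,2,4,2,3,2,4,0,1,3,1,1,4,4,0,1,0,2,4,3,4,1,1,2,3,4,2,4,0,4,3,3,2,1,2,4,4,0,0,4,4,3,3,4,1,0,3,0],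
 [1,4,2,3,4,2,2,3,3,0,1,0,0,2,1,0,4,1,3,4,4,3,2,3,2,3,1,0,2,2,1,1,4,0,4,2,4,1,3,2,0,3,1,2,0,4,4,2,3,0,4,0,2,3,0,1,2,1,2,0,0,1,0,4,2,3,3,0,1,2,1,2,4,0,3,1,1,0,2,4,1,2,1,2,1,2,3,4,0,3,1,1,2,0,1,0,3,3,1,0,4,3,1,3,4,4,3,1,4,3,2],
 [0,4,4,3,1,2,3,4,3,3,4,2,0,0,3,1,3,0,0,3,3,4,3,0,1,2,0,1,4,2,0,0,1,3,3,0,3,0,3,4,2,2,3,2,1,2,3,0,2,2,0,1,1,4,0,3,0,4,4,2,1,0,0,4,4,2,2,0,3,4,1,4,1,1,1,4,4,0,4,3,2,4,0,3,2,0,4,3,4,0,2,1,1,4,4,1,0,4,4,3,2,4,2,4,4,0,3,3,4,3,3],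
 [4,1,2,0,4,3,0,0,2,4,1,2,4,2,3,1,4,4,4,1,0,0,2,3,0,0,1,1,2,2,4,4,0,2,3,0,4,1,2,3,4,1,1,4,4,2,4,0,0,2,0,0,1,3,0,4,2,2,4,2,0,0,2,2,1,4,0,3,4,0,2,2,1,2,1,3,4,3,3,1,2,1,1,3,2,3,4,4,1,0,2,1,3,4,3,1,1,3,3,0,1,2,2,2,3,2,0,3,3,2,2],
 [2,2,2,3,4,1,3,4,0,0,0,4,3,0,3,2,2,4,2,3,0,3,0,3,4,1,3,2,3,3,0,4,0,1,2,0,0,2,4,3,4,1,0,1,1,2,3,2,1,1,4,3,3,3,1,3,2,2,2,2,2,2,3,1,2,0,0,4,0,4,4,3,4,3,4,2,3,3,0,0,4,0,4,0,1,4,0,2,3,1,2,0,4,0,1,1,3,1,4,0,4,0,3,4,2,0,4,3,1,4,3],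
 [2,1,0,1,4,4,0,3,3,1,1,3,1,0,3,0,2,1,4,0,2,2,1,1,3,3,1,0,1,0,2,0,4,4,1,3,2,0,1,3,4,3,2,2,2,0,4,1,3,2,2,4,0,4,4,0,4,1,2,3,2,3,0,3,3,2,1,1,0,4,0,0,3,3,1,2,3,2,1,4,3,2,3,0,0,2,3,3,1,3,4,2,0,4,1,4,0,2,3,2,4,1,2,3,4,4,1,3,0,4,3],
 [4,4,1,0,1,4,4,2,2,4,1,0,0,4,1,1,3,0,0,2,3,1,2,3,0,0,2,3,0,2,0,4,3,3,1,4,4,1,2,4,0,3,2,2,3,2,4,2,0,2,4,1,2,2,1,0,1,0,1,0,4,0,1,3,4,0,4,0,1,2,4,0,0,4,1,1,2,4,4,0,1,1,0,2,3,1,1,3,0,1,4,1,2,0,3,4,2,2,0,3,4,0,2,3,1,1,1,0,2,1,3],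
 [3,0,3,4,4,0,2,2,3,1,3,0,3,2,1,1,0,1,3,0,0,4,1,4,3,2,2,1,3,2,0,3,3,1,1,1,2,0,2,4,2,0,4,1,1,3,4,1,1,0,4,3,2,1,2,2,2,2,1,1,4,2,2,0,2,3,4,4,1,2,0,1,2,0,3,2,1,1,1,4,4,4,1,3,3,1,0,0,1,2,0,3,1,2,0,3,3,3,4,4,0,3,4,3,4,1,1,4,1,2,3],
 [1,0,1,1,1,2,2,1,4,0,4,0,3,1,0,0,4,1,1,0,0,1,2,2,0,0,2,0,3,2,2,3,3,2,0,4,2,4,1,0,0,3,1,2,3,3,0,4,2,3,0,4,4,0,3,0,3,2,0,0,2,4,0,0,3,3,4,4,4,4,2,0,0,0,2,3,2,4,0,3,0,3,2,3,0,3,1,3,0,0,4,0,1,1,3,2,1,1,4,0,2,4,3,0,2,3,0,4,1,4,2],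
 [0,3,2,4,0,3,0,0,0,2,1,4,2,3,0,2,1,4,2,4,2,3,1,4,2,1,3,0,3,4,4,3,2,0,0,3,3,3,0,4,0,1,4,0,3,2,1,1,3,3,2,1,2,1,1,3,0,2,3,3,1,0,3,0,0,2,1,0,0,4,3,3,0,1,0,1,0,1,4,3,0,0,3,3,0,4,4,0,4,3,1,2,3,3,0,0,3,0,0,2,3,3,3,4,2,0,4,2,4,1,3],
 [3,3,3,1,2,2,1,1,4,4,0,1,4,1,3,2,0,4,1,1,2,2,0,3,4,3,4,1,4,0,1,4,4,0,3,2,4,4,0,4,4,0,4,3,0,1,1,4,0,2,1,3,1,4,2,4,0,2,0,1,3,1,4,4,3,3,4,2,1,1,3,3,3,4,4,0,1,3,3,1,0,0,4,4,4,4,4,1,4,2,2,1,1,4,0,4,4,3,4,0,3,4,2,0,2,3,0,4,0,2,4],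
 [1,3,3,1,2,1,4,3,0,4,0,3,0,4,4,3,3,2,3,1,4,2,2,3,0,1,1,3,2,2,0,1,1,3,1,4,1,3,4,4,2,0,4,0,2,2,2,3,0,4,4,0,4,2,4,4,4,2,1,1,3,0,1,1,2,1,0,0,4,3,2,2,0,4,4,3,4,2,3,2,0,0,4,4,3,4,0,3,0,0,3,1,2,3,2,2,3,2,2,0,2,3,1,4,0,4,1,4,4,0,4],
 [1,2,4,0,4,1,3,3,1,0,1,0,0,1,3,0,2,4,2,4,1,4,4,2,4,1,4,1,4,0,3,1,2,1,2,1,1,4,4,4,0,4,1,4,4,4,3,2,1,3,0,4,4,2,2,1,3,4,1,3,2,2,2,4,1,2,0,4,1,1,2,0,1,1,1,3,3,3,4,0,4,3,0,1,1,0,4,2,2,1,2,1,0,4,2,2,2,4,2,3,1,0,3,1,0,1,4,4,1,1,1],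
 [2,3,0,1,2,2,3,4,4,1,3,1,4,0,3,3,3,1,3,2,0,3,0,3,3,0,4,4,2,4,3,3,1,1,4,2,3,1,1,2,4,3,4,4,2,0,1,3,2,1,2,2,2,3,2,2,1,1,0,4,4,3,0,4,4,0,1,2,2,2,4,1,0,2,0,3,2,3,4,4,2,1,0,1,4,2,1,1,0,1,2,2,2,0,2,2,1,1,0,1,4,3,4,0,2,2,3,2,2,4,1],
 [0,2,1,1,2,2,1,4,3,2,4,1,4,1,3,0,0,0,1,0,4,2,0,1,4,1,4,1,4,0,3,0,3,4,2,3,0,2,0,0,1,1,1,1,2,1,1,4,0,1,0,2,1,2,1,0,1,3,2,4,1,1,2,1,3,0,1,3,1,0,0,4,4,4,2,3,1,0,1,1,0,2,3,2,2,4,3,1,2,1,0,0,2,2,1,2,2,1,0,4,1,2,0,2,2,1,2,2,4,0,3],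
 [2,2,3,4,4,2,4,4,0,4,3,3,2,0,1,0,1,0,2,1,0,2,0,4,0,4,2,4,4,4,0,3,0,2,4,1,3,2,0,0,2,0,1,0,2,4,4,2,2,0,0,1,2,3,2,1,4,3,3,3,3,0,4,3,0,1,4,2,3,4,1,1,3,2,1,2,0,4,2,2,2,0,1,1,0,2,4,2,3,2,0,1,4,0,0,0,4,1,3,4,1,1,2,3,3,1,3,3,0,1,2],
 [2,0,4,1,4,4,2,2,1,0,2,4,0,1,4,0,4,3,3,4,3,2,1,1,4,1,4,4,2,2,4,2,3,2,3,4,0,1,4,3,1,2,1,2,4,1,2,4,2,4,0,1,4,1,0,0,2,3,4,1,0,2,0,0,0,1,0,1,2,4,2,2,3,4,4,1,0,3,4,4,2,2,2,2,2,4,0,3,4,0,2,0,3,4,3,1,4,1,2,0,1,4,1,4,2,3,1,3,1,0,0],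
 [4,1,3,3,0,3,4,0,4,3,1,1,4,0,3,4,2,3,4,0,3,3,0,0,2,2,1,4,0,4,3,4,2,3,0,3,1,1,3,4,1,0,3,2,2,0,4,1,1,3,2,0,0,0,1,4,4,0,3,0,2,2,3,2,1,3,3,3,2,1,4,3,0,0,2,0,1,0,3,1,2,0,2,4,1,4,3,3,3,4,3,4,4,4,2,1,2,3,4,0,2,1,3,4,0,1,0,2,3,1,2],
 [1,1,2,3,0,1,4,3,2,1,3,0,4,3,3,4,4,1,2,2,4,3,0,1,0,1,3,3,1,3,4,3,2,4,2,2,3,3,2,1,3,1,1,4,1,0,4,2,1,0,4,4,2,2,4,4,4,2,4,2,0,3,4,0,4,1,4,2,3,0,2,4,0,2,2,2,1,3,1,1,4,0,1,4,4,1,2,2,3,1,4,3,1,3,3,3,0,0,4,1,2,2,2,0,1,0,0,4,4,0,0],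
 [1,4,3,4,4,3,2,3,1,2,4,4,3,1,0,1,4,1,1,0,2,2,1,3,0,3,3,1,2,1,3,4,0,1,3,2,0,3,4,4,0,2,1,2,0,4,2,0,0,4,1,2,0,4,2,2,0,1,1,1,4,3,0,4,4,4,3,1,1,4,2,0,4,2,2,1,3,2,1,4,4,3,4,2,3,1,3,3,1,1,0,0,0,3,3,3,0,2,0,0,4,2,2,0,0,4,2,0,3,0,3],
 [0,1,1,1,4,2,3,3,3,2,3,0,2,3,0,2,4,0,3,1,4,4,0,1,2,0,1,3,1,2,1,0,1,1,4,0,2,3,0,1,3,4,0,3,3,3,2,1,3,2,0,3,2,4,2,2,3,1,1,0,0,3,0,4,1,2,4,0,4,2,0,1,2,2,4,3,4,1,2,1,3,0,4,4,0,0,4,4,2,4,0,2,4,2,4,3,2,0,2,3,0,1,1,1,0,0,4,3,3,4,4],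
 [2,0,3,4,2,2,2,3,4,1,2,2,1,0,3,2,4,3,0,2,2,2,1,0,4,3,4,4,3,4,2,0,2,4,3,4,3,1,1,2,0,0,4,4,2,1,1,0,2,4,1,2,3,1,1,2,4,3,1,0,4,2,2,1,4,3,4,1,4,3,2,4,0,2,3,4,4,4,4,4,4,4,1,2,3,1,3,0,0,4,1,4,2,1,3,4,1,0,1,0,4,3,2,3,4,3,1,4,3,0,3],
 [0,0,3,0,0,1,4,4,3,4,4,2,2,0,1,4,4,1,3,4,4,0,0,1,1,2,3,0,1,0,1,4,1,0,0,4,3,1,2,2,2,3,3,1,1,2,0,3,4,1,0,4,2,4,0,1,1,0,1,0,1,0,2,4,2,0,0,3,1,3,2,4,3,0,4,4,0,4,3,1,2,0,3,3,4,3,0,1,0,0,0,0,4,0,2,3,0,0,1,4,2,0,4,3,0,3,2,2,2,4,1],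
 [0,1,4,0,2,0,1,2,3,1,2,2,1,3,3,4,4,4,1,2,1,4,0,3,2,4,0,1,3,0,3,2,4,4,1,4,3,3,0,0,4,2,1,2,4,3,0,4,3,4,1,2,2,4,1,3,2,1,2,1,0,4,2,4,1,3,2,3,2,3,0,1,2,0,0,4,1,0,3,4,1,1,3,3,4,0,1,0,1,3,4,4,1,2,1,3,1,2,0,2,3,1,0,2,0,2,1,0,2,2,0],
 [1,1,1,2,2,1,1,3,4,1,0,2,3,4,3,1,0,1,2,0,1,0,3,4,2,2,2,3,3,1,1,4,0,0,4,4,4,1,1,0,1,0,1,2,2,3,0,4,4,3,4,1,2,4,3,2,3,0,0,4,1,0,0,0,2,3,0,0,2,0,4,2,3,2,2,2,1,4,3,2,2,2,3,1,4,2,3,3,1,2,2,3,0,0,2,2,1,2,4,2,1,4,0,0,2,0,1,4,2,1,0],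
 [4,4,1,4,4,3,1,0,3,4,2,2,0,1,0,4,3,4,1,3,0,1,4,4,1,0,2,0,0,4,4,4,2,4,0,4,1,1,4,2,1,3,4,0,1,1,0,1,2,1,3,3,2,3,0,3,2,1,4,4,1,3,1,4,3,3,3,1,4,2,1,3,0,0,3,1,2,4,0,0,3,2,1,0,0,3,1,3,4,4,3,1,0,1,3,4,0,0,2,1,4,0,4,1,4,2,2,3,4,0,2],
 [3,2,2,2,3,1,3,2,3,3,1,1,1,3,3,2,1,3,1,3,1,1,3,1,2,1,2,2,2,2,2,4,1,2,4,3,4,0,2,1,2,3,3,0,2,3,1,4,2,1,1,0,3,1,1,1,3,0,3,1,2,0,3,1,3,1,0,1,2,2,3,1,0,1,3,0,4,1,0,1,3,1,0,0,3,4,3,1,0,3,1,3,4,0,2,1,1,3,2,3,4,2,3,0,4,2,4,0,4,2,0],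
 [4,2,4,3,4,3,2,1,0,0,1,2,3,1,3,3,4,0,2,2,4,2,2,4,3,4,0,0,4,4,1,3,4,2,0,4,1,0,1,2,3,1,0,2,1,4,4,1,4,2,1,4,4,3,3,2,2,3,2,1,4,3,3,3,2,4,3,1,2,3,1,4,3,2,2,3,2,0,4,0,1,4,4,2,2,3,0,4,0,1,3,0,0,3,4,0,4,0,0,2,4,0,3,0,1,1,0,0,1,3,1],
 [3,0,1,0,1,3,0,3,1,3,4,2,2,4,4,0,4,0,1,1,1,3,4,3,0,4,2,3,3,2,2,0,4,1,0,0,0,4,1,2,1,4,1,4,0,0,2,3,2,2,2,2,3,1,4,1,1,2,1,4,2,2,2,2,1,0,0,1,0,3,1,2,3,1,3,4,4,3,2,2,2,1,4,3,4,1,3,1,2,2,1,0,3,4,0,0,4,4,0,2,3,4,0,1,3,4,0,4,4,2,0],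
 [0,0,3,1,2,2,1,0,3,3,4,1,2,2,3,0,1,0,1,3,1,4,4,3,1,0,4,2,1,1,2,1,2,1,1,0,1,3,1,0,1,0,4,2,4,1,3,4,0,1,0,4,0,0,2,1,2,2,0,1,1,0,3,3,3,4,4,4,1,1,3,3,1,1,3,2,1,0,0,1,1,4,4,0,4,4,3,4,3,1,1,2,0,2,0,2,0,3,1,4,3,3,1,2,4,4,1,0,1,1,2],
 [4,2,3,3,0,2,3,0,1,4,4,2,1,2,1,1,4,4,1,2,2,3,4,3,0,2,0,2,3,2,4,1,2,0,0,0,1,0,2,4,3,4,3,1,1,4,3,3,2,3,4,3,0,2,4,0,2,4,2,4,4,1,4,1,3,0,3,0,4,2,2,1,1,1,1,4,1,0,2,4,3,2,2,0,0,2,1,2,2,0,0,4,3,3,4,1,1,0,3,0,4,3,4,4,0,3,1,3,4,3,3],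
 [3,1,2,2,2,0,2,4,2,1,3,3,3,3,0,2,0,0,1,0,4,4,1,2,1,0,3,4,2,1,0,0,0,0,1,3,3,0,3,4,2,3,1,0,2,1,1,0,0,4,3,2,3,0,4,1,1,0,4,4,3,0,1,2,0,1,3,3,0,1,0,4,2,4,4,4,0,3,0,0,0,3,2,3,1,3,0,0,2,4,2,4,4,3,0,3,1,0,0,0,4,4,2,0,1,4,1,0,4,2,2],
 [4,1,3,4,2,2,2,4,1,1,2,4,2,4,3,2,1,2,1,2,3,0,0,4,2,2,0,0,1,2,1,2,2,1,4,0,2,1,1,0,1,0,2,1,2,2,4,4,0,2,0,4,2,3,3,3,1,1,4,4,0,4,3,1,4,0,4,3,2,2,2,2,1,3,1,2,0,1,3,2,3,4,1,3,1,2,1,2,1,1,4,0,3,2,3,0,1,3,1,2,1,1,4,2,3,2,0,2,2,2,2],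
 [2,2,4,0,2,1,3,1,3,4,4,0,2,4,2,2,0,4,2,0,2,4,2,0,1,1,1,2,2,4,1,2,2,4,4,3,3,0,3,0,3,4,4,0,2,0,3,0,2,1,2,1,1,0,4,1,2,2,2,1,1,3,2,4,1,3,3,4,4,3,1,4,2,2,4,3,0,0,3,4,2,1,3,2,0,3,0,0,0,0,2,0,2,1,0,0,4,2,0,1,4,0,0,0,3,4,3,0,3,4,2],
 [4,1,4,4,2,4,2,3,2,4,0,1,4,4,3,3,3,1,3,4,0,4,0,4,0,2,2,0,4,1,4,3,3,1,4,0,1,3,3,1,4,2,2,3,1,0,0,4,0,0,2,1,0,0,0,3,4,0,3,2,2,2,0,2,3,2,3,4,0,1,1,4,1,3,2,4,3,3,3,3,0,0,0,4,2,1,4,0,2,0,2,0,4,3,4,0,1,4,3,4,3,2,3,4,1,2,2,1,4,3,1],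
 [4,3,0,0,1,3,2,1,0,2,0,3,3,2,4,4,2,1,1,2,4,3,2,2,1,1,0,4,0,0,3,2,3,4,3,4,0,0,3,3,3,2,4,1,4,2,4,3,1,0,4,3,3,0,2,3,3,1,1,3,1,3,1,0,4,3,2,3,2,4,1,1,4,3,3,4,1,4,1,3,2,1,0,2,3,3,0,1,1,4,4,0,4,2,3,4,0,1,2,4,2,0,4,1,0,2,1,2,4,1,1],
 [1,3,0,3,0,3,0,0,2,0,1,1,4,1,3,0,2,0,2,0,3,2,1,2,2,4,1,4,0,4,2,4,3,3,0,2,3,2,0,4,2,4,0,4,4,0,1,0,0,4,4,1,2,2,2,1,1,4,0,1,3,0,1,2,4,0,4,2,1,2,4,4,2,2,0,2,4,1,0,2,3,1,1,0,1,4,0,0,3,2,4,3,1,4,0,4,1,4,3,3,1,1,2,2,0,2,0,3,4,4,1],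
 [1,2,3,4,2,1,3,2,3,3,1,3,3,3,0,2,0,0,2,0,3,0,0,4,3,0,0,2,2,0,3,3,3,2,1,3,0,0,2,2,0,1,2,1,1,1,2,2,4,1,1,3,0,4,4,4,3,4,3,1,1,3,1,0,2,3,2,0,0,0,2,0,1,1,4,3,2,3,2,2,3,4,1,2,3,0,4,4,2,4,3,2,2,3,1,3,2,4,3,2,3,0,1,1,0,0,1,2,4,3,4],
 [0,0,4,3,2,1,0,1,4,0,1,3,0,2,4,3,3,2,3,3,2,3,1,0,1,4,3,3,0,4,1,0,4,2,1,2,3,0,0,1,1,2,4,2,3,3,2,1,3,0,2,4,2,4,3,1,1,0,1,2,2,2,2,1,2,3,1,1,1,0,2,2,2,0,3,2,4,2,4,3,3,1,1,2,0,3,2,4,4,4,1,0,2,0,4,1,2,0,4,0,2,4,1,4,3,3,4,3,1,0,1],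
 [0,1,0,1,0,0,0,1,4,3,4,2,0,4,4,1,0,1,2,2,0,0,3,2,2,2,4,3,3,3,0,3,4,2,3,4,0,2,3,1,1,2,3,1,4,1,2,1,4,1,1,4,4,1,0,3,0,2,2,1,1,0,0,3,0,4,4,4,4,4,2,1,4,4,2,1,2,0,1,0,3,2,0,0,0,4,1,1,3,2,1,2,1,2,2,4,0,2,3,0,1,2,2,0,1,0,0,3,4,3,0],
 [3,2,1,4,0,4,4,1,1,2,1,3,1,4,3,4,2,0,1,1,4,3,3,0,4,3,1,1,0,4,2,2,4,0,0,1,3,4,2,1,1,4,3,1,3,0,2,3,3,3,4,4,3,2,4,2,3,2,0,1,3,4,1,4,4,4,0,4,0,2,0,4,4,3,0,2,0,3,1,1,1,4,4,3,1,0,4,3,3,0,4,0,0,3,2,0,0,4,4,3,4,1,2,3,2,4,3,3,2,4,0],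
 [2,1,0,3,4,1,1,3,0,1,2,1,0,2,4,4,3,0,1,2,3,4,2,1,3,0,2,2,1,1,2,1,4,4,2,2,1,1,3,0,1,0,4,2,3,1,0,0,2,1,4,4,4,3,2,2,3,2,1,4,3,0,3,2,0,2,1,2,4,2,0,1,0,2,1,4,2,2,4,2,2,4,1,0,2,4,0,1,2,0,3,1,3,1,0,0,0,3,1,1,1,1,1,3,3,3,4,3,4,1,2],
 [1,1,1,3,2,3,2,2,0,4,4,4,2,4,1,1,2,0,1,4,0,0,4,1,0,3,0,1,1,0,4,1,0,0,0,0,0,4,3,4,2,2,4,3,4,0,4,4,1,4,0,3,3,3,0,1,4,2,0,4,1,2,1,1,3,1,1,2,3,1,3,0,3,2,1,1,3,1,2,1,4,4,3,4,2,1,3,1,1,3,2,1,3,0,2,0,2,1,0,4,4,3,0,3,1,2,4,4,1,0,1],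
 [4,0,0,2,1,4,1,3,3,2,4,0,2,1,3,3,2,0,1,2,0,2,2,3,3,2,2,3,0,0,2,2,2,1,2,2,4,2,4,3,1,4,2,3,3,0,3,4,1,3,2,1,4,0,0,2,2,4,2,1,4,4,1,0,1,4,4,3,4,3,0,0,4,3,2,2,0,3,4,4,2,0,2,4,4,0,1,0,2,1,3,2,2,2,2,3,4,1,4,2,3,2,1,1,4,1,1,4,4,2,4],
 [2,3,4,2,0,4,3,1,0,2,0,0,1,4,2,2,4,3,1,4,2,0,2,0,1,1,4,0,0,3,0,4,4,0,2,4,2,4,2,1,2,1,1,0,0,4,1,0,3,1,2,0,4,2,3,2,4,2,3,0,4,0,2,1,1,3,4,4,3,3,3,4,4,3,1,0,2,1,0,1,0,0,3,2,4,2,1,3,3,0,1,1,1,3,0,4,0,1,2,2,4,1,3,1,1,0,0,3,3,1,4],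
 [2,0,2,1,1,4,0,3,0,0,1,3,0,0,3,1,2,3,2,0,0,3,3,4,2,2,4,2,2,3,1,4,2,3,0,3,1,3,4,1,4,2,0,0,3,2,1,2,2,0,1,0,3,3,1,1,2,2,3,4,1,4,3,4,2,3,2,2,3,2,2,2,2,2,1,4,0,0,3,4,1,2,3,4,1,1,0,1,3,0,1,2,0,2,2,1,0,4,1,2,4,1,0,4,0,3,0,3,1,0,2],
 [1,2,4,2,4,1,0,2,0,4,0,4,4,4,4,2,2,0,3,2,1,3,3,3,1,4,1,3,4,3,2,1,3,3,2,1,3,0,1,4,3,3,1,3,2,0,1,1,3,2,4,4,4,4,3,1,2,2,2,2,2,3,1,2,3,1,2,1,2,0,4,2,3,0,1,2,1,1,0,4,3,0,2,3,0,2,0,2,1,4,3,3,4,0,2,2,1,3,3,1,0,0,0,2,3,2,0,3,1,0,1],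
 [2,1,4,4,2,3,1,1,2,1,4,0,1,1,3,0,2,2,2,1,1,2,1,2,2,3,2,0,4,2,4,3,4,0,1,3,3,2,2,2,3,2,0,1,4,0,4,0,2,2,0,1,0,2,1,4,2,3,4,3,0,4,0,4,4,3,3,2,0,2,4,0,0,1,2,0,0,1,0,2,2,4,3,4,0,4,1,2,0,3,3,0,4,0,3,3,3,1,2,1,3,4,3,2,0,3,3,2,2,2,2],
 [4,0,2,0,2,4,0,3,1,4,4,2,4,4,0,4,2,2,4,0,1,4,2,3,1,0,0,0,0,3,0,2,2,0,2,0,0,2,0,2,3,0,4,0,4,4,0,2,2,4,4,4,4,0,3,1,1,2,0,0,2,0,0,2,4,1,4,0,4,1,3,2,0,1,3,4,1,0,2,4,3,3,4,4,4,3,3,4,2,3,4,1,3,2,2,0,3,1,4,4,3,4,4,2,1,3,1,2,0,3,4],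
 [1,3,4,4,4,0,2,3,0,0,1,4,3,4,3,4,1,3,4,1,1,1,4,3,0,3,0,3,0,1,1,4,2,2,3,0,3,4,1,3,0,1,2,4,0,4,4,3,2,0,2,1,1,0,0,3,4,1,2,3,4,1,1,0,4,3,2,4,4,1,1,3,4,0,4,2,2,3,3,3,2,2,0,2,1,3,2,2,2,4,4,1,1,0,1,3,0,4,0,3,0,2,0,4,1,1,2,3,4,4,3],
 [2,1,3,3,0,4,0,1,1,1,4,0,2,3,3,2,1,2,0,2,1,1,1,4,3,4,1,0,3,1,4,2,4,4,0,0,0,3,4,0,3,1,2,3,0,2,3,2,0,2,0,1,4,3,0,0,0,0,4,1,2,4,4,4,4,2,4,3,0,4,1,2,1,4,2,3,3,1,2,2,1,0,4,0,0,0,1,2,4,4,3,4,1,2,1,2,3,3,0,0,3,4,4,4,2,4,4,2,2,0,4],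
 [3,3,3,2,4,1,0,2,2,3,3,0,1,0,2,0,1,1,4,4,2,3,0,0,3,2,3,4,1,0,0,4,4,2,2,2,0,0,2,0,3,0,1,3,2,0,1,4,2,3,3,0,3,1,0,1,1,3,0,2,0,4,3,4,1,4,2,3,3,4,1,0,4,4,3,2,1,4,1,3,2,3,4,3,0,2,0,2,2,4,4,0,1,0,4,2,3,2,0,0,4,2,3,0,2,3,0,1,4,4,4],
 [4,1,4,3,0,1,4,4,1,1,1,0,1,3,0,3,3,4,2,3,1,2,3,2,1,2,4,3,1,3,2,3,0,4,3,1,0,1,1,1,1,3,0,1,4,3,3,2,3,1,1,4,1,0,3,4,0,0,2,1,0,2,1,4,3,0,2,4,3,3,4,2,2,0,1,2,2,1,1,2,4,3,3,0,1,0,3,3,0,4,1,0,1,0,0,4,0,1,3,2,4,4,3,1,4,1,2,2,4,2,3],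
 [1,4,3,0,0,3,1,0,0,1,2,1,1,0,1,0,3,1,2,2,3,2,1,0,0,0,0,2,1,2,4,1,0,0,0,4,1,2,1,4,3,2,4,1,1,1,3,0,3,1,1,3,2,3,1,1,1,2,4,2,1,2,3,4,1,2,2,3,4,0,1,3,3,1,0,3,1,2,0,4,0,2,3,4,1,2,4,4,0,2,2,0,2,0,2,4,0,1,0,0,4,0,2,1,1,4,1,4,3,1,4],
 [0,1,4,4,1,4,3,2,0,3,3,1,2,0,0,3,2,4,3,4,2,3,3,3,2,4,0,1,0,2,2,4,4,4,0,2,4,4,3,1,1,4,1,1,3,4,2,3,3,1,0,1,1,0,3,1,1,3,0,4,4,2,2,4,1,4,0,0,0,4,0,1,3,3,3,0,2,4,0,0,2,3,2,0,0,0,3,2,1,3,4,2,3,4,3,1,1,0,4,4,1,4,2,3,2,0,3,4,1,2,3],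
 [3,2,1,4,0,1,1,1,4,1,0,0,1,1,2,3,3,2,1,0,1,2,3,3,1,1,2,1,2,3,0,4,1,0,4,2,2,3,0,0,1,1,4,4,3,4,3,1,4,1,2,2,4,3,2,0,3,3,0,3,4,4,1,0,2,1,4,2,4,1,3,1,4,4,3,0,1,1,2,0,4,4,2,4,1,2,2,4,3,1,1,1,0,2,2,4,0,1,4,4,3,2,2,1,0,0,2,2,4,2,4],
 [1,3,4,1,1,0,1,0,4,1,2,2,4,4,0,2,1,2,3,4,3,2,4,4,4,3,4,0,1,2,1,1,4,3,3,4,0,4,1,1,0,3,2,3,4,0,0,3,4,2,4,1,1,0,2,3,1,1,4,4,3,2,1,3,3,1,4,1,3,0,0,2,2,4,2,1,3,2,4,4,0,2,0,0,0,4,2,3,2,0,1,0,3,2,2,3,4,3,1,1,2,2,4,2,3,2,4,3,2,1,3],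
 [1,0,1,2,2,3,1,1,0,3,1,1,1,1,4,4,4,3,4,3,4,1,4,0,1,4,1,0,1,0,4,0,2,2,2,0,0,1,0,0,2,2,3,4,4,4,0,3,2,1,1,0,2,1,3,4,2,4,4,1,0,1,1,4,0,2,1,0,4,4,1,0,2,0,1,4,4,2,2,1,4,2,4,2,3,2,0,2,0,3,4,4,1,4,1,0,4,0,1,3,2,2,0,1,3,3,4,0,1,3,0],
 [4,4,0,4,2,1,3,0,1,1,3,1,1,3,1,4,0,1,2,2,3,1,2,2,4,3,2,3,4,1,4,2,1,1,2,3,4,0,1,1,0,2,1,2,0,0,3,3,0,2,0,2,2,1,1,0,3,3,1,3,2,3,3,0,4,2,4,1,1,3,0,4,3,1,3,0,4,2,1,4,3,3,2,0,4,1,3,4,4,1,2,4,1,4,4,3,3,3,1,4,2,0,3,2,3,2,2,4,0,4,0],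
 [2,2,4,4,3,0,3,3,0,1,2,1,4,2,0,2,2,4,1,1,3,4,0,0,4,0,3,3,2,4,0,2,2,4,4,1,4,4,4,2,4,1,2,3,1,3,4,4,3,1,4,0,2,3,3,2,4,1,0,2,4,2,0,4,0,2,2,3,2,2,0,3,4,2,1,2,2,2,1,4,1,4,3,2,2,4,3,4,2,3,0,3,2,3,1,3,2,0,3,0,3,1,1,2,1,1,2,3,4,3,4],
 [3,1,3,2,1,1,0,3,2,4,1,3,0,3,2,4,4,3,3,3,3,3,1,3,3,4,2,1,0,1,4,1,0,1,4,2,4,1,2,3,1,3,1,3,1,4,1,1,2,2,4,1,4,4,4,1,0,1,4,0,4,0,1,0,1,2,1,4,4,3,1,4,2,1,0,3,2,3,3,2,4,2,3,2,4,0,3,3,3,1,0,0,0,2,0,2,3,0,1,1,2,4,4,1,3,0,4,0,2,2,4],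
 [4,4,2,2,2,4,1,1,4,3,2,1,1,0,1,0,0,2,0,4,4,4,4,2,1,0,0,4,3,1,3,0,4,1,3,4,4,4,1,2,3,2,0,4,3,2,4,4,0,3,4,1,3,3,1,1,3,0,3,3,1,4,1,3,3,2,4,4,4,4,4,2,4,2,0,2,3,1,1,1,3,1,4,4,4,2,2,0,0,2,4,4,0,2,0,3,4,2,4,0,1,4,2,0,2,0,2,2,4,3,2],
 [0,2,4,4,3,1,3,0,3,1,4,2,4,1,4,0,1,3,1,1,2,1,0,1,3,2,1,0,3,1,2,4,0,1,3,4,1,0,4,3,2,2,1,1,3,0,2,2,3,3,2,0,0,1,1,3,1,4,1,4,0,4,2,4,4,1,4,4,4,4,4,2,2,1,1,4,2,4,1,2,4,2,1,0,1,0,1,3,1,2,0,2,3,3,3,1,3,1,2,2,4,0,2,0,3,0,4,2,3,3,1],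
 [3,2,0,2,2,1,1,2,4,2,3,2,3,1,3,0,1,0,1,0,1,3,3,0,2,3,4,3,1,4,0,2,2,2,3,4,4,4,0,0,4,4,1,0,1,2,4,0,1,0,2,1,1,4,0,0,4,0,1,0,1,2,1,1,1,2,0,1,1,3,0,3,0,4,1,3,4,3,4,0,3,1,0,4,1,2,3,1,4,0,0,4,0,1,1,2,4,0,3,2,3,4,0,0,1,3,3,1,4,2,4],
 [3,4,4,3,0,4,2,1,0,4,3,2,1,3,2,3,4,4,0,4,4,4,1,2,1,2,2,3,0,0,3,4,3,0,4,1,0,1,4,4,3,4,3,2,3,3,2,2,2,1,4,3,4,1,4,1,0,4,2,4,4,4,3,2,1,0,2,1,4,2,0,4,1,4,4,0,4,0,2,1,1,1,1,2,0,4,0,1,2,4,1,0,3,1,2,4,2,3,2,0,2,0,1,3,2,2,4,4,4,2,3],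
 [1,2,0,0,2,0,2,4,0,0,4,1,1,4,3,0,0,4,0,1,2,3,2,3,0,2,3,3,1,1,0,1,3,1,3,1,1,0,4,4,0,4,0,0,3,3,1,0,1,1,3,4,0,3,1,1,4,0,4,1,3,0,1,4,4,0,3,1,0,0,2,0,1,4,0,1,4,4,1,0,4,2,4,3,0,4,3,1,3,2,2,2,3,0,3,1,1,4,4,1,3,1,2,4,1,4,0,4,2,2,3],
 [0,2,3,1,1,0,1,2,4,3,1,3,2,2,4,4,3,4,0,3,3,0,0,2,2,1,0,4,2,3,0,2,4,2,3,3,0,4,3,2,0,0,4,1,2,1,2,4,2,1,2,3,2,4,0,1,1,1,4,2,4,2,4,0,1,0,2,4,4,3,4,2,1,1,4,3,0,0,0,4,3,4,4,1,0,3,2,3,0,4,1,4,3,0,3,0,4,0,2,0,4,3,3,3,0,3,4,2,1,3,3],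
 [4,2,3,2,4,1,1,4,0,3,2,4,4,3,2,4,0,2,1,3,1,0,3,1,0,3,0,2,2,4,3,2,1,4,4,1,2,0,1,3,0,3,2,1,4,2,2,3,1,0,4,1,4,0,1,1,3,0,3,1,2,4,1,4,4,2,1,1,3,3,4,0,0,4,2,0,1,2,4,1,0,4,4,2,0,1,0,4,3,4,3,3,0,0,4,2,4,4,1,2,0,1,0,4,2,0,0,2,0,1,1],
 [0,4,0,2,4,0,1,4,1,4,4,4,3,2,3,2,4,1,0,4,4,2,3,1,1,3,2,2,4,0,2,2,2,0,4,2,3,2,4,4,2,2,2,0,3,2,1,4,4,4,4,3,0,2,4,4,3,0,4,1,1,1,0,2,0,1,0,4,4,0,1,3,4,4,3,0,2,1,1,3,2,0,4,1,1,1,0,4,3,2,4,4,1,0,4,0,1,1,0,2,0,2,0,2,2,1,4,4,3,3,0],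
 [4,0,3,3,2,0,1,0,1,1,0,0,3,1,1,3,3,3,4,0,2,0,4,0,0,4,3,0,0,4,3,3,3,2,3,1,4,4,3,3,1,0,3,3,0,2,0,4,3,3,0,2,2,4,0,4,3,2,3,2,4,3,3,3,4,1,0,0,1,0,3,3,3,3,4,2,3,1,1,1,1,2,4,2,1,2,3,4,1,0,0,0,0,1,3,2,3,3,3,0,1,0,2,1,0,3,4,0,4,0,0],
 [4,1,4,3,4,1,0,1,0,0,1,0,2,0,1,0,2,4,1,1,0,3,0,0,2,2,2,3,4,2,2,0,2,0,0,0,1,3,2,1,1,1,1,3,4,0,2,2,3,2,0,1,2,2,3,4,4,0,2,2,1,1,0,0,4,3,2,3,1,4,0,3,3,3,2,2,3,1,4,1,2,1,2,1,0,3,4,2,0,4,4,4,2,1,4,0,3,3,1,1,3,3,0,4,4,0,4,3,3,3,0],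
 [3,0,1,0,4,3,2,0,2,0,2,0,3,0,4,1,3,2,0,2,0,3,3,1,2,1,1,3,2,4,4,4,4,1,4,3,4,0,0,1,2,0,0,4,3,2,1,0,4,2,0,2,4,0,4,2,4,0,4,2,4,1,2,2,3,1,0,0,2,1,4,3,1,1,1,1,2,1,0,4,2,0,0,2,0,4,2,2,3,3,1,2,1,1,4,4,2,1,3,3,3,2,0,2,3,1,4,3,1,0,2],
 [0,3,1,4,0,4,0,3,2,2,0,0,4,2,4,2,0,3,1,1,0,4,1,3,2,1,4,4,3,0,2,3,2,3,0,3,2,1,1,4,1,0,1,0,1,3,2,4,3,0,2,2,4,2,0,2,0,2,1,3,4,0,3,3,3,0,1,4,4,3,3,1,3,1,2,0,3,3,2,4,2,1,0,1,2,2,4,4,2,4,2,2,2,2,1,4,0,4,3,0,0,2,4,3,3,1,2,2,3,0,2]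
]

/-- named matrix 7 -/
def nm7 : List (List ℕ) := [
 [0,4,3,3,1,1,0,3,3,1,0,3,4,0,0,4,3,4,1,2,0,3,3,2,3,0,0,1,0,0,0,2,1,2,2,2,2,4,1,0,2,1,1,2,1,4,2,1,2,3,3,0,2,3,2,3,2,0,2,2,0,0,2,2,4,1,1,3,4,4,2,2,4,0,0,4,2,0,4,0,0,1,2,4,3,1,1,2,1,3,2,2,2,4,0,1,3,0,2,1,4,0,0,1,2,0,4,3,1,1,3],
 [2,3,2,3,1,4,3,2,1,4,3,4,4,0,2,2,0,0,2,4,1,3,2,0,0,0,3,1,3,1,2,2,2,1,2,3,2,2,3,2,1,2,3,4,1,4,4,1,3,3,1,2,0,4,1,2,2,2,4,4,2,1,0,3,4,1,0,3,4,0,4,3,0,3,0,2,3,4,2,3,0,4,4,1,4,3,1,2,4,4,4,2,4,2,3,4,4,2,2,0,2,1,1,1,2,3,4,3,1,0,2],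
 [4,2,0,3,1,4,3,2,0,4,0,2,3,3,0,3,0,2,3,3,0,4,1,4,1,2,2,0,4,2,2,0,4,3,0,3,2,2,4,4,3,3,3,2,1,0,4,1,1,1,3,1,1,0,3,3,0,0,3,2,1,0,3,4,1,1,2,4,4,2,2,0,4,2,2,2,4,1,2,4,3,3,1,3,4,1,2,0,3,0,0,1,3,4,4,3,4,3,2,3,0,1,0,3,2,2,2,4,1,3,0],
 [0,1,0,2,1,4,1,0,2,4,4,4,3,1,2,4,0,1,1,1,4,4,0,1,0,2,4,1,4,0,1,4,3,1,4,1,3,2,0,0,2,2,1,1,3,1,2,4,4,0,1,0,2,3,1,3,0,1,0,3,4,2,1,1,4,3,3,4,0,0,1,0,2,4,3,1,4,3,2,1,2,3,4,2,4,2,1,2,4,1,0,0,2,1,0,3,2,3,2,4,2,3,4,3,1,0,0,2,2,3,4],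
 [1,3,2,2,4,0,4,0,1,1,3,2,3,1,1,4,3,3,3,4,0,4,2,0,2,1,3,1,1,3,0,4,0,1,1,4,2,3,0,1,4,4,4,1,1,3,3,0,2,4,0,4,2,0,3,1,3,3,2,2,1,4,3,0,1,3,2,3,2,2,1,4,1,0,1,0,4,1,1,2,1,2,1,3,2,3,4,0,0,0,1,2,1,3,4,4,1,3,2,1,3,4,3,1,2,1,0,0,1,3,3],
 [1,1,2,0,3,2,4,1,2,0,1,0,1,3,0,3,2,2,2,4,4,1,2,1,1,4,0,0,4,0,3,1,0,1,4,0,4,4,0,2,1,2,3,0,3,0,1,4,4,2,4,0,2,1,4,1,0,1,0,0,2,3,4,0,4,4,3,4,1,1,1,3,1,2,2,3,3,3,1,0,4,0,4,2,1,0,1,2,0,1,4,1,3,2,1,1,0,0,1,3,3,0,2,2,4,3,1,4,3,3,4],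
 [3,1,0,0,2,2,4,0,1,1,4,4,2,2,1,4,1,0,2,2,3,0,3,0,2,1,4,3,1,0,1,2,4,4,3,4,4,4,2,2,3,3,2,4,0,2,4,2,4,2,1,3,2,3,4,4,2,1,3,3,2,4,0,3,4,1,2,0,3,1,0,3,2,1,2,2,4,0,1,0,4,2,4,4,2,4,0,4,3,0,4,3,0,1,0,4,1,0,1,2,2,2,1,4,4,1,3,0,3,0,2],
 [1,3,4,0,3,0,2,0,3,0,2,1,4,0,1,0,0,3,0,0,4,3,3,0,2,0,4,1,2,3,1,4,2,3,3,0,4,4,4,3,3,2,4,1,4,3,1,1,1,1,3,3,4,0,2,0,1,2,0,4,1,3,1,1,1,4,0,3,3,3,2,0,0,3,2,1,2,2,4,0,0,2,0,0,2,0,4,1,0,0,3,1,1,2,3,4,3,3,0,3,3,2,4,1,0,1,0,4,1,4,3],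
 [0,0,4,4,4,4,4,0,2,1,0,2,4,3,1,2,4,0,3,1,4,1,3,2,4,4,4,2,2,0,1,2,0,0,0,0,0,0,1,3,3,1,0,0,0,2,3,1,4,2,4,3,0,2,3,0,2,2,3,1,0,0,1,4,1,1,4,0,3,1,3,3,0,0,2,2,0,3,2,2,1,2,3,3,2,2,3,4,3,0,1,0,1,2,1,1,4,1,4,2,0,2,2,2,4,1,4,0,3,0,4],
 [2,4,0,0,4,0,1,1,2,1,3,2,1,2,3,1,4,4,4,3,1,4,4,4,0,3,4,3,1,4,2,4,3,0,3,2,2,4,3,0,4,0,2,4,1,0,0,4,2,2,2,2,0,4,1,2,1,0,0,1,3,3,2,3,2,0,1,0,2,1,0,1,2,4,0,2,2,3,4,2,4,1,3,4,0,2,1,4,4,3,4,0,1,0,3,1,1,0,0,0,0,4,2,4,0,0,4,3,4,0,4],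
 [3,2,0,4,1,1,4,0,2,0,1,3,2,4,2,2,2,0,3,2,2,0,2,3,4,2,0,4,0,4,4,2,1,4,2,1,0,2,2,3,3,2,1,1,3,2,0,3,0,1,4,3,3,0,2,2,1,0,0,2,0,3,1,4,2,3,0,2,0,2,0,1,4,0,3,4,0,4,0,1,4,1,3,4,4,2,3,3,3,3,3,2,4,3,2,2,3,2,3,2,0,4,3,1,0,1,4,3,4,2,0],
 [0,2,4,1,3,2,1,1,3,1,1,3,0,4,1,2,2,3,1,3,0,4,2,4,4,4,2,3,2,2,2,1,4,3,1,1,4,0,1,1,4,2,3,3,0,4,0,0,2,4,4,1,1,2,1,4,2,3,3,4,3,1,1,4,3,4,0,1,0,2,2,0,2,2,2,3,2,4,2,2,3,2,4,0,2,4,0,1,3,0,4,2,1,0,1,0,3,1,3,0,1,0,1,3,4,2,4,1,2,0,2],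
 [2,2,1,4,4,2,0,3,2,3,4,3,2,0,1,0,2,4,0,0,3,2,2,1,2,3,4,4,1,1,0,1,3,1,1,2,0,4,4,1,2,0,1,0,1,3,4,4,3,2,4,3,3,4,2,2,2,1,0,1,2,3,2,1,4,0,1,3,0,4,1,3,0,1,2,1,3,4,2,0,3,3,0,4,1,0,0,2,1,3,3,1,4,4,3,1,2,0,1,3,4,4,2,2,2,1,4,0,1,4,2],
 [2,3,3,2,0,2,0,0,1,0,1,4,3,0,1,3,0,3,2,2,4,4,0,2,1,1,4,3,0,2,2,4,0,0,1,0,3,1,1,1,3,2,0,1,4,2,0,0,4,3,1,0,2,1,0,1,3,0,4,4,3,1,2,1,0,4,4,1,2,3,4,1,3,4,0,1,3,4,2,0,0,0,4,2,3,2,0,3,4,1,1,3,4,2,0,0,4,3,2,3,1,0,1,1,3,1,0,3,2,2,1],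
 [1,1,3,3,4,1,4,3,0,0,4,1,0,0,0,3,2,3,4,1,0,3,2,0,2,1,3,1,2,3,0,4,4,1,1,3,0,1,4,4,4,3,2,4,4,4,1,4,3,4,1,2,4,2,3,0,2,1,0,3,0,4,1,1,1,2,4,3,2,4,4,3,0,0,1,3,4,4,2,1,4,2,1,0,2,3,2,2,4,2,1,0,2,2,0,1,3,2,1,4,4,3,0,2,4,2,1,3,0,4,0],
 [4,3,3,3,0,4,0,4,2,0,4,0,0,4,3,3,1,2,1,0,0,2,4,1,1,0,0,0,0,3,4,1,2,4,2,4,3,4,1,2,1,1,4,4,3,1,3,4,1,2,4,4,0,2,2,3,0,2,4,1,3,1,0,4,1,2,0,2,2,1,0,0,0,1,1,4,3,1,4,4,3,0,2,3,3,0,3,1,2,2,2,4,2,1,0,2,1,2,3,4,1,4,4,3,2,2,0,2,3,0,0],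
 [2,2,4,1,0,2,1,2,0,0,4,0,3,4,3,4,1,4,1,2,0,1,2,0,4,2,0,0,3,4,2,4,0,4,4,4,0,4,4,4,0,3,0,2,3,0,3,1,3,3,0,2,0,1,1,4,4,2,1,4,3,0,4,4,3,2,1,3,0,2,0,3,0,2,4,4,0,4,4,3,4,0,2,0,0,3,3,1,3,4,0,2,4,1,2,3,4,1,4,4,3,0,3,1,4,4,2,2,0,3,4],
 [3,0,4,4,3,4,2,4,2,1,4,1,4,1,2,4,3,4,1,0,0,3,1,3,0,1,4,0,2,2,0,2,0,1,0,4,0,2,3,3,3,4,3,4,2,0,1,3,2,1,2,3,0,2,3,3,1,0,2,2,2,0,4,1,2,4,4,4,4,4,0,4,0,1,4,0,3,3,4,4,1,0,2,2,0,4,4,2,4,4,4,3,2,1,0,4,2,4,0,4,0,3,4,4,1,3,1,4,2,4,2],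
 [0,3,4,1,2,0,4,3,3,2,4,2,1,4,1,0,0,0,3,4,0,2,3,2,3,4,4,0,2,0,1,1,3,2,0,4,3,3,1,0,0,3,4,4,4,3,1,2,1,3,3,4,0,4,3,2,0,0,3,2,1,2,1,4,1,0,1,3,1,3,4,4,0,1,0,0,1,1,2,1,4,4,0,1,0,2,1,4,2,2,1,0,3,4,1,4,1,4,1,4,1,3,3,0,1,2,4,3,1,4,4],
 [3,1,4,4,0,4,1,0,0,4,4,1,0,1,4,4,3,2,3,1,4,1,2,2,1,0,3,1,2,0,0,0,3,0,4,1,0,1,1,4,0,2,1,3,1,3,0,3,1,1,1,2,1,2,0,0,3,2,0,4,4,1,1,3,0,3,4,4,3,4,3,0,4,4,1,4,4,3,2,4,2,0,0,2,4,3,0,3,3,2,3,1,4,3,3,4,4,0,1,2,1,0,3,2,0,3,3,0,0,4,0],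
 [0,2,0,3,1,0,1,4,2,0,1,4,2,4,0,0,2,2,1,1,2,3,2,0,3,4,2,2,3,0,3,1,0,1,0,1,3,4,3,0,3,3,4,0,1,3,2,1,2,1,2,4,1,4,1,1,1,1,0,3,3,0,1,0,0,4,3,1,3,2,0,0,3,2,3,4,2,3,0,0,3,2,4,3,3,1,4,2,0,4,4,0,2,3,3,1,1,0,2,0,1,2,4,3,1,1,1,2,2,1,0],
 [2,4,0,1,2,2,1,3,4,3,4,4,2,1,0,0,1,4,1,0,4,4,4,2,1,1,1,1,2,3,4,3,3,3,3,0,2,3,1,0,2,1,0,0,2,4,3,3,1,4,2,4,2,0,0,2,0,3,0,4,2,1,1,2,4,2,4,0,2,4,3,1,2,2,1,4,2,2,3,0,0,0,4,2,0,2,0,0,3,2,3,1,3,1,1,2,1,3,3,2,4,4,2,3,3,4,0,0,2,4,2],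
 [3,4,3,0,2,3,1,4,0,1,2,4,4,0,4,4,0,1,1,0,0,0,1,1,0,1,0,2,4,4,3,2,3,3,0,0,4,2,2,3,2,0,4,3,1,3,3,3,3,2,3,1,3,1,0,4,0,0,2,3,4,1,1,4,4,3,1,0,2,0,2,2,4,2,1,0,0,1,0,4,3,4,0,4,2,1,4,4,0,4,1,1,4,3,0,3,3,1,3,3,0,4,1,3,0,2,2,2,4,2,3],
 [2,1,0,0,4,0,2,1,0,2,2,1,1,1,0,4,4,2,4,4,2,3,4,3,2,3,3,2,0,2,0,1,0,4,4,3,3,0,2,3,4,3,2,3,3,2,2,4,2,0,2,3,3,4,3,3,1,0,0,0,2,4,4,2,1,0,0,1,3,3,2,2,2,4,0,2,3,1,4,4,0,3,3,4,2,1,3,1,2,4,0,4,4,1,4,2,1,2,1,3,3,1,0,2,1,3,4,1,2,2,0],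
 [4,3,3,0,3,2,0,4,4,3,0,0,0,1,3,0,4,1,3,4,2,4,4,0,0,4,1,0,4,0,2,0,2,2,0,4,4,2,0,4,0,3,0,1,2,1,1,2,2,0,0,3,2,4,1,0,1,1,1,1,1,1,3,4,3,1,4,4,4,2,2,2,1,4,3,0,4,2,4,3,4,0,3,1,0,1,2,3,2,3,1,4,3,2,2,0,4,3,4,0,3,2,1,1,2,0,0,3,3,0,2],
 [4,3,0,0,3,4,0,0,4,1,4,2,1,3,0,3,1,0,3,1,2,2,2,4,1,4,4,2,4,3,0,3,3,4,2,2,0,0,2,1,0,4,2,0,0,2,1,3,2,2,4,3,0,1,4,2,2,3,4,0,1,1,2,1,4,2,4,3,3,3,3,2,0,1,3,0,2,4,0,2,4,2,2,2,2,0,3,0,3,1,1,1,4,3,4,2,0,1,1,0,2,2,4,4,4,2,0,0,0,2,1],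
 [3,0,0,3,2,0,4,4,3,3,3,2,2,3,0,2,2,1,4,4,3,4,2,0,1,4,3,1,3,3,0,0,4,3,1,4,3,3,3,0,4,4,4,3,4,0,2,2,3,1,1,4,4,2,0,0,3,1,2,1,1,3,4,0,2,3,0,2,2,2,1,4,0,4,2,1,3,0,0,1,0,1,0,0,1,1,0,1,3,0,3,1,3,0,3,1,0,2,3,0,4,2,1,0,1,0,1,0,0,4,4],
 [2,3,3,2,2,3,2,3,1,3,0,3,4,1,2,4,3,4,0,1,3,1,1,4,4,2,3,1,1,0,1,1,4,4,0,2,1,3,4,2,1,0,0,3,4,4,1,0,3,1,1,3,4,4,0,1,4,0,0,1,0,1,2,1,2,1,1,3,2,0,3,1,4,2,2,1,4,1,3,1,1,2,3,2,1,0,3,0,4,2,2,4,2,2,3,4,2,0,0,3,1,4,4,4,1,2,3,2,0,1,3],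
 [1,3,2,3,2,1,0,0,3,2,2,1,1,0,0,1,0,0,3,1,3,2,0,0,3,1,4,0,1,1,4,0,1,4,4,1,0,3,3,0,3,1,0,3,4,4,3,1,2,0,1,3,4,1,1,3,4,0,3,0,4,0,1,1,3,0,0,1,4,0,4,2,0,0,3,0,4,2,0,4,1,0,0,2,1,3,3,1,4,1,4,2,3,0,2,0,3,2,4,4,2,0,2,0,2,1,0,2,4,4,2],
 [3,1,4,4,0,4,2,3,1,0,2,3,3,2,2,2,1,0,2,3,1,4,3,3,1,0,4,4,1,4,0,4,1,2,2,0,3,4,3,1,1,1,4,4,1,1,1,3,2,4,4,0,0,2,3,1,1,2,1,2,3,1,4,4,1,1,2,2,1,1,4,2,2,4,2,2,3,0,3,1,3,1,3,0,3,4,0,4,0,0,0,1,2,1,3,1,4,2,0,3,0,3,3,2,0,1,1,1,0,4,4],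
 [1,0,4,1,2,1,1,0,3,3,1,1,4,2,3,4,1,1,1,4,1,3,3,1,1,0,1,2,0,4,2,0,3,3,1,4,4,4,0,1,0,1,0,0,3,2,3,1,1,3,3,4,0,4,4,0,0,2,1,1,4,4,3,0,3,2,0,4,4,0,0,3,4,3,3,4,3,1,4,4,3,0,4,0,4,3,1,0,4,1,3,2,3,1,3,3,4,2,2,4,1,4,3,4,3,1,4,2,2,0,2],
 [0,3,2,3,0,2,3,0,3,1,2,1,1,1,2,2,0,1,2,3,4,0,1,1,1,0,0,4,1,4,3,0,1,2,4,4,1,2,1,0,1,2,1,0,4,4,4,0,1,0,2,3,2,0,4,3,1,3,1,0,2,3,2,1,0,1,1,3,2,1,0,0,3,0,2,2,2,1,0,3,2,1,3,2,0,2,2,3,3,1,2,2,1,0,4,1,3,2,4,1,0,0,2,3,4,2,4,2,4,1,3],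
 [4,1,1,1,1,3,3,0,1,3,0,0,4,3,3,1,1,0,2,0,4,3,3,1,1,2,2,0,2,0,2,1,4,0,0,2,4,0,3,1,3,4,1,3,1,3,4,3,2,4,2,4,1,4,4,1,0,0,1,0,4,1,3,2,0,1,3,2,4,3,0,1,1,4,0,2,4,3,3,4,0,3,1,4,2,0,2,3,3,1,0,1,3,3,0,1,4,2,3,4,3,1,4,2,2,3,2,4,0,2,4],
 [1,0,4,1,3,0,1,2,0,0,1,4,2,3,4,1,3,4,2,4,4,1,1,3,1,4,4,4,0,1,0,3,1,0,1,3,0,1,4,2,3,1,0,1,0,4,0,4,4,1,0,4,2,4,4,3,3,4,2,3,4,3,2,2,4,0,4,4,3,1,4,0,1,1,4,2,4,1,1,0,3,4,2,3,0,3,1,2,2,0,0,2,2,2,3,1,4,3,4,4,2,4,0,2,2,3,4,3,2,4,3],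
 [3,3,3,2,1,1,4,2,2,4,0,3,3,4,0,3,2,3,2,3,4,2,0,1,0,2,0,2,0,2,0,2,0,4,2,2,0,4,4,4,2,4,1,4,0,3,4,2,4,1,3,4,2,0,1,4,4,1,0,3,1,1,4,2,1,4,3,4,0,1,4,4,1,3,2,1,0,0,0,2,4,2,1,2,1,0,1,0,1,0,0,0,1,1,4,4,1,4,4,3,4,2,1,1,1,4,4,0,4,1,4],
 [4,4,2,2,3,3,2,1,1,1,4,4,0,4,0,0,0,4,2,2,4,0,3,1,1,1,3,2,2,2,3,1,0,2,3,1,0,3,2,0,0,4,3,3,0,4,4,3,4,3,3,4,1,3,2,3,1,0,4,0,3,1,3,2,4,4,2,3,2,2,2,3,3,4,2,0,2,2,0,0,3,3,2,0,2,0,0,1,3,0,2,1,1,3,0,1,2,2,0,2,1,3,4,0,4,3,2,3,0,3,2],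
 [0,3,3,0,3,1,3,1,0,4,1,1,0,1,3,4,1,2,1,4,3,0,4,1,2,2,1,0,0,2,0,4,3,4,2,1,3,4,3,0,1,0,4,1,4,0,0,1,1,0,3,2,3,1,3,0,4,4,0,1,4,3,3,3,4,4,1,2,0,1,0,4,2,2,0,2,3,3,3,2,2,2,1,0,3,0,2,4,1,4,2,4,2,0,3,3,2,3,3,2,0,4,4,4,0,2,1,4,3,1,1],
 [1,2,1,4,1,2,1,2,3,0,1,3,2,1,3,3,3,1,0,0,2,4,0,0,1,3,3,3,2,1,0,0,2,0,0,1,0,2,4,1,2,0,2,4,1,1,4,0,3,2,0,4,3,2,4,4,3,4,0,0,2,1,4,4,0,3,0,2,1,1,2,1,1,1,0,3,0,3,4,2,2,4,1,1,2,1,3,2,0,3,2,2,1,4,4,1,3,3,0,1,1,4,0,2,2,4,3,0,0,0,3],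
 [0,3,3,2,3,1,3,2,1,0,4,0,1,3,2,0,4,0,3,3,4,3,4,2,2,3,0,0,2,1,0,1,1,1,4,0,2,2,1,1,4,0,3,1,4,3,1,2,4,3,2,4,3,1,2,0,3,4,1,3,3,3,3,4,3,4,1,4,2,0,0,1,2,3,1,2,1,1,2,3,1,4,3,0,2,1,0,4,3,0,4,2,2,4,2,3,1,1,0,4,3,4,2,1,2,1,3,2,0,3,2],
 [2,3,3,0,0,2,3,2,4,1,2,2,1,4,3,1,0,1,2,1,4,1,3,3,3,3,1,3,2,1,4,4,3,2,3,1,1,1,3,2,0,1,4,0,2,2,0,4,2,3,0,2,1,2,0,0,4,4,4,4,0,2,0,4,4,3,3,4,3,4,1,0,2,2,0,3,4,2,3,1,0,0,1,0,4,1,1,3,3,1,0,1,3,1,0,3,1,3,1,1,0,1,3,0,3,4,1,3,3,0,2],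
 [0,0,0,3,2,1,4,2,3,0,4,3,0,2,4,0,1,1,3,2,4,4,3,0,3,3,2,2,3,1,3,3,2,3,1,3,3,0,2,3,4,4,2,4,2,0,0,1,4,4,2,2,1,0,2,3,2,3,1,0,1,3,4,3,0,4,0,4,0,4,2,3,2,2,0,2,1,2,0,3,1,3,1,0,0,2,0,4,3,1,0,4,1,0,3,3,2,3,0,1,2,0,3,1,0,0,2,4,0,4,2],
 [0,1,4,4,2,0,2,2,4,1,1,1,0,1,0,1,1,0,3,1,2,4,3,3,1,4,3,1,0,2,4,3,4,1,1,3,1,4,1,0,3,1,3,0,4,1,4,2,1,4,2,1,1,2,1,0,0,1,3,2,2,1,0,2,4,3,0,0,2,4,0,0,2,2,3,0,1,1,2,2,4,4,3,1,4,2,3,2,4,3,1,0,0,0,3,4,3,0,1,0,4,2,4,4,4,0,3,0,4,0,4],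
 [3,4,1,3,2,1,1,4,3,4,4,3,1,4,4,4,4,4,2,1,2,4,4,3,4,1,1,4,1,4,4,1,4,1,1,1,3,3,3,4,3,3,2,4,0,3,3,4,0,0,1,4,2,3,0,0,0,3,0,4,3,1,4,1,4,4,1,3,0,2,2,2,0,2,2,1,3,0,3,0,1,0,3,4,1,0,3,1,2,2,3,0,3,1,2,2,2,1,0,1,4,2,2,2,3,0,1,0,3,3,3],
 [0,1,1,3,3,2,4,1,2,3,0,1,1,4,4,0,1,0,1,4,2,3,3,2,2,0,4,4,1,0,1,1,0,3,1,3,1,3,1,3,4,3,4,4,1,1,4,1,2,4,1,4,4,3,3,0,4,2,2,4,4,2,4,1,1,1,3,0,1,3,1,4,3,0,0,2,3,0,4,1,0,4,1,4,0,0,3,2,3,2,0,3,4,1,3,3,1,1,2,0,2,2,3,3,0,4,0,1,4,3,3],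
 [4,3,4,1,0,3,0,1,1,4,1,4,4,0,3,2,1,1,1,1,4,3,0,3,4,4,4,2,4,3,3,1,0,2,3,2,1,3,0,2,4,4,4,4,3,0,3,0,2,2,1,3,2,0,2,4,0,1,3,0,0,3,3,3,3,3,2,3,1,1,4,4,1,4,2,2,2,2,2,1,0,4,1,4,2,1,3,2,3,2,0,3,4,0,2,3,3,2,0,2,3,4,1,3,3,2,0,3,2,1,4],
 [0,0,1,4,1,3,1,1,4,1,2,4,4,2,2,1,4,0,4,2,1,2,4,3,4,2,3,2,0,4,1,3,3,3,1,4,0,4,3,2,1,1,1,2,1,2,3,3,2,2,4,4,0,2,4,4,1,1,4,3,0,1,4,4,0,2,2,4,3,1,1,0,3,3,4,1,2,0,1,2,4,1,0,3,4,4,0,0,2,0,2,4,3,4,2,2,0,4,2,3,0,0,4,0,4,1,2,4,4,1,0],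
 [2,3,2,3,1,3,0,4,1,4,1,1,1,4,3,3,2,3,3,3,2,2,2,0,0,0,4,4,0,3,2,0,0,0,4,4,0,2,3,4,0,3,3,2,2,0,3,0,0,0,4,0,0,1,1,2,1,0,1,0,4,4,0,4,3,3,1,1,3,1,1,0,3,4,1,4,4,2,4,2,4,0,2,1,1,0,3,1,4,2,2,4,4,1,4,3,0,3,2,4,1,1,3,1,4,1,1,3,0,1,0],
 [4,0,2,1,3,1,1,0,2,3,0,4,2,3,3,2,4,2,2,4,1,1,4,0,3,3,2,0,4,0,0,2,1,2,0,4,4,4,1,1,1,3,3,3,0,3,1,0,2,3,4,4,3,2,4,4,0,3,0,1,2,4,3,1,2,0,4,3,0,2,0,4,4,2,3,0,0,0,4,0,3,2,4,2,0,4,0,4,4,0,0,1,1,1,1,4,3,3,0,2,1,0,3,2,2,4,3,0,4,3,1],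
 [1,4,2,2,3,3,3,3,0,1,4,4,1,0,4,0,4,2,2,4,0,4,4,0,3,4,2,0,1,4,4,4,3,0,0,0,4,4,2,2,3,1,0,2,3,0,4,0,0,1,4,1,2,2,2,0,0,2,3,0,4,3,1,4,4,0,0,4,1,3,4,0,2,2,4,2,2,4,4,3,3,4,3,2,0,1,4,4,1,2,0,4,2,4,1,2,4,0,2,1,4,1,0,1,3,1,1,0,0,1,0],
 [1,2,3,1,0,4,0,1,1,0,1,1,1,0,0,4,3,3,2,0,2,1,1,4,4,2,3,4,0,2,4,1,0,3,0,2,3,3,3,4,4,2,2,2,2,4,1,4,1,3,1,4,4,4,1,1,2,0,3,2,3,2,3,0,3,1,1,1,0,4,4,1,1,1,4,0,2,4,3,2,3,3,2,2,3,4,0,2,1,2,4,2,3,0,0,1,0,2,3,4,3,0,0,1,1,2,1,0,3,3,0],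
 [3,1,2,1,3,0,3,0,2,2,1,2,4,1,1,2,3,2,0,4,4,3,0,3,3,3,2,2,1,1,1,3,0,1,2,1,2,2,3,0,1,0,2,4,3,3,3,1,4,0,1,3,1,3,0,1,1,0,4,1,4,4,2,1,2,2,2,1,0,2,1,2,2,0,0,2,0,1,0,2,1,3,3,3,4,2,0,1,1,0,0,4,3,0,4,1,3,3,3,1,4,1,3,4,2,1,3,1,3,4,4],
 [4,1,0,3,3,3,3,0,1,3,1,1,0,3,4,1,4,3,3,3,0,4,4,1,2,4,2,0,1,4,3,3,2,3,4,3,3,4,1,0,1,4,3,0,3,1,0,2,3,0,3,1,3,1,3,1,2,0,4,2,1,4,1,3,1,0,3,1,2,0,0,1,3,4,1,3,3,3,0,0,4,2,4,3,4,0,3,1,4,2,2,0,3,2,0,0,1,1,0,2,0,3,2,1,4,3,1,0,4,1,0],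
 [0,2,4,2,2,1,2,4,2,3,0,0,3,4,3,3,3,0,2,0,4,3,4,3,3,2,3,1,3,0,4,4,2,4,2,1,4,2,4,1,0,0,4,1,4,2,0,2,4,2,1,1,0,0,4,4,0,2,1,1,4,2,0,3,4,2,3,4,3,1,1,2,0,4,3,0,3,2,3,1,4,0,4,1,1,3,3,1,2,4,3,0,1,0,2,2,2,0,1,2,4,3,3,1,4,4,2,3,1,2,1],
 [3,4,2,1,0,2,3,3,3,4,4,2,2,1,4,1,0,3,3,0,4,1,4,1,3,3,1,1,3,1,0,1,1,2,2,4,3,4,4,1,0,4,4,4,3,2,1,0,2,0,2,1,1,4,1,3,1,0,0,0,0,2,0,0,2,1,3,4,0,0,0,4,2,3,3,0,3,2,4,2,2,3,4,2,2,3,1,1,2,3,3,1,1,2,1,0,0,4,3,1,0,2,4,1,0,4,3,1,2,1,0],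
 [1,2,3,4,1,2,1,1,4,0,4,1,2,4,4,4,2,1,0,4,0,2,1,2,4,0,2,1,3,0,0,4,2,3,2,4,3,3,2,0,2,0,0,3,1,1,4,3,1,2,0,2,1,4,2,2,2,3,2,0,0,3,4,2,0,1,1,2,0,4,3,2,4,3,0,0,1,3,0,2,2,4,0,3,2,3,4,0,1,3,4,0,1,0,2,0,0,2,2,0,3,1,1,0,0,3,4,4,2,0,4],
 [3,1,0,0,1,1,2,0,2,1,2,1,4,2,1,1,4,0,1,3,4,0,2,4,1,4,3,0,3,2,1,0,4,2,3,3,0,0,2,3,2,2,0,1,2,0,0,1,4,3,0,1,3,0,4,2,4,2,0,3,0,2,2,3,1,0,3,2,1,3,1,0,4,0,1,1,3,4,4,1,0,0,1,3,4,2,0,2,2,3,4,2,4,4,2,0,0,4,0,3,4,3,2,0,4,1,3,1,0,2,3],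
 [4,2,2,1,2,4,4,3,0,1,1,2,3,3,2,0,4,2,2,0,4,3,1,2,2,3,2,3,1,1,2,1,1,2,1,2,0,0,4,1,0,4,0,2,0,3,1,4,1,2,0,3,0,0,0,0,2,2,2,2,3,1,4,4,2,3,2,0,1,1,1,0,2,2,4,2,4,0,2,0,0,4,1,1,0,0,1,0,3,2,2,2,2,2,1,1,2,0,2,0,3,4,0,3,2,1,3,1,1,0,2],
 [4,3,1,0,0,1,1,2,2,0,0,1,0,3,4,1,4,3,1,4,4,4,4,3,2,4,2,2,1,2,1,2,4,0,0,1,3,1,4,2,0,3,0,3,4,3,2,1,3,2,2,1,2,2,3,0,3,4,3,4,0,4,1,3,2,2,1,0,1,3,0,0,0,3,4,1,2,2,2,3,2,4,1,3,4,2,2,2,1,3,4,3,1,3,0,3,0,0,3,0,3,4,0,3,0,0,3,2,4,3,4],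
 [2,2,4,2,2,2,1,1,1,1,3,1,1,0,4,2,4,1,1,2,0,4,0,4,1,0,1,1,2,0,4,1,0,3,0,0,0,3,2,2,1,3,0,3,0,1,0,1,3,1,3,0,1,3,4,0,4,0,3,0,4,2,0,1,1,0,0,0,0,1,3,3,0,4,3,1,0,2,4,2,2,0,1,3,4,3,1,3,2,3,1,1,2,1,1,2,1,3,3,4,2,4,1,0,2,4,3,0,2,0,0],
 [0,3,2,0,0,1,4,0,3,2,1,3,0,2,4,0,1,0,3,3,4,1,0,4,3,3,4,3,1,1,0,3,0,4,4,1,4,1,1,0,2,2,4,4,2,3,3,4,0,1,4,4,0,3,3,3,0,3,2,1,1,0,4,0,4,3,3,3,3,3,1,1,1,4,3,3,0,4,4,3,3,4,2,4,3,4,4,2,0,4,3,3,1,3,0,0,2,0,4,1,2,2,2,3,3,0,3,3,1,1,1],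
 [0,3,0,0,2,4,1,1,0,2,0,0,0,2,1,3,1,4,2,2,2,1,1,3,1,1,1,0,1,1,1,0,0,0,1,3,0,2,3,2,0,4,0,0,2,3,4,4,0,2,2,1,4,4,0,2,0,4,2,2,3,0,0,0,2,4,1,2,3,1,1,2,3,1,2,2,1,0,1,0,2,3,2,0,2,1,2,0,1,4,2,3,2,2,3,0,0,4,2,1,2,0,1,3,3,2,0,4,2,1,3],
 [3,3,0,1,3,4,0,2,1,3,1,0,4,2,4,3,0,2,3,2,1,3,3,1,2,4,4,1,0,4,4,0,1,0,1,0,4,0,2,1,0,4,1,4,0,0,2,4,2,1,2,0,1,0,3,0,0,4,2,1,0,2,1,3,0,0,3,2,1,0,1,1,1,1,4,1,2,1,0,3,1,1,2,1,2,4,2,2,1,4,0,4,4,2,3,4,1,0,2,4,2,0,2,0,3,0,0,3,4,3,4],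
 [4,1,0,4,0,0,1,0,2,2,4,3,1,0,3,4,4,1,0,4,3,3,4,0,1,3,3,4,2,0,0,4,2,0,0,3,4,3,0,0,0,4,4,0,2,0,1,2,0,1,2,3,0,2,4,2,1,2,4,2,0,1,4,0,4,1,1,4,1,2,4,3,1,2,1,4,1,4,0,3,4,2,2,0,3,1,2,1,4,2,2,1,1,0,0,4,1,4,1,4,1,0,0,2,3,4,4,4,0,4,1],
 [4,4,3,2,3,2,1,0,1,4,2,1,4,3,4,1,2,3,3,4,0,2,1,2,3,1,4,4,1,1,0,1,1,4,1,4,0,1,3,3,0,4,0,4,1,1,2,0,3,0,2,2,4,3,3,0,3,3,0,2,1,1,4,4,3,0,0,2,4,3,3,0,1,2,4,2,0,3,0,1,4,4,0,2,1,0,0,3,3,2,2,2,3,2,2,3,3,4,1,4,2,1,2,3,2,1,2,3,4,0,3],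
 [0,4,3,0,0,0,2,1,4,0,4,1,2,4,4,1,0,4,0,3,4,0,3,3,2,2,1,3,1,0,3,1,4,4,3,0,0,3,3,4,1,3,3,0,0,0,3,1,1,2,2,3,4,4,1,1,1,2,4,2,4,0,3,2,0,3,2,3,1,3,0,2,0,3,0,3,1,3,3,2,1,0,1,0,4,2,3,0,1,3,2,3,3,3,1,2,4,4,4,0,3,0,4,2,2,1,4,2,4,3,3],
 [2,1,0,0,0,1,3,2,3,2,3,1,4,0,4,2,4,3,3,4,4,3,2,3,2,4,3,3,1,3,2,2,3,1,2,3,2,1,0,0,1,3,0,2,2,1,4,2,3,0,3,3,4,1,4,0,3,1,4,1,2,2,3,3,4,0,2,1,0,1,4,2,0,2,0,2,0,4,1,0,0,3,2,2,1,0,3,2,4,4,1,4,4,3,0,4,0,1,4,1,3,0,0,1,0,1,2,0,2,4,2],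
 [3,0,2,3,0,4,1,3,1,1,4,0,1,3,1,4,0,0,4,2,3,0,3,4,4,4,2,0,1,1,2,4,2,4,1,4,1,1,1,4,1,3,4,3,0,2,2,2,2,4,1,3,3,1,1,0,2,3,3,3,0,1,4,1,3,2,2,0,2,0,1,0,1,1,3,4,4,2,0,2,4,0,2,0,0,2,0,4,3,2,1,1,2,2,1,2,2,4,2,2,2,3,0,0,4,1,2,2,3,2,1],
 [4,3,4,4,1,0,2,2,4,3,1,3,3,4,3,3,0,4,0,2,0,3,4,4,3,0,0,1,0,3,3,1,4,2,4,1,4,4,4,2,3,3,4,1,2,0,1,3,2,4,0,4,1,1,4,2,2,1,3,3,1,4,1,3,0,3,4,3,4,2,4,2,0,1,0,1,4,2,1,4,3,0,1,4,0,1,3,2,2,2,4,2,1,4,0,3,0,1,3,4,1,4,0,4,1,4,1,3,0,4,1],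
 [1,3,1,2,4,1,2,2,2,2,1,4,4,2,2,1,0,3,4,4,4,1,2,3,4,1,3,2,4,4,2,0,0,4,0,4,0,2,1,0,0,4,1,3,2,3,1,1,3,4,2,0,2,1,0,2,0,4,3,0,0,4,0,3,2,4,3,1,3,0,0,2,3,4,3,0,4,0,2,3,1,1,2,4,0,1,2,3,0,0,0,0,1,2,2,0,3,1,0,0,1,3,4,1,0,2,1,3,1,0,2],
 [1,3,1,2,2,0,3,0,2,2,3,2,1,0,3,4,0,0,0,3,2,4,0,4,4,1,2,1,0,4,0,3,2,3,2,0,4,0,0,3,0,1,2,4,4,1,2,1,0,0,2,4,2,0,2,0,4,2,2,2,0,3,4,2,2,4,2,0,2,2,4,0,2,4,1,4,4,4,2,3,3,4,4,1,1,0,2,1,3,1,3,0,1,4,0,3,4,3,4,3,0,3,0,1,2,4,3,2,0,2,0],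
 [0,3,2,0,4,0,3,3,4,2,3,4,4,3,2,2,1,0,0,2,2,0,4,0,3,0,2,2,2,2,0,0,2,2,0,0,3,0,4,0,1,0,1,4,2,1,4,2,0,3,0,0,2,0,1,2,1,3,2,4,1,2,0,1,0,3,0,4,0,2,3,3,3,0,4,4,4,2,1,2,2,4,1,2,1,0,0,0,3,0,1,1,1,2,0,3,1,3,0,1,0,4,0,4,1,0,1,4,1,1,2],
 [4,1,3,1,2,0,0,0,2,4,3,3,1,0,0,3,0,2,1,1,4,1,4,2,1,1,1,1,3,3,4,3,1,3,0,3,4,4,0,0,2,3,0,2,1,4,4,0,0,3,2,0,1,1,1,0,4,1,4,3,1,0,1,4,2,2,3,0,3,2,1,0,0,3,3,4,0,2,3,1,4,3,1,1,4,3,3,4,4,2,2,4,1,3,3,2,4,0,0,1,0,3,0,0,3,0,3,0,1,3,1],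
 [2,4,1,0,1,2,2,1,3,0,2,3,4,0,4,4,3,3,0,0,1,0,4,2,2,4,3,4,4,0,4,0,1,4,2,0,0,4,1,2,3,3,1,1,2,2,0,2,4,1,2,3,3,3,0,2,3,3,1,2,2,1,0,0,0,0,2,3,3,2,4,4,3,4,3,4,0,4,3,0,4,3,4,0,1,3,0,0,3,4,4,1,0,3,1,1,3,2,2,3,1,2,4,2,1,1,1,3,4,3,2],
 [2,0,3,0,2,2,0,3,3,2,1,1,4,2,4,0,3,4,3,1,0,4,4,2,2,2,2,2,1,0,3,0,2,1,0,4,2,0,4,4,3,1,0,4,1,3,1,0,2,1,2,1,0,0,3,3,0,2,2,4,0,4,4,0,1,3,3,3,3,3,0,4,2,3,2,3,4,0,4,2,2,4,4,4,4,1,3,3,3,2,4,0,2,4,2,0,4,3,3,4,0,4,4,4,3,2,0,0,0,4,3],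
 [4,4,1,3,3,1,2,2,4,4,4,3,3,4,0,1,1,1,2,2,4,1,3,4,1,1,3,1,0,1,3,3,3,3,3,3,3,3,0,4,0,1,1,3,4,3,0,3,2,4,0,4,4,1,0,1,4,0,4,0,0,1,1,1,3,0,1,3,1,4,0,0,2,0,2,0,4,0,4,1,2,1,3,1,3,1,3,2,3,4,1,3,3,4,1,1,3,4,0,1,0,2,2,3,0,3,4,0,1,2,1],
 [1,4,3,0,3,0,1,1,3,4,4,0,3,2,2,4,2,2,3,3,0,4,3,3,0,0,2,0,3,3,4,4,3,4,3,1,0,4,3,1,0,1,1,2,4,3,4,0,0,3,3,2,4,0,2,2,3,3,3,1,2,3,3,0,4,3,4,1,1,2,3,3,2,4,1,3,2,2,1,2,0,0,4,2,2,1,1,2,1,3,3,3,1,4,4,1,0,2,3,4,3,1,4,0,0,2,0,0,3,2,3],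
 [3,0,0,1,3,1,3,3,4,4,1,0,0,0,4,0,3,0,4,2,1,3,3,2,2,0,0,4,1,2,4,3,4,2,0,3,2,3,1,1,3,3,3,3,0,4,4,3,2,3,4,2,1,3,1,2,2,2,0,2,2,4,3,3,4,0,2,1,2,1,0,1,3,3,3,2,0,1,4,1,3,1,3,0,2,1,1,1,0,1,2,2,1,4,3,0,2,3,3,0,1,1,4,0,0,2,1,0,4,3,1],
 [4,4,3,1,2,1,1,2,3,4,2,2,3,3,3,0,1,0,2,0,4,2,2,4,1,4,0,2,0,1,2,3,1,1,1,3,1,0,0,4,3,1,1,4,1,4,2,1,0,0,2,1,4,2,2,2,1,1,0,0,3,0,2,2,3,3,3,0,4,2,1,2,1,2,3,0,1,1,1,2,3,3,0,4,1,4,1,3,3,2,3,2,4,0,3,3,4,2,4,2,2,4,1,1,0,2,4,0,4,4,1],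
 [0,4,2,2,0,0,1,1,4,2,2,0,2,3,4,4,4,1,2,2,3,3,0,3,1,3,2,4,0,1,3,1,1,1,4,3,1,4,3,1,1,0,4,1,1,2,1,1,4,2,0,0,1,1,1,1,0,2,0,4,2,1,2,0,1,2,1,1,0,1,1,0,0,1,1,4,0,1,1,4,3,2,0,4,4,1,4,3,2,4,2,4,3,0,1,0,3,0,1,1,4,1,2,4,4,4,0,3,4,0,0],
 [0,2,0,2,0,4,4,2,2,0,4,0,1,3,0,1,4,3,0,0,2,3,1,4,2,4,1,4,1,3,1,0,4,4,3,3,0,2,3,0,1,3,0,2,3,0,4,4,0,4,2,1,2,0,4,4,0,1,3,0,1,3,2,1,2,4,2,2,2,0,1,4,1,0,3,2,0,4,1,0,1,2,3,1,1,2,4,4,4,0,4,1,3,0,1,1,0,3,1,4,3,2,1,2,2,1,4,2,1,3,1],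
 [3,0,2,3,0,2,3,0,3,2,0,2,0,3,2,4,0,3,2,1,3,2,3,4,2,4,0,4,1,3,0,3,4,3,2,4,2,0,4,2,4,2,3,1,0,1,3,0,0,1,3,0,4,3,3,2,1,0,1,3,2,0,0,3,3,0,2,2,3,3,1,1,0,4,2,1,0,4,3,2,2,4,4,4,1,2,3,1,0,0,2,3,3,1,4,4,1,3,4,4,2,0,1,2,3,3,2,4,1,2,3],
 [2,0,4,1,0,2,0,2,3,3,4,1,3,0,1,2,3,1,1,2,2,3,4,2,1,0,4,0,3,0,4,4,3,2,2,0,4,0,1,1,4,3,2,0,0,0,3,0,2,4,1,0,1,1,0,0,4,1,0,2,2,4,3,0,0,1,4,2,1,1,0,1,3,4,4,3,0,3,0,3,4,1,0,2,1,3,2,3,0,4,3,0,2,0,1,2,0,4,1,2,3,4,2,3,1,4,2,3,3,0,2],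
 [3,1,1,1,3,4,0,0,0,4,3,2,0,3,0,0,3,1,2,2,1,4,1,4,0,2,1,2,1,1,3,1,4,4,1,2,3,4,2,4,4,3,3,3,3,4,3,3,3,4,4,1,0,0,4,4,2,2,1,3,4,1,1,1,4,2,0,1,4,1,2,0,0,2,1,3,3,1,1,2,2,0,4,3,4,1,3,3,1,3,0,2,0,2,4,3,0,0,2,4,2,4,2,2,0,2,4,2,2,4,4],
 [3,4,1,2,2,1,1,4,4,3,3,3,2,4,2,3,2,2,3,0,4,0,4,2,3,0,1,2,4,4,2,3,0,0,3,0,1,1,3,4,3,1,4,1,4,1,4,1,1,0,2,1,3,0,1,0,2,2,1,3,1,3,4,3,4,2,4,3,4,2,4,1,1,0,3,1,0,3,3,3,2,4,4,4,2,3,3,2,4,1,1,3,4,4,4,1,1,3,3,0,2,1,3,4,2,0,3,1,0,3,0],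
 [1,4,0,3,4,1,4,4,4,2,3,0,3,2,2,3,2,1,0,2,1,0,0,3,2,1,2,3,4,1,3,0,1,4,0,0,3,1,2,3,0,4,4,1,4,4,2,4,4,2,3,1,3,4,1,0,2,1,4,0,1,0,4,4,0,3,3,4,4,0,2,3,0,3,0,1,1,4,3,2,0,3,4,3,0,0,2,0,4,0,1,0,1,1,3,3,0,1,0,0,3,4,2,4,0,0,2,2,3,2,1],
 [2,4,4,4,0,0,0,0,0,3,0,3,2,1,4,1,1,1,1,0,2,3,3,1,2,2,3,2,1,1,0,2,1,1,4,4,2,4,1,2,1,4,3,2,1,0,4,4,4,2,1,3,3,0,4,0,3,1,3,4,3,2,1,1,2,2,2,4,1,4,0,4,4,4,2,3,4,4,4,1,3,3,4,0,1,3,4,2,3,2,1,4,3,4,2,1,0,0,0,0,1,0,4,2,3,3,2,0,3,3,2],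
 [2,2,0,0,4,1,0,2,2,0,0,1,3,1,3,3,0,0,2,1,4,3,3,4,2,2,1,1,4,1,3,4,2,4,1,3,3,2,0,0,1,2,2,0,4,0,4,3,2,4,1,0,4,1,2,4,2,0,1,3,4,4,2,0,2,4,4,4,1,1,1,0,3,1,2,2,2,1,4,3,2,4,1,0,1,0,2,1,3,2,4,3,1,3,2,2,4,3,2,2,1,2,4,0,1,1,0,1,4,3,2],
 [2,3,4,0,1,2,1,2,4,4,0,3,1,2,0,3,3,0,4,3,1,4,3,4,3,1,0,3,4,4,3,4,3,0,1,2,0,0,0,0,1,4,3,3,0,1,3,0,3,4,0,1,1,2,3,0,4,3,0,4,3,2,1,0,2,3,0,2,0,4,0,4,3,3,4,4,3,4,4,4,3,0,3,0,4,3,3,1,2,4,3,2,1,3,0,1,2,3,4,3,2,3,1,0,2,1,2,3,1,0,0],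
 [4,2,4,1,1,3,1,4,2,4,1,3,2,1,0,1,2,1,0,1,0,4,4,1,0,2,1,0,1,0,1,3,4,1,0,1,3,1,2,4,4,0,4,2,0,3,0,4,3,1,3,3,2,2,1,4,0,2,4,2,2,2,3,3,0,4,1,0,2,0,3,0,1,0,2,2,0,4,4,3,2,3,2,1,3,4,4,2,0,4,3,2,2,1,0,0,2,3,2,1,4,2,3,2,2,1,2,4,2,0,4],
 [3,2,1,2,2,0,0,3,3,3,3,3,1,0,4,4,3,3,2,2,4,0,3,0,1,1,2,3,4,0,3,2,3,3,1,3,0,3,4,2,2,3,0,4,2,1,3,0,4,0,0,2,1,3,1,3,2,0,4,2,2,0,4,0,0,2,2,1,2,1,0,4,1,1,1,3,1,0,2,0,0,2,0,0,3,4,2,3,4,2,4,2,2,3,2,2,4,1,2,1,4,0,4,3,3,4,3,3,3,3,1],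
 [3,1,1,3,4,3,3,4,4,2,3,1,1,1,2,4,2,0,3,2,4,1,2,2,2,0,0,2,3,3,2,0,4,2,4,3,4,3,0,4,0,0,4,3,3,2,4,3,1,0,0,4,4,2,4,4,0,4,3,0,1,2,3,1,1,4,4,1,0,3,1,0,2,2,1,4,2,0,4,2,3,4,3,1,4,0,3,4,3,4,1,0,2,1,4,4,4,4,0,1,1,2,0,2,2,2,0,3,2,4,3],
 [0,4,4,4,1,1,1,1,1,3,4,0,2,3,4,1,2,1,2,3,2,4,4,0,0,0,1,0,0,4,3,0,2,0,3,0,2,1,4,0,1,4,2,3,0,4,0,3,0,3,3,1,3,3,2,4,3,2,1,3,4,0,2,3,0,4,3,4,3,1,0,0,1,3,4,1,4,2,4,1,0,1,1,2,1,1,1,0,2,0,0,0,1,0,2,0,4,1,0,1,4,2,0,3,2,4,4,2,2,1,0],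
 [1,1,1,1,4,1,0,1,0,1,2,2,0,2,4,2,2,1,1,3,4,1,3,3,4,3,1,2,4,0,3,0,3,0,4,1,4,0,2,2,0,1,0,4,1,4,2,1,2,1,3,2,2,3,0,3,0,0,2,1,0,2,1,3,0,2,4,4,4,1,4,3,1,3,2,1,4,0,2,0,3,0,4,3,4,1,1,0,2,4,4,4,1,0,0,4,3,4,4,2,4,2,1,4,0,3,4,1,1,0,0],
 [4,1,2,1,4,3,3,0,3,3,0,3,4,1,4,0,1,3,3,4,4,4,2,4,4,3,0,4,1,4,0,1,4,1,0,1,3,3,1,3,2,0,2,4,4,1,3,1,1,4,3,0,4,1,3,3,3,1,0,3,4,4,4,3,0,4,0,3,3,1,2,4,0,0,3,0,0,1,3,1,4,3,0,2,0,4,2,0,4,3,2,1,1,0,4,0,0,1,3,4,3,1,3,4,3,1,2,1,2,4,1],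
 [1,1,1,0,4,0,0,3,1,0,1,0,3,0,0,2,3,1,2,1,2,4,1,0,2,3,3,4,0,3,3,3,0,3,2,1,3,4,4,1,3,1,0,1,0,3,4,4,0,1,0,4,3,4,2,0,4,1,3,4,4,1,1,0,0,0,3,4,0,0,3,0,3,4,3,3,0,0,1,2,3,4,1,0,4,4,4,0,1,3,0,0,1,2,4,1,2,2,0,1,1,4,4,3,4,3,3,2,1,4,3],
 [2,2,0,4,2,3,1,1,3,1,1,0,3,3,3,4,2,4,4,0,0,0,2,1,0,1,0,0,4,4,0,2,2,3,0,1,0,1,2,3,3,1,2,0,3,1,2,1,3,3,3,2,4,4,3,4,4,4,3,4,1,1,4,0,1,3,4,4,4,3,1,2,3,3,2,0,0,0,3,2,3,0,1,2,1,2,0,0,4,3,1,1,3,1,4,2,0,4,1,3,0,1,1,0,2,0,0,0,1,3,4],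
 [1,0,1,1,4,0,3,4,2,4,1,4,3,1,1,4,1,3,2,1,0,4,3,2,0,3,0,0,4,4,0,3,0,4,0,4,2,0,2,4,4,0,0,3,2,1,0,2,1,3,3,3,4,1,4,3,3,1,1,4,0,4,1,1,1,1,3,3,4,4,1,1,3,3,2,1,3,2,4,2,4,2,4,3,3,2,1,2,0,2,1,4,4,4,0,1,0,0,4,4,1,1,0,2,2,1,2,1,4,0,4],
 [3,1,3,3,0,3,1,0,4,4,2,4,0,3,4,3,1,4,1,4,1,3,0,4,1,1,1,4,4,2,2,4,0,3,2,3,4,1,4,2,2,2,4,1,0,1,0,4,2,1,0,4,0,1,4,1,3,0,1,0,0,1,3,1,3,1,4,4,1,2,3,3,0,1,0,3,3,1,1,0,2,0,0,1,0,4,1,1,3,3,1,3,2,1,1,2,0,0,0,3,3,3,4,0,4,0,4,0,1,0,0],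
 [0,1,0,2,1,2,0,1,4,3,0,4,0,2,2,0,4,4,3,0,1,3,4,4,0,4,2,3,2,0,1,3,0,3,4,0,4,1,3,0,1,4,0,2,3,0,3,4,1,2,2,4,1,0,3,2,3,4,0,4,3,4,4,1,4,3,4,0,0,1,1,1,0,2,0,4,4,2,0,2,3,3,0,3,4,3,2,3,3,0,4,2,0,2,1,0,4,3,3,3,4,0,2,3,2,1,4,0,0,4,0],
 [3,0,3,4,1,4,3,4,2,2,1,4,3,1,0,4,4,4,2,3,4,1,0,3,0,1,3,3,1,2,1,0,4,4,2,4,1,3,2,3,0,3,4,0,1,1,4,2,1,1,4,1,4,3,1,1,4,2,2,0,1,3,3,1,4,0,4,0,4,2,2,4,0,3,2,3,0,2,3,1,0,0,3,1,4,0,1,1,2,0,1,0,4,3,3,4,2,2,2,4,4,1,2,3,3,2,4,3,3,2,0],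
 [0,4,4,3,0,0,4,4,4,2,3,2,2,4,3,1,2,1,0,1,0,1,2,1,1,3,4,2,1,3,2,2,2,3,2,1,1,4,3,3,1,2,2,3,1,1,1,3,1,2,3,0,4,3,0,1,3,4,3,1,1,0,3,3,3,1,3,0,2,1,2,4,0,3,1,4,3,0,1,4,2,1,3,2,4,4,0,0,1,3,2,2,2,4,0,4,2,2,2,4,4,2,3,2,4,0,0,1,0,1,1],
 [0,1,2,3,0,0,0,0,0,2,2,3,1,2,4,0,3,1,1,1,0,4,0,2,2,2,2,2,0,2,1,2,1,0,3,0,4,3,4,0,1,2,2,4,0,0,3,1,4,4,2,0,3,4,2,1,0,3,4,0,2,0,0,1,3,2,3,3,3,3,4,3,0,4,2,4,1,2,2,4,1,4,4,1,3,1,0,1,2,1,0,2,1,3,4,3,2,1,0,0,3,1,0,0,1,0,2,1,1,0,1],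
 [1,2,2,0,3,1,3,4,1,3,0,4,1,2,4,3,4,4,0,2,1,1,3,3,2,2,3,3,2,3,0,1,3,2,1,2,0,3,1,4,2,0,2,0,4,2,0,2,4,4,3,4,3,3,2,2,2,2,4,2,2,2,0,3,1,2,4,2,3,4,4,3,1,4,3,1,3,1,4,2,4,2,1,4,4,1,1,4,1,2,4,2,3,1,2,1,4,3,1,4,0,2,3,1,0,3,4,3,2,0,3],
 [3,2,4,2,2,0,4,4,3,2,1,0,2,0,2,0,4,4,3,0,4,2,0,1,2,1,2,1,3,3,1,2,1,3,2,1,0,1,0,4,1,0,4,4,1,0,1,0,4,3,4,0,3,0,0,4,4,1,2,0,3,2,2,2,1,1,1,2,0,3,4,2,2,1,4,2,3,2,3,4,4,4,4,4,0,4,0,4,3,1,3,4,4,0,4,4,0,3,2,4,4,3,4,3,1,2,4,3,1,2,2],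
 [0,0,1,0,4,3,4,2,4,2,0,2,4,2,4,4,4,4,0,1,0,1,1,4,3,4,1,1,2,2,4,3,1,3,0,3,2,0,1,0,4,2,3,4,1,3,0,2,1,1,0,3,4,1,4,2,1,1,4,0,1,1,1,0,0,2,0,0,0,2,3,4,0,1,2,3,3,3,0,1,1,3,1,1,0,4,3,3,1,4,2,1,4,3,0,0,3,3,3,0,1,4,3,3,1,2,3,3,0,3,4],
 [0,0,1,4,0,3,2,1,3,1,3,4,2,3,0,0,1,2,3,4,0,1,3,0,1,4,1,0,2,2,0,1,0,2,3,0,4,1,0,1,3,4,3,4,1,2,0,4,4,0,1,2,4,0,4,4,0,4,1,3,4,0,3,3,4,4,4,2,0,2,3,0,4,1,4,1,3,4,3,1,0,2,1,3,2,4,4,3,2,4,2,4,0,2,0,0,4,1,4,3,4,3,1,3,2,3,0,3,4,1,2],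
 [0,0,2,0,0,0,4,0,1,3,2,0,2,0,4,2,1,0,1,0,4,1,4,4,3,3,2,0,1,3,4,0,2,4,0,4,1,2,3,3,3,2,4,2,3,3,1,1,4,2,1,3,2,1,0,2,4,2,4,3,2,3,2,1,3,2,4,0,4,2,0,2,2,2,0,2,2,3,3,2,3,2,3,1,0,4,0,4,1,4,0,1,4,0,3,0,3,4,1,4,1,3,0,2,0,1,3,3,2,0,1],
 [0,0,0,2,0,4,0,1,3,2,3,4,4,1,0,4,4,1,0,3,4,1,3,3,2,4,0,1,0,4,4,0,0,1,0,2,0,4,4,4,2,0,4,2,0,2,0,1,3,3,1,2,4,4,4,4,0,1,1,0,2,0,0,3,1,1,4,0,0,4,1,4,3,0,0,1,0,3,0,0,0,2,3,0,3,2,4,1,0,4,2,0,4,1,3,3,4,0,0,4,2,1,3,0,4,0,4,0,3,2,0],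
 [0,0,0,0,2,4,1,1,2,2,0,2,0,2,1,0,4,0,1,3,0,0,1,0,1,3,2,1,0,2,4,4,2,4,2,0,1,1,1,1,4,3,0,3,0,3,2,2,4,2,4,2,0,3,2,3,0,3,1,2,2,4,3,0,3,2,1,3,0,1,3,2,1,2,3,4,3,0,0,0,2,0,4,4,3,3,2,0,3,2,1,1,0,4,0,1,3,3,3,2,2,1,3,1,4,1,2,2,2,1,2],
 [0,0,0,0,0,0,0,2,1,0,0,1,0,1,0,2,4,2,2,1,0,1,4,3,3,3,0,3,2,1,3,2,0,1,4,3,2,2,1,2,0,2,1,4,4,2,1,3,4,2,4,0,1,3,2,0,3,1,3,2,1,0,1,3,2,3,4,3,2,2,4,2,2,0,3,2,4,4,3,4,1,4,1,0,2,3,3,1,4,4,1,4,4,0,1,2,4,1,2,4,3,0,2,1,2,3,4,1,0,2,0],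
 [0,0,0,0,0,0,0,0,2,4,3,1,1,1,2,0,3,3,2,2,0,4,1,4,2,2,1,4,2,2,0,1,0,2,2,0,4,2,2,1,2,0,4,0,3,1,3,4,1,0,0,1,3,4,0,0,4,1,0,4,1,4,0,3,0,0,1,1,0,1,4,3,1,0,0,2,4,4,4,3,0,2,1,0,3,0,4,3,4,0,3,1,2,0,1,0,1,2,3,3,2,3,4,3,2,1,3,0,4,3,0]
]

/-- named matrix 8 -/
def nm8 : List (List ℕ) := [
 [4,0,4,4,2,0,3,2,0,3,4,0,1,4,0,2,3,1,4,2,3,0,3,0,0,0,1,0,1,1,0,4,1,0,4,4,3,0,1,0,2,3,0,2,4,0,2,4,4,4,0,1,1,2,2,3,4,3,4,1,3,0,0,0,4,2,0,4,2,2,3,2,1,4,2,0,2,4,2,2,0,3,3,1,0,3,3,4,2,0,4,0,3,4,3,1,2,1,1,1,3,1,4,2,4,3,2,0,1,1,4],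
 [1,4,0,3,0,2,4,2,3,3,3,3,1,0,2,3,4,1,4,0,0,2,2,3,4,3,3,3,0,3,0,2,4,0,1,0,2,3,2,2,1,1,4,2,2,0,1,0,3,3,4,1,2,0,1,0,3,0,3,4,1,1,0,3,1,1,4,4,4,4,2,4,3,3,1,0,4,0,1,3,1,0,2,4,4,3,2,3,1,3,1,4,4,4,1,3,0,4,4,0,0,3,4,0,1,2,2,1,4,4,2],
 [4,2,1,4,0,4,2,2,4,2,1,0,4,1,2,3,0,3,4,4,0,0,2,4,2,0,2,0,1,3,0,2,0,1,4,2,1,1,4,3,4,4,3,4,1,0,0,0,0,2,3,3,2,3,1,3,2,4,0,0,0,2,1,1,3,3,0,0,2,2,2,0,2,0,3,3,1,1,3,1,2,2,4,2,2,2,0,4,0,1,2,1,0,4,4,1,3,0,0,1,1,4,4,4,2,0,4,1,0,1,4],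
 [2,2,4,2,4,2,2,2,1,3,2,2,0,0,4,2,4,4,3,4,1,1,1,2,3,1,0,4,4,0,1,1,3,4,4,1,2,1,1,1,3,2,0,2,3,3,2,4,3,3,1,4,4,1,0,4,4,0,4,0,1,0,4,4,3,1,3,2,0,4,4,4,4,2,3,2,0,1,0,4,4,0,2,2,1,1,1,3,1,2,1,1,3,0,4,4,2,1,2,1,0,2,4,0,0,0,0,1,1,1,1],
 [3,1,4,0,3,4,4,1,3,2,1,1,0,4,4,1,1,3,0,2,0,2,2,1,3,4,3,3,0,1,0,2,3,1,1,0,4,2,1,2,4,1,4,2,2,4,4,2,3,4,4,4,0,0,4,2,2,1,4,4,0,0,3,0,0,1,2,0,0,2,4,0,0,1,1,4,4,3,3,2,1,0,2,1,2,2,3,4,0,4,2,4,2,3,4,0,1,2,1,3,2,4,0,3,4,2,2,0,3,4,3],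
 [0,0,0,3,3,0,3,0,3,1,1,1,0,0,2,0,2,3,0,3,1,2,1,4,1,2,3,2,4,4,1,3,4,2,0,3,2,1,4,2,0,1,3,3,1,0,4,3,2,0,4,2,3,1,4,1,3,1,1,2,2,3,0,0,1,2,4,2,3,1,1,3,2,4,0,4,4,3,0,2,2,2,1,0,2,3,3,3,3,1,1,0,2,4,3,1,0,1,0,0,2,0,4,3,3,0,1,0,1,4,2],
 [0,3,4,2,2,2,1,4,0,1,4,4,3,0,4,1,3,3,1,0,4,2,3,4,4,2,1,0,2,0,4,0,2,1,4,4,3,1,4,1,4,3,3,2,3,0,4,3,4,0,4,1,3,2,0,3,4,3,4,0,3,1,2,2,4,1,1,1,3,3,3,1,3,1,4,4,3,0,2,3,3,0,1,4,2,1,0,1,4,0,2,1,2,3,3,0,2,1,1,1,4,2,1,3,1,4,4,1,3,1,2],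
 [1,3,3,3,4,3,3,3,3,1,1,2,4,3,3,3,2,2,3,2,0,1,2,0,3,4,3,0,4,3,4,3,0,3,0,3,1,4,2,3,3,4,1,2,4,1,0,4,3,2,4,2,1,2,2,2,3,0,1,0,4,4,3,4,3,1,3,4,1,4,4,0,1,4,3,1,2,0,4,0,0,1,0,0,3,4,1,3,1,2,1,2,3,0,4,4,1,2,4,1,1,2,0,1,4,2,4,1,1,3,3],
 [1,1,3,4,2,3,3,3,2,2,0,1,1,2,1,3,0,1,0,0,1,4,0,1,3,4,1,1,0,0,0,4,0,3,3,1,1,0,2,4,3,0,1,2,4,1,0,2,0,3,2,0,3,4,1,3,3,3,3,3,2,0,1,1,2,0,4,2,0,1,1,3,3,4,0,3,2,1,1,1,1,2,2,1,1,4,1,1,2,2,4,1,2,4,1,1,0,2,1,2,4,2,3,3,4,3,1,0,0,1,3],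
 [3,2,3,3,2,3,3,1,2,3,0,2,2,3,2,3,4,3,3,2,4,3,1,2,3,3,2,2,0,1,4,1,0,2,2,1,2,4,2,2,2,3,3,3,2,4,4,0,1,4,3,3,0,4,2,1,1,1,2,1,2,4,2,0,0,3,4,2,3,0,1,4,3,0,2,2,1,4,1,4,0,3,4,0,4,2,3,2,1,2,3,4,0,0,4,0,2,4,3,4,0,0,4,1,1,0,1,1,1,0,0],
 [2,0,1,2,1,0,4,0,3,4,0,3,1,1,1,0,0,4,2,4,0,1,4,0,0,0,1,0,4,1,1,4,1,2,1,1,0,1,2,3,3,0,2,2,4,2,0,2,4,0,0,0,3,1,3,0,4,1,1,2,1,0,1,0,1,1,1,0,2,1,2,1,3,3,3,1,4,0,4,3,2,3,1,4,1,1,1,1,2,0,1,2,0,0,3,2,3,2,0,3,4,0,1,0,3,3,2,2,4,1,1],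
 [1,0,0,0,3,1,0,2,0,3,3,4,0,1,4,0,1,4,3,3,4,2,4,2,3,4,0,4,4,4,2,0,4,1,0,4,1,1,4,3,1,4,2,4,4,4,4,2,3,0,4,3,4,1,3,0,1,0,4,0,3,1,4,0,3,1,2,2,2,1,4,4,0,0,2,2,2,3,1,0,2,4,4,4,4,4,4,4,1,4,0,3,4,0,2,4,0,4,4,0,0,0,4,3,0,3,4,2,0,1,1],
 [1,3,1,1,1,0,4,2,2,0,4,3,1,4,4,1,0,0,0,0,1,2,3,4,3,3,3,4,4,0,3,4,0,4,2,3,2,4,3,0,4,4,0,1,1,2,3,0,1,3,3,4,1,4,0,0,4,1,4,1,2,3,3,0,0,0,3,1,2,3,1,2,2,1,1,3,0,1,4,3,4,2,2,3,1,4,4,3,1,1,3,3,3,1,1,4,1,0,0,4,3,4,3,0,4,4,1,4,3,4,4],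
 [3,3,1,1,2,3,4,4,3,3,1,0,0,1,1,2,0,2,2,0,4,1,2,2,3,1,3,4,2,2,0,3,4,2,0,3,0,1,4,3,0,4,0,1,3,1,1,4,3,0,4,1,4,4,2,4,4,4,0,3,0,3,3,0,3,0,4,1,1,0,4,1,2,4,2,4,4,1,1,0,2,3,3,2,2,2,3,1,1,4,1,0,3,1,0,2,2,2,4,3,1,4,1,0,1,2,0,1,1,0,4],
 [0,2,0,1,4,2,1,1,4,0,4,2,1,3,3,0,1,4,3,0,2,3,1,1,2,4,4,2,0,3,3,2,4,3,4,0,3,3,0,2,4,0,1,3,0,4,3,1,2,4,1,3,0,0,1,0,0,2,0,1,4,1,3,3,0,2,2,1,1,2,3,2,1,0,1,4,3,3,2,4,3,2,2,2,1,2,2,4,4,1,2,1,1,3,3,2,4,2,2,2,3,4,4,0,0,1,3,0,1,2,0],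
 [0,2,2,2,4,0,2,4,4,3,3,2,0,2,0,3,0,3,2,1,0,0,0,4,3,2,1,3,2,2,4,1,0,1,1,4,4,3,4,2,1,4,0,3,4,1,2,1,3,0,2,4,2,1,0,0,2,2,1,2,1,2,0,0,1,2,4,4,4,4,4,4,4,4,1,2,0,0,1,3,3,4,1,2,3,0,4,4,2,3,3,2,0,0,2,4,2,3,4,2,4,4,3,0,3,4,4,3,4,0,0],
 [4,1,4,3,3,1,4,2,0,3,1,4,1,2,0,4,3,2,3,0,3,4,0,2,3,4,0,4,2,1,0,4,0,1,3,2,2,2,4,0,4,1,2,0,4,2,2,0,0,4,2,1,4,1,3,2,2,0,1,0,3,4,2,3,1,1,3,2,2,2,1,4,1,4,0,4,0,2,0,4,4,3,0,4,1,1,2,0,4,1,3,0,0,1,2,3,0,1,3,1,3,1,2,1,4,4,1,1,3,3,4],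
 [3,1,2,4,2,1,0,3,1,1,4,1,2,4,3,3,3,2,3,3,2,3,3,3,1,0,3,0,1,1,4,1,1,1,1,4,1,1,2,1,3,2,4,3,1,0,2,2,3,3,3,2,0,2,3,1,2,4,2,2,1,2,0,3,3,2,0,4,4,4,2,4,1,1,0,1,2,1,3,3,3,3,4,4,2,4,3,3,2,0,4,2,0,1,4,3,3,2,0,0,3,0,4,4,1,1,0,1,0,4,1],
 [0,1,4,1,3,4,2,2,4,4,4,2,3,1,0,3,3,0,1,4,4,0,4,4,2,2,3,0,0,2,2,3,1,2,3,2,4,3,2,0,0,1,4,4,1,0,1,2,0,3,0,1,1,2,3,4,3,3,4,0,0,4,3,0,3,1,2,2,1,4,3,3,1,2,3,4,3,2,2,2,3,2,2,1,4,1,3,0,0,4,2,2,4,4,4,0,0,4,0,1,4,1,3,3,0,3,3,2,3,2,0],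
 [0,4,4,1,1,0,3,3,4,0,4,0,1,4,4,1,2,4,3,2,1,4,3,2,1,2,4,3,1,0,1,0,1,4,4,0,1,0,2,1,3,1,0,3,4,2,0,0,1,0,2,2,3,2,3,4,4,1,1,4,0,1,2,3,4,0,2,3,4,3,4,2,2,1,3,0,2,2,2,1,3,1,0,3,1,4,2,1,2,4,3,1,1,1,3,0,2,4,0,2,4,1,4,1,0,1,0,1,0,4,0],
 [2,1,2,1,2,2,2,1,3,4,1,3,1,0,1,1,4,2,3,3,0,4,3,1,2,4,3,3,3,2,4,4,2,1,2,1,4,3,4,4,2,2,3,3,1,0,1,3,2,4,4,1,3,4,0,2,3,0,3,0,3,2,0,1,4,2,2,1,2,3,2,3,0,1,0,3,2,1,4,3,1,4,4,3,0,1,0,2,0,2,1,3,2,3,0,0,0,0,4,3,2,4,1,0,0,4,4,3,4,1,4],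
 [2,0,0,1,4,0,2,4,1,1,1,0,4,2,2,4,1,2,3,2,0,4,2,4,2,2,1,4,4,4,3,3,4,3,0,2,1,2,1,1,4,1,1,0,3,0,2,1,4,1,1,0,2,0,2,2,3,4,3,2,0,4,2,4,2,4,2,2,3,0,4,4,2,2,2,2,0,0,2,3,0,0,4,3,2,4,3,2,2,1,2,2,0,4,4,0,2,3,0,4,3,2,4,0,0,3,4,2,1,1,0],
 [4,3,2,1,1,3,3,4,2,0,4,3,4,4,4,4,1,3,4,3,2,4,2,0,0,0,3,4,2,2,2,4,2,4,1,4,0,2,3,2,3,3,0,2,4,1,2,0,0,2,0,3,3,4,2,0,4,0,0,0,2,2,3,0,2,4,1,4,2,2,3,1,4,1,3,2,1,3,2,1,0,1,1,3,2,2,3,4,3,0,0,2,2,4,3,1,4,2,4,1,4,4,2,1,4,1,3,0,4,2,4],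
 [2,4,0,0,0,4,0,1,4,4,4,2,0,1,2,0,2,3,1,3,2,2,3,0,3,1,2,1,0,4,1,3,0,3,1,4,1,0,3,0,3,3,0,4,2,3,1,1,2,0,3,2,1,1,1,1,2,3,3,1,0,1,0,1,1,1,0,2,1,0,1,4,3,1,0,1,0,1,4,2,1,2,0,2,1,1,1,1,0,2,1,0,4,4,4,3,4,0,0,0,4,0,4,3,4,2,4,0,1,1,2],
 [4,3,0,3,1,4,3,3,4,2,0,2,3,1,3,3,3,0,2,2,1,1,4,1,2,1,1,0,1,4,2,4,0,0,2,3,0,3,2,0,2,3,2,4,1,3,3,0,4,4,3,4,0,2,0,3,0,1,2,2,1,1,2,4,3,3,2,0,2,2,2,0,3,4,0,4,0,1,3,1,0,4,3,3,0,2,1,0,0,2,1,0,3,4,1,1,1,2,3,3,3,2,2,1,4,4,0,2,0,1,0],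
 [3,2,1,0,0,0,1,1,4,3,4,3,3,3,1,1,4,3,2,2,3,4,1,2,0,4,2,0,3,0,1,2,2,0,0,0,1,2,1,0,4,1,4,0,2,3,4,0,2,2,2,3,4,2,0,4,3,1,0,0,1,1,0,3,1,3,3,1,1,1,4,3,1,1,0,3,0,0,2,3,3,1,2,4,3,2,0,3,3,1,4,3,2,4,1,4,2,0,0,3,0,2,1,4,0,3,4,3,2,1,3],
 [0,1,0,0,4,0,4,1,2,3,2,0,4,3,0,0,4,2,4,2,1,1,0,0,4,1,0,1,4,4,4,2,0,2,4,0,4,1,2,3,3,1,1,1,3,1,1,1,0,0,3,1,0,2,0,1,4,2,3,3,1,3,0,2,4,0,2,3,1,1,0,3,2,1,1,0,2,3,2,1,0,1,2,3,4,1,2,1,2,3,3,4,4,4,1,2,1,4,0,1,0,0,0,3,0,1,3,0,1,1,2],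
 [2,2,4,3,4,0,0,0,0,4,3,0,0,0,0,4,4,0,4,4,4,0,3,4,0,4,0,3,1,4,2,2,1,1,4,3,4,4,0,0,2,0,3,3,1,4,4,3,1,1,4,2,1,2,0,2,3,1,1,0,4,4,1,3,3,4,1,4,0,3,4,0,2,4,0,0,3,1,0,2,1,0,3,0,4,0,4,1,1,4,0,4,3,0,0,1,2,3,4,1,3,3,3,3,3,3,2,4,2,0,4],
 [1,2,0,2,2,0,1,2,2,0,1,0,1,0,1,2,2,3,4,3,1,1,2,2,4,2,2,3,2,2,2,4,1,4,2,0,3,3,2,3,2,2,0,2,3,2,2,4,4,1,4,4,0,2,1,3,4,1,0,0,1,4,0,3,4,3,2,0,1,0,3,3,1,0,0,3,3,1,2,1,3,2,4,1,0,1,2,0,2,4,4,2,0,4,0,0,3,4,1,0,4,3,3,3,1,3,1,3,2,0,4],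
 [4,4,2,1,3,0,4,1,3,0,2,2,2,3,1,2,2,1,3,1,1,3,0,3,2,2,2,1,0,4,1,3,4,0,3,4,2,2,4,1,1,0,4,4,2,4,3,3,2,3,4,2,1,1,1,3,0,1,4,0,0,0,4,1,0,3,3,2,4,1,2,4,4,2,1,4,0,0,2,1,4,4,4,2,1,2,1,0,2,1,4,1,1,1,1,4,1,0,3,1,1,3,0,2,2,2,2,0,2,2,4],
 [4,2,1,0,4,3,2,1,3,3,1,4,3,2,4,2,2,1,2,4,3,1,2,3,0,1,1,1,4,1,2,4,0,1,0,1,0,0,2,1,1,3,3,3,1,3,0,2,0,1,2,3,2,1,2,1,3,2,3,3,4,1,3,0,4,1,0,4,0,4,1,2,0,1,4,3,0,4,3,0,2,3,0,0,4,0,0,2,3,2,3,3,0,3,0,4,3,0,0,0,4,4,0,1,2,2,1,4,1,1,4],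
 [1,0,2,1,4,3,2,3,0,0,4,4,2,1,4,4,1,1,3,4,0,4,4,4,1,1,0,2,3,3,2,4,4,1,0,0,4,3,4,4,2,3,2,3,0,3,1,1,3,0,0,0,3,3,1,4,0,0,3,1,0,4,2,3,4,3,3,1,2,3,2,2,3,4,4,1,4,3,3,1,4,1,1,3,1,1,4,1,0,3,2,4,2,2,0,0,1,3,1,3,1,3,0,3,0,3,0,4,1,1,0],
 [1,2,0,3,4,0,4,2,3,3,2,4,0,3,3,4,2,4,1,0,2,1,1,4,0,3,4,4,1,4,2,0,1,0,3,4,1,0,0,1,3,4,3,0,1,2,4,1,2,0,2,2,3,4,3,4,4,3,3,1,3,1,0,1,3,3,0,3,0,1,1,3,0,4,0,1,4,1,3,3,2,2,2,2,4,1,2,4,3,1,3,1,2,0,3,0,1,3,0,3,3,4,3,1,4,0,0,1,1,0,3],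
 [2,1,1,2,3,0,2,3,4,0,4,2,4,1,0,1,1,1,1,3,1,0,4,3,1,4,3,2,2,1,2,4,2,3,4,0,3,2,0,3,2,4,2,1,4,3,0,4,0,0,1,1,2,4,4,2,2,0,3,1,0,3,1,4,1,2,2,1,2,2,3,4,4,0,0,4,4,1,4,2,3,4,1,2,3,1,4,3,1,0,1,1,2,3,4,4,4,3,3,1,2,1,3,3,1,1,3,3,3,0,4],
 [3,4,1,4,0,2,2,4,3,3,0,2,1,2,1,3,2,4,4,4,1,2,0,1,2,0,3,1,1,0,1,4,4,4,0,0,4,1,4,4,1,4,2,3,1,0,3,1,4,1,1,4,1,1,2,1,2,0,3,3,0,3,0,0,3,4,0,2,3,4,1,4,0,2,3,2,4,4,4,3,1,0,4,2,3,0,2,2,2,0,4,1,2,4,4,4,2,3,3,4,4,4,1,2,0,4,4,3,0,4,0],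
 [0,3,2,4,1,3,3,0,3,0,2,2,4,3,3,2,3,0,1,2,4,3,0,3,3,1,2,2,0,3,2,0,0,0,4,3,4,3,1,3,0,3,1,2,4,3,4,2,1,2,2,1,4,4,0,3,1,2,3,0,1,4,1,2,0,1,4,3,3,0,4,1,3,4,4,4,1,4,3,1,1,1,4,4,3,4,4,3,0,0,4,1,0,1,3,2,3,2,4,0,1,4,2,1,1,0,1,0,1,3,2],
 [2,3,3,3,3,0,2,4,2,1,4,2,3,4,0,3,1,3,4,1,0,0,2,3,2,1,0,3,1,3,1,1,1,3,2,0,1,0,2,0,3,2,4,1,2,1,1,4,3,3,1,3,1,2,1,0,1,2,2,2,4,1,2,2,4,3,1,2,3,4,4,0,0,4,1,3,0,0,1,1,3,1,0,1,2,4,3,2,1,4,3,2,0,1,0,2,3,1,4,3,3,0,0,3,3,0,0,2,1,2,3],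
 [0,3,4,1,0,4,2,3,4,1,2,4,4,2,3,4,1,1,3,1,3,0,1,1,1,2,1,0,4,4,4,0,1,2,1,0,3,4,0,0,1,3,4,0,1,4,1,0,1,0,0,0,3,4,1,3,1,3,0,2,2,1,2,2,0,1,2,2,4,2,0,2,4,2,3,4,1,0,2,4,0,0,0,0,1,2,4,4,4,1,2,3,0,0,4,3,4,0,2,1,2,0,1,3,1,3,0,3,1,2,1],
 [2,0,2,2,3,2,0,3,1,3,2,1,0,2,4,4,2,0,2,3,2,1,0,3,4,0,4,0,3,4,0,3,3,2,4,4,1,2,1,3,3,2,0,2,2,4,2,1,4,0,4,3,3,3,0,2,2,4,1,4,2,1,2,3,2,1,3,2,2,3,1,3,2,3,3,2,0,0,1,4,4,0,4,1,2,0,4,4,1,4,4,0,4,1,3,1,1,1,2,2,3,3,4,2,2,3,0,1,3,2,3],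
 [0,1,1,2,3,1,4,2,1,0,3,2,4,3,3,1,0,4,2,2,1,3,3,1,0,0,3,4,0,2,2,1,1,1,3,3,2,0,0,2,2,0,2,2,4,1,3,4,0,4,4,0,0,0,0,4,4,3,4,2,3,1,1,3,2,1,3,2,3,2,4,3,2,0,0,2,3,0,2,0,2,0,0,2,4,1,0,0,2,0,4,0,3,2,4,1,1,3,0,3,1,3,3,2,3,2,1,2,4,0,2],
 [2,2,0,3,1,0,0,4,3,2,0,2,1,2,1,0,4,3,4,2,2,2,1,3,1,1,4,2,0,1,4,2,2,0,0,1,2,3,4,1,2,4,4,4,0,4,1,2,2,4,3,0,4,2,2,1,2,1,1,4,1,1,4,1,0,2,0,4,0,0,1,0,4,2,3,2,3,3,1,0,0,3,2,2,2,3,3,2,0,0,0,3,4,3,3,0,3,2,2,4,0,2,2,2,0,2,3,0,1,2,4],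
 [2,2,0,0,3,1,1,4,4,4,0,3,0,4,3,3,3,3,2,4,3,3,3,3,1,2,1,4,4,1,2,4,3,4,1,1,4,0,2,2,1,2,2,1,4,1,4,1,0,1,0,3,2,3,0,3,3,3,1,4,4,1,2,3,0,3,0,2,2,4,2,2,1,1,0,2,1,1,1,0,4,3,1,3,2,1,3,3,3,2,1,4,3,0,1,3,3,1,4,3,2,1,0,0,3,2,3,3,1,0,0],
 [0,2,2,0,2,0,2,2,1,3,1,1,1,0,2,4,4,0,3,4,1,3,1,0,1,4,4,1,2,1,1,4,3,3,3,1,2,1,1,0,2,1,1,2,1,2,4,4,3,4,2,0,1,0,1,0,2,2,0,3,4,3,3,4,3,4,2,2,1,2,1,4,1,2,4,0,2,0,2,3,0,1,0,1,4,3,4,2,1,4,1,1,1,3,4,0,0,3,1,4,0,3,2,1,0,1,4,4,2,0,4],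
 [2,1,4,3,0,4,0,2,4,1,2,0,0,1,4,3,2,3,0,4,3,4,0,4,3,1,0,0,0,2,1,4,0,1,3,1,4,3,2,1,4,4,0,1,4,4,3,4,4,4,4,1,1,0,1,2,2,0,2,3,1,0,2,1,3,0,3,1,2,1,1,1,4,4,3,4,3,4,3,0,4,1,0,2,3,1,3,2,3,0,3,4,3,3,4,4,3,3,3,3,2,4,1,4,0,0,2,2,4,3,3],
 [2,3,3,2,1,4,2,1,4,1,2,0,2,3,3,2,4,0,4,2,4,0,1,1,0,3,2,0,4,4,3,1,0,2,1,0,0,2,2,0,3,1,4,1,3,0,0,3,1,4,4,0,2,4,0,2,3,2,1,0,0,4,4,0,4,0,0,3,1,0,4,0,4,0,0,4,2,3,3,2,1,4,1,0,4,3,2,3,1,0,4,3,3,0,4,0,1,1,1,4,2,4,4,4,2,1,1,0,0,0,4],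
 [4,1,1,4,3,2,0,0,1,0,0,2,2,1,3,2,1,2,0,1,0,1,2,0,4,4,1,4,3,4,1,4,3,4,0,2,2,1,1,2,3,2,4,3,4,3,1,3,1,2,4,1,4,1,0,0,3,2,4,0,3,4,2,4,1,4,2,3,2,3,0,1,0,0,2,1,0,3,2,1,2,0,2,4,1,3,4,1,2,3,4,4,4,0,0,0,1,4,1,0,1,3,2,4,2,4,4,0,1,1,4],
 [4,2,2,2,4,1,3,2,1,0,1,3,4,3,3,3,4,0,0,4,2,4,4,4,0,0,4,1,1,0,0,0,2,3,3,1,4,3,2,4,4,1,1,4,4,2,0,2,4,2,2,1,4,1,3,3,2,1,3,4,1,3,1,1,3,2,1,0,4,4,2,2,4,3,4,0,4,2,0,2,2,2,1,3,0,1,4,1,2,0,0,1,0,2,1,0,3,3,2,1,3,1,0,0,4,3,2,0,3,4,0],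
 [1,4,1,1,2,3,0,0,0,2,3,2,2,0,3,4,4,4,4,0,3,4,3,3,1,1,0,2,3,2,1,1,1,1,3,1,3,2,0,1,2,3,3,0,0,0,2,1,0,1,0,1,4,4,2,2,4,0,0,0,4,2,0,1,1,2,4,4,0,0,2,3,1,0,0,1,1,0,1,2,1,3,0,2,4,2,0,3,4,4,0,4,2,0,3,2,1,2,4,1,1,4,0,2,2,3,2,3,3,1,2],
 [1,2,1,1,0,2,2,2,0,4,2,0,0,0,1,0,3,2,4,1,0,0,0,1,0,0,3,1,0,4,3,1,2,4,3,3,2,0,2,3,3,2,2,1,0,1,3,1,3,4,4,3,4,0,4,1,4,4,4,3,1,2,4,4,4,1,1,1,2,1,3,1,4,2,4,3,0,2,2,0,3,0,2,1,0,3,2,2,0,1,1,1,3,4,3,2,0,2,3,0,4,1,0,1,4,2,0,4,3,1,0],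
 [2,3,2,4,3,4,4,2,1,0,1,2,1,4,2,2,2,4,4,3,0,3,2,0,1,1,2,0,1,0,1,1,4,4,4,1,0,1,4,2,1,4,0,3,0,1,1,0,3,0,0,3,4,3,0,0,2,4,2,0,0,3,0,2,1,1,0,4,2,3,1,2,1,3,0,2,3,4,1,0,4,2,4,1,0,1,4,1,4,1,2,0,4,3,2,3,2,3,3,1,3,0,3,4,3,2,0,2,2,4,3],
 [3,1,2,0,3,3,3,4,2,1,3,1,2,2,2,3,4,3,0,3,2,0,3,4,0,3,3,0,3,2,1,4,2,3,1,3,3,1,2,2,4,4,3,2,1,0,0,4,0,1,0,4,4,3,2,4,4,2,2,1,3,3,4,2,3,1,3,3,2,0,2,4,2,3,0,1,2,1,0,2,1,4,2,3,2,3,1,4,4,1,1,3,3,2,3,3,2,2,3,4,4,3,0,0,4,4,4,2,4,4,3],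
 [0,1,3,3,0,1,2,2,0,3,2,2,2,0,3,0,3,4,0,0,2,3,3,2,4,4,4,0,2,4,3,3,1,2,4,4,4,2,4,3,4,3,1,2,0,2,0,1,3,4,1,2,2,4,4,4,4,1,3,1,3,2,4,0,2,1,2,4,2,1,3,2,0,0,4,1,2,4,2,2,1,4,0,3,3,0,2,1,3,0,1,1,4,2,4,0,0,1,4,4,2,1,4,3,3,0,1,2,0,4,0],
 [2,3,2,3,1,3,4,3,2,4,1,4,4,4,0,0,0,0,2,0,0,2,3,2,3,2,1,0,4,3,0,0,4,2,0,0,2,2,0,2,2,0,2,4,2,0,4,0,0,0,2,4,3,4,1,4,2,2,4,3,4,0,4,3,1,0,2,3,3,0,2,4,4,2,0,4,4,0,1,4,2,0,0,0,3,2,2,4,1,3,3,0,2,4,2,4,3,0,3,3,2,0,3,4,0,0,3,0,2,0,3],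
 [4,0,4,1,0,0,4,0,2,2,4,1,1,3,0,3,2,0,0,2,1,1,0,1,2,2,3,1,3,0,2,3,4,4,3,1,3,2,1,2,0,4,3,0,2,2,2,1,1,1,2,0,0,0,2,3,1,3,3,2,0,3,4,2,2,0,2,0,0,3,3,3,3,2,0,1,2,0,4,3,2,1,2,1,1,4,4,2,1,1,1,4,4,2,2,2,0,1,2,2,2,3,2,4,3,3,0,1,4,0,1],
 [4,3,2,1,4,3,4,3,2,2,1,4,0,0,4,4,2,4,2,4,0,2,2,4,1,0,4,0,1,2,1,4,4,4,4,2,1,4,0,2,4,4,1,1,1,4,3,3,3,2,1,2,0,3,4,2,0,2,4,4,4,2,2,3,3,2,0,2,0,2,4,2,2,2,2,4,0,3,4,1,4,1,0,1,4,1,1,2,4,3,3,0,4,4,0,2,1,2,1,0,4,4,2,4,2,1,0,4,4,1,2],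
 [4,0,0,3,4,3,3,2,3,1,0,1,1,0,4,2,3,0,0,0,0,1,4,1,1,0,3,3,3,3,2,3,3,3,2,4,4,2,4,0,2,2,3,3,1,4,0,1,1,1,3,3,0,1,4,2,4,3,2,0,0,0,0,4,4,4,3,0,0,4,1,4,3,3,2,4,3,4,1,0,1,4,3,2,4,2,1,1,2,2,0,1,0,2,1,1,0,4,3,4,2,4,0,1,4,4,3,0,3,4,1],
 [0,1,2,3,0,4,0,3,3,0,4,2,1,2,2,2,4,4,0,2,0,1,2,4,4,4,0,4,4,0,2,3,4,1,0,4,4,4,3,2,2,0,4,4,0,4,2,4,3,4,2,1,1,3,1,4,1,4,1,2,4,1,0,1,0,1,2,0,0,4,2,1,0,3,4,4,1,0,1,1,2,0,2,0,4,1,1,0,4,2,3,4,4,1,4,2,2,3,3,0,4,3,1,4,4,3,1,2,4,3,2],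
 [0,3,4,3,2,0,0,0,1,2,1,2,3,0,1,1,2,4,3,0,2,4,0,4,2,2,0,4,3,1,3,2,3,0,0,0,4,0,0,3,4,2,1,1,1,4,2,3,0,2,0,1,4,1,0,3,3,1,3,2,2,0,4,0,3,1,2,2,1,4,4,0,1,0,1,3,1,0,2,2,3,2,1,3,2,0,3,3,4,1,3,1,4,0,3,0,0,2,1,4,3,4,2,3,1,2,4,2,4,1,2],
 [0,4,4,1,1,3,4,2,4,0,2,1,0,4,0,4,0,0,4,1,4,2,1,4,4,1,2,1,4,4,2,4,4,3,1,2,0,4,2,3,4,2,2,3,2,1,2,3,0,1,3,0,4,2,3,2,1,4,4,1,0,3,1,0,3,0,0,2,0,3,4,1,2,0,2,2,0,0,1,2,3,3,4,0,4,0,3,3,2,2,1,2,1,4,1,0,4,0,3,3,2,4,2,2,0,1,0,0,1,4,4],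
 [0,0,0,4,1,4,3,0,0,3,0,2,4,0,1,0,0,0,2,2,1,3,0,4,3,4,4,4,1,0,0,3,3,0,2,0,4,0,4,2,0,1,3,3,2,2,2,0,4,1,0,1,4,4,1,0,4,3,4,3,0,3,1,2,4,0,1,4,1,3,1,3,1,2,1,1,3,3,3,1,0,4,4,3,0,1,1,1,2,4,4,3,3,1,4,0,2,3,2,0,3,1,4,0,2,0,3,1,3,3,4],
 [0,3,3,3,4,4,3,4,3,1,0,3,2,4,3,4,2,4,0,0,2,4,2,4,0,2,1,3,1,2,4,2,0,1,2,3,1,0,0,4,3,0,0,1,2,4,2,3,2,0,4,0,3,4,4,4,1,1,3,0,1,2,3,2,4,1,2,3,3,1,2,2,3,2,2,2,4,0,1,3,4,3,3,3,1,0,2,0,3,4,4,0,4,4,4,1,1,0,1,0,3,3,2,3,3,0,2,2,3,0,2],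
 [2,1,0,1,4,4,1,4,2,3,2,0,0,2,4,1,4,2,2,3,2,2,3,0,0,4,2,2,0,1,3,2,4,4,2,1,2,4,3,4,3,4,4,2,1,0,1,2,0,3,2,1,1,2,2,4,4,1,0,4,0,4,1,4,2,1,2,3,4,0,4,0,4,0,0,3,3,3,4,1,2,4,0,1,3,3,4,1,2,1,2,4,1,2,3,4,0,3,4,2,4,0,4,0,0,4,3,3,2,0,0],
 [3,3,0,3,4,0,1,0,1,3,2,3,0,1,2,0,2,1,3,4,2,1,1,4,1,2,3,1,0,2,2,0,2,4,1,0,3,4,3,3,1,3,1,2,1,3,4,1,3,0,4,3,4,1,0,4,2,4,4,4,0,3,2,4,2,0,1,1,1,1,1,0,1,0,2,3,0,1,3,4,2,0,4,4,4,2,1,1,0,3,1,1,1,4,3,2,0,4,2,2,0,4,4,2,4,1,2,0,0,0,1],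
 [3,1,4,3,1,4,0,0,0,3,0,2,2,2,1,3,1,3,4,0,1,0,2,0,2,4,4,3,3,0,2,3,3,0,4,0,0,2,2,4,1,4,0,4,4,1,3,2,4,3,4,3,2,4,3,1,3,3,3,0,3,2,4,2,4,3,3,1,2,1,3,1,4,4,1,0,2,0,2,4,3,4,2,4,4,0,4,2,2,3,3,1,2,1,3,3,4,2,0,4,2,3,4,1,1,2,1,1,4,3,4],
 [4,4,1,4,2,3,2,4,1,4,3,4,2,4,4,1,0,0,1,0,1,4,1,4,0,3,3,3,1,4,4,3,4,4,2,2,4,1,2,3,2,4,4,2,4,3,2,0,1,2,2,2,2,4,3,1,4,3,4,2,4,3,2,0,3,3,2,0,0,1,4,1,0,2,2,2,3,2,4,4,3,0,4,1,3,0,0,4,2,1,2,2,3,3,0,1,0,3,2,3,0,4,0,4,1,2,0,4,2,1,1],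
 [4,2,1,4,1,3,2,4,2,3,2,3,4,2,2,3,4,1,4,4,3,4,2,3,2,0,3,4,2,1,3,3,4,1,2,0,0,4,1,4,0,0,3,3,2,0,1,4,1,0,3,0,4,4,0,1,0,1,4,1,4,2,3,3,4,0,2,0,3,0,4,2,4,0,4,3,0,0,3,3,1,3,4,1,1,2,4,2,4,2,2,3,2,0,2,4,0,2,4,0,0,3,4,4,3,0,0,0,2,4,4],
 [1,2,2,3,4,2,4,2,0,4,3,0,1,0,4,3,2,2,3,3,3,0,4,0,3,3,3,4,0,2,4,3,4,3,0,1,1,2,4,3,4,3,3,3,2,1,1,4,0,2,4,0,3,0,2,0,2,0,0,1,4,4,0,2,1,0,1,2,1,1,3,1,0,4,0,4,4,1,0,2,4,1,4,3,2,1,1,1,3,2,1,0,1,3,0,1,0,3,3,4,3,3,1,0,2,4,3,3,2,2,1],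
 [3,1,2,3,4,2,0,1,0,0,1,2,0,1,2,1,0,0,0,3,0,1,1,4,2,1,4,3,0,3,1,1,0,3,4,4,0,3,1,4,4,2,0,2,4,3,1,2,1,4,2,3,0,1,1,4,2,4,3,2,4,0,1,2,1,1,1,2,4,3,2,4,3,3,3,1,1,1,2,4,3,4,4,2,1,1,0,3,4,0,3,0,1,4,0,2,0,0,0,2,3,0,0,4,2,0,4,0,4,1,3],
 [3,3,3,1,2,3,4,4,3,1,3,2,3,0,1,2,4,0,0,1,0,0,2,4,0,1,4,3,2,1,1,1,3,1,2,1,1,3,0,1,3,0,4,4,0,2,4,3,2,4,1,0,2,2,3,0,2,2,4,0,0,2,4,0,3,2,3,1,4,4,0,0,3,4,1,1,1,2,3,2,0,4,0,4,4,4,1,3,3,3,2,2,1,2,0,4,2,1,3,2,3,1,2,2,1,1,2,3,3,3,1],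
 [1,4,4,4,1,1,1,2,1,3,3,0,3,2,4,2,3,0,2,2,0,3,2,4,3,0,0,3,3,0,0,3,4,3,3,1,2,4,4,2,2,1,1,3,4,0,0,0,3,1,3,3,2,2,2,1,1,1,3,4,1,2,1,3,1,3,1,0,3,3,3,0,2,1,4,4,2,4,3,3,3,0,1,2,1,2,4,3,4,4,2,2,1,1,0,0,1,1,2,1,0,3,1,2,4,4,2,1,0,4,1],
 [3,2,4,0,0,0,1,1,4,2,2,4,4,2,3,4,3,0,3,0,1,3,1,0,0,4,4,1,3,0,0,4,2,1,4,2,0,2,1,1,0,2,1,4,0,2,3,3,1,4,2,4,4,0,0,0,4,4,1,3,4,1,1,2,1,4,1,0,2,0,0,3,0,1,0,4,3,1,4,4,2,1,3,3,0,3,2,3,1,1,1,1,3,0,2,0,0,0,1,2,4,3,0,0,0,0,2,2,4,3,2],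
 [1,2,1,3,1,4,2,2,1,3,4,1,2,1,3,0,2,3,3,3,3,3,1,0,2,3,4,0,2,0,3,0,0,1,0,0,2,0,0,0,0,4,2,4,1,0,2,1,2,4,3,0,4,4,2,3,0,1,3,4,3,4,0,0,0,3,0,4,1,2,3,0,4,1,2,3,2,2,3,1,2,2,4,1,2,1,2,2,4,4,1,4,4,1,3,4,2,4,1,2,4,3,0,1,4,2,1,4,2,0,2],
 [0,3,1,1,4,3,2,4,0,1,3,3,4,3,2,2,3,0,0,2,1,3,3,4,4,0,1,2,2,4,0,4,1,1,1,0,0,1,3,0,3,3,3,3,2,3,2,0,2,4,1,0,2,0,3,2,3,4,2,1,2,0,4,3,4,2,2,0,4,0,4,2,3,1,4,2,3,4,1,2,0,2,1,3,3,4,3,0,1,3,3,1,1,0,1,1,3,4,0,4,1,0,0,3,4,3,2,1,4,2,3],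
 [4,0,4,0,1,3,3,4,0,1,0,2,0,1,1,4,4,0,2,1,3,2,3,4,1,3,0,3,4,0,2,3,2,0,4,0,4,3,3,3,0,2,4,3,2,2,2,3,2,3,1,4,0,1,3,4,3,3,1,3,0,4,3,1,3,1,3,3,1,4,0,4,3,1,1,4,2,1,1,3,1,1,0,2,2,2,4,3,3,2,2,3,3,4,4,0,2,2,1,1,4,4,1,0,3,4,2,3,0,0,1],
 [3,0,2,4,4,0,0,1,4,1,1,0,4,0,1,0,4,3,0,3,3,0,0,2,2,2,1,1,0,1,4,3,2,1,2,2,3,4,1,4,0,1,3,0,2,2,0,0,2,0,3,3,2,1,0,4,0,3,1,1,4,0,3,1,1,4,4,3,4,0,2,1,4,2,1,2,4,3,1,2,4,4,1,3,4,0,0,4,1,3,1,0,3,4,0,2,3,4,4,2,2,3,0,3,2,0,2,3,0,3,1],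
 [0,4,3,4,3,4,4,2,2,1,2,1,4,4,3,2,0,0,2,1,2,3,4,0,4,4,2,3,1,4,1,1,4,0,4,1,1,4,4,3,2,3,4,0,2,2,1,1,0,2,0,0,0,1,4,3,0,4,3,2,4,4,2,4,3,2,4,2,1,1,2,2,0,4,4,3,2,3,0,3,1,4,2,0,3,4,3,1,4,2,1,3,3,0,1,2,2,4,0,0,1,2,2,4,3,3,3,1,4,1,3],
 [4,2,1,0,1,2,1,0,2,4,1,3,1,3,2,2,0,3,2,1,0,2,4,2,4,4,0,3,4,1,3,4,3,2,4,4,4,1,3,1,3,1,1,4,0,2,0,3,4,3,3,2,4,3,1,2,2,0,2,1,3,2,3,0,4,3,0,3,3,1,0,1,4,4,4,1,3,3,4,0,4,3,2,4,2,3,0,0,0,4,0,2,0,4,3,4,1,4,2,0,0,2,3,1,3,4,3,3,1,4,1],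
 [0,2,4,2,2,4,0,1,0,1,3,4,1,3,4,3,0,0,3,3,4,0,0,3,2,1,3,2,1,3,2,4,4,3,2,0,3,2,4,2,2,1,4,0,3,3,2,2,0,3,3,3,3,0,1,1,1,3,2,1,0,0,3,1,3,4,4,4,0,4,3,4,1,2,2,3,2,2,0,4,4,1,3,1,1,1,2,0,4,4,0,4,4,4,3,2,2,4,2,2,1,4,2,1,1,0,3,1,1,0,0],
 [3,1,3,3,3,3,3,1,0,3,0,4,0,2,3,1,3,4,3,1,0,4,4,2,4,4,4,4,1,3,1,1,2,3,0,3,2,2,2,1,0,3,4,2,4,1,1,0,0,4,3,1,1,4,0,0,0,2,0,3,0,0,4,0,4,3,2,3,4,2,0,4,0,3,0,0,2,1,1,4,3,0,4,0,4,2,0,3,3,2,3,3,0,4,3,4,1,4,4,0,0,3,0,2,1,4,0,2,4,4,3],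
 [1,2,1,0,4,2,0,0,1,1,4,2,3,0,0,1,2,0,3,1,4,3,0,2,1,4,4,0,0,2,1,4,1,3,0,2,4,3,1,0,2,0,4,0,1,1,1,2,4,4,0,2,2,2,2,1,2,1,0,1,4,2,0,4,0,2,2,3,1,0,4,1,2,3,4,2,3,3,2,1,4,1,1,4,3,4,1,2,2,2,2,4,3,0,3,1,3,1,4,0,1,0,1,3,0,0,4,1,1,3,2],
 [4,3,0,1,3,0,0,4,1,1,2,2,1,0,3,0,3,1,2,4,2,3,2,2,1,1,3,3,1,4,4,4,3,1,3,4,1,4,4,2,2,4,3,0,2,3,0,3,2,4,2,1,0,4,2,3,1,2,4,4,1,0,1,1,1,4,2,4,0,4,2,2,3,0,4,4,1,3,4,0,1,3,4,0,0,3,4,1,4,1,1,0,1,2,3,2,0,0,2,4,2,1,4,2,3,3,3,1,0,3,4],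
 [0,4,2,1,0,0,2,2,1,4,0,0,4,1,0,4,4,0,1,3,2,1,3,4,3,4,1,3,1,3,2,0,4,4,3,1,4,1,1,2,1,2,2,3,0,2,0,0,1,3,0,1,0,2,2,0,3,1,3,2,3,3,4,2,3,3,4,4,1,4,3,3,2,1,3,1,4,4,4,3,2,0,3,4,3,0,3,2,3,2,4,2,0,2,0,1,0,0,3,1,2,1,3,1,2,4,0,1,4,2,4],
 [4,4,0,4,0,0,1,3,3,1,1,0,2,4,4,1,3,3,1,2,3,1,2,4,4,1,3,1,3,3,1,1,4,2,1,3,1,3,1,4,3,0,1,1,3,0,2,2,4,4,2,2,3,2,4,3,4,1,3,3,0,3,2,0,3,4,0,2,4,0,1,2,0,2,2,2,2,0,4,3,4,3,2,4,0,2,3,3,1,3,3,4,1,1,1,3,1,3,2,4,1,3,1,1,4,4,0,4,1,2,1],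
 [0,1,0,3,2,4,3,0,0,1,3,1,4,4,1,2,1,1,2,1,0,0,1,2,3,1,1,4,0,2,1,1,3,4,3,3,4,4,1,2,0,0,2,1,4,0,4,0,2,1,4,3,1,1,2,3,4,0,0,4,3,1,3,3,3,0,3,3,1,0,3,3,1,2,2,1,1,2,4,2,0,1,3,2,4,0,0,2,0,1,3,0,2,1,0,0,1,1,3,4,3,3,0,0,1,2,0,0,2,1,0],
 [4,0,4,4,2,0,2,4,0,3,3,3,2,0,2,4,2,1,3,3,1,0,2,3,1,2,2,1,2,3,1,4,1,3,2,3,2,1,0,3,3,4,1,3,0,0,2,4,3,4,1,2,4,0,4,4,3,4,2,2,3,1,2,0,1,0,1,0,3,2,1,4,3,4,1,3,4,2,4,2,1,1,3,2,4,0,4,3,1,1,1,0,1,2,1,4,1,4,4,2,4,2,3,0,4,1,2,3,3,4,0],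
 [0,2,3,4,2,3,0,4,0,0,3,0,0,4,2,1,3,1,0,0,1,2,4,2,1,3,4,0,0,1,3,1,3,3,3,4,2,4,4,2,0,1,1,3,1,2,0,2,2,4,1,4,2,0,0,2,2,3,3,0,0,1,1,4,0,2,1,0,4,1,1,2,4,4,2,0,2,4,1,2,3,4,1,1,0,1,4,3,0,3,0,1,0,4,3,1,0,3,4,1,1,4,4,0,4,0,2,3,1,2,0],
 [4,2,0,2,4,3,4,3,0,4,3,3,1,4,3,0,3,3,1,3,3,3,2,1,0,0,0,3,2,3,4,2,0,1,3,3,3,3,4,1,4,3,3,3,2,1,3,3,4,4,4,1,3,0,0,1,1,4,4,2,4,1,2,0,2,3,0,1,0,1,1,2,4,2,0,0,2,0,2,3,1,4,3,2,3,4,1,2,2,1,3,3,1,1,0,3,3,4,0,0,2,3,1,0,2,4,4,0,1,1,2],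
 [2,2,3,0,0,1,1,4,1,3,1,4,2,4,3,1,4,4,0,3,3,0,0,2,0,1,1,3,0,1,3,3,4,3,0,1,1,3,0,4,0,2,2,0,1,1,1,1,3,2,0,3,3,1,0,3,0,4,0,0,4,1,4,3,2,3,0,4,3,2,0,4,1,3,2,1,2,1,2,0,1,4,3,2,2,0,3,1,1,3,0,0,4,2,2,0,3,2,1,2,2,2,2,0,0,4,1,2,2,3,4],
 [4,3,3,4,4,4,3,2,2,1,3,1,2,1,4,0,2,0,2,2,3,0,3,2,0,1,3,0,0,1,4,4,4,3,4,0,3,4,2,3,2,1,2,4,0,2,1,3,0,2,0,4,3,4,2,3,3,1,1,4,1,1,2,3,2,0,2,2,2,1,1,2,0,1,3,4,2,1,2,4,2,1,1,1,2,0,2,0,0,0,3,0,3,4,4,0,4,1,1,1,3,4,2,3,0,1,4,0,4,4,1],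
 [1,2,4,0,4,2,3,0,2,2,3,2,3,0,4,3,1,4,1,0,4,1,0,2,4,2,1,1,0,3,1,0,4,4,0,4,2,4,2,1,0,2,3,1,2,3,4,2,0,1,4,0,3,4,0,0,3,1,3,3,3,3,3,0,2,4,0,4,0,4,2,2,2,0,1,1,1,3,0,3,0,0,3,4,2,2,0,4,2,2,0,1,1,3,3,0,0,4,0,1,3,2,4,3,0,0,3,2,3,4,4],
 [4,0,3,0,0,4,2,4,1,4,1,1,2,2,0,0,2,4,1,2,4,4,4,1,4,0,4,0,3,3,1,2,2,4,4,3,1,2,2,2,1,4,0,3,0,2,1,0,4,2,0,1,0,1,2,4,3,2,3,1,0,0,1,2,1,0,0,1,0,2,1,3,4,4,1,2,0,0,0,2,3,0,0,1,3,3,1,3,2,1,3,3,3,1,0,1,1,3,2,4,3,4,0,2,0,4,2,3,0,3,3],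
 [0,1,3,1,1,3,4,1,4,3,3,4,2,1,1,0,0,2,1,4,0,2,3,4,1,4,1,2,4,0,3,3,4,4,3,4,2,3,3,2,3,1,4,4,1,0,4,2,4,0,1,3,4,2,2,3,4,0,4,4,2,1,1,3,4,0,0,4,2,3,1,1,0,4,4,4,2,2,3,4,1,1,2,3,3,4,0,3,2,2,2,3,1,1,3,0,4,3,0,1,2,2,0,1,1,2,3,3,4,3,0],
 [0,0,1,2,2,1,2,2,2,2,3,0,2,4,2,2,2,1,0,2,3,3,4,2,2,2,2,0,3,2,3,2,2,1,2,1,3,0,3,2,2,1,1,4,1,1,1,1,3,2,2,2,1,0,0,3,4,0,3,0,4,0,1,1,0,2,2,2,4,3,1,3,4,0,3,2,2,2,3,3,2,1,0,3,1,0,1,0,1,2,2,1,3,4,2,1,2,4,1,3,4,1,4,1,4,3,2,0,0,1,3],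
 [2,0,1,2,3,1,4,1,3,1,3,3,4,1,1,0,0,3,1,3,1,1,2,2,2,3,1,4,3,1,2,3,2,3,3,1,3,0,3,3,3,0,4,3,1,4,1,4,3,3,1,0,0,3,1,2,3,4,2,1,0,2,2,2,2,1,0,1,2,4,4,3,2,0,2,3,4,3,1,2,3,1,0,4,0,2,0,4,4,3,3,3,3,4,4,4,1,3,3,3,4,0,2,2,2,1,2,1,1,2,0],
 [0,2,0,4,2,4,0,3,4,3,1,2,0,4,2,4,2,2,0,0,1,2,4,1,4,1,4,4,4,3,1,4,3,2,1,4,4,4,2,2,2,2,3,1,1,1,1,2,3,0,1,0,4,2,4,3,1,1,4,0,2,4,1,2,0,4,2,0,3,0,2,1,0,4,4,0,2,0,2,2,4,4,3,3,0,0,4,3,1,4,2,1,1,0,2,3,4,4,2,3,2,1,3,3,1,4,0,1,1,2,0],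
 [2,3,1,1,3,3,1,2,1,0,3,1,3,2,3,2,1,1,2,0,4,2,1,1,3,3,1,4,1,0,4,0,0,0,0,1,4,0,0,4,1,0,0,3,4,0,4,0,4,4,4,4,0,4,4,1,3,0,4,4,0,0,4,4,2,0,2,2,1,4,2,3,1,1,1,1,2,4,1,3,0,2,4,3,4,3,4,2,3,1,2,3,1,4,3,0,3,2,1,3,0,0,3,2,3,1,1,0,1,3,3],
 [2,2,4,0,0,2,4,4,3,4,4,4,3,0,2,0,2,1,2,1,0,0,3,4,4,3,4,0,2,3,3,0,1,3,1,2,2,2,1,2,3,0,1,1,4,3,1,4,1,2,4,4,1,1,0,1,1,3,2,0,2,4,4,3,1,4,3,3,0,3,4,2,4,1,2,1,4,0,4,4,2,2,0,4,2,3,2,0,1,1,1,1,0,0,0,1,4,1,2,4,1,2,4,0,3,1,4,3,1,1,2],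
 [3,1,4,3,4,1,0,4,3,1,3,1,3,1,2,4,3,2,0,1,3,1,4,2,3,4,2,0,4,2,2,2,4,2,4,1,1,2,0,4,2,1,4,0,4,1,0,1,1,1,3,4,0,3,3,4,3,1,0,4,0,2,4,1,4,2,2,2,1,3,4,2,1,1,4,3,0,2,3,1,1,3,2,2,3,1,0,0,4,1,0,2,2,0,1,4,4,3,2,3,4,1,1,1,2,2,0,4,1,0,4],
 [3,3,3,0,2,0,0,0,2,3,1,0,0,3,1,3,2,3,0,1,4,3,0,2,2,4,0,3,2,1,0,0,3,2,1,2,1,4,2,3,2,2,0,3,1,0,2,3,1,3,0,4,3,2,1,4,3,2,3,3,4,0,4,4,4,1,4,0,0,0,0,1,4,0,4,0,2,0,0,4,4,2,0,1,2,2,2,4,2,2,4,2,2,0,4,1,1,1,0,1,4,0,0,1,1,0,2,0,3,4,1],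
 [4,4,3,3,4,3,4,2,2,0,0,3,1,4,4,0,4,1,1,0,0,2,4,0,2,0,3,4,1,0,4,1,1,4,2,1,3,0,3,0,3,2,0,0,0,0,4,0,1,0,4,2,2,3,2,4,4,2,3,2,3,4,4,0,3,0,4,4,0,3,3,4,1,1,0,4,1,2,3,0,1,3,2,0,2,3,1,0,3,3,1,2,1,2,2,3,1,1,3,4,3,2,3,3,1,1,3,4,2,4,3],
 [4,2,2,0,3,3,2,2,1,2,2,0,2,3,0,4,0,3,4,0,4,4,2,0,0,2,2,2,2,1,3,4,1,4,3,1,4,1,2,4,4,0,4,2,1,1,0,1,2,3,1,2,3,0,4,2,4,4,1,4,2,0,2,0,0,2,2,1,4,3,0,2,0,3,1,4,4,4,4,0,1,0,0,0,4,0,0,3,4,0,0,0,4,0,4,2,0,1,4,2,4,3,2,1,2,4,4,2,4,2,1],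
 [4,4,1,2,2,0,2,0,4,3,1,0,4,4,1,0,0,0,3,3,4,3,2,3,2,1,3,1,0,2,3,2,4,2,4,0,1,0,2,1,2,1,4,0,3,1,1,3,3,3,4,0,4,0,3,1,1,0,3,0,4,0,0,3,0,0,0,1,1,0,3,4,0,4,2,4,2,2,4,4,0,0,3,4,4,1,1,2,4,4,0,2,1,1,4,0,0,0,2,2,2,4,1,4,0,4,3,1,2,2,4],
 [1,4,0,3,4,2,2,3,0,4,4,4,3,0,2,0,1,0,4,1,3,3,3,4,3,3,1,3,0,2,4,1,0,1,1,4,3,1,3,2,0,4,3,1,3,3,0,2,4,3,4,0,1,3,3,3,1,0,1,1,3,0,2,4,2,1,1,2,3,4,1,2,4,0,4,2,3,3,1,3,1,1,2,4,2,2,4,4,2,4,2,2,3,4,0,0,2,0,1,2,2,2,0,2,1,1,0,1,3,4,2],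
 [3,2,3,0,3,3,0,3,1,3,3,4,1,1,0,2,0,4,3,1,4,1,3,4,2,3,3,2,2,1,4,2,3,3,4,4,1,3,0,1,0,1,3,3,3,2,3,1,0,3,0,0,3,0,3,4,1,0,2,4,3,2,0,4,2,2,2,1,4,4,2,0,3,1,3,1,1,0,2,3,4,4,1,4,4,2,0,0,4,1,1,1,0,2,4,2,2,0,4,0,4,0,1,0,4,4,2,2,1,4,3],
 [0,0,4,0,1,2,1,0,2,0,4,3,2,3,4,4,2,2,4,2,0,0,1,0,0,1,1,1,4,2,1,2,1,0,3,4,4,0,2,4,0,2,4,3,1,1,2,3,4,3,3,1,2,4,4,3,1,4,2,0,3,0,0,3,4,1,4,3,4,4,3,0,3,4,0,0,1,2,0,0,2,2,4,4,4,0,3,0,4,3,3,4,0,2,2,2,0,3,1,0,4,3,0,4,0,0,2,4,4,4,3],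
 [0,0,0,1,1,4,3,4,2,4,3,3,4,4,0,3,3,0,0,1,2,3,1,0,4,2,1,1,3,4,2,3,2,3,2,0,4,0,3,3,3,3,0,0,2,3,0,3,4,4,3,3,3,0,4,1,0,2,2,4,4,1,3,3,1,1,0,0,4,4,0,4,2,1,3,4,1,4,4,4,1,3,1,2,4,0,0,0,4,3,2,1,1,0,0,0,3,1,0,4,3,4,0,2,2,1,4,3,3,4,2],
 [0,0,0,0,2,4,1,0,0,4,2,3,4,3,1,3,1,1,0,0,4,1,0,2,3,1,0,4,1,1,2,3,0,0,3,4,1,1,3,2,0,2,0,2,4,1,3,3,0,4,4,2,1,0,1,3,3,2,2,2,2,1,2,2,2,4,2,1,3,2,2,3,1,0,2,0,4,0,4,3,3,4,3,4,4,2,0,0,2,4,3,2,4,4,0,4,0,0,4,2,0,0,3,3,2,3,0,4,2,3,3],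
 [0,0,0,3,0,1,0,0,0,4,4,1,4,4,4,0,4,2,2,1,1,2,3,4,2,1,1,0,3,3,1,0,1,3,4,4,3,1,0,3,0,2,2,4,1,0,1,4,2,4,3,0,4,1,0,1,1,4,2,0,0,3,3,1,1,3,3,4,2,4,2,3,1,0,1,3,2,2,0,3,4,3,2,0,4,0,4,3,0,2,3,0,3,4,3,3,0,3,2,1,3,0,1,1,4,1,1,1,4,4,1],
 [0,0,2,0,0,0,4,0,0,2,2,3,1,3,3,1,3,0,2,1,0,2,2,1,2,2,0,0,1,0,3,4,0,1,4,3,2,0,4,2,4,3,4,0,1,0,0,2,4,0,1,0,3,1,3,2,4,2,3,1,3,4,0,0,4,1,1,3,1,2,0,1,4,4,4,3,4,4,1,3,0,4,3,1,4,4,2,2,3,4,2,1,3,0,3,1,1,4,0,0,0,0,2,0,3,2,1,1,4,2,1],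
 [0,0,0,0,0,0,0,0,0,2,4,4,1,4,3,1,2,4,2,2,0,0,3,1,0,2,2,4,4,3,2,3,2,2,4,4,4,3,2,2,4,2,1,3,3,2,1,2,1,2,4,4,0,2,1,0,4,4,3,3,3,1,0,0,2,0,0,0,2,4,2,2,1,0,4,1,0,1,2,2,2,1,4,0,2,1,3,2,1,3,4,1,0,0,1,0,4,0,2,1,2,2,1,1,4,4,1,1,4,0,2],
 [0,0,0,0,0,0,0,0,0,0,1,2,2,2,3,3,0,1,3,3,3,4,1,3,0,2,0,0,2,2,4,4,1,1,4,1,3,0,3,3,0,0,2,2,4,2,0,1,0,1,4,4,0,3,0,0,0,3,0,3,0,0,4,4,0,2,0,3,3,3,3,1,1,1,1,2,2,0,2,2,3,0,3,0,1,1,0,3,3,3,2,0,0,0,0,3,2,3,1,1,2,0,3,2,1,1,2,0,1,3,2]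
]

/-- named matrix 9 -/
def nm9 : List (List ℕ) := [
 [0,3,4,1,2,0,1,0,1,1,2,1,1,2,3,2,4,4,0,4,2,3,2,3,2,4,2,3,1,1,2,4,3,3,0,0,0,4,3,0,0,2,2,0,2,4,4,0,4,2,4,0,4,4,4,4,3,0,0,0,2,4,3,3,3,4,1,0,2,4,4,2,0,2,0,3,1,0,1,0,0,1,4,2,0,1,1,1,3,0,4,4,0,3,2,0,0,0,1,4,0,3,4,3,0,0,1,0,3,2,4],
 [2,4,2,1,3,4,4,3,1,4,3,1,4,4,2,3,4,4,1,1,4,4,0,0,1,3,0,4,1,3,1,4,3,1,0,2,4,2,1,2,1,2,2,3,4,2,3,1,3,4,1,0,0,1,4,3,4,3,1,3,4,4,4,2,0,2,3,4,4,2,3,1,3,0,3,1,3,1,0,3,0,4,3,2,1,3,2,2,2,0,1,3,2,0,1,0,0,4,3,4,4,0,0,3,0,4,0,1,1,0,2],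
 [0,1,1,1,4,2,4,3,2,3,0,1,2,3,1,1,4,4,2,1,3,1,3,0,2,1,0,4,0,4,2,1,2,1,4,2,3,1,0,4,3,1,0,3,3,4,2,0,1,2,0,4,3,1,4,0,0,1,4,2,0,0,1,4,0,3,1,1,4,0,4,4,2,1,3,1,1,4,4,2,4,1,3,0,1,2,0,1,2,0,3,2,4,0,4,0,1,1,4,2,3,4,4,4,4,0,4,0,3,0,2],
 [3,0,0,3,3,4,4,2,1,3,3,1,1,2,4,0,0,3,4,4,2,0,3,0,3,0,1,0,3,4,0,0,3,3,1,0,2,2,0,3,1,1,0,3,4,3,3,1,3,3,0,2,4,0,3,4,4,2,2,0,1,0,0,1,1,4,1,4,1,0,1,2,3,3,4,4,3,2,2,0,3,4,4,2,0,0,1,4,2,0,1,4,1,1,2,1,1,3,0,3,0,0,0,0,2,3,1,4,0,4,0],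
 [0,2,0,4,4,1,3,1,4,3,4,3,2,3,1,0,3,1,1,4,3,1,1,2,1,3,0,1,0,3,2,2,0,3,2,1,0,4,3,4,1,2,4,3,1,1,0,3,1,0,4,3,0,1,4,0,2,3,3,2,4,0,2,2,1,3,3,4,3,1,1,1,4,0,1,3,4,3,2,2,3,3,3,3,4,0,0,2,3,4,4,0,0,1,0,4,3,1,4,4,0,1,1,0,2,2,1,2,1,2,4],
 [3,2,3,0,2,1,4,1,2,1,2,2,1,3,1,0,1,1,3,2,1,0,0,2,4,2,4,4,2,4,4,1,4,1,0,2,4,2,2,2,4,4,0,0,0,2,2,4,0,2,0,2,4,2,1,1,1,0,4,3,0,4,0,2,0,4,1,0,4,2,4,2,1,4,1,2,0,1,0,2,4,0,3,1,3,4,3,0,4,2,1,1,2,3,0,1,1,2,1,3,1,0,4,0,4,1,2,4,1,0,4],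
 [0,3,4,2,4,4,3,4,3,0,0,4,0,4,1,3,0,0,3,4,0,0,4,0,0,3,3,1,3,4,2,2,4,2,0,3,2,0,3,3,2,3,1,2,4,3,2,4,1,2,0,2,3,0,3,3,0,2,0,2,3,1,2,0,2,4,4,4,3,3,2,4,2,4,2,4,2,3,2,1,1,3,1,0,0,4,2,4,3,0,4,2,1,2,3,3,4,4,0,0,2,1,3,4,1,3,3,1,4,0,4],
 [1,0,1,1,3,0,4,2,1,1,0,3,4,3,0,2,4,0,1,2,4,3,0,4,3,2,3,1,4,0,1,2,3,4,2,0,4,4,2,1,3,3,2,4,3,2,1,0,1,1,2,2,4,3,3,3,4,3,2,3,1,1,3,4,1,4,2,3,2,1,2,3,0,1,3,1,3,2,3,4,2,1,1,0,4,0,1,1,3,1,4,0,1,2,2,0,4,0,0,2,0,3,0,3,1,3,2,4,3,2,4],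
 [2,2,0,2,2,3,4,4,0,1,3,2,2,2,4,0,0,1,1,2,3,2,1,4,4,1,2,4,0,1,4,0,0,4,2,0,1,0,0,3,2,1,1,4,3,1,2,0,4,3,0,3,0,0,1,0,4,2,2,1,0,4,1,1,4,3,2,3,4,2,4,0,3,2,2,0,3,1,0,1,3,4,3,0,3,2,3,1,2,2,2,3,4,1,1,4,3,3,2,4,0,4,4,4,0,2,1,2,0,2,2],
 [2,3,1,3,1,3,0,1,4,2,2,1,1,2,4,3,3,0,1,2,3,2,0,2,4,2,1,2,2,3,2,2,3,0,3,0,0,1,4,3,0,2,0,0,3,4,4,3,4,0,2,3,4,4,1,1,1,4,3,0,0,2,1,2,1,4,2,0,2,0,4,2,1,3,0,0,2,2,0,4,2,0,0,1,3,4,4,1,1,3,3,1,4,1,3,4,2,1,4,0,2,2,3,0,2,1,0,2,4,1,4],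
 [2,3,1,0,4,1,4,3,4,2,1,4,4,2,3,1,0,2,0,2,1,4,4,3,0,3,2,1,4,2,3,0,0,1,2,0,3,2,0,4,2,1,0,1,0,1,1,0,2,4,1,0,0,3,1,1,1,0,3,4,3,4,4,2,4,0,4,4,4,4,4,3,2,0,2,1,3,1,4,2,4,2,1,3,3,2,2,3,1,0,2,3,4,2,1,4,4,1,3,4,1,0,3,1,1,3,0,0,0,3,4],
 [2,3,2,0,3,2,2,1,1,2,3,4,0,4,3,1,0,4,1,1,4,2,2,0,0,0,3,2,3,0,4,1,3,3,4,1,2,4,2,1,1,1,0,0,2,4,2,4,1,0,2,3,0,3,0,2,2,4,3,4,3,1,1,0,0,4,1,4,0,0,1,3,1,1,1,0,2,0,4,2,3,0,1,0,2,2,2,2,1,3,0,1,4,0,4,0,2,3,1,2,0,1,1,0,1,3,3,1,4,0,4],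
 [2,4,1,0,4,3,0,1,1,3,2,4,0,1,4,0,2,0,4,1,2,4,1,1,0,4,2,3,1,3,2,0,4,2,3,4,4,2,3,0,0,3,3,3,0,4,2,1,4,3,2,3,4,0,0,3,4,4,4,1,1,1,0,4,2,2,1,0,1,0,1,4,0,3,3,1,3,4,1,0,2,4,4,3,0,3,1,1,2,4,0,3,4,2,3,4,0,1,2,0,0,1,1,0,2,3,2,3,4,0,1],
 [4,4,4,3,1,2,3,2,0,2,2,1,1,1,2,4,4,4,3,4,4,1,4,3,1,4,4,3,1,4,1,4,4,1,2,3,3,1,4,1,4,0,4,3,0,0,0,1,4,4,4,0,1,2,1,3,3,2,3,4,2,2,1,3,2,3,0,0,1,0,3,0,2,0,4,4,2,0,4,1,4,1,1,0,4,1,0,0,1,0,3,0,2,1,3,2,4,0,2,4,1,3,1,4,2,1,2,0,1,2,2],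
 [2,0,3,2,0,2,1,2,4,4,3,4,3,0,0,2,0,0,1,0,1,0,4,3,3,1,4,1,3,4,4,1,1,2,2,4,1,0,3,3,2,4,4,3,0,1,0,0,4,2,2,1,0,4,3,0,4,1,1,4,0,1,2,3,2,1,1,1,0,4,1,2,0,2,3,3,0,1,0,4,1,2,4,0,4,1,2,4,0,2,1,4,2,2,1,3,2,1,1,1,2,1,4,3,0,1,0,2,1,0,1],
 [1,2,0,2,0,1,3,1,3,0,4,1,2,4,4,3,1,4,1,4,3,3,1,4,3,3,3,4,1,2,2,1,0,1,1,0,2,3,4,3,0,3,4,4,3,4,3,2,3,2,0,4,3,2,1,1,4,3,4,3,4,3,1,4,0,4,4,4,0,0,1,0,0,2,3,4,2,0,2,4,3,1,0,4,4,0,4,2,1,0,4,2,3,1,4,3,2,1,4,0,0,3,3,1,1,4,2,2,3,0,0],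
 [2,2,4,3,3,2,0,3,3,1,0,4,4,3,0,1,0,3,4,3,4,2,2,3,4,4,1,4,0,3,1,3,2,2,0,4,3,4,4,4,3,0,3,0,1,2,2,0,1,0,4,0,3,0,3,3,1,0,0,4,3,3,4,3,1,4,3,4,0,3,2,2,0,3,1,3,1,3,2,2,2,3,1,0,3,0,0,2,4,1,2,3,3,1,1,1,3,0,3,0,4,4,1,4,4,3,3,3,3,1,2],
 [0,4,2,2,4,3,4,1,0,2,0,1,0,1,1,2,3,4,2,4,1,1,1,2,2,3,1,1,1,1,1,1,2,0,4,3,4,3,1,1,0,3,4,4,2,2,1,2,2,4,1,3,2,2,1,0,2,3,3,2,1,3,4,3,4,2,2,4,1,3,3,0,2,3,2,1,2,3,4,3,3,0,3,0,3,2,1,1,2,2,2,4,2,2,3,1,3,2,0,3,1,1,4,3,1,1,0,2,4,1,4],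
 [2,2,3,2,4,2,3,0,1,1,4,0,3,3,1,4,2,0,4,4,4,4,0,4,4,4,1,0,3,4,2,0,3,2,2,2,3,1,0,1,2,0,1,1,3,2,2,3,3,2,4,3,0,3,4,2,4,1,1,4,1,2,0,3,1,0,4,0,3,0,3,4,0,4,3,3,4,0,2,0,4,4,0,1,2,0,2,2,3,3,3,0,4,1,3,2,0,4,4,2,2,3,2,0,1,2,3,1,4,4,1],
 [4,1,3,2,1,0,3,4,1,2,0,4,4,3,3,2,0,0,2,4,4,0,1,3,1,1,2,2,1,1,0,3,2,1,0,4,1,0,1,1,1,1,4,2,3,2,3,0,0,3,1,0,0,1,3,0,4,1,4,3,0,4,3,2,4,3,1,2,2,3,0,3,4,3,1,1,3,2,3,2,3,1,2,1,0,2,1,4,3,0,4,4,4,4,0,2,0,1,4,3,4,3,3,2,0,3,0,1,0,4,1],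
 [0,4,0,0,3,1,3,3,2,1,4,3,1,1,0,1,3,3,1,0,3,3,1,2,2,3,3,3,1,3,1,4,1,3,0,2,1,2,0,1,2,2,4,2,0,2,4,3,1,2,0,1,1,1,3,0,4,0,0,2,3,2,3,3,3,2,1,3,1,0,2,2,4,0,2,4,3,3,0,2,1,0,3,0,2,3,4,2,0,4,2,0,4,2,1,0,2,4,4,4,1,1,1,4,2,0,2,1,2,2,3],
 [1,2,4,1,2,3,0,2,2,1,3,3,4,1,3,1,4,4,2,3,0,1,3,3,1,3,0,3,1,4,3,3,2,0,2,4,4,4,3,4,0,0,3,4,2,3,0,4,3,2,4,2,2,4,3,4,0,0,4,1,0,0,2,4,0,1,2,2,3,2,2,0,1,3,3,2,1,4,0,4,0,1,0,0,4,2,2,1,0,2,0,0,1,3,2,2,0,1,3,2,4,4,4,1,0,4,4,1,4,2,0],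
 [3,1,3,4,4,4,2,4,2,4,1,4,1,0,1,4,0,3,3,1,2,2,3,2,4,0,1,3,0,0,0,3,0,3,4,3,1,3,2,2,1,3,1,3,3,1,2,4,1,1,2,1,1,2,1,0,4,1,0,2,3,0,0,2,1,3,0,3,0,2,0,0,4,2,0,2,4,3,0,2,1,4,3,4,3,3,4,3,1,4,0,3,2,1,2,3,0,0,0,2,1,4,1,3,0,2,4,4,0,3,4],
 [3,3,3,2,4,3,1,3,0,0,1,2,0,3,4,1,2,1,0,1,0,2,4,3,4,2,3,0,3,0,4,2,4,4,3,3,1,0,2,4,4,3,3,0,1,3,4,0,2,3,4,2,2,4,1,1,1,2,4,2,3,2,1,2,0,0,3,1,3,2,2,4,0,1,2,1,3,4,4,1,1,1,0,2,4,4,3,2,1,2,1,0,1,0,2,3,0,1,2,2,2,4,2,0,3,2,4,1,4,0,0],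
 [1,0,0,1,0,0,2,2,2,3,2,2,1,3,2,1,0,3,2,3,2,3,3,4,2,0,4,1,3,1,0,2,0,1,4,0,2,4,3,4,4,4,4,2,1,2,0,2,3,1,4,3,4,3,3,3,1,3,3,3,0,2,1,1,4,4,2,0,0,2,4,1,1,4,2,1,4,0,4,3,4,0,0,0,3,4,3,4,4,0,3,0,3,1,2,0,1,2,3,3,1,0,4,1,3,0,4,3,3,3,3],
 [4,1,1,1,2,0,3,4,3,1,2,0,1,3,2,4,2,0,2,2,0,3,0,4,0,2,0,0,4,2,3,1,0,2,2,2,2,0,1,4,3,2,0,0,1,4,3,3,1,1,3,0,3,2,2,2,0,0,0,0,3,4,4,2,1,0,1,3,2,3,4,2,1,0,3,2,1,4,0,1,0,2,3,1,4,2,4,0,4,4,4,1,0,1,2,1,0,0,2,4,0,3,1,4,4,3,2,0,0,3,2],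
 [2,1,2,2,0,0,4,3,1,4,1,3,4,0,4,0,4,1,4,1,3,1,0,0,2,1,3,2,1,1,1,4,1,3,2,3,3,2,1,3,1,4,1,1,2,1,1,0,1,3,4,4,3,1,2,3,4,4,1,2,3,2,0,3,4,2,0,4,1,0,1,4,1,0,4,3,0,0,0,4,4,2,0,1,0,4,3,4,2,4,2,1,4,1,2,3,4,1,1,4,4,3,0,1,3,2,0,4,1,0,2],
 [3,4,1,2,1,3,2,4,1,4,3,2,1,0,2,4,0,1,0,0,1,3,0,2,0,1,2,3,3,0,1,1,3,2,4,4,4,4,3,1,2,0,4,1,3,4,3,3,3,4,3,1,1,2,4,2,3,2,3,0,4,0,1,2,2,3,4,2,2,0,4,3,3,0,2,0,4,1,4,3,0,4,0,3,4,0,0,0,2,1,2,3,1,0,4,3,1,3,0,4,2,1,3,4,2,1,0,3,3,4,3],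
 [4,2,1,0,3,3,3,0,1,3,3,2,3,0,0,3,1,2,3,2,1,1,0,4,0,4,4,0,1,4,2,3,0,1,0,3,3,4,1,2,4,1,2,0,1,4,4,3,4,3,2,2,0,1,3,0,2,3,0,0,4,2,2,4,0,0,4,1,3,4,0,4,2,0,0,3,2,1,4,0,4,2,4,2,0,2,3,3,1,2,0,0,3,4,1,0,1,1,3,1,3,0,0,3,4,3,3,0,4,0,1],
 [4,2,3,0,2,4,2,1,1,2,4,1,0,2,1,0,4,0,1,1,0,2,1,2,0,2,3,0,3,2,3,0,3,4,3,0,4,1,0,0,4,0,4,4,2,1,3,3,2,0,4,2,3,2,2,1,2,4,2,2,4,0,4,2,1,3,3,3,0,1,1,4,4,1,3,1,2,0,3,4,3,0,3,0,3,1,2,3,3,4,1,1,4,0,1,1,0,2,3,2,2,3,4,4,1,0,0,1,0,2,0],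
 [0,1,3,2,1,1,3,4,3,3,1,4,0,0,0,2,2,4,3,1,4,4,1,3,0,2,4,0,4,2,3,3,0,1,3,0,0,3,3,3,2,4,0,1,1,3,3,0,1,1,1,1,2,0,0,2,1,1,0,3,4,4,0,4,2,1,0,1,3,2,1,0,1,0,4,3,1,0,1,2,3,0,1,4,2,0,0,1,4,1,2,4,2,4,1,0,3,4,4,4,3,0,1,0,2,1,3,1,4,0,4],
 [0,0,1,4,2,4,4,0,4,1,3,4,1,0,0,2,1,1,1,3,2,1,0,3,2,0,3,3,1,4,2,3,3,0,3,4,3,0,4,4,0,4,1,2,1,4,4,3,3,1,2,2,0,0,4,4,4,3,4,1,2,4,1,4,1,0,3,2,1,4,1,0,0,1,2,0,3,2,4,2,0,2,3,2,3,1,2,1,1,4,3,1,4,3,2,0,4,1,3,1,4,4,0,0,0,0,0,4,3,1,0],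
 [2,1,3,3,1,2,0,1,1,4,0,1,1,3,3,1,4,3,0,2,3,4,1,2,2,1,3,3,3,1,4,3,0,2,4,3,1,2,4,2,2,1,3,2,4,1,2,3,2,1,4,2,4,3,2,3,0,0,1,0,4,3,2,0,0,3,4,0,2,1,3,4,2,0,4,1,2,1,1,0,3,2,3,0,2,4,3,1,1,0,2,4,1,4,2,4,3,2,0,4,1,2,0,0,3,2,1,4,4,4,3],
 [2,3,2,1,0,0,1,3,1,0,0,4,4,1,0,1,2,2,0,4,3,3,2,0,1,0,1,0,1,1,3,3,0,0,1,1,4,4,1,2,3,0,4,4,3,0,2,4,4,4,4,4,4,3,1,3,4,2,0,2,0,4,4,4,3,1,0,0,1,0,3,0,0,0,2,4,0,2,0,4,1,1,1,2,1,1,2,2,3,2,1,2,1,1,3,1,2,2,0,1,4,4,2,3,0,2,4,2,0,0,0],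
 [3,0,0,1,4,1,0,4,3,3,0,1,3,3,0,2,1,1,3,0,3,3,4,3,2,4,1,2,4,3,3,4,4,3,0,0,1,4,4,3,4,3,0,3,4,0,4,2,2,1,4,0,4,3,3,0,2,0,2,3,3,2,0,2,4,0,0,3,0,0,1,4,3,4,2,1,2,1,1,2,1,0,3,3,4,1,3,2,0,3,2,2,0,4,1,1,2,2,3,3,3,3,2,3,3,2,4,3,4,4,4],
 [2,3,3,3,2,0,1,1,0,4,1,0,1,2,4,3,2,3,4,1,3,1,4,3,3,3,0,2,0,4,2,1,4,0,3,0,3,2,0,0,2,0,1,2,1,4,3,2,0,4,2,4,1,1,3,3,1,4,0,2,3,4,3,0,2,1,2,0,2,1,1,2,1,2,0,1,4,3,0,0,3,1,4,4,3,2,1,1,0,3,1,1,0,3,2,1,3,4,4,1,1,0,2,0,0,1,0,3,3,2,2],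
 [4,3,3,4,1,2,4,4,4,0,1,1,1,1,4,1,2,0,3,0,1,0,4,4,0,2,2,2,2,3,0,4,1,2,0,0,4,0,3,4,4,3,4,0,3,0,3,1,0,1,2,4,2,4,0,1,2,4,2,1,4,0,4,2,1,2,0,1,2,4,4,1,4,3,1,1,4,2,4,3,1,0,1,2,2,1,0,0,1,2,4,0,0,1,2,0,1,3,4,2,3,2,2,4,1,0,2,1,3,4,0],
 [1,3,0,3,2,3,0,4,1,4,2,1,4,4,3,1,2,3,4,0,2,1,0,2,1,4,2,0,3,4,4,0,4,4,3,4,0,3,0,0,1,2,3,0,4,0,2,3,4,3,3,0,0,4,1,1,3,3,2,4,4,4,0,1,1,0,4,0,3,1,4,4,1,3,3,2,3,0,4,1,3,2,2,1,1,2,2,0,4,3,1,0,3,4,0,0,1,0,4,1,4,4,3,0,0,0,4,2,1,4,2],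
 [1,4,1,4,1,0,3,1,3,2,1,3,1,2,2,0,4,1,0,0,4,3,2,0,0,1,3,0,3,1,2,1,4,2,4,2,3,2,3,4,0,3,4,1,3,0,2,4,4,3,4,3,2,1,0,4,2,4,4,1,1,4,2,2,4,0,3,2,2,0,4,1,4,2,2,4,0,2,0,0,4,4,0,1,0,2,1,1,3,2,0,1,0,1,2,1,4,1,3,3,3,2,3,0,2,4,4,0,1,1,2],
 [3,3,4,4,1,2,0,3,1,0,4,1,2,4,4,3,0,1,1,1,4,2,4,0,3,3,3,3,2,1,3,2,2,3,3,4,3,3,3,2,3,1,1,2,4,2,3,1,1,3,1,2,4,4,3,4,4,2,1,1,4,2,0,3,4,4,0,3,3,4,3,3,4,4,1,3,4,4,3,2,2,1,1,1,2,4,0,0,1,3,0,0,1,4,0,3,3,3,4,1,0,1,2,2,0,2,1,2,2,4,3],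
 [3,3,2,4,3,1,0,4,1,0,3,1,1,4,4,1,2,2,1,0,3,0,3,0,3,4,3,4,0,1,0,0,3,3,0,0,1,2,3,4,2,3,3,1,1,1,0,3,1,1,2,0,1,4,2,0,2,4,0,2,2,1,0,4,2,2,2,3,3,0,4,3,4,1,0,2,4,3,0,1,4,0,2,1,1,1,0,0,1,2,1,4,1,2,3,2,3,3,2,2,2,2,2,1,3,3,4,0,4,2,4],
 [4,1,4,3,3,4,1,3,4,4,1,1,1,3,0,3,0,1,0,1,2,4,3,3,4,1,3,0,4,2,0,3,1,2,1,3,4,1,4,0,3,3,4,4,3,4,3,0,3,4,4,3,0,4,2,4,1,2,2,0,4,3,2,0,4,3,4,0,1,1,0,4,0,3,2,3,1,2,4,4,4,2,1,3,4,1,1,2,2,0,1,1,0,2,0,1,1,4,0,0,1,1,2,1,1,4,3,3,0,2,4],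
 [3,0,4,2,4,2,4,3,1,0,4,1,3,2,4,2,3,0,1,4,1,3,2,4,3,1,4,3,2,4,0,1,2,1,4,2,0,1,4,4,1,0,2,1,2,3,1,2,0,1,2,3,4,3,1,3,2,1,3,0,4,2,0,0,0,3,1,4,4,3,3,2,2,2,4,2,3,2,1,3,4,1,3,1,3,2,4,3,4,0,1,1,2,1,0,4,0,0,1,1,2,4,2,2,1,0,4,2,2,0,1],
 [3,1,1,0,3,0,0,4,2,0,1,1,2,4,3,1,4,1,1,3,2,0,1,4,2,2,1,4,1,4,0,0,4,2,2,0,4,1,4,3,1,1,1,2,4,0,3,0,1,3,1,3,0,3,0,0,0,1,1,0,3,1,4,4,2,1,2,4,1,1,1,4,4,0,2,3,0,3,4,2,0,1,1,3,2,2,0,0,0,0,2,0,0,0,3,1,1,3,2,4,0,2,1,2,1,4,1,1,1,2,2],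
 [1,4,1,2,0,1,1,0,3,1,0,0,1,1,4,1,3,4,3,4,1,3,4,2,3,3,0,0,0,2,4,0,3,0,2,2,3,4,4,0,3,0,3,1,1,3,1,2,1,0,2,4,0,1,3,1,4,4,3,1,0,4,4,4,4,4,0,1,2,4,1,0,1,4,2,1,4,0,3,4,2,4,1,3,2,3,3,3,3,1,4,1,0,2,2,2,1,4,0,2,1,3,0,3,0,3,0,3,3,3,1],
 [2,1,2,4,0,1,2,0,1,0,2,0,2,3,4,1,1,1,0,4,2,4,4,1,1,4,4,2,1,0,2,0,3,1,3,2,4,4,1,0,0,0,2,0,3,3,0,4,0,3,1,4,2,3,0,0,2,2,3,0,0,1,4,4,3,3,0,2,3,0,4,2,1,0,1,2,0,3,2,2,3,3,1,1,0,0,2,3,0,0,4,4,0,4,2,4,4,1,3,2,4,3,0,0,0,4,3,4,0,3,0],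
 [3,3,3,1,2,1,0,2,1,0,3,2,4,2,2,2,4,4,4,3,3,2,4,0,0,0,2,1,2,1,1,0,2,1,2,1,3,2,1,4,0,4,4,4,4,2,2,4,1,0,4,1,1,2,3,4,1,2,1,2,0,0,2,1,0,1,2,0,2,2,3,2,0,3,2,2,2,0,0,3,4,4,4,0,2,4,2,4,1,3,0,4,2,4,1,2,0,4,4,4,0,4,1,3,4,0,4,4,1,3,4],
 [1,4,0,3,3,3,4,1,2,3,2,3,1,2,0,1,4,0,1,3,3,4,1,1,0,1,0,4,1,1,1,1,0,1,2,3,1,3,3,1,0,3,2,3,4,3,0,3,4,4,4,4,3,0,2,4,1,1,1,3,2,0,4,1,2,4,2,0,4,0,1,0,3,3,3,3,4,4,2,3,1,2,2,2,3,1,4,0,1,2,3,2,4,4,2,0,3,2,0,1,2,1,1,0,4,0,1,4,2,2,0],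
 [1,3,0,0,0,1,4,0,2,2,3,3,1,4,0,2,3,4,0,2,4,2,3,2,0,0,0,3,3,1,4,2,3,2,4,3,4,1,3,4,3,4,1,0,2,3,1,0,0,3,1,3,4,0,0,1,0,0,0,3,4,1,3,1,2,0,2,1,2,0,1,0,3,2,0,1,4,3,1,2,4,3,1,3,3,4,0,1,3,3,0,3,1,1,4,1,1,2,2,0,1,4,4,3,2,4,4,0,1,4,2],
 [4,1,0,0,3,0,4,2,3,0,0,1,4,0,1,3,2,4,0,4,4,3,3,4,3,4,1,4,3,4,0,0,2,1,2,0,1,4,3,4,1,0,3,0,0,0,0,1,4,1,1,4,0,0,4,4,1,3,2,4,1,3,1,4,0,4,1,3,4,0,2,1,3,4,4,3,1,4,4,1,1,1,3,0,0,0,3,4,4,4,0,2,2,1,0,0,2,3,2,4,3,4,3,2,0,0,3,4,4,4,1],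
 [0,2,3,3,2,0,0,4,1,1,1,4,4,0,0,0,3,1,4,3,0,1,3,1,2,0,3,1,3,2,3,0,3,3,1,4,4,3,0,4,0,2,2,1,3,1,2,3,1,4,0,2,0,1,1,4,0,2,0,3,4,2,3,1,0,3,3,4,4,0,1,2,0,0,4,2,2,2,2,0,3,0,1,3,1,0,3,1,1,2,1,1,2,0,0,0,4,0,4,3,1,3,4,0,2,3,1,1,1,0,4],
 [1,4,2,2,3,3,2,3,1,3,1,1,0,2,0,1,4,1,3,4,2,3,1,3,2,2,0,2,4,0,1,2,4,2,3,4,2,1,0,0,2,0,2,3,1,2,1,2,1,3,4,1,3,2,0,0,0,1,2,3,4,1,4,2,0,1,4,1,2,0,0,2,1,0,0,4,3,1,4,3,4,0,2,4,0,2,4,3,3,3,1,0,2,2,1,2,0,2,3,0,0,2,3,3,2,0,2,4,0,4,2],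
 [2,2,3,2,2,4,0,1,4,1,0,1,0,2,4,4,2,3,1,1,2,1,1,1,3,3,4,3,1,4,4,0,0,0,1,3,3,4,3,2,4,1,4,4,4,1,3,1,2,2,1,4,3,0,4,1,4,4,4,2,0,0,3,2,0,1,4,1,4,2,0,4,2,2,2,4,2,3,4,4,3,4,0,2,0,0,3,1,1,4,0,4,0,1,3,4,4,3,1,4,1,0,1,0,2,2,1,1,0,2,1],
 [0,1,0,0,4,3,2,0,1,4,4,2,2,1,4,2,4,3,4,1,1,0,0,2,2,0,0,0,1,3,1,3,3,2,2,4,3,0,4,2,1,0,2,4,3,3,3,0,1,4,2,2,3,0,0,2,4,4,0,2,1,0,3,2,2,4,3,2,0,1,1,0,3,4,3,1,4,4,3,1,2,4,0,2,4,3,2,2,4,2,3,1,3,4,3,3,0,0,4,2,0,1,0,2,1,2,1,3,2,0,1],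
 [0,3,0,2,1,0,0,4,1,4,3,3,2,3,2,3,2,1,2,4,3,0,4,0,4,4,1,2,1,2,0,4,4,2,1,1,1,0,1,0,3,4,4,4,4,2,1,4,1,2,1,1,4,3,2,3,0,1,4,4,0,3,0,3,4,2,3,2,2,0,3,1,4,3,3,1,3,4,1,4,4,4,1,3,2,0,1,0,0,3,4,2,2,0,2,3,1,4,1,4,0,2,4,3,3,4,3,2,2,2,0],
 [4,1,2,4,3,2,4,4,1,0,0,0,2,3,2,3,3,2,2,0,4,1,0,0,2,2,0,2,1,1,3,0,3,2,0,1,1,1,4,0,0,0,3,1,1,2,1,0,0,4,3,0,3,0,0,0,1,3,3,0,2,3,3,4,0,1,0,1,2,1,4,1,1,2,4,2,1,4,1,4,1,4,4,2,3,0,0,4,4,1,0,1,4,4,0,2,0,4,4,1,3,4,1,2,2,1,3,1,2,4,0],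
 [0,3,4,4,3,4,2,4,3,0,1,4,3,1,1,0,3,1,0,4,1,4,4,1,0,3,3,2,3,4,4,1,0,3,0,2,1,1,1,0,3,1,0,3,2,1,2,4,2,1,2,1,3,0,0,3,1,4,2,3,0,0,3,2,4,3,4,0,1,3,2,3,4,0,2,2,4,3,4,3,1,0,2,0,0,0,3,0,4,2,3,0,1,3,4,3,2,1,4,1,3,3,0,0,2,2,2,1,3,2,4],
 [3,0,1,0,1,2,1,3,0,2,4,4,2,3,2,3,2,2,2,2,2,4,0,2,1,0,0,0,0,3,0,2,1,2,4,3,0,3,0,2,1,1,0,3,0,3,1,2,3,0,0,4,4,3,0,3,3,4,4,3,2,2,1,2,3,4,4,2,3,0,3,3,0,3,0,2,3,4,3,1,3,0,3,0,2,0,4,0,4,3,3,1,2,0,1,0,1,3,1,0,1,0,1,2,0,4,0,1,4,4,2],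
 [3,3,1,4,1,3,3,3,4,1,0,4,1,4,1,0,1,4,3,1,3,1,0,1,1,1,4,1,2,0,0,2,1,3,1,0,1,3,4,4,1,4,2,1,0,2,4,1,2,3,1,2,0,0,0,1,1,0,0,1,0,0,1,3,2,4,3,3,2,0,4,2,0,3,2,1,1,3,0,2,3,1,2,0,2,3,1,2,2,3,3,3,2,2,3,0,2,2,3,0,2,4,0,2,0,4,3,3,3,2,2],
 [4,2,2,2,3,2,3,3,4,0,1,2,0,0,4,4,0,4,4,1,2,1,2,1,0,4,0,2,1,1,2,4,4,2,1,2,3,1,3,4,2,4,2,3,4,0,2,2,0,4,4,3,2,4,1,1,0,4,3,3,4,0,2,3,3,3,0,1,3,2,2,0,4,3,2,1,3,1,2,4,0,4,3,0,2,4,0,4,1,0,1,3,1,2,3,0,1,3,0,0,1,4,3,4,0,0,3,0,0,2,1],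
 [1,3,1,1,0,1,1,1,0,3,0,0,0,0,2,2,3,4,2,4,1,3,1,0,4,0,0,2,0,0,4,2,4,3,3,1,3,1,4,2,0,0,0,3,0,1,0,2,3,4,2,0,2,0,3,4,4,4,4,3,3,3,0,0,3,2,2,3,4,4,1,4,4,0,1,3,1,4,3,0,2,3,0,3,4,3,2,0,3,3,1,2,4,3,1,1,0,4,0,2,0,3,1,4,1,2,4,4,2,1,2],
 [3,4,3,3,3,1,4,1,1,1,3,2,3,0,3,2,2,4,4,2,2,1,0,2,1,1,2,2,0,1,1,3,3,0,2,0,4,2,0,2,1,1,4,0,3,2,4,0,4,3,4,2,2,1,2,2,4,4,0,2,4,2,0,2,2,0,2,0,1,4,1,4,4,0,0,2,1,2,0,1,3,2,0,4,2,1,2,1,2,4,3,2,0,4,4,1,0,2,1,3,2,3,1,2,2,4,3,2,3,0,1],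
 [4,4,2,4,1,4,0,3,0,1,2,0,4,0,0,2,1,2,1,2,3,3,3,1,1,1,2,2,3,3,2,4,4,2,3,4,1,0,4,2,0,1,4,3,3,1,1,0,3,0,4,2,2,0,1,2,1,3,1,4,2,1,1,3,1,4,2,4,3,0,2,3,1,4,1,4,1,4,4,4,1,0,2,3,1,4,1,4,2,3,4,3,4,0,4,0,2,2,0,4,3,4,2,2,3,3,3,1,3,2,0],
 [4,2,0,2,0,2,3,3,4,0,4,4,2,2,0,1,2,1,2,0,0,2,1,3,0,2,0,4,0,3,0,3,2,0,3,4,3,2,1,0,0,1,2,1,0,4,1,2,4,4,4,4,4,1,4,2,2,3,2,3,2,1,3,1,3,4,4,0,1,1,0,0,2,3,2,1,1,2,3,2,1,3,4,0,0,3,2,0,1,4,3,0,1,0,0,0,1,2,2,0,2,4,1,2,2,3,4,1,1,1,4],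
 [0,0,1,2,0,4,4,2,2,4,4,1,1,4,4,1,4,2,0,1,4,1,4,4,0,3,1,3,4,3,0,2,3,4,4,3,4,3,2,0,0,2,2,2,4,4,0,2,4,1,0,3,1,2,2,3,0,4,4,4,1,2,1,2,2,4,4,1,3,1,1,2,4,3,4,1,2,4,3,3,0,3,0,3,4,4,4,3,3,0,2,2,0,3,1,0,0,1,3,1,4,1,3,0,0,1,2,2,0,3,0],
 [4,3,0,4,3,4,2,2,2,2,1,3,3,4,1,0,1,2,2,4,3,0,0,0,4,0,2,4,1,3,4,4,1,0,3,4,1,0,2,2,1,1,0,0,0,1,3,2,2,0,4,2,1,3,3,1,0,2,2,1,4,2,2,4,4,4,3,4,1,1,1,1,3,4,1,1,1,1,4,1,3,2,3,2,0,1,2,1,2,1,3,1,4,1,3,1,3,0,4,2,1,3,3,1,1,3,1,2,2,1,0],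
 [2,3,4,2,1,0,3,0,1,0,1,4,2,4,2,4,2,2,1,0,4,3,2,0,0,2,4,3,1,1,0,3,1,0,1,1,3,0,0,1,2,0,3,1,3,3,4,2,1,4,2,2,1,4,3,4,3,2,3,4,0,2,2,1,0,2,0,4,4,2,1,2,0,3,4,4,2,3,2,0,4,1,0,0,1,3,1,0,2,0,0,2,3,1,3,0,3,1,2,3,1,0,4,4,2,1,2,2,0,3,2],
 [3,3,0,3,3,2,4,4,4,0,4,4,3,0,4,1,0,2,0,3,4,3,3,0,4,3,1,0,3,4,0,3,0,1,1,1,2,4,0,2,3,3,3,1,2,1,2,2,1,1,2,4,1,2,0,4,2,4,4,1,3,0,0,0,0,0,3,1,0,3,1,4,3,3,3,1,1,3,3,0,4,3,0,4,3,1,4,0,3,2,0,2,2,0,1,1,3,0,4,0,1,4,0,3,2,3,0,4,3,0,2],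
 [0,1,0,1,4,4,1,2,1,0,1,2,0,0,1,4,4,2,4,0,3,2,1,4,2,3,1,1,3,1,4,0,1,1,1,1,4,1,3,4,3,0,0,4,2,3,1,4,4,0,4,4,4,1,2,0,4,4,3,4,3,1,0,3,2,3,1,3,2,4,2,4,4,1,2,4,0,0,4,4,1,4,1,4,1,0,3,0,3,2,3,3,0,0,0,3,3,2,2,3,2,3,1,0,0,1,4,1,3,3,2],
 [4,4,2,3,2,3,3,2,2,4,4,4,0,0,0,2,3,2,4,2,4,2,3,4,3,2,2,3,1,3,0,3,1,2,0,4,2,2,4,3,2,1,4,0,0,2,2,0,4,1,1,0,2,1,4,3,2,3,4,1,3,4,2,4,1,3,3,1,2,4,3,2,4,1,0,0,4,1,3,3,0,3,2,4,3,4,1,4,0,1,0,2,2,0,0,4,3,3,1,2,3,2,1,1,0,3,2,0,2,3,4],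
 [0,4,0,2,0,3,2,3,0,2,1,0,3,2,2,1,3,2,1,0,1,3,0,0,3,0,3,2,0,1,4,2,2,3,0,2,0,1,3,2,1,1,1,1,1,4,1,2,0,0,4,3,4,4,3,0,0,0,3,1,0,4,0,4,3,3,1,2,0,2,3,4,1,1,3,3,2,2,3,0,2,2,4,4,3,2,4,1,4,2,0,0,2,3,4,0,0,3,1,1,1,0,0,4,4,2,1,1,3,1,3],
 [0,1,2,1,3,3,2,3,4,2,1,4,3,0,2,2,2,2,1,3,4,2,1,2,4,0,1,3,0,2,2,2,3,3,2,4,0,2,2,2,3,0,1,4,3,1,1,3,0,2,1,3,3,0,1,0,2,2,2,3,1,2,1,0,0,4,1,2,2,4,3,0,2,2,3,2,1,0,2,2,0,1,2,0,4,3,1,0,3,1,0,1,3,0,4,3,4,1,3,2,3,1,1,2,1,4,3,4,1,2,2],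
 [1,1,2,1,3,4,2,1,3,2,1,3,1,4,1,0,1,0,3,0,4,4,1,2,2,2,4,2,4,1,3,4,1,1,1,0,2,0,2,0,4,2,2,2,3,4,2,3,0,1,2,0,4,2,2,3,0,2,4,2,4,4,1,3,4,2,2,3,3,4,0,0,4,0,3,2,0,1,2,0,2,3,1,0,4,4,1,0,0,3,4,1,0,1,1,2,0,4,2,3,1,2,3,0,0,3,0,4,1,0,0],
 [3,0,4,3,3,1,4,3,1,0,4,0,1,2,0,4,3,4,2,3,3,3,3,4,4,1,0,1,4,4,0,3,4,2,0,4,3,3,1,3,4,3,3,3,3,1,4,2,0,3,1,4,2,4,4,0,0,0,2,1,4,2,3,1,1,3,3,1,3,1,3,4,2,0,4,0,3,0,0,0,3,4,4,1,1,1,3,3,0,4,0,0,4,3,0,0,3,1,3,3,4,2,2,3,0,2,3,3,4,4,2],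
 [3,2,2,2,2,3,1,3,1,4,2,3,3,0,1,0,1,1,0,3,4,1,2,1,1,2,0,1,4,2,4,3,4,4,2,3,3,0,4,3,0,3,2,4,4,0,3,2,0,0,0,1,3,0,2,0,3,1,3,1,4,2,4,4,4,2,3,1,1,3,4,0,3,0,0,2,3,0,2,1,4,2,2,2,0,4,0,0,4,2,0,1,1,2,4,2,3,3,1,1,1,0,4,1,2,3,2,1,2,4,2],
 [0,0,3,4,0,2,4,4,0,1,0,2,3,1,1,4,4,3,3,4,4,2,0,3,0,2,2,1,2,1,2,4,0,4,3,2,0,3,4,1,2,3,2,0,0,1,4,2,4,3,1,2,4,1,1,4,0,2,4,3,3,3,1,3,1,2,4,3,2,2,4,0,3,1,2,0,2,2,0,4,2,0,4,4,1,1,0,3,0,1,2,4,2,0,1,4,1,1,1,0,0,0,0,0,3,3,2,2,3,3,3],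
 [3,3,4,3,2,0,1,4,0,4,4,0,2,4,3,3,4,1,1,0,0,3,4,4,1,2,3,3,4,2,4,1,3,1,1,4,4,3,1,3,1,0,2,2,2,1,0,0,3,0,2,4,0,4,3,0,1,2,0,3,2,0,4,3,3,0,3,2,1,0,4,1,0,3,3,3,0,3,4,4,1,2,0,0,1,3,4,1,3,1,0,0,0,2,1,1,3,3,3,2,2,0,3,0,0,3,4,0,3,3,3],
 [0,0,2,3,4,1,4,3,2,2,2,4,0,3,2,0,3,1,4,4,3,0,1,2,1,3,1,3,3,1,1,3,0,2,1,2,1,0,2,0,0,4,1,3,4,1,3,2,4,2,1,0,0,2,4,4,1,2,3,1,1,4,1,4,0,4,2,2,0,2,3,2,3,2,0,0,3,3,0,1,4,1,3,2,4,1,0,4,4,3,4,4,0,0,0,2,1,2,3,2,3,2,4,3,0,4,2,4,0,2,2],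
 [3,0,2,3,4,0,2,1,1,4,2,1,2,2,1,3,2,1,3,3,4,4,0,2,2,0,0,0,2,4,3,3,0,4,2,4,3,2,2,1,2,1,1,1,3,0,3,4,2,1,3,2,1,4,1,3,3,1,4,2,0,1,4,0,3,4,1,0,0,3,1,4,4,4,4,1,2,1,0,4,1,1,2,1,0,2,4,4,0,2,3,2,1,2,4,3,3,3,3,3,2,3,4,0,0,3,2,1,4,3,0],
 [2,4,1,0,0,2,3,4,3,2,2,1,4,3,1,0,1,3,4,0,3,3,4,4,3,1,0,2,4,1,4,0,2,2,1,0,4,0,0,0,1,0,3,3,0,1,0,4,1,1,4,0,0,3,4,4,4,3,0,3,0,2,3,4,4,4,0,3,4,0,0,2,4,1,0,2,4,4,3,3,0,1,2,2,1,1,1,0,2,1,3,0,3,0,1,1,3,3,1,2,1,2,1,1,2,3,0,4,2,2,3],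
 [2,0,2,0,1,1,0,0,1,2,4,2,2,0,2,0,1,1,3,0,3,4,4,0,2,0,4,3,2,1,0,4,0,2,2,3,4,0,4,4,1,3,3,4,0,0,3,2,2,2,1,0,3,2,3,4,3,0,0,1,2,0,2,1,3,1,3,1,3,4,2,2,2,2,2,1,1,3,4,3,4,3,1,2,1,2,3,0,2,4,3,4,4,3,2,2,0,1,0,1,0,4,2,3,0,1,0,2,3,4,2],
 [1,2,4,4,0,1,1,4,3,3,4,0,0,0,2,3,2,0,2,3,3,0,3,4,2,0,3,1,0,1,1,3,0,4,3,1,2,3,1,4,2,1,3,2,2,0,0,0,2,1,3,4,3,1,0,4,1,3,1,3,1,3,0,0,0,4,2,1,0,2,3,4,1,0,1,4,4,4,1,2,2,4,4,4,4,4,2,3,1,3,1,2,3,1,0,4,2,3,3,3,3,4,3,2,2,2,4,2,4,1,3],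
 [0,3,0,1,3,2,0,2,2,0,0,3,0,0,3,3,4,2,1,4,2,3,3,2,3,4,1,1,3,1,1,2,1,0,3,2,3,2,2,2,3,4,0,1,4,1,2,1,1,3,4,0,4,3,1,3,3,2,3,0,0,3,4,3,1,3,3,4,0,0,1,1,3,3,0,0,4,4,0,4,2,2,4,1,1,4,0,0,4,3,4,1,3,0,1,2,3,4,4,2,0,2,4,2,0,1,2,0,2,2,1],
 [2,0,0,1,4,1,3,3,2,2,2,1,1,1,4,4,2,0,0,1,2,2,4,2,4,0,2,0,0,3,4,4,3,1,1,3,0,3,4,2,0,2,3,1,4,4,1,0,3,0,1,4,3,3,2,1,2,1,0,2,2,1,0,1,2,0,2,1,3,3,3,0,2,1,1,3,1,3,4,4,1,3,1,4,4,0,3,2,3,2,4,2,1,4,3,0,0,0,2,4,2,0,3,4,1,4,4,4,0,3,4],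
 [4,2,2,3,2,1,2,0,3,4,0,1,2,3,4,1,3,4,3,1,1,2,1,4,4,3,2,3,3,0,0,2,1,0,2,2,1,0,2,1,1,1,3,4,4,3,0,4,0,4,4,1,3,3,3,1,3,3,0,2,2,1,2,3,4,2,1,2,2,0,3,4,4,3,4,0,0,1,2,0,2,4,2,3,0,2,1,0,1,0,3,0,2,2,1,4,4,1,2,0,2,0,3,1,4,3,2,4,4,3,3],
 [3,0,3,2,0,4,3,4,2,4,3,0,2,2,0,4,1,1,1,3,0,4,0,2,3,3,4,4,0,0,0,3,0,2,0,4,2,3,3,2,3,3,0,3,0,1,4,3,4,0,2,1,3,1,4,1,0,3,1,0,2,1,4,3,4,0,1,4,0,2,0,0,3,3,4,0,1,4,4,4,3,2,1,0,4,4,1,3,3,3,2,2,3,0,0,2,3,4,0,0,3,3,2,4,4,4,4,3,1,1,1],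
 [3,4,3,3,2,4,0,2,4,0,3,0,0,4,1,2,4,1,2,1,2,1,3,3,0,3,2,0,0,0,3,0,4,2,4,1,4,0,1,2,1,1,0,4,4,1,1,1,4,0,2,0,2,4,1,1,1,3,0,3,1,1,1,0,0,0,1,4,4,2,1,0,0,3,1,1,2,1,0,1,2,1,3,4,4,3,1,2,1,4,0,0,1,1,4,3,3,4,1,0,0,2,2,3,0,1,0,4,4,4,1],
 [2,2,1,0,1,4,0,2,4,0,4,0,0,0,2,3,0,1,1,1,4,3,1,2,4,2,1,0,1,4,1,1,2,0,4,0,3,1,3,3,0,1,3,2,1,3,2,1,0,2,2,0,2,0,1,4,3,1,1,3,3,0,2,4,2,4,4,2,0,1,2,4,1,2,4,2,4,3,4,3,3,2,0,4,0,0,4,1,0,3,0,1,2,0,3,0,1,1,0,3,0,0,3,1,4,4,2,3,3,4,4],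
 [0,2,2,2,0,1,0,2,0,2,2,0,0,4,1,3,3,4,2,4,0,2,1,1,1,1,2,0,2,2,4,2,2,4,4,0,1,2,0,2,1,3,0,2,2,3,4,1,4,1,1,3,2,0,3,1,1,1,2,2,1,3,2,0,3,2,2,1,0,2,4,4,4,4,1,4,3,0,4,4,0,3,4,0,4,3,3,0,2,2,3,1,3,1,3,1,3,2,0,4,3,3,3,1,4,3,1,0,0,4,4],
 [3,2,4,4,0,0,4,1,1,2,4,4,3,4,0,0,4,2,0,4,3,3,2,4,2,4,3,4,2,2,2,3,2,0,0,1,4,2,1,4,0,0,2,3,3,0,4,3,3,2,4,1,3,1,2,3,2,1,2,0,1,2,4,0,0,2,4,0,3,2,1,0,3,4,2,4,2,1,0,2,2,3,0,1,4,1,0,4,0,2,0,4,4,3,3,1,3,3,2,2,1,2,4,3,0,4,1,1,3,0,3],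
 [1,4,3,4,2,0,1,0,3,4,1,1,4,0,0,1,1,3,0,3,1,4,2,0,3,4,0,2,4,4,3,1,4,1,1,1,3,4,4,1,3,0,2,0,0,3,3,3,4,1,3,2,4,4,0,4,2,1,4,2,1,4,3,3,1,1,3,1,3,0,2,2,1,2,0,1,3,4,4,1,1,2,2,0,4,3,4,2,0,3,4,2,4,1,3,3,0,0,1,1,1,0,4,0,1,3,4,2,0,4,3],
 [2,2,1,2,0,3,3,2,1,2,1,0,0,4,0,2,3,0,1,2,4,4,4,1,4,3,4,4,3,0,2,3,4,4,0,4,0,3,0,0,3,2,3,1,1,3,1,0,0,0,4,4,3,2,3,3,2,0,4,1,4,4,4,1,3,3,0,2,4,2,3,0,2,2,0,0,4,3,3,1,2,3,2,4,2,0,3,0,3,0,0,2,2,1,0,2,1,3,2,3,2,0,2,0,0,2,4,1,2,4,1],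
 [4,4,3,4,3,1,0,1,0,0,0,1,4,1,4,3,1,3,3,2,2,4,2,0,2,3,3,4,1,0,1,1,3,2,1,3,4,0,3,3,1,2,0,3,4,3,1,3,0,1,2,2,4,0,0,2,1,3,3,2,3,0,1,3,0,3,1,0,3,0,3,2,0,3,2,4,1,0,1,0,4,0,2,3,0,4,0,2,3,1,4,4,1,3,1,3,4,0,1,0,0,1,0,4,3,0,1,4,4,1,1],
 [2,0,1,0,2,3,0,3,3,3,2,0,4,3,3,2,1,0,3,2,1,0,0,4,4,4,3,4,4,4,1,3,0,3,2,1,4,1,1,0,3,1,0,2,1,4,2,0,0,0,0,0,1,2,1,1,1,3,0,3,3,0,1,2,0,4,4,0,1,0,3,3,1,0,2,1,0,3,0,0,0,4,3,0,2,1,2,0,0,2,4,1,4,0,3,4,3,0,3,0,2,0,3,0,1,2,4,0,1,2,0],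
 [2,2,2,0,3,1,0,1,4,4,2,2,3,4,1,2,3,4,3,3,4,0,3,2,3,2,3,4,2,1,3,1,1,4,1,4,1,0,0,4,0,4,0,0,2,3,2,4,3,2,1,4,2,4,2,3,2,4,3,4,0,3,0,0,0,2,4,4,2,0,4,2,1,0,4,3,3,2,2,0,2,1,3,3,0,0,0,3,3,2,4,1,3,3,3,2,0,0,4,3,4,3,0,0,4,4,1,4,4,3,2],
 [0,3,4,3,0,0,1,1,1,1,3,0,1,0,3,0,0,0,2,2,0,3,0,0,2,0,2,3,1,2,4,3,0,4,2,1,0,0,1,0,0,4,1,4,2,2,0,1,4,4,4,1,4,2,0,1,1,0,2,1,0,3,0,0,1,4,3,1,1,4,4,3,0,0,4,1,2,0,4,1,0,1,0,0,1,0,0,3,2,0,0,2,4,1,2,4,1,3,0,2,2,2,4,2,2,4,3,2,0,1,4],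
 [4,0,1,0,1,2,3,1,2,4,3,2,3,3,0,4,3,1,2,2,0,2,4,0,3,4,3,4,2,0,0,3,1,1,3,1,4,0,4,4,3,2,4,3,1,1,0,1,1,0,3,0,4,2,0,3,3,1,1,1,2,1,1,3,3,4,0,1,1,2,3,1,4,2,4,4,1,0,1,3,4,1,2,0,0,2,2,1,4,1,2,3,3,1,3,3,1,4,4,4,3,3,0,3,4,2,1,3,3,0,0],
 [3,1,2,1,2,3,2,2,2,3,3,3,0,1,3,2,1,4,2,1,1,0,1,0,4,3,2,0,4,0,0,0,1,0,2,2,1,0,0,0,4,0,1,2,4,4,2,3,3,4,1,3,2,0,0,4,4,0,4,2,4,3,3,2,0,3,0,3,4,4,3,4,0,3,1,4,0,3,3,3,4,4,2,4,1,1,1,0,2,0,4,0,3,4,2,4,3,4,1,4,1,4,3,3,2,3,1,3,3,2,3],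
 [3,2,4,3,3,1,3,1,3,4,2,1,4,1,2,0,4,1,3,3,0,1,2,0,3,1,1,0,4,4,3,0,2,1,2,2,3,4,3,2,3,0,1,0,1,4,4,3,3,0,3,4,2,3,1,0,1,4,3,3,0,3,4,3,1,2,0,3,1,4,1,2,3,0,3,2,0,1,1,1,1,4,2,1,0,3,4,1,2,0,4,0,4,2,4,2,3,2,3,1,0,3,3,4,3,4,3,2,0,3,1],
 [0,2,0,1,4,0,2,1,3,0,0,0,0,3,0,0,1,1,4,0,2,4,2,1,4,1,0,0,2,1,1,3,2,0,0,2,4,0,0,1,4,0,0,4,4,1,1,1,3,3,4,1,3,1,4,0,4,0,3,3,2,0,4,0,2,3,3,2,3,2,3,0,1,1,1,2,3,2,2,4,0,1,3,2,1,1,4,2,2,3,3,2,3,0,4,3,4,3,4,0,3,3,3,4,1,0,2,3,0,2,2],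
 [0,1,1,2,1,0,3,2,4,2,4,1,0,4,0,4,0,4,4,3,4,4,3,0,2,1,0,3,0,0,4,3,3,2,0,0,2,0,2,3,2,0,3,3,4,4,3,2,0,1,2,0,2,4,3,4,4,3,0,4,1,2,0,0,1,1,4,1,0,0,1,0,2,0,2,3,2,0,1,1,3,1,1,1,2,0,1,0,2,4,1,0,0,3,1,3,4,2,4,4,4,0,3,1,2,3,2,2,0,2,4],
 [2,1,3,1,3,3,4,0,3,4,3,4,1,4,1,0,4,3,1,4,0,3,1,4,2,2,4,3,0,1,2,2,0,2,0,3,1,3,2,0,0,1,1,4,0,3,1,4,2,1,2,3,1,0,3,3,2,3,1,4,1,3,4,1,2,0,3,0,2,2,1,3,1,1,1,2,3,2,2,1,0,3,2,2,0,2,3,3,0,0,2,0,2,3,1,1,0,1,0,1,4,2,1,1,2,1,3,2,4,4,3],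
 [1,2,0,1,4,3,0,2,4,4,3,1,2,0,3,4,1,3,0,2,4,4,4,2,0,3,4,2,0,3,1,2,0,0,4,0,0,0,0,0,3,3,1,1,3,4,0,1,2,1,4,1,4,1,1,3,0,0,0,0,2,2,0,1,4,2,4,4,4,2,2,0,4,0,4,1,2,3,2,0,2,1,2,3,3,0,0,1,0,3,1,3,3,2,3,3,3,0,3,3,2,3,3,1,3,0,0,2,0,2,0],
 [2,1,3,2,2,1,4,4,0,2,0,4,4,1,4,3,2,2,4,4,3,2,3,3,3,4,3,1,2,1,0,0,1,1,1,0,1,4,0,0,0,3,2,2,3,3,1,4,4,4,0,4,3,3,2,0,1,4,1,3,0,4,4,2,4,4,2,1,4,4,2,2,1,3,3,3,1,0,1,1,2,4,2,2,1,1,3,0,3,0,2,1,0,2,0,1,4,4,1,0,2,2,4,2,0,1,3,2,4,0,1],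
 [0,0,0,0,0,0,0,2,4,3,2,1,0,2,0,3,2,2,4,1,0,4,4,4,0,4,1,2,1,4,2,4,0,0,3,4,0,1,4,3,3,4,1,4,2,0,3,4,2,4,2,2,3,2,3,2,4,3,2,2,2,2,3,4,4,0,2,3,3,1,3,2,2,2,3,1,4,2,3,1,4,4,0,1,2,1,1,4,1,2,3,4,3,4,2,1,2,0,0,3,2,0,0,4,2,0,3,0,1,4,0],
 [0,0,0,0,0,0,0,4,3,4,1,1,3,1,4,1,1,4,3,2,0,4,4,2,1,0,2,2,0,3,2,1,1,0,2,1,2,1,1,0,4,1,0,1,4,3,0,1,3,4,3,4,3,1,0,3,2,4,3,4,4,2,0,2,0,1,3,3,1,1,3,4,2,2,3,1,4,2,1,3,1,1,1,2,1,3,3,0,3,3,3,3,2,3,0,0,1,1,1,4,2,3,4,3,0,3,1,4,0,1,3],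
 [0,0,0,0,0,0,0,0,1,1,4,0,1,2,2,1,4,1,1,4,2,2,4,1,4,1,4,3,4,2,3,0,0,2,3,0,4,0,4,2,2,4,1,1,4,1,0,4,1,2,1,3,3,3,2,2,3,1,3,3,1,0,0,0,2,4,2,0,2,0,0,2,2,1,0,4,4,2,3,2,2,2,1,1,0,2,0,2,3,4,2,2,3,0,3,4,0,1,3,3,1,2,2,3,1,4,3,0,1,1,3],
 [0,0,0,0,0,0,0,4,2,0,0,4,2,1,1,4,0,4,2,1,2,1,2,2,0,1,0,3,0,2,0,0,0,1,3,0,4,0,4,2,1,1,0,0,1,3,0,1,4,2,2,4,2,0,2,3,2,4,2,2,3,3,0,4,3,3,0,1,2,1,1,1,4,2,3,4,0,0,3,1,3,2,2,3,4,0,1,4,3,1,1,2,4,1,3,1,2,2,1,3,0,4,0,2,4,3,3,3,1,0,4],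
 [0,0,0,0,0,0,0,4,1,4,1,2,0,3,0,2,0,3,4,0,1,3,1,3,4,0,4,3,1,4,2,3,0,4,2,4,3,4,1,0,4,3,1,1,3,2,1,4,1,1,3,3,3,1,0,2,4,0,3,1,2,3,1,0,1,0,2,4,0,1,4,4,2,2,3,4,3,0,3,2,1,4,1,2,2,3,4,1,1,0,3,4,4,0,0,0,0,3,3,1,4,2,0,3,2,0,2,2,3,2,2],
 [0,0,0,0,0,0,0,3,4,0,0,1,1,4,3,1,0,0,2,2,4,3,3,4,1,2,2,0,1,0,0,1,0,3,3,3,2,1,4,4,0,3,1,2,4,0,3,2,0,0,0,1,4,0,4,0,2,4,3,1,4,0,2,0,0,3,3,4,2,2,0,2,2,2,1,0,4,1,4,2,1,4,4,1,1,0,1,1,4,1,1,1,1,4,1,0,0,1,1,3,0,2,0,2,2,4,3,2,1,0,0],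
 [0,0,0,0,0,0,0,0,2,2,3,4,0,3,4,4,0,0,1,2,0,1,0,3,0,2,3,4,1,1,2,4,1,0,4,2,4,1,2,4,0,1,4,4,1,0,0,1,1,0,2,4,0,1,4,4,1,3,1,4,3,1,0,2,0,4,0,0,3,0,1,4,4,2,0,2,1,1,4,0,4,2,2,2,2,4,1,4,1,3,0,3,1,0,1,3,1,1,0,2,3,0,2,1,0,1,0,0,3,4,0]
]

/-- named matrix 10 -/
def nm10 : List (List ℕ) := [
 [2,1,0,1,4,0,0,0,0,2,0,3,3,3,1,3,2,3,4,0,4,2,3,4,0,2,2,4,2,0,0,4,3,0,2,0,1,0,0,3,2,2,0,1,0,3,1,4,2,0,2,0,2,0,2,0,1,4,0,0,2,1,0,3,2,3,3,2,4,2,0,3,2,4,2,3,0,3,2,1,1,4,4,3,4,1,4,3,0,3,1,3,1,1,4,1,1,4,1,3,0,1,2,3,4,2,4,3,0,2,0],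
 [4,3,2,1,0,3,1,1,2,0,4,4,2,1,2,0,2,2,4,0,4,0,4,0,2,0,4,2,4,3,4,0,4,3,4,3,4,0,3,3,3,1,3,4,1,0,2,1,3,1,4,0,1,3,1,2,1,1,0,4,3,4,3,2,4,0,0,1,2,2,0,0,2,3,2,4,3,4,4,2,3,2,4,1,3,1,3,3,1,3,1,3,2,3,2,0,4,4,3,3,3,4,0,1,3,0,1,3,3,4,0],
 [2,1,0,2,3,4,2,2,3,3,3,1,4,2,1,1,0,0,2,2,3,3,0,3,2,0,4,3,2,2,2,4,4,4,0,0,2,3,3,4,0,2,4,1,0,0,2,3,4,3,1,0,1,4,4,2,2,0,1,4,2,3,3,4,0,3,4,3,2,1,4,2,2,4,3,1,4,3,1,2,0,3,2,4,4,3,1,2,3,2,3,0,1,3,2,1,3,0,0,1,2,0,3,2,3,0,2,3,3,4,3],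
 [3,4,2,3,2,0,1,4,3,4,1,3,4,4,1,3,4,2,4,3,2,2,0,3,4,4,3,0,0,3,1,1,2,2,2,0,4,2,2,0,2,2,1,1,0,2,2,4,2,3,0,1,2,4,0,3,1,4,0,0,0,3,0,1,3,3,3,1,3,4,3,1,4,4,3,3,0,3,0,3,0,4,1,1,2,2,2,2,3,0,2,1,0,4,3,3,3,2,4,1,2,1,0,0,1,4,4,3,4,2,0],
 [3,1,2,3,2,0,0,2,4,3,4,2,3,3,0,0,1,1,4,2,2,4,2,0,2,0,4,3,1,1,3,1,3,1,4,2,0,4,3,4,2,4,4,4,1,4,1,1,4,0,4,0,0,4,3,4,4,0,2,2,4,3,1,0,3,0,3,3,4,1,2,2,1,3,1,2,0,1,2,2,0,1,3,4,1,3,1,2,0,2,0,2,1,0,2,0,0,3,2,3,0,1,3,4,3,2,2,0,0,3,3],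
 [0,2,4,2,1,3,2,0,2,2,2,2,4,2,4,3,3,1,4,3,4,3,0,1,0,4,1,2,2,1,4,2,2,3,0,1,2,1,3,3,2,0,4,0,3,1,2,0,3,0,1,0,0,3,1,3,2,4,0,2,2,0,2,0,1,3,1,2,4,2,2,4,4,3,3,0,3,4,3,4,2,1,3,3,2,3,3,4,4,1,0,4,2,4,1,2,3,2,4,3,4,0,4,2,2,4,1,3,1,1,1],
 [4,1,4,1,1,3,2,2,0,1,4,4,1,3,3,3,3,2,1,3,0,0,4,1,1,4,1,4,2,0,1,3,1,0,4,0,3,4,4,2,3,3,2,4,1,4,1,3,1,2,4,3,3,2,3,4,4,0,0,1,0,0,3,0,4,4,1,1,4,4,4,0,4,3,0,3,4,3,0,0,4,3,0,3,3,4,2,2,4,4,0,4,2,1,2,1,4,1,1,4,4,4,4,2,2,0,1,0,0,0,3],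
 [0,1,4,0,2,2,1,2,2,4,4,4,2,1,0,2,2,4,1,3,4,4,0,1,1,1,3,4,1,2,2,4,0,4,4,1,3,4,2,1,0,2,2,3,1,0,3,4,2,4,4,1,3,4,0,0,3,3,0,4,4,3,2,3,3,3,3,1,2,2,0,4,4,3,2,3,4,3,4,1,2,0,1,3,4,4,0,2,3,3,3,1,0,3,1,3,1,0,4,2,0,1,2,3,4,4,0,1,1,0,3],
 [2,1,1,1,3,4,2,4,0,2,2,2,2,1,4,1,3,2,2,4,0,3,0,2,1,3,2,1,2,3,0,3,4,4,0,3,1,4,4,1,1,3,0,1,4,1,3,0,4,3,0,1,4,0,2,3,4,1,3,2,3,0,0,2,2,4,2,3,2,3,4,0,3,0,4,3,4,4,1,2,4,1,1,1,3,3,0,0,2,0,0,1,0,2,1,3,2,1,1,0,4,1,1,2,4,4,4,2,3,0,3],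
 [4,2,4,2,4,3,2,0,4,3,3,0,4,4,3,3,4,0,0,1,2,4,1,1,3,0,3,1,3,4,2,3,1,1,0,3,2,1,0,3,4,4,2,3,4,2,4,3,4,1,4,4,2,2,1,0,2,1,0,1,3,4,0,1,3,4,4,4,4,4,0,0,4,2,3,2,2,0,4,1,1,3,0,2,4,1,4,4,0,1,1,4,1,3,3,3,1,1,1,2,0,1,0,3,3,2,3,0,2,2,4],
 [4,4,4,3,2,1,0,4,1,0,0,2,3,1,1,0,4,1,4,1,4,0,1,0,0,4,3,2,0,2,0,0,3,0,2,3,1,2,3,3,4,3,2,3,0,2,2,4,3,4,2,2,1,1,1,2,2,0,0,0,4,1,0,1,2,0,1,4,4,4,0,1,4,0,4,4,4,3,2,3,3,0,1,0,0,2,3,4,1,2,3,3,1,2,3,0,0,1,3,0,0,4,1,2,4,0,0,1,2,1,3],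
 [0,4,4,0,3,1,0,4,0,4,2,4,2,3,2,3,3,4,2,2,0,0,4,4,1,3,4,1,1,4,0,0,2,3,1,1,2,4,0,3,0,4,4,3,4,0,3,3,0,3,1,1,2,2,1,1,2,3,0,4,1,2,4,1,2,4,4,2,1,1,2,4,4,3,1,3,0,1,0,1,1,4,2,1,2,3,3,1,1,1,1,1,0,0,0,1,1,4,0,0,3,4,4,1,1,0,2,4,1,2,3],
 [0,2,0,2,4,3,4,4,3,2,1,4,0,0,4,4,2,2,3,1,3,3,0,0,0,3,4,3,3,1,4,4,0,1,2,3,0,3,0,2,3,1,2,4,1,4,2,3,4,4,2,4,2,3,2,1,1,4,0,1,4,3,1,3,3,1,2,3,1,0,2,2,2,1,1,4,0,0,4,3,3,2,4,1,3,2,1,4,0,1,0,2,1,2,1,1,3,2,3,4,0,1,4,2,4,0,2,4,1,4,3],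
 [4,0,4,1,3,4,4,2,4,4,4,3,0,3,4,4,0,2,2,4,3,4,0,4,2,0,2,4,4,2,4,1,4,4,1,3,4,3,0,4,2,0,0,3,4,3,1,0,2,4,0,1,1,1,3,0,2,0,0,0,0,3,4,1,4,0,1,1,4,4,3,1,0,0,1,0,4,0,0,2,4,3,0,4,2,0,1,0,1,1,1,2,1,1,2,2,4,2,2,0,0,0,4,0,0,3,1,3,4,1,1],
 [0,2,2,2,1,4,4,0,1,0,3,2,3,1,1,0,1,3,4,3,4,0,1,3,4,4,0,2,4,1,3,3,3,0,0,1,3,1,4,1,3,2,3,4,2,4,4,2,1,2,1,4,1,3,4,1,1,0,0,4,3,4,3,4,1,4,4,1,0,1,3,2,0,3,4,0,1,0,2,4,2,3,0,2,1,2,2,4,1,4,3,1,4,2,1,1,3,4,4,0,4,3,1,2,4,4,1,3,0,4,0],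
 [3,4,0,4,1,4,0,3,2,3,4,4,4,4,1,1,3,3,3,4,2,1,3,4,4,2,1,4,2,1,4,0,2,1,4,0,2,4,3,0,2,4,3,2,2,2,0,2,2,3,3,2,3,0,3,3,2,3,1,2,2,0,4,3,1,3,3,2,4,4,3,0,2,1,3,3,2,3,3,4,0,2,3,4,3,3,2,0,2,1,4,0,4,4,0,1,2,2,3,3,0,0,3,2,0,0,2,1,4,3,1],
 [2,1,1,1,4,1,0,2,4,2,0,4,4,3,3,3,4,2,2,0,4,0,0,4,1,3,0,2,4,3,0,4,4,0,3,2,0,3,1,4,0,2,2,1,2,1,0,1,2,3,1,3,3,0,3,4,3,3,1,2,3,3,1,4,0,3,1,0,2,3,3,1,0,1,0,4,3,3,4,2,2,3,1,0,4,4,4,4,1,0,0,2,4,2,0,3,3,0,0,4,1,1,2,1,0,1,1,4,0,2,3],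
 [4,0,2,1,1,4,2,3,4,2,3,3,0,2,3,3,2,0,1,3,3,4,2,3,1,4,0,0,3,1,4,0,4,1,0,3,3,3,0,3,0,3,4,4,0,4,2,0,1,1,4,0,1,3,4,4,2,4,4,2,4,4,0,0,3,2,0,2,4,1,4,1,0,2,3,4,4,2,1,1,1,0,1,3,3,1,4,4,0,2,2,0,1,1,4,4,3,2,3,3,4,4,1,3,1,2,4,2,2,2,4],
 [2,0,1,2,0,0,0,3,0,3,4,4,3,0,1,3,3,4,1,2,3,0,2,2,1,4,1,2,2,2,3,3,0,1,2,3,4,4,0,3,4,0,4,1,1,2,3,4,0,0,3,3,2,4,3,3,0,4,3,3,0,4,0,1,4,4,0,3,0,3,2,3,4,2,4,1,2,3,1,4,1,4,4,1,0,2,4,1,0,2,2,2,3,0,4,3,3,2,2,2,1,1,1,0,1,1,3,4,4,4,1],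
 [4,0,1,2,3,4,1,4,3,3,0,4,1,2,4,4,0,0,1,4,3,0,4,0,2,0,4,4,2,2,2,2,4,4,2,0,4,0,2,0,4,1,4,3,4,3,1,3,0,2,1,0,3,1,4,3,0,2,0,0,4,0,0,1,2,1,1,0,0,0,0,3,1,4,0,2,1,0,3,1,1,1,0,4,4,1,3,4,0,0,0,1,4,4,0,3,3,4,1,3,1,1,1,4,0,0,0,4,2,2,2],
 [2,1,2,0,1,4,0,2,3,1,3,0,0,3,2,3,3,3,0,2,1,0,0,0,1,2,2,2,3,4,0,2,4,0,0,4,2,1,4,1,3,0,2,1,0,1,1,2,4,2,3,1,0,4,2,2,2,0,0,1,1,2,1,0,3,0,1,1,0,0,3,4,3,1,4,0,0,0,0,0,2,2,3,0,4,4,3,2,3,3,1,1,1,2,3,1,4,0,4,1,2,4,1,4,0,4,4,4,1,2,1],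
 [3,1,1,4,1,4,1,3,1,3,1,4,2,2,0,3,4,2,1,0,0,3,4,1,2,4,2,0,2,0,4,2,4,2,3,1,3,0,4,1,4,2,4,3,3,3,0,1,4,0,4,3,1,4,1,3,4,0,0,2,3,4,1,3,3,0,3,3,0,1,4,4,1,0,4,0,4,1,0,3,1,0,3,1,0,1,1,0,4,3,0,1,1,1,0,4,2,0,1,4,2,3,3,3,2,4,0,4,2,1,2],
 [4,0,0,3,4,2,2,2,3,0,4,3,4,0,0,4,0,4,0,0,4,3,2,2,3,4,1,3,1,2,4,0,1,3,1,1,1,3,2,3,1,3,0,0,2,1,4,3,3,2,0,0,0,0,2,3,2,1,0,2,1,3,1,4,1,2,4,2,0,2,2,3,0,3,4,2,2,2,4,1,4,4,1,1,2,1,2,2,0,2,3,1,2,1,2,0,0,1,4,1,0,0,2,3,0,1,1,2,0,3,0],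
 [4,1,2,1,2,4,4,0,2,3,2,2,0,2,0,0,1,2,4,2,4,3,2,2,4,4,0,3,3,3,1,1,2,0,0,2,4,1,2,1,4,0,0,4,2,3,3,4,4,2,0,0,1,4,0,2,0,1,1,0,3,0,2,4,0,2,0,1,1,2,3,4,1,1,1,0,4,0,4,2,4,3,3,2,3,2,2,2,2,3,0,2,2,4,3,0,0,3,4,4,1,1,0,0,3,1,2,3,4,0,2],
 [2,0,0,2,3,1,3,2,0,0,3,0,0,4,1,0,2,0,1,2,2,2,1,1,0,0,2,1,2,3,3,4,4,4,4,2,0,0,2,4,0,1,3,2,2,4,4,4,0,1,4,4,2,3,2,2,1,3,0,3,4,4,0,0,4,4,4,2,3,1,1,0,2,3,2,4,4,1,1,4,2,2,4,3,2,3,2,4,3,2,0,2,4,4,3,1,1,4,0,0,4,2,1,3,1,2,1,1,2,4,0],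
 [2,3,0,0,4,2,3,4,3,0,3,2,3,0,0,0,2,2,1,3,2,2,3,0,2,2,4,4,1,4,4,2,4,3,3,1,2,1,1,4,1,3,0,4,3,1,3,4,1,4,0,4,0,3,3,0,3,3,4,3,1,2,0,4,1,2,2,3,1,3,0,1,0,1,3,1,1,1,4,4,3,2,0,0,3,3,1,2,3,0,1,1,1,2,3,1,1,4,0,4,2,4,4,0,4,4,2,0,4,1,0],
 [3,3,2,0,1,3,3,2,4,3,0,1,3,3,1,0,0,4,1,4,3,2,0,0,4,1,0,4,2,2,3,1,0,1,2,3,0,4,3,4,3,1,0,3,3,4,1,0,0,4,2,2,2,1,1,0,4,0,1,2,4,4,2,4,1,2,3,3,2,3,3,2,4,0,0,0,4,2,4,0,4,4,4,3,2,4,2,3,4,0,2,2,4,0,1,0,2,2,2,4,3,2,0,2,3,1,0,2,3,2,1],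
 [3,3,4,1,0,4,0,3,1,4,4,3,2,4,1,3,0,0,2,2,3,1,1,0,0,3,2,1,4,4,2,3,0,1,4,4,2,3,4,1,0,2,2,1,1,0,2,0,4,2,2,1,1,4,3,4,3,1,0,3,1,3,1,4,0,3,3,1,1,1,0,0,4,1,0,0,3,0,3,2,1,3,0,3,4,3,3,0,2,2,3,4,0,1,2,0,0,0,4,3,2,4,4,4,4,0,1,4,2,1,2],
 [1,1,3,1,3,4,1,1,2,4,0,3,4,4,1,0,1,0,2,2,0,3,4,1,4,2,3,3,3,0,3,2,2,1,4,0,2,3,2,0,3,3,4,2,0,4,2,1,4,4,0,2,0,1,0,1,4,1,4,3,1,4,4,3,1,4,1,0,3,2,4,3,2,4,3,1,4,4,0,1,0,2,4,0,2,2,3,2,0,4,2,0,2,4,2,4,2,4,4,4,1,4,4,0,0,2,4,2,3,1,1],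
 [0,3,2,2,4,0,2,0,2,1,3,0,4,0,3,1,4,3,1,3,0,4,1,1,1,1,4,2,1,3,2,1,3,3,4,2,4,3,0,2,4,3,0,3,4,1,0,1,4,0,1,2,2,1,0,4,1,3,1,3,0,3,2,0,3,2,2,3,0,1,1,4,3,3,3,2,2,3,3,3,3,3,2,4,3,1,2,2,4,2,1,1,0,1,4,1,3,0,0,2,0,3,1,1,2,4,0,2,4,4,0],
 [0,3,4,0,4,4,3,4,1,2,2,2,2,4,2,4,1,0,0,2,2,1,1,2,2,4,0,2,4,1,3,4,0,0,1,2,0,2,4,2,1,3,3,4,4,1,4,2,2,4,1,3,0,3,1,0,3,3,2,3,4,2,1,0,3,0,0,3,3,2,0,1,2,0,2,2,0,4,2,2,4,0,4,0,1,3,2,3,3,0,1,1,0,1,0,3,0,0,4,3,3,1,2,3,1,4,3,4,2,3,1],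
 [1,1,2,4,0,4,4,0,4,0,0,2,2,0,3,0,3,0,1,4,1,2,2,3,2,3,4,2,2,2,1,4,1,4,4,3,1,0,2,3,3,2,4,1,2,1,3,4,1,3,2,2,0,4,2,1,3,4,1,2,4,0,1,4,4,4,1,3,2,3,3,1,4,3,4,4,4,4,2,1,1,2,4,1,1,2,3,1,2,2,3,2,3,0,1,4,2,1,1,4,0,4,0,2,0,4,0,2,3,0,2],
 [2,2,2,4,0,4,4,1,3,2,2,3,2,3,2,2,3,3,0,3,1,3,4,4,4,1,1,2,0,0,1,1,4,4,2,3,0,1,3,1,4,0,1,0,2,4,3,4,0,0,1,2,1,0,4,3,3,4,1,1,3,4,4,1,2,1,1,4,4,1,3,0,1,4,4,3,0,0,4,1,3,1,1,0,2,0,0,3,0,0,2,1,0,2,3,1,0,2,1,2,4,0,3,3,2,3,1,4,0,1,4],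
 [4,0,3,1,0,2,2,2,0,2,3,0,2,3,3,2,3,0,1,0,0,1,3,2,0,2,3,2,3,2,4,1,4,2,2,2,1,3,2,3,4,0,0,2,2,3,2,0,2,2,4,1,1,0,1,2,4,0,1,2,4,3,2,1,4,1,0,1,3,3,2,2,2,1,1,1,0,4,1,1,2,3,1,1,3,2,1,2,2,4,0,3,2,0,2,0,2,3,1,1,3,2,2,1,0,0,0,4,0,3,3],
 [1,3,4,0,2,4,2,3,3,1,1,0,0,0,2,2,0,4,3,1,4,0,3,0,3,0,1,2,0,4,1,0,2,1,3,3,3,4,2,0,3,3,3,3,4,2,4,2,2,3,4,3,4,0,0,3,2,4,0,2,1,4,3,4,0,4,1,0,4,3,1,3,0,4,1,3,3,2,3,0,1,2,2,0,1,4,3,4,3,2,1,3,4,3,3,1,4,4,2,3,0,2,3,1,2,4,3,2,2,2,2],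
 [0,1,1,1,3,2,1,2,2,3,1,0,3,0,1,1,1,4,1,4,2,2,0,2,3,2,2,2,3,1,4,2,1,2,0,1,4,2,4,3,2,0,2,1,4,3,4,4,2,1,0,4,4,2,0,0,1,4,4,3,3,2,1,4,1,1,1,0,0,0,4,4,4,0,1,0,2,0,2,4,2,2,2,2,1,1,2,4,2,3,3,4,0,1,3,0,4,1,0,2,4,3,1,0,1,4,0,4,0,4,3],
 [2,1,0,2,2,3,4,2,0,0,3,4,0,3,4,3,3,4,0,3,3,4,2,2,2,1,3,4,4,3,1,1,3,2,1,1,4,1,0,3,2,3,4,0,2,0,3,3,1,2,4,1,1,2,4,2,3,1,0,3,0,2,4,0,1,0,0,1,3,1,2,4,4,1,2,3,0,0,2,2,1,2,3,4,4,3,0,3,0,3,3,2,0,1,1,1,2,4,1,4,0,2,3,1,1,3,4,1,1,0,4],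
 [2,0,4,2,4,0,4,2,4,2,1,2,1,0,3,1,1,3,0,2,0,0,2,0,0,0,0,1,2,3,1,3,2,2,2,1,2,4,0,1,0,0,3,1,4,2,4,2,3,0,0,0,4,0,2,0,1,0,1,3,2,1,3,0,4,4,1,1,3,4,0,2,0,4,3,1,2,4,2,3,0,4,1,4,4,4,2,2,2,0,3,1,2,3,0,4,3,1,3,3,1,0,2,2,4,1,4,0,0,3,4],
 [4,0,3,0,4,0,4,3,1,4,1,4,1,2,4,2,4,2,3,2,2,2,4,0,2,1,1,1,3,3,0,0,3,2,4,1,3,2,1,4,4,3,2,3,2,3,3,4,3,0,3,1,3,1,4,1,3,2,1,2,2,3,2,3,3,3,1,0,2,1,4,4,1,0,4,2,0,2,4,3,1,1,3,0,3,2,3,3,3,0,4,4,0,1,0,1,3,1,3,2,3,3,3,4,4,3,1,0,2,4,1],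
 [4,1,4,0,3,2,0,0,3,1,1,0,3,3,4,4,2,2,3,0,1,1,2,3,3,4,0,2,4,1,1,2,2,0,2,2,4,4,0,4,2,0,4,4,4,3,0,0,0,2,2,1,0,4,4,3,2,1,4,4,2,3,1,3,2,3,2,0,4,0,4,3,3,1,4,4,1,3,2,2,4,4,0,4,1,2,4,0,2,3,2,2,3,2,2,1,4,3,3,2,4,3,3,3,2,3,3,3,0,1,2],
 [3,3,2,3,2,3,3,0,2,3,3,1,1,0,4,1,2,0,0,2,3,4,0,3,2,1,4,1,4,4,3,1,4,3,2,4,1,2,1,3,0,4,3,1,3,2,4,4,2,0,0,0,4,3,4,1,0,2,0,4,3,2,2,1,3,1,0,3,2,1,2,1,3,3,1,4,1,1,2,0,1,2,1,3,4,2,0,4,1,4,2,3,3,4,1,1,1,4,2,2,1,3,1,1,3,1,1,4,3,2,2],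
 [1,2,1,2,1,3,4,4,1,3,2,0,0,1,3,1,1,0,1,3,3,3,3,1,1,4,3,3,0,0,1,1,2,2,0,2,3,2,3,3,1,4,1,2,0,2,0,1,2,2,2,0,4,1,2,1,1,1,3,3,0,3,0,0,3,2,1,0,0,0,1,4,1,0,3,4,2,4,2,2,4,4,2,3,1,3,4,1,0,0,3,2,1,4,2,4,4,4,4,3,0,1,0,4,1,2,2,3,4,2,1],
 [1,2,0,4,0,0,4,4,0,0,3,0,1,3,4,2,2,3,2,1,1,4,3,4,3,2,2,0,1,4,3,0,3,3,4,2,3,2,0,0,1,0,0,4,3,0,4,4,0,3,2,1,2,1,2,4,0,0,2,2,4,1,3,1,0,3,4,0,1,2,0,3,3,0,3,0,2,4,0,0,3,0,0,3,0,4,4,2,1,4,3,1,1,3,1,0,3,3,0,0,2,0,2,3,1,0,1,2,3,0,3],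
 [2,1,3,0,1,0,4,3,3,2,4,2,0,1,0,3,0,1,2,1,4,3,2,4,4,3,2,1,2,2,3,4,1,0,4,3,4,1,1,0,3,2,3,1,3,0,1,1,2,2,2,3,4,0,4,4,0,1,3,4,2,0,3,0,2,1,3,3,3,0,3,3,0,2,1,1,0,4,2,4,0,1,1,1,1,4,4,4,0,0,0,1,3,1,4,4,1,0,2,4,0,1,3,1,2,1,4,2,1,3,3],
 [1,4,4,4,4,4,4,4,3,4,4,1,3,0,2,2,3,1,2,1,3,4,2,4,4,0,1,4,1,2,2,4,1,2,4,1,4,2,4,4,0,4,4,1,3,1,3,0,0,0,3,2,0,0,1,0,2,1,3,4,1,1,3,1,0,1,2,1,4,0,2,3,2,0,0,2,2,1,4,4,0,0,4,0,3,1,3,3,1,3,2,1,1,3,3,4,0,4,0,2,2,4,3,3,2,1,1,1,3,2,2],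
 [3,4,4,3,2,0,4,1,3,1,1,2,1,4,3,2,0,1,2,3,0,2,3,4,4,1,3,0,1,4,0,3,1,4,0,0,1,2,0,2,0,1,3,0,2,1,4,0,0,2,0,3,0,3,2,0,3,2,1,4,0,3,3,1,2,3,1,1,2,2,2,3,2,2,4,0,1,2,1,1,4,4,3,1,2,1,0,4,1,4,3,2,2,3,4,0,3,0,1,1,1,2,2,3,0,2,2,2,0,2,2],
 [1,0,3,2,0,3,3,4,3,0,3,2,2,2,4,0,3,1,4,2,1,2,1,4,2,2,4,1,3,4,0,1,1,4,4,1,1,4,0,3,2,1,3,3,3,4,2,2,3,3,4,4,3,3,2,0,1,1,2,2,3,4,1,0,0,3,0,0,4,4,0,3,0,3,0,3,0,0,4,0,1,3,2,4,3,0,2,4,1,0,2,0,4,2,2,0,1,3,1,1,2,1,0,2,2,0,1,0,0,3,0],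
 [0,0,1,3,1,3,2,4,3,0,2,1,1,2,2,0,3,0,2,2,3,0,3,4,3,1,1,3,1,2,3,4,0,2,0,0,4,3,4,0,2,2,4,3,3,4,0,0,3,4,3,1,1,3,1,3,3,2,1,0,4,4,4,1,1,1,2,0,0,0,1,1,4,0,1,4,3,2,4,3,3,1,1,3,1,3,1,4,2,2,3,0,0,4,4,2,0,1,1,3,2,2,2,3,0,4,0,1,1,4,1],
 [4,2,4,3,2,4,1,4,2,4,1,3,2,0,0,2,3,1,1,4,4,4,2,4,0,0,0,0,3,3,1,1,3,2,3,0,0,1,2,1,1,4,1,0,2,3,0,0,4,3,0,0,2,0,1,1,0,2,0,1,4,0,2,1,1,1,2,4,2,4,2,1,3,0,2,1,0,1,4,3,3,3,3,2,2,1,1,1,1,4,4,0,0,1,1,0,0,4,3,0,2,0,2,1,3,3,1,3,4,4,4],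
 [4,0,3,2,2,4,1,2,3,4,4,0,4,4,1,3,0,1,4,0,3,3,4,1,0,2,4,4,3,3,3,2,4,2,3,1,1,4,0,4,4,1,2,2,2,4,3,0,2,3,3,2,2,1,0,0,4,1,4,1,3,4,3,2,3,0,4,1,2,1,0,2,1,2,1,1,0,1,1,0,3,2,0,1,0,1,2,3,0,3,2,4,1,2,4,0,4,2,0,0,3,2,1,3,0,0,4,1,1,2,2],
 [3,4,4,2,4,1,4,3,4,0,2,3,2,2,0,0,4,0,0,2,2,1,3,2,3,0,1,0,3,2,0,2,3,3,3,1,4,2,4,0,3,3,3,2,3,4,2,4,1,4,2,3,1,3,1,1,1,3,0,0,3,4,4,3,2,0,2,2,1,4,0,1,0,0,1,4,1,4,4,2,0,2,2,2,1,4,4,1,2,1,0,0,4,0,1,1,3,1,0,2,4,2,3,4,2,0,0,1,1,0,0],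
 [2,2,0,0,2,3,4,0,2,2,3,2,0,4,2,3,2,1,0,1,1,1,3,2,1,3,1,0,4,3,1,4,4,0,2,1,0,2,0,2,0,2,3,1,0,0,0,4,2,3,1,0,1,1,3,3,4,1,4,2,4,0,4,4,2,1,3,4,0,0,0,1,2,1,4,2,2,1,3,4,0,2,0,4,1,1,2,0,1,2,4,0,3,1,1,4,3,3,0,4,1,3,0,3,1,4,3,0,3,4,4],
 [3,1,0,0,2,1,3,1,3,0,0,0,4,1,0,1,4,4,2,4,0,1,2,0,0,2,1,4,4,1,1,3,2,1,2,1,2,1,0,4,3,3,3,4,0,0,4,1,0,4,3,4,0,3,4,3,3,2,3,2,4,3,2,4,4,1,4,4,0,2,2,1,0,2,0,3,1,0,3,2,1,3,0,2,3,3,1,4,2,1,3,1,2,4,0,1,3,1,4,4,0,3,3,3,4,1,1,0,3,3,3],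
 [1,3,0,4,3,4,1,3,4,1,4,2,4,4,4,0,0,0,2,2,2,2,2,1,2,3,2,3,4,0,3,3,2,1,1,3,3,2,4,1,0,0,1,1,4,0,2,1,1,3,2,4,0,0,4,4,2,0,3,0,2,4,3,4,3,1,4,2,2,3,1,2,3,1,2,1,3,0,4,3,1,3,0,3,4,1,4,2,4,3,4,1,3,2,4,1,0,1,1,2,4,3,1,2,1,1,3,3,2,3,1],
 [2,2,2,4,2,2,0,1,4,1,2,3,4,2,0,2,4,3,0,1,2,3,0,3,3,2,0,2,1,4,1,4,3,2,2,3,1,2,3,4,1,1,3,3,3,3,1,0,0,4,3,2,4,2,1,2,3,2,1,0,1,3,3,4,3,4,3,2,2,4,2,3,1,0,3,3,4,4,2,4,1,1,0,2,2,0,2,4,0,0,3,0,4,1,3,3,1,4,0,3,1,3,4,0,2,4,4,4,1,1,2],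
 [0,1,3,1,2,1,4,4,4,4,1,3,2,0,1,4,2,1,0,2,3,3,0,3,4,3,3,2,4,0,1,0,2,0,4,4,2,4,1,1,3,2,0,0,2,4,3,2,2,0,0,2,2,0,2,0,3,3,4,2,1,2,3,2,0,0,2,4,0,2,4,1,2,4,2,3,2,1,4,4,1,4,2,4,2,4,0,3,1,0,4,1,0,1,4,1,2,1,2,1,4,1,1,1,0,1,3,1,4,3,3],
 [0,1,2,4,3,1,0,1,0,3,4,1,3,0,3,2,1,0,2,4,2,3,1,1,3,0,4,2,4,4,2,3,2,2,2,0,4,0,4,3,4,0,2,4,2,0,3,4,3,2,3,1,0,3,2,4,4,3,0,4,1,1,1,3,2,4,0,4,1,3,3,0,0,4,4,0,3,2,1,4,0,0,3,2,3,0,3,3,0,4,3,2,0,0,1,0,4,4,4,3,4,1,0,1,1,4,2,0,3,2,2],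
 [1,1,3,1,2,4,0,2,3,2,1,0,4,4,3,2,0,0,4,1,1,0,2,2,0,3,4,2,0,1,3,4,2,3,1,0,1,4,2,4,0,2,2,2,2,0,1,0,1,1,1,0,2,1,0,2,2,1,1,1,1,1,0,2,0,4,3,3,0,2,3,2,1,4,3,3,4,4,4,4,4,4,3,0,1,2,0,1,4,1,0,4,4,4,3,2,2,1,3,4,4,1,4,0,1,2,4,2,4,3,2],
 [1,1,0,4,3,4,2,1,0,4,1,0,2,2,4,4,2,0,4,1,0,0,1,4,2,2,0,1,1,3,1,2,3,1,3,0,4,0,1,1,3,2,0,3,4,0,4,4,3,4,4,4,0,2,1,2,0,2,3,1,4,3,0,1,0,1,0,2,3,0,0,0,1,3,4,4,2,4,4,0,4,4,2,1,3,0,3,3,1,3,1,2,0,2,3,3,4,0,4,2,3,4,4,0,0,1,0,0,4,0,1],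
 [1,4,0,4,2,2,1,0,2,1,1,0,1,2,0,4,3,4,1,1,4,4,2,2,0,2,4,2,2,0,1,0,3,0,3,2,2,3,4,0,0,3,4,3,1,2,2,3,0,0,2,4,3,3,2,0,0,4,0,4,4,3,1,2,3,4,3,4,3,2,2,2,2,1,3,4,3,3,0,4,0,2,1,1,0,1,4,3,3,3,1,0,0,3,4,4,1,3,3,2,2,2,0,2,1,1,0,3,3,0,3],
 [1,4,0,1,3,4,1,4,0,2,0,3,1,4,3,0,1,4,4,3,4,3,2,2,3,3,0,2,4,4,2,3,4,4,4,0,0,2,0,1,3,4,1,0,3,1,2,1,4,4,0,3,1,4,3,3,2,2,1,0,2,3,3,1,1,0,3,3,4,1,3,1,2,4,0,2,2,3,1,3,2,0,0,4,3,4,0,3,0,0,3,3,1,1,0,4,1,0,3,1,1,2,0,0,4,4,4,4,0,4,1],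
 [0,1,0,3,3,1,3,1,4,0,2,3,1,0,4,3,4,1,3,3,0,3,1,1,0,2,1,4,2,4,3,1,3,0,3,2,1,4,1,0,2,4,1,1,2,4,0,2,1,2,1,2,2,1,4,3,1,1,2,4,0,4,4,1,0,4,3,0,0,0,1,1,1,4,3,0,2,0,4,2,1,1,4,1,4,4,4,0,0,3,1,4,3,1,3,0,2,4,4,0,0,3,2,2,4,0,0,1,1,1,2],
 [4,2,2,1,0,4,0,1,0,4,0,4,1,3,1,0,2,3,0,2,4,4,3,4,1,3,3,3,2,4,4,2,2,1,3,0,3,1,4,0,3,2,1,4,2,1,2,0,1,1,4,1,3,3,3,0,4,3,2,4,3,2,1,0,0,0,1,0,4,0,3,1,1,3,4,1,3,4,3,0,2,1,2,3,2,2,3,2,3,3,2,0,1,2,3,3,1,4,2,0,4,2,3,2,4,4,3,0,2,0,1],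
 [3,4,4,0,0,1,2,4,3,1,2,1,4,3,3,2,0,0,3,2,0,0,4,4,2,0,0,1,1,2,4,0,0,0,1,0,0,2,1,1,0,0,4,1,2,4,4,3,1,0,1,0,4,4,3,0,3,1,0,2,0,3,3,2,1,2,4,2,2,2,3,4,2,0,2,3,1,0,0,1,4,2,1,0,1,1,2,4,4,3,0,1,1,4,3,4,1,3,3,4,2,3,1,1,2,3,2,1,4,1,3],
 [1,2,0,1,3,3,1,3,1,2,4,3,2,3,3,1,1,1,2,3,1,3,3,4,0,1,4,0,4,3,0,2,2,4,4,2,2,0,1,1,4,4,2,3,2,4,1,0,0,2,0,3,0,0,3,0,3,3,4,3,0,4,3,1,0,4,0,3,4,1,3,4,4,3,0,0,0,0,0,4,2,4,0,0,3,2,3,4,1,4,3,1,1,2,4,1,1,2,0,4,4,2,3,1,4,3,3,3,2,0,2],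
 [3,3,0,1,2,4,4,1,4,4,0,4,0,4,1,4,2,0,3,3,4,2,3,1,2,2,1,0,4,1,4,4,2,3,2,1,4,4,3,3,0,3,2,1,1,1,4,4,3,1,1,2,4,0,2,0,1,3,0,0,0,1,4,0,2,1,4,3,3,3,1,1,0,3,0,3,1,0,0,4,2,2,2,2,3,3,4,3,3,1,1,0,4,2,0,1,3,4,1,0,3,4,3,2,2,4,3,3,2,2,0],
 [4,2,2,0,1,1,1,1,2,3,1,1,2,0,0,4,0,2,0,2,4,3,4,3,3,1,1,2,3,3,0,0,3,4,0,0,2,3,3,2,4,3,1,0,3,1,2,0,4,2,2,2,3,3,2,3,3,1,0,1,4,1,3,3,1,0,2,4,3,2,0,3,3,4,1,4,0,0,0,0,0,4,3,0,4,3,4,3,1,1,3,3,3,0,2,2,3,3,3,2,0,4,3,3,4,3,2,2,0,1,0],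
 [2,4,2,3,2,4,1,3,2,3,0,3,4,3,0,2,2,4,4,0,2,3,4,4,1,1,1,4,3,0,2,3,2,2,1,1,3,2,2,2,1,3,4,2,4,3,2,2,4,1,3,3,2,2,1,2,3,2,0,1,3,0,3,1,4,4,1,4,3,0,2,4,4,1,2,2,2,0,2,0,4,3,2,0,0,3,1,0,4,1,0,0,0,0,1,0,0,4,3,3,0,1,2,0,0,1,2,0,3,0,1],
 [4,3,0,0,4,3,3,2,2,2,0,1,2,0,0,2,0,2,0,2,1,0,4,2,2,4,2,4,4,3,2,1,4,3,0,3,4,0,3,1,1,1,2,1,1,2,3,4,4,3,3,4,1,1,3,1,3,3,2,4,3,0,3,1,2,0,4,0,0,1,0,1,2,1,4,2,4,1,3,4,4,0,3,2,1,1,4,1,3,2,0,4,0,0,3,0,2,4,2,4,0,3,0,0,4,2,4,3,2,4,0],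
 [4,1,1,1,1,4,1,3,2,3,2,4,3,4,0,4,3,2,0,3,4,1,0,2,1,3,2,1,0,2,0,4,3,0,2,4,2,0,0,4,2,4,1,0,4,1,1,2,0,2,4,2,3,1,2,1,2,4,3,3,0,2,1,3,0,4,4,4,1,3,1,1,3,2,1,4,1,0,2,3,4,4,4,1,1,2,3,2,0,1,3,3,3,2,0,0,3,0,0,0,2,4,2,2,0,2,1,0,4,1,0],
 [1,0,4,1,3,0,0,2,1,3,4,3,2,0,2,1,4,2,3,2,3,3,3,4,3,3,3,4,2,2,0,3,3,2,4,2,0,0,3,2,4,3,0,3,3,2,2,3,1,1,1,1,3,1,3,1,3,1,3,2,3,1,2,1,4,4,2,2,0,2,0,3,3,1,4,3,4,1,3,0,4,2,2,2,3,2,3,3,3,0,0,3,4,3,4,2,1,0,2,3,4,1,4,2,3,4,2,1,1,4,2],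
 [4,0,2,2,4,1,0,3,3,0,2,3,4,3,2,0,3,4,0,4,4,4,0,1,1,0,3,3,1,2,0,2,4,1,2,0,3,4,3,3,2,1,2,2,3,2,3,2,3,0,0,4,4,4,1,4,2,3,4,0,1,3,3,3,3,3,0,4,4,1,2,0,4,3,0,2,4,0,4,1,3,4,4,1,4,1,0,3,4,0,1,4,4,3,3,2,0,0,2,3,1,1,2,1,2,0,1,0,4,2,4],
 [4,2,1,3,2,3,2,3,1,3,1,4,0,3,0,1,3,4,0,1,3,3,1,0,1,0,4,3,2,4,3,1,0,1,2,1,1,1,0,2,2,0,2,1,0,1,0,4,3,4,3,4,1,4,0,0,2,0,2,0,4,0,2,3,4,1,3,1,3,1,1,2,1,4,2,3,2,2,1,2,2,1,2,0,0,1,0,0,2,0,0,3,4,1,1,2,3,3,4,0,4,2,1,3,3,1,3,2,0,2,0],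
 [2,2,3,3,1,4,3,3,0,4,1,3,1,3,3,2,2,3,1,0,2,2,2,0,0,4,1,1,2,4,2,1,1,4,2,4,0,3,1,2,1,4,2,4,3,4,1,4,2,2,4,3,3,0,0,2,1,4,2,4,3,3,1,4,4,2,3,2,2,4,0,0,0,0,1,4,2,4,3,2,3,2,0,1,0,4,4,4,0,4,4,0,2,0,0,0,0,1,4,0,1,0,3,3,3,3,0,1,4,0,0],
 [2,0,3,4,4,1,1,2,3,4,3,2,4,2,0,3,4,0,3,3,2,0,3,0,2,3,0,3,0,0,1,4,1,0,2,0,4,1,0,2,4,1,3,0,3,0,2,0,0,2,4,4,4,2,1,3,1,1,1,1,3,0,1,3,3,1,1,1,4,4,4,3,4,2,0,3,0,1,4,4,3,1,3,2,0,0,3,4,0,3,4,1,2,0,0,4,1,4,2,2,3,4,3,0,4,3,0,0,4,2,3],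
 [1,3,4,4,4,1,1,1,1,4,1,2,3,3,3,2,1,0,4,3,2,4,0,2,1,0,2,2,3,4,2,3,0,0,4,4,0,1,4,4,3,3,4,2,2,4,1,1,3,0,4,0,0,4,3,4,0,0,2,4,2,3,1,3,1,3,1,4,2,1,2,4,4,4,0,0,0,3,4,3,0,1,2,3,4,3,3,3,0,2,3,2,2,2,0,4,3,3,0,1,1,2,4,4,4,0,1,0,1,0,1],
 [4,3,0,3,1,3,0,3,4,0,3,1,2,3,1,0,4,4,1,1,1,3,4,0,2,3,0,1,3,2,2,3,1,4,0,2,0,3,1,0,3,3,2,1,3,1,1,1,3,0,3,1,3,4,1,0,2,4,2,2,4,4,1,3,2,4,4,1,0,0,4,3,1,2,3,4,2,1,3,1,2,0,0,4,4,4,3,4,2,2,2,0,1,2,1,3,0,3,4,4,4,2,2,0,0,1,3,4,2,2,3],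
 [3,4,0,0,3,2,3,1,1,0,3,1,0,2,3,3,0,4,3,4,2,0,0,4,1,1,0,2,0,3,4,0,0,1,2,0,4,4,1,2,1,1,1,4,1,2,0,1,3,2,4,4,2,3,0,1,0,3,1,0,2,3,1,3,3,3,2,1,2,0,1,1,4,3,0,2,2,4,1,4,4,0,3,0,1,2,0,4,3,2,1,0,4,1,1,2,3,1,3,4,1,1,1,2,0,2,0,3,1,3,2],
 [3,3,3,1,2,1,0,3,2,2,3,0,1,4,2,0,3,3,4,0,3,4,2,0,0,3,3,1,0,1,4,4,2,4,2,1,0,1,1,4,4,1,0,0,2,4,3,1,1,0,3,4,4,2,2,2,2,1,0,2,4,3,2,1,2,3,0,2,4,3,4,0,4,4,1,2,3,3,4,1,0,4,1,2,4,3,2,0,2,1,4,1,3,2,4,3,4,1,1,4,4,0,1,1,3,2,1,1,2,2,3],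
 [2,0,0,1,3,0,1,4,3,1,2,2,0,0,1,1,1,2,2,1,4,1,0,3,4,2,1,1,3,2,4,3,3,4,4,1,1,4,2,0,0,4,1,0,2,3,2,0,0,3,1,2,1,1,2,1,1,3,0,2,4,2,3,0,0,1,4,2,2,4,1,2,4,2,4,3,1,0,0,3,1,3,2,2,3,3,4,4,1,2,3,2,1,2,0,2,2,4,1,3,4,3,1,3,1,0,0,4,2,3,0],
 [2,3,2,3,3,3,4,4,0,0,4,1,3,3,3,0,1,1,0,2,3,4,3,0,0,0,0,2,2,1,0,3,0,0,4,4,0,0,3,0,3,0,1,4,3,3,2,3,2,1,4,4,0,3,4,3,0,3,2,0,1,1,4,2,1,2,1,0,1,4,3,0,1,0,4,3,4,4,1,1,2,1,0,3,2,1,3,0,4,2,1,3,2,4,0,3,1,3,1,0,0,4,1,4,4,2,4,1,3,0,4],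
 [2,2,4,4,2,4,3,1,0,3,1,1,4,3,0,4,2,0,3,4,2,3,1,2,1,1,2,0,0,3,0,4,4,0,1,1,4,4,1,1,3,1,1,2,2,1,4,3,2,0,0,4,1,1,1,4,2,0,0,4,4,1,3,3,1,3,4,2,1,3,3,0,0,3,4,1,4,3,3,4,0,2,1,0,4,0,3,2,0,2,2,1,2,4,4,2,3,2,3,4,0,3,4,2,4,0,1,2,3,1,3],
 [0,4,2,2,0,4,1,0,2,2,0,4,3,0,1,4,2,0,1,3,1,3,4,4,4,4,1,0,2,3,2,3,1,3,4,0,4,4,0,2,4,2,4,0,3,3,3,0,3,3,2,4,2,2,1,3,0,0,2,2,4,2,1,3,4,0,4,1,1,1,4,3,1,4,3,4,2,1,4,1,4,4,0,4,4,0,2,0,0,4,1,1,3,3,0,2,4,0,2,3,1,0,2,4,2,2,0,2,1,1,3],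
 [4,0,2,1,0,3,0,4,4,2,3,0,0,3,1,1,4,0,0,4,1,4,1,4,4,2,1,0,1,4,3,3,4,1,0,2,1,3,1,3,0,0,1,3,0,3,3,1,4,1,1,0,2,0,2,3,1,3,4,1,0,0,2,1,4,1,2,0,0,4,1,4,0,3,3,3,0,3,1,0,2,4,3,3,0,2,2,3,4,0,3,2,3,3,3,2,4,1,3,2,2,2,2,3,4,2,4,0,3,1,4],
 [3,0,3,0,0,0,2,0,4,4,4,4,4,0,2,3,4,3,1,1,4,4,0,4,0,1,3,4,0,3,0,0,4,0,4,2,4,1,1,4,2,3,1,2,0,2,3,1,0,1,0,4,2,1,0,4,0,3,2,3,1,0,3,1,4,4,2,0,4,0,2,4,2,2,4,3,0,3,2,4,0,0,2,1,2,2,2,4,2,2,3,3,4,3,2,0,1,3,3,4,2,3,3,1,0,2,2,0,3,4,2],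
 [2,3,1,0,2,0,0,1,4,3,3,4,1,2,0,2,2,4,0,4,2,4,3,2,3,0,0,0,4,3,3,1,4,2,0,1,0,0,1,0,3,2,0,1,4,4,3,1,0,1,4,4,4,4,0,1,3,2,1,4,4,1,3,1,4,0,2,3,1,0,3,3,0,2,1,3,4,1,0,2,1,4,2,4,4,4,2,2,4,1,1,2,3,0,4,4,2,2,2,4,0,1,1,2,2,1,2,2,4,4,4],
 [0,2,0,1,4,3,1,2,1,4,2,3,0,1,0,3,2,3,0,0,1,0,0,0,4,4,1,1,2,3,1,1,4,2,1,2,0,4,1,0,3,4,3,3,3,3,0,2,0,3,3,0,0,1,2,4,1,3,3,3,2,1,2,1,3,1,1,2,4,3,0,0,1,2,1,1,1,4,2,3,1,4,4,3,3,1,1,0,1,1,0,0,1,2,2,3,0,2,0,2,2,2,2,1,3,3,2,1,0,4,3],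
 [1,2,3,2,0,0,2,2,2,3,3,0,3,4,4,2,2,3,4,4,1,2,3,3,1,2,4,3,1,1,0,0,4,1,0,0,0,0,1,4,0,2,1,4,1,4,0,2,3,2,0,3,4,0,3,2,2,2,4,2,0,1,4,3,3,2,4,3,1,2,0,4,3,2,3,3,4,0,1,2,2,3,1,0,4,2,3,3,2,0,2,0,4,4,0,0,3,1,3,1,3,2,3,4,1,3,0,2,1,2,2],
 [1,4,2,0,3,4,2,3,4,2,3,2,3,1,4,3,3,3,4,4,2,0,4,0,3,2,2,3,4,4,2,1,4,2,2,2,0,1,2,3,0,1,0,2,2,2,2,3,2,3,3,3,0,2,1,2,4,3,4,4,3,0,3,4,3,1,3,1,1,1,2,0,4,4,2,1,0,0,0,1,3,2,2,3,2,4,2,4,0,0,3,1,4,0,0,0,2,4,0,3,2,1,1,2,1,4,4,3,2,0,1],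
 [3,1,2,0,0,2,2,2,2,2,1,2,1,3,0,3,1,1,3,3,4,3,3,3,4,1,0,4,2,4,4,4,0,2,1,4,3,4,4,2,3,0,2,1,0,4,1,2,1,3,3,4,4,4,3,2,1,2,3,3,0,1,4,2,2,0,1,2,4,4,4,3,0,1,1,2,4,0,2,3,1,1,4,0,0,0,4,2,1,0,2,2,2,1,2,3,0,3,1,3,3,3,4,3,3,1,0,2,2,2,1],
 [0,3,3,3,2,1,1,4,4,2,2,0,4,0,4,1,1,0,0,2,0,1,3,2,3,1,1,3,1,0,0,4,0,4,4,1,0,4,2,3,3,4,1,1,3,4,0,2,3,2,2,0,0,3,0,1,4,2,4,2,2,4,3,4,3,2,1,3,3,3,1,1,0,1,2,2,1,3,0,0,2,2,3,3,0,4,4,0,2,0,2,3,0,2,1,3,0,4,0,0,0,1,3,2,1,1,2,3,2,3,3],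
 [2,1,0,3,1,0,1,1,3,4,4,4,0,1,1,1,0,2,1,2,0,1,3,1,2,3,0,3,4,1,0,2,2,3,1,3,3,3,2,0,1,0,3,3,0,3,1,2,0,4,4,4,0,3,1,2,4,4,1,3,0,2,0,4,0,3,0,2,0,3,1,0,1,0,4,1,0,1,0,1,1,4,3,2,1,3,4,2,0,1,3,1,2,0,4,2,3,0,4,4,1,3,1,3,2,0,1,3,4,3,4],
 [4,4,3,0,1,3,1,1,3,2,0,2,2,0,4,4,1,0,3,1,1,1,4,1,3,3,0,0,4,0,1,1,3,2,2,2,4,4,3,1,1,3,1,0,1,4,2,3,3,2,2,2,4,2,4,3,0,3,2,0,0,1,0,3,0,4,1,3,0,2,4,3,0,4,4,2,3,1,4,2,2,1,3,0,4,1,4,2,3,3,2,1,1,2,1,1,2,4,1,4,1,1,2,4,1,4,2,4,0,0,2],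
 [0,1,4,3,1,1,0,4,0,4,1,0,2,4,4,1,1,0,0,4,3,3,0,1,4,4,0,2,0,4,3,1,4,3,0,2,4,0,0,1,4,3,0,1,4,0,4,4,1,1,4,4,2,1,4,0,4,1,2,1,3,2,4,1,1,3,3,1,2,3,0,0,1,1,4,1,2,1,1,3,4,3,3,0,4,1,2,1,3,4,4,2,4,4,4,4,1,4,1,0,3,2,2,3,1,1,0,2,3,1,3],
 [4,3,0,3,0,4,2,4,2,3,4,0,3,4,2,4,1,2,4,0,1,4,1,1,4,4,0,2,0,1,2,4,3,1,4,2,4,2,1,3,0,3,4,4,1,3,2,3,0,3,4,3,2,3,1,1,4,3,4,3,3,4,2,2,1,4,4,0,4,1,2,2,0,1,1,1,0,0,3,2,2,3,0,0,0,3,3,4,4,3,0,0,2,2,0,1,1,1,2,3,0,0,0,4,4,3,2,0,3,1,4],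
 [2,3,3,1,2,1,4,2,2,2,2,0,2,3,0,2,2,4,0,1,2,1,2,1,2,0,2,1,4,4,4,4,1,1,1,2,1,1,0,4,1,2,2,0,2,3,3,3,3,3,3,4,2,1,2,1,2,0,4,1,1,4,1,0,0,0,0,3,2,2,0,2,4,4,2,3,4,1,0,0,1,4,4,4,3,2,0,0,1,0,4,2,3,1,2,2,4,4,2,3,2,2,0,2,4,3,3,3,0,1,0],
 [2,3,4,1,4,4,3,2,2,1,1,3,0,3,3,4,2,2,1,1,3,4,4,0,3,1,2,3,2,3,2,4,1,1,0,3,3,1,3,0,0,2,2,3,0,2,0,0,2,3,2,4,0,1,3,3,2,1,4,0,3,0,2,0,3,4,1,3,2,3,4,2,4,0,0,4,2,2,0,2,0,0,3,2,3,0,0,4,4,0,0,2,1,0,0,2,3,1,1,4,4,3,3,4,0,2,3,3,3,1,1],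
 [3,3,1,0,2,1,3,2,1,4,1,3,3,3,4,3,2,0,4,1,2,0,1,4,0,0,1,2,1,4,4,0,3,4,2,3,4,1,2,3,0,1,4,2,3,1,3,4,3,0,1,0,2,1,2,3,3,2,4,0,4,3,2,3,3,3,0,2,1,3,1,3,2,2,4,3,0,3,1,3,3,2,1,2,4,0,3,3,2,4,1,0,4,1,3,4,2,2,4,4,0,1,4,1,3,3,4,0,0,4,4],
 [2,4,4,2,0,3,4,1,1,4,1,4,1,2,0,4,0,2,1,2,0,4,0,2,4,0,0,2,4,3,1,3,4,4,4,2,0,1,0,2,4,1,4,3,2,4,0,3,2,0,3,3,0,2,1,2,3,0,1,2,1,1,3,1,1,0,3,1,1,2,4,0,1,1,2,4,4,0,0,2,2,2,3,2,2,2,2,4,0,0,3,0,3,2,4,1,0,1,0,4,0,3,1,0,4,4,4,3,2,0,3],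
 [1,4,1,1,2,1,2,4,1,2,1,0,4,3,0,1,4,2,4,3,1,3,3,3,1,2,2,1,2,1,1,1,4,3,2,0,1,0,4,3,1,0,3,1,3,3,1,1,0,4,3,0,1,2,1,3,0,1,2,2,1,1,0,0,2,0,0,3,0,4,2,4,4,0,4,0,4,4,1,0,2,0,2,0,3,1,1,4,4,0,1,0,3,4,1,1,2,1,1,3,0,4,1,1,1,4,2,1,4,3,1],
 [1,2,1,2,2,1,4,2,0,4,0,3,0,4,1,0,0,3,1,1,0,2,4,2,1,2,1,1,0,0,3,2,2,2,3,3,1,0,2,1,0,4,0,0,1,4,0,2,3,4,4,0,0,2,1,1,0,4,3,3,0,0,0,4,2,2,4,0,0,0,1,2,4,3,1,2,3,2,4,1,4,0,2,0,2,3,4,2,4,1,2,2,4,2,3,4,0,0,3,4,4,0,0,2,1,2,0,3,1,4,1],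
 [1,2,4,1,4,2,2,4,4,2,4,4,4,0,0,0,3,2,0,0,1,2,2,1,2,2,3,3,1,2,2,2,4,1,3,1,3,1,4,0,3,3,0,3,0,0,1,1,3,3,0,0,2,1,1,3,0,4,2,4,0,1,2,4,1,4,4,2,0,0,0,4,4,4,0,1,2,2,0,4,4,2,2,2,1,3,4,0,2,0,2,0,3,1,3,2,2,1,2,4,1,1,0,1,2,1,2,4,1,0,1],
 [4,3,3,1,2,0,4,3,2,4,2,3,0,3,2,1,4,0,4,3,0,3,2,4,4,1,1,2,0,0,1,3,0,2,3,4,4,1,0,2,3,3,3,1,4,3,1,2,4,0,0,4,0,1,4,3,0,3,2,2,4,3,0,1,1,3,3,2,1,1,1,1,0,1,2,4,3,4,0,1,3,0,1,4,4,3,2,4,0,0,0,2,4,2,2,3,2,3,3,3,4,2,3,2,0,4,1,2,1,2,1],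
 [2,4,3,0,1,2,3,0,2,3,3,3,0,3,2,4,3,4,4,0,3,4,0,3,1,0,1,3,4,0,0,0,1,4,3,0,2,3,2,1,2,4,4,4,1,2,3,2,4,3,2,2,3,0,2,2,2,3,3,0,1,3,1,4,2,3,1,4,4,0,4,0,4,0,4,2,3,4,2,1,4,4,2,2,4,0,1,3,1,3,0,3,3,4,2,0,3,0,0,2,4,2,4,3,2,4,2,0,2,4,0],
 [0,4,3,2,0,3,1,4,4,2,4,3,3,2,0,4,0,0,0,4,2,2,4,1,4,4,4,1,2,2,4,2,4,4,1,4,2,0,3,3,3,4,0,0,0,0,3,0,2,4,2,1,2,0,0,1,3,3,1,0,2,1,3,2,1,1,2,0,1,3,3,3,4,0,2,2,3,3,2,3,0,1,2,2,0,0,4,1,1,2,4,4,0,3,2,4,4,2,1,4,3,3,3,2,1,1,0,1,2,3,2],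
 [2,2,0,1,3,3,0,4,1,3,0,0,2,1,3,3,2,0,1,0,3,0,3,2,4,4,0,0,3,4,1,4,1,2,1,3,3,4,2,4,2,1,3,4,4,4,1,4,3,0,1,3,1,4,3,3,3,2,0,2,0,2,3,2,3,0,4,3,2,1,4,2,4,2,1,0,2,0,2,2,1,2,4,2,4,4,1,3,1,0,3,2,1,2,0,1,4,3,1,3,3,3,1,3,2,3,3,2,1,2,4],
 [0,4,2,2,4,1,1,0,2,1,2,4,0,4,0,0,4,1,2,1,3,2,1,4,4,0,3,2,2,4,2,2,0,1,4,3,2,2,2,2,1,1,1,4,3,3,1,3,0,2,3,0,1,1,3,4,1,4,1,1,2,4,1,1,0,1,3,4,1,0,1,0,0,3,0,1,1,1,3,4,3,3,2,2,3,1,4,4,1,3,3,4,4,0,1,2,3,1,1,0,1,1,2,0,2,0,3,4,0,2,3],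
 [1,0,2,0,3,0,1,2,2,0,0,1,3,2,1,4,4,4,3,0,2,0,2,0,0,1,2,0,0,1,4,3,0,2,4,4,3,4,2,4,2,1,2,2,2,3,3,3,2,0,4,0,3,4,3,0,3,0,2,4,4,1,3,1,2,4,0,3,1,3,2,3,1,2,4,1,3,3,1,4,2,0,4,2,3,4,4,3,3,2,2,0,1,1,0,2,1,4,4,4,3,4,3,1,1,1,3,1,3,1,0],
 [1,1,3,3,2,0,0,2,0,3,4,3,2,4,3,0,2,1,1,3,4,3,1,4,2,2,2,3,0,1,0,2,4,0,2,3,2,2,4,4,0,2,0,0,3,3,2,0,4,0,1,3,4,1,1,3,2,3,3,3,3,1,4,2,4,2,0,2,1,2,3,1,3,2,1,4,1,3,3,1,3,2,2,3,2,1,2,1,1,2,2,3,3,4,1,2,1,2,3,0,1,4,2,3,1,0,4,0,1,0,0],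
 [2,0,4,0,1,0,2,4,4,3,4,2,4,3,3,0,2,3,1,4,1,2,4,3,4,1,3,0,0,2,2,0,4,2,0,3,1,2,3,2,4,3,3,0,4,4,0,3,1,1,0,4,4,1,0,1,2,0,0,3,2,0,0,0,0,4,3,2,1,1,0,1,3,4,0,2,0,0,2,1,0,2,0,2,4,4,2,4,4,1,4,3,0,3,2,1,1,0,3,4,2,3,4,1,0,3,2,2,0,4,2],
 [0,3,1,4,0,1,2,0,4,1,4,3,4,1,2,2,4,3,0,0,4,3,3,1,1,0,4,2,3,4,2,4,4,2,1,3,4,2,4,2,0,4,3,1,0,1,3,3,4,3,3,2,3,4,2,0,2,1,0,2,1,3,0,4,4,0,1,2,3,0,2,4,2,0,1,4,1,1,4,4,0,3,2,3,2,0,0,2,4,4,3,0,3,3,3,2,3,0,2,2,4,0,3,1,0,3,4,1,0,1,1]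
]

/-- named matrix 11 -/
def nm11 : List (List ℕ) := [
 [1,1,1,3,3,0,0,3,2,2,3,4,2,0,2,1,2,4,3,4,2,0,3,4,1,4,1,4,3,3,1,2,3,0,1,0,2,0,3,4,2,1,0,2,4,1,0,3,1,2,1,2,0,0,2,2,2,3,0,0,3,3,2,2,4,0,0,3,0,3,1,1,2,1,2,2,0,3,4,0,2,0,2,2,2,4,0,4,2,1,1,0,3,2,1,3,0,0,3,1,0,0,2,3,2,0,1,1,3,1,1],
 [1,0,1,0,2,2,0,2,0,3,1,3,2,2,1,1,0,3,2,0,1,3,4,2,3,3,2,3,1,1,3,3,1,1,3,1,1,0,4,2,3,0,2,2,2,0,0,3,0,0,1,0,4,1,4,0,2,3,4,0,0,3,3,4,4,3,3,2,4,3,1,3,4,4,3,2,3,2,4,4,3,0,2,0,2,0,1,3,0,1,0,2,2,2,1,2,1,2,3,4,2,0,0,1,2,2,1,4,0,4,0],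
 [1,1,0,3,0,2,0,3,1,3,1,2,3,2,2,4,1,2,4,1,3,2,1,2,0,2,4,2,4,2,2,1,0,3,0,3,2,3,0,3,0,3,1,0,3,4,3,0,4,2,2,4,1,1,3,4,4,0,1,1,4,1,2,4,1,4,0,0,1,0,2,3,1,3,2,0,0,1,3,2,3,0,0,0,3,0,3,1,4,0,1,3,4,3,4,3,1,2,1,2,4,4,4,4,4,4,1,3,1,3,3],
 [2,4,1,1,1,1,4,2,0,0,4,4,0,3,0,1,0,3,4,1,3,0,4,1,0,3,3,4,4,4,2,1,4,1,1,3,2,2,2,2,4,1,1,0,1,2,1,1,0,1,3,2,1,2,2,3,0,1,4,1,1,0,0,3,2,2,1,2,4,4,1,4,1,3,2,2,3,4,1,3,3,3,4,3,2,1,1,4,4,1,3,0,2,2,4,0,1,0,2,4,4,2,3,1,4,4,2,2,1,3,3],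
 [1,1,3,2,0,3,1,1,1,0,0,2,2,4,1,1,4,4,2,0,2,3,0,1,1,1,0,4,3,2,0,3,1,1,0,2,2,2,0,2,3,4,4,4,0,0,0,2,1,0,0,3,2,0,0,4,2,2,3,0,0,3,1,0,0,3,4,1,1,3,0,4,1,1,4,3,3,3,3,2,0,2,4,1,0,1,4,2,1,1,2,1,1,4,2,3,0,3,0,4,4,3,4,0,3,1,4,0,1,0,2],
 [0,2,4,4,1,0,2,3,1,0,3,0,2,2,1,1,0,2,3,2,3,4,1,0,2,4,2,0,3,0,2,4,0,0,4,4,4,4,4,0,1,4,3,0,2,1,2,0,0,1,1,2,0,3,3,4,2,2,3,4,3,3,0,0,1,2,3,4,2,0,0,1,3,1,3,3,2,1,4,0,1,4,0,1,3,1,2,1,2,2,3,0,1,3,3,1,0,3,1,1,3,0,4,1,2,3,2,1,2,1,3],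
 [1,2,4,4,2,1,3,4,0,1,3,1,4,0,3,2,1,3,0,0,3,2,2,3,1,4,3,1,2,4,1,3,2,2,2,4,0,0,1,1,2,4,3,3,2,2,1,4,2,2,2,1,2,2,0,3,0,0,3,2,3,4,1,3,0,4,3,1,3,0,4,1,3,2,0,2,2,4,0,4,0,3,3,2,4,3,0,4,0,3,4,1,2,3,4,3,4,3,4,2,3,3,4,2,1,0,4,2,4,1,0],
 [3,1,0,2,2,3,1,1,3,3,2,2,3,2,3,3,0,1,4,2,4,4,3,2,1,4,4,0,4,4,3,3,2,0,3,0,2,4,1,4,4,3,3,1,0,2,1,2,2,1,0,0,2,3,0,3,1,1,1,0,3,2,0,0,4,0,0,0,3,3,2,4,2,1,0,0,0,0,4,4,0,2,0,3,1,2,4,1,2,0,0,4,0,3,2,3,0,0,4,0,4,4,2,0,3,2,4,2,0,3,4],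
 [3,2,3,0,4,2,2,0,3,1,0,4,2,3,3,2,4,4,1,3,0,1,4,4,4,2,4,1,3,0,0,3,0,4,4,3,0,4,0,3,0,1,0,4,0,1,4,4,2,0,4,4,2,2,3,4,0,1,1,1,3,2,3,0,4,1,1,2,1,3,4,4,3,4,2,1,0,4,3,1,3,1,2,0,0,4,0,0,4,0,2,2,4,3,2,3,1,2,2,4,1,3,0,4,3,3,2,0,2,1,2],
 [1,0,0,3,2,3,0,2,3,0,4,0,3,1,4,4,1,2,0,3,3,4,2,0,1,1,3,4,4,1,0,2,3,2,2,2,4,2,2,1,0,1,3,0,2,2,1,4,1,3,2,0,1,4,4,4,3,0,0,3,2,0,4,4,3,1,3,2,3,1,3,4,3,3,2,2,0,2,3,4,3,0,1,3,0,1,1,1,1,1,3,3,4,2,3,2,1,4,4,2,4,4,0,0,3,1,3,4,3,1,4],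
 [2,2,3,4,3,4,3,2,4,1,2,2,1,4,2,3,1,2,0,2,1,2,2,0,4,2,1,4,1,2,1,4,4,4,2,1,0,4,1,4,3,2,2,3,3,3,0,2,1,4,1,1,4,4,3,3,2,0,4,3,1,1,1,0,3,0,1,3,3,1,2,1,0,0,4,1,1,4,1,3,3,2,0,3,3,0,1,2,3,4,1,0,4,2,4,0,2,4,0,0,0,0,0,4,3,3,4,0,3,3,0],
 [3,1,0,4,3,3,1,0,4,4,2,1,3,2,2,0,2,3,1,0,0,1,4,1,2,1,3,3,3,3,0,1,3,4,1,1,2,0,2,1,4,0,1,4,4,3,0,0,4,3,0,0,0,3,3,1,3,3,1,2,3,4,1,1,1,0,3,0,3,1,1,1,1,4,3,4,4,1,1,0,1,4,1,3,4,4,4,1,4,1,0,1,1,3,0,2,0,3,3,0,1,1,1,3,1,1,1,0,4,4,1],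
 [2,1,4,1,4,2,1,2,2,4,4,3,3,0,2,0,3,2,4,1,3,0,4,2,3,0,1,1,2,0,1,0,4,2,3,1,1,1,0,2,2,0,3,3,3,4,0,4,1,0,0,3,4,3,2,4,1,4,1,2,1,1,2,0,2,1,4,1,2,1,3,2,2,1,2,1,2,0,3,3,1,2,0,3,2,2,0,4,4,4,3,1,2,0,3,2,1,1,4,0,3,4,4,4,0,0,2,2,4,2,4],
 [0,0,3,0,2,2,1,3,3,2,0,2,4,3,4,4,2,1,2,3,3,1,3,4,4,3,2,1,0,0,0,4,2,2,2,2,0,1,1,3,4,3,1,3,3,4,0,1,0,1,3,4,1,0,0,4,3,0,1,3,2,3,4,2,2,2,4,1,4,0,2,0,3,0,3,3,2,3,3,4,3,0,0,1,0,1,2,4,2,0,3,0,3,1,1,0,2,3,4,4,2,1,1,0,4,3,0,2,2,0,1],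
 [1,1,0,4,1,1,4,1,2,4,3,0,1,3,4,0,3,0,4,2,2,3,3,2,2,4,3,3,2,3,3,3,4,0,0,0,4,3,3,1,0,4,2,3,0,0,1,2,3,4,1,1,4,3,1,3,3,0,2,1,4,2,0,1,0,3,0,4,0,0,2,4,0,1,2,0,0,1,4,0,2,4,1,2,1,1,2,2,1,4,3,3,2,3,2,4,0,3,2,0,2,0,2,3,3,1,0,2,4,0,3],
 [3,4,1,1,4,0,4,0,2,1,3,0,2,0,4,0,1,1,4,3,4,4,4,3,3,4,4,3,1,3,0,2,3,1,2,0,4,3,1,0,1,0,2,3,2,2,4,1,4,3,4,4,3,1,1,3,1,3,1,1,4,0,2,2,2,1,3,0,4,2,0,1,1,2,2,1,1,2,1,4,0,1,3,1,2,0,0,2,3,0,3,2,3,3,2,4,2,1,3,0,3,3,3,0,2,4,4,0,0,3,4],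
 [0,0,3,4,0,4,4,0,0,3,3,3,4,1,4,3,0,0,0,4,4,4,2,0,2,2,2,2,3,0,3,3,4,0,2,0,4,2,4,2,4,4,2,3,3,3,0,2,2,4,3,1,2,4,1,3,4,4,2,3,0,0,2,4,4,2,2,0,2,1,0,2,3,2,0,0,3,2,0,2,4,2,4,1,3,1,3,4,2,1,1,0,2,1,1,0,3,4,1,1,2,1,2,4,3,0,4,2,2,4,1],
 [4,0,4,3,1,3,4,1,2,0,3,2,1,1,1,0,4,4,4,0,2,3,0,0,0,4,3,3,2,4,3,1,3,1,1,3,3,3,4,3,1,4,1,2,2,2,3,4,3,2,1,1,2,4,1,4,3,2,4,4,2,2,2,3,1,0,3,4,0,3,3,3,4,0,1,4,1,1,1,0,4,1,0,0,2,4,1,0,4,0,2,4,2,3,1,4,4,0,3,0,1,0,1,1,0,4,0,3,4,1,0],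
 [0,4,1,4,0,2,3,4,0,0,0,3,3,2,4,4,0,3,0,0,0,3,1,3,4,2,2,2,3,0,2,2,4,3,3,4,1,4,4,0,3,0,3,1,0,1,0,0,0,4,2,2,4,3,0,4,1,1,0,0,2,1,3,0,1,0,2,4,1,0,3,2,1,4,3,3,1,0,2,4,2,3,4,4,2,4,0,4,4,4,4,4,4,2,3,0,1,1,1,1,1,0,1,4,3,0,4,1,0,0,2],
 [2,1,0,4,4,1,4,1,3,1,2,1,4,1,4,3,4,4,2,0,0,0,2,3,2,0,2,0,3,3,2,1,3,0,3,0,4,2,1,3,4,4,4,2,0,1,0,3,0,2,2,4,2,1,2,3,1,1,1,1,1,2,2,2,4,3,3,4,4,0,2,1,1,2,2,4,1,1,3,1,0,4,2,1,1,0,1,4,4,0,0,2,1,1,4,0,0,1,1,3,0,4,1,3,3,4,3,3,3,2,1],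
 [4,2,0,3,3,0,4,0,0,2,4,2,0,1,2,2,4,2,0,0,2,3,2,4,2,0,3,2,1,3,1,2,0,2,4,2,0,0,0,1,3,0,1,0,4,2,2,2,1,2,4,1,3,3,0,0,1,2,0,0,4,1,4,2,3,0,4,1,2,3,3,3,4,2,1,3,1,2,3,3,2,3,2,4,4,1,2,4,2,3,2,4,3,3,3,4,1,4,0,0,3,0,1,0,3,2,3,2,1,0,2],
 [1,4,3,4,1,3,2,2,2,0,0,4,4,2,1,3,4,3,0,1,0,0,3,4,1,4,4,3,2,3,0,4,1,0,0,4,0,1,4,2,4,3,1,3,2,2,0,3,4,4,1,0,3,3,4,2,3,0,3,4,1,0,4,4,3,2,4,4,0,3,2,0,1,1,0,0,3,1,0,4,0,4,1,2,4,2,1,1,4,1,2,1,2,0,3,2,2,2,1,2,4,0,0,4,4,3,2,3,3,2,3],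
 [4,2,2,0,0,4,3,1,4,0,3,4,0,1,1,1,1,0,3,0,2,0,2,1,2,0,0,2,2,3,3,0,4,0,4,1,1,4,3,0,2,2,1,2,1,4,2,1,0,1,2,2,2,1,3,1,2,3,1,4,0,1,1,1,0,4,2,2,2,2,2,2,3,3,2,4,0,4,3,1,4,2,1,2,2,0,4,0,3,2,4,2,0,2,1,3,4,2,3,2,2,1,3,3,0,2,0,3,1,3,0],
 [2,4,0,4,2,0,0,1,2,3,4,3,2,4,4,3,4,3,3,4,4,2,3,3,0,3,0,0,3,1,3,2,1,0,3,3,3,1,1,0,1,3,0,4,1,3,1,2,2,1,1,1,2,4,4,0,0,4,1,2,3,3,3,0,3,3,4,4,4,4,3,2,4,3,2,0,3,2,3,3,1,3,2,1,0,0,3,1,0,2,4,1,3,3,0,2,4,0,2,4,1,4,4,4,1,3,4,1,1,4,1],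
 [1,4,0,0,3,2,1,1,3,2,4,0,2,3,3,4,3,4,4,1,2,0,4,1,0,3,2,3,3,0,0,4,2,4,0,1,0,0,0,0,4,1,3,0,3,0,0,4,0,1,3,0,2,3,4,1,4,3,4,3,0,2,4,2,4,1,1,2,3,0,3,3,2,2,1,1,3,3,4,4,4,1,0,0,1,0,2,2,0,0,1,0,2,0,1,2,1,3,4,2,1,1,2,3,2,2,0,1,4,0,2],
 [0,2,2,2,2,0,2,4,2,4,2,3,4,0,2,1,1,2,3,3,1,1,3,1,1,1,0,0,2,4,0,2,2,4,0,0,1,0,1,2,4,4,3,4,1,2,4,0,1,2,0,1,2,0,0,2,3,2,0,1,3,4,4,3,0,0,3,1,0,1,2,2,1,0,0,2,1,2,1,2,3,4,2,3,1,2,2,2,1,1,0,4,0,4,0,2,0,2,2,0,1,1,1,2,2,3,4,3,3,2,1],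
 [3,1,0,3,1,3,1,1,0,0,3,1,3,1,3,3,2,3,4,3,0,1,0,0,3,2,2,4,2,0,3,2,1,0,4,0,3,1,3,2,4,2,0,3,3,2,1,3,2,4,3,4,0,1,3,4,0,1,2,4,0,0,4,2,3,3,2,4,2,3,1,1,2,1,0,4,4,3,1,0,4,0,3,4,2,0,1,4,4,0,4,4,2,1,3,0,0,2,2,4,3,1,3,2,0,0,1,2,1,4,4],
 [0,0,1,4,0,2,0,2,0,4,1,4,0,0,4,1,0,3,4,3,4,3,0,0,2,0,3,4,0,4,4,0,2,1,4,4,2,2,1,0,1,1,2,3,4,0,2,3,0,4,1,4,2,4,4,2,3,4,3,1,0,2,1,2,2,3,1,2,0,3,4,0,1,4,1,1,4,0,3,3,4,0,1,4,0,4,0,3,2,0,4,0,1,3,4,1,3,1,3,1,4,3,0,0,2,2,3,3,3,0,2],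
 [4,4,4,0,4,3,0,1,1,0,1,2,0,1,2,2,0,0,2,4,3,4,4,3,0,3,1,0,1,1,3,1,2,2,1,1,1,1,3,0,2,3,4,1,1,3,2,2,3,4,2,1,2,2,3,4,0,3,3,4,2,1,1,1,2,0,2,4,0,2,0,1,0,4,0,3,3,2,3,3,4,0,0,0,4,1,4,4,1,4,1,4,1,0,1,2,3,4,0,2,0,1,2,4,0,4,0,4,1,1,1],
 [0,0,1,0,3,4,4,4,0,0,2,2,1,4,3,4,1,3,1,4,4,1,4,0,1,2,1,2,3,4,3,3,1,1,1,2,1,1,4,2,0,2,2,4,1,1,3,1,0,3,0,2,2,3,2,0,0,0,1,3,3,0,3,1,1,3,0,4,2,0,0,0,3,2,4,2,3,2,1,1,0,3,2,3,1,1,0,2,4,3,2,2,1,1,2,4,2,2,4,0,0,2,4,0,2,3,4,0,4,2,1],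
 [4,1,3,3,2,0,4,2,0,0,2,0,1,3,0,4,2,0,3,4,2,2,1,0,1,2,2,2,3,4,4,1,1,1,2,3,1,3,1,1,3,2,3,2,3,1,1,3,1,0,0,0,3,0,3,1,1,4,1,4,4,2,3,4,4,1,2,1,3,1,1,0,1,2,1,0,2,1,0,0,1,0,2,4,0,4,3,3,2,4,3,0,2,2,1,0,1,2,2,4,4,1,2,0,3,4,3,0,2,0,3],
 [2,1,1,4,4,0,2,1,1,3,3,3,3,0,4,4,2,0,3,4,3,1,0,3,3,1,0,3,2,1,4,3,1,0,2,2,1,4,1,2,2,0,1,4,3,1,1,0,2,1,1,0,0,2,2,3,2,2,2,1,3,4,1,3,1,0,2,1,4,1,1,2,4,3,0,2,1,1,1,2,3,0,0,0,0,2,3,2,0,1,1,0,1,0,3,1,4,0,4,3,4,4,0,3,4,0,3,2,0,1,4],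
 [2,0,3,2,2,1,4,4,0,2,3,3,2,3,1,4,0,3,2,1,2,4,4,3,1,4,2,4,2,1,4,1,3,4,1,4,0,2,2,3,0,1,0,3,1,1,3,2,4,3,0,0,0,0,3,1,3,4,2,0,0,3,3,0,4,2,2,0,0,4,0,1,3,3,1,4,3,3,4,4,0,1,3,2,4,1,2,2,1,3,3,1,4,0,4,1,2,0,0,4,0,3,2,3,0,2,2,1,2,4,0],
 [4,0,4,3,1,2,0,3,1,4,0,3,4,4,3,3,4,0,1,0,2,4,0,2,1,4,1,0,0,3,1,4,0,2,4,4,0,0,0,0,2,0,1,2,2,3,2,0,2,3,3,0,4,0,0,3,3,2,3,4,4,4,1,3,0,2,0,3,4,0,2,2,2,1,1,0,3,2,0,0,0,4,1,4,3,2,4,0,2,4,4,4,2,4,1,4,4,0,4,2,2,1,2,0,2,1,3,3,2,3,2],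
 [4,2,2,3,0,3,4,0,2,4,2,2,4,2,0,1,4,3,0,2,0,4,0,4,1,1,0,1,3,0,3,2,2,2,4,2,0,0,1,4,3,4,2,2,3,1,4,1,4,0,3,2,1,3,1,4,3,0,1,4,4,0,1,3,0,3,3,1,1,2,0,1,3,4,0,4,1,0,1,1,1,3,0,1,0,4,2,2,3,1,4,3,4,0,2,0,4,0,4,2,1,1,3,2,3,4,3,4,3,2,2],
 [4,3,2,0,4,0,4,2,1,1,1,4,3,0,1,2,0,0,0,0,0,2,1,2,1,2,0,2,0,2,4,1,4,2,1,4,2,3,0,2,4,0,4,4,0,2,1,4,1,2,2,3,3,1,0,1,1,3,0,3,3,1,3,4,4,4,4,1,4,4,1,3,1,4,3,1,1,4,1,2,2,3,1,1,3,3,4,0,0,0,1,2,0,3,4,0,3,0,3,3,1,4,3,3,1,2,2,1,1,4,2],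
 [2,3,0,2,0,2,3,4,2,2,3,2,2,4,4,2,2,2,1,1,3,3,3,1,2,1,3,3,0,4,2,2,0,2,1,1,0,4,0,0,0,4,1,0,1,3,3,1,0,4,3,2,3,4,0,4,3,4,0,1,3,1,3,2,1,4,4,3,1,1,4,0,2,3,4,4,2,4,3,2,4,4,0,3,2,2,4,1,2,2,1,2,0,0,0,4,3,4,1,0,4,3,3,1,2,1,4,2,0,0,4],
 [0,2,2,0,0,4,3,1,1,1,0,2,2,2,0,1,4,2,2,2,1,4,2,0,2,1,3,0,4,2,1,1,3,3,2,4,0,0,0,2,2,0,3,0,0,0,4,1,3,2,4,4,0,3,0,0,1,0,3,1,4,1,1,0,1,1,0,3,2,2,0,3,2,1,1,3,2,0,2,0,1,0,3,0,2,2,0,2,1,3,0,4,2,0,4,0,2,0,4,1,0,2,0,0,4,3,3,4,2,0,1],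
 [3,0,4,0,0,0,2,2,2,3,0,4,2,4,2,4,4,2,3,4,4,2,0,3,2,0,3,1,0,0,0,1,3,1,3,3,4,4,2,4,0,0,1,2,2,3,2,0,4,1,4,3,2,3,4,0,3,0,0,1,3,4,2,1,2,0,1,1,4,0,1,0,4,2,4,1,1,0,2,0,4,3,4,4,4,3,0,4,4,0,1,1,4,0,2,4,2,3,1,1,0,1,2,0,3,3,2,0,1,4,2],
 [1,1,2,0,1,4,2,3,4,4,2,2,3,1,1,4,1,0,3,0,3,4,2,0,3,0,1,1,2,0,4,0,2,2,2,4,4,3,2,2,2,2,4,3,0,1,4,1,0,4,4,2,2,3,1,2,2,0,4,2,1,3,2,1,4,4,3,1,4,4,3,2,1,2,3,1,1,3,2,2,4,0,0,3,0,1,4,4,3,1,2,0,0,1,3,3,3,4,2,0,0,0,3,2,1,4,1,2,2,1,1],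
 [3,4,4,3,3,2,0,3,1,2,4,0,2,1,0,0,4,1,4,3,1,4,0,2,2,4,4,3,3,2,4,4,0,1,2,4,4,0,4,1,1,3,0,2,2,2,3,2,1,3,0,1,2,3,3,1,2,1,3,0,2,2,0,4,1,2,1,4,1,3,1,2,3,4,4,4,4,1,3,2,0,0,2,3,2,3,1,0,4,3,3,3,1,4,0,0,2,0,1,3,0,4,4,4,2,3,0,2,3,1,3],
 [0,1,0,1,3,4,2,4,4,3,3,2,1,3,4,0,1,0,0,2,0,3,2,3,0,0,0,0,3,1,3,2,4,0,4,2,0,1,1,3,0,1,4,3,4,0,2,3,1,4,3,3,3,0,4,3,3,3,0,2,4,1,4,0,4,4,0,1,2,3,1,0,2,1,3,0,4,3,3,3,2,3,2,0,1,3,0,2,1,3,3,2,0,3,2,2,1,2,3,3,4,0,4,0,2,3,4,4,4,4,0],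
 [1,2,3,3,0,0,1,0,4,2,0,3,4,1,1,3,2,3,1,2,4,2,1,1,4,4,0,0,2,3,2,1,2,3,4,0,4,1,2,3,2,0,2,1,3,0,1,1,2,2,1,4,2,0,4,3,0,0,3,3,0,0,1,3,1,2,4,1,0,3,0,1,4,2,0,3,4,1,1,1,4,3,4,4,2,2,3,1,3,4,4,1,4,1,4,2,3,0,1,4,2,1,2,4,0,0,0,4,2,1,3],
 [2,2,3,0,1,1,4,3,0,2,1,4,2,0,4,0,3,3,2,4,0,4,2,4,2,1,4,3,1,0,2,4,2,4,2,1,4,4,3,0,0,2,0,4,3,2,3,0,2,4,1,1,4,0,3,0,0,4,3,4,2,0,1,4,4,3,4,4,4,1,1,2,1,2,2,0,2,3,3,4,2,3,1,3,4,4,4,3,1,4,2,3,3,4,2,2,0,3,2,3,2,1,1,0,0,2,0,2,3,1,3],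
 [4,4,2,2,1,4,4,2,3,3,4,4,1,1,1,0,4,1,4,0,4,0,1,0,0,4,0,2,4,1,0,0,2,0,1,3,4,1,0,0,3,2,2,1,2,0,4,2,4,4,1,3,1,2,1,2,0,0,0,0,4,3,2,0,0,3,3,0,0,2,2,4,1,1,0,2,1,1,1,0,4,1,1,1,1,3,3,3,4,1,3,3,2,2,0,2,4,3,4,0,4,1,1,2,1,0,1,2,3,0,0],
 [3,4,4,1,0,0,2,0,2,1,0,4,0,1,4,1,1,2,0,2,1,4,1,1,3,1,3,0,0,0,0,4,1,3,2,1,3,0,2,2,0,0,0,1,0,4,0,1,0,3,3,1,4,3,1,4,4,0,1,3,1,1,0,1,4,4,4,3,3,1,1,4,2,4,1,3,2,0,0,4,4,0,4,1,3,0,2,4,3,1,4,3,1,1,4,0,2,4,2,0,4,1,3,2,4,0,1,3,1,4,2],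
 [3,3,4,4,1,0,1,3,4,4,4,1,3,0,1,0,0,3,4,1,4,4,3,3,3,2,1,3,1,3,3,2,3,0,0,1,0,2,4,3,3,2,3,0,4,2,3,1,0,4,2,3,2,3,2,0,3,3,3,1,2,3,4,0,2,2,3,4,2,0,3,2,2,3,4,0,4,0,1,3,1,4,2,4,4,0,0,2,1,1,1,3,3,3,1,4,0,1,1,2,1,3,4,3,2,4,3,2,1,4,4],
 [4,2,4,1,2,1,4,4,4,4,2,4,2,0,4,3,2,4,2,3,1,3,2,1,1,4,2,0,2,0,1,4,2,0,3,0,0,0,4,0,2,2,1,4,3,4,3,0,3,4,4,3,3,1,3,2,2,4,4,2,3,1,0,0,1,1,3,3,2,3,1,4,4,2,0,2,2,1,3,1,0,3,3,2,1,4,4,3,0,2,0,2,0,3,0,2,2,4,1,4,0,1,1,2,3,1,1,0,4,3,0],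
 [3,4,2,3,4,2,0,4,3,3,4,2,1,4,1,3,3,0,0,1,1,3,1,1,0,0,3,3,1,1,4,1,2,4,0,0,0,0,1,2,2,4,1,0,4,4,2,3,2,0,4,1,1,4,4,0,1,0,1,3,1,1,0,3,2,0,3,1,0,3,1,0,0,1,1,1,0,1,0,0,0,1,4,2,4,4,3,3,4,3,0,1,0,3,4,4,2,0,4,0,0,2,4,0,2,0,4,3,2,0,1],
 [3,2,1,2,3,4,2,2,4,3,1,2,2,4,4,1,2,4,0,3,1,1,1,2,2,1,3,2,2,1,3,3,2,3,1,0,0,2,2,1,2,2,2,2,2,3,4,1,0,3,2,3,1,3,2,4,2,1,2,4,0,2,0,3,2,0,3,3,4,1,1,1,0,0,1,1,3,1,1,1,3,2,0,3,0,0,3,0,4,3,4,3,3,2,2,1,0,4,0,1,2,1,2,2,0,4,3,3,0,2,4],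
 [1,4,2,2,1,1,2,3,2,2,3,4,3,2,2,2,3,3,0,0,1,3,4,0,3,2,1,3,2,0,4,2,2,2,4,2,1,3,1,1,3,1,1,1,0,4,3,4,1,3,1,0,0,2,3,4,4,3,1,2,3,3,1,2,2,3,2,3,2,1,2,4,2,0,4,4,2,2,3,3,3,2,0,3,1,3,4,0,1,1,2,3,0,3,2,0,3,4,0,3,3,3,1,2,4,1,2,2,3,2,2],
 [4,1,1,3,1,4,4,2,4,0,3,4,2,2,1,4,1,0,0,4,3,2,2,0,1,4,3,0,0,3,2,2,2,3,3,4,3,0,1,4,0,2,4,3,3,2,0,4,3,1,3,0,0,1,4,2,2,4,3,4,2,3,0,1,0,4,3,3,1,1,2,3,3,4,4,2,3,4,3,2,0,1,4,4,4,4,3,3,0,2,1,2,1,1,0,2,1,0,0,4,3,2,4,3,3,2,0,0,0,1,1],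
 [2,2,1,2,2,1,1,4,1,4,1,4,0,0,4,2,0,0,0,0,2,4,1,3,3,0,0,2,3,3,3,4,0,4,1,2,1,0,0,4,0,3,3,4,1,2,0,1,3,4,4,3,1,2,4,2,0,4,2,1,0,4,2,0,3,0,1,3,2,3,0,2,3,1,4,3,2,3,2,4,3,4,3,3,2,2,1,4,4,3,0,4,4,1,0,4,2,3,2,0,3,4,4,4,2,4,3,3,0,4,0],
 [0,1,1,0,4,2,4,2,1,0,3,3,0,0,3,1,4,3,4,0,2,1,1,1,4,3,0,2,3,0,3,3,2,3,3,0,1,3,4,0,1,0,1,4,4,1,2,2,0,2,1,0,3,3,2,3,2,3,4,2,1,1,0,0,4,0,1,2,2,4,0,2,2,3,0,1,3,1,2,3,1,1,4,0,1,4,4,1,3,2,1,0,3,2,0,3,3,2,4,1,3,0,1,2,3,1,2,2,0,0,1],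
 [2,0,1,4,1,1,4,4,2,1,4,0,3,2,0,3,1,0,2,1,2,1,0,2,1,0,4,2,4,3,4,1,1,0,2,4,2,2,4,4,3,3,0,0,2,3,1,0,4,1,0,0,1,0,3,0,3,3,2,3,0,2,3,0,4,0,2,1,4,4,0,3,0,1,3,1,4,0,4,2,1,4,1,3,1,4,1,0,4,1,4,0,2,4,1,0,1,4,2,2,1,4,2,3,4,2,2,1,2,2,0],
 [1,1,1,2,2,1,1,1,0,2,2,0,4,3,4,3,2,1,1,2,0,3,2,1,2,0,2,0,2,4,2,0,3,2,1,2,1,3,1,3,4,4,2,1,2,2,3,2,4,0,3,4,0,3,1,4,2,1,2,1,4,3,2,0,0,4,4,3,3,4,3,4,0,3,0,0,3,1,0,4,1,4,3,3,4,0,2,0,3,1,0,3,4,1,4,1,1,4,2,1,2,0,0,4,0,0,1,4,1,1,3],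
 [3,4,4,2,1,4,3,2,2,4,3,4,2,1,4,4,0,4,0,1,0,4,3,1,2,2,1,0,2,3,2,3,0,0,4,1,0,4,4,2,2,2,3,4,1,2,1,1,3,4,2,0,4,2,2,0,3,1,2,1,0,1,1,2,4,4,2,1,3,0,3,3,0,4,1,0,2,2,4,4,0,2,3,2,0,1,4,1,3,3,1,3,3,0,0,4,0,3,4,4,2,4,3,0,4,1,1,4,3,2,3],
 [1,0,0,0,0,2,0,4,1,4,3,2,2,1,2,4,3,3,0,1,0,2,4,0,3,0,4,3,4,0,4,0,1,1,1,4,4,2,3,1,3,4,0,3,3,2,1,2,3,0,4,3,0,4,2,0,3,0,1,4,0,3,3,1,0,4,4,4,4,4,2,3,4,1,3,4,2,3,1,4,3,4,2,4,2,1,3,0,4,2,0,3,3,2,0,0,4,1,3,3,3,1,2,2,4,2,4,3,0,2,4],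
 [3,0,4,4,3,0,1,1,3,4,4,1,1,3,4,0,0,1,0,2,4,0,2,0,0,2,3,4,1,1,1,2,4,2,4,4,1,1,3,1,2,0,0,4,0,2,4,0,0,2,1,4,2,3,2,0,0,0,0,1,2,4,2,0,3,3,1,4,3,3,0,2,2,3,4,3,2,2,2,2,0,0,0,3,4,4,4,2,0,4,2,1,3,1,3,4,2,3,3,3,2,3,4,1,4,4,2,4,4,3,1],
 [0,2,0,1,4,3,2,3,3,3,0,1,0,2,0,4,0,3,1,3,4,2,3,4,1,4,2,0,2,3,4,3,2,1,0,3,0,4,3,2,3,4,3,3,1,1,0,1,1,0,2,1,4,1,4,3,4,3,2,3,2,2,0,0,4,0,2,0,1,3,3,4,1,1,1,1,1,1,1,1,1,1,3,0,1,1,4,3,3,4,1,3,2,1,4,0,0,1,1,3,4,3,2,3,2,0,1,2,3,1,2],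
 [2,2,2,0,4,4,0,3,2,0,3,2,3,4,3,1,1,3,0,1,0,2,1,0,0,4,3,0,2,2,1,1,3,4,3,0,4,4,2,0,4,0,1,2,3,2,4,0,2,4,0,3,0,0,2,2,4,0,1,3,0,3,2,2,4,0,2,4,3,3,3,1,2,3,3,0,3,0,0,2,0,1,4,0,4,2,2,3,3,4,2,4,1,2,1,0,1,0,3,3,3,4,4,3,2,2,3,3,4,1,0],
 [2,3,3,2,0,3,0,2,1,0,1,2,0,4,0,2,3,4,1,2,0,3,4,1,3,4,1,1,3,1,4,3,2,1,3,1,3,4,0,1,4,0,3,3,4,2,3,1,4,2,4,1,0,1,4,0,1,4,1,1,3,2,3,4,0,3,0,2,1,4,2,4,2,2,0,4,1,1,1,3,4,2,0,1,3,3,0,4,0,0,3,0,0,2,3,3,1,2,3,1,0,4,0,1,3,0,2,4,1,3,4],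
 [1,0,0,1,0,3,3,1,1,4,0,4,3,1,0,0,1,2,3,2,0,2,0,2,1,0,0,3,2,2,3,1,1,4,1,1,2,0,3,0,1,2,2,0,0,4,1,3,3,0,4,0,0,0,2,2,4,4,3,0,2,3,4,2,4,0,0,4,4,3,3,3,3,1,3,1,0,1,2,1,3,3,0,4,0,1,0,4,1,1,1,0,3,3,1,4,4,0,3,2,2,3,2,0,4,0,0,0,3,4,0],
 [2,3,1,3,0,2,0,0,0,3,1,1,0,2,3,1,2,2,2,1,4,0,2,4,3,2,0,2,0,1,2,1,1,2,3,0,2,3,3,4,1,3,4,3,3,4,2,2,1,0,3,4,0,4,3,0,0,3,3,4,4,4,0,4,1,3,4,1,3,1,0,0,0,4,3,3,2,4,4,4,0,1,1,1,4,0,3,4,3,2,4,2,1,3,0,2,3,2,3,4,0,2,1,0,2,2,2,2,4,4,1],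
 [3,2,4,3,0,2,3,2,1,2,2,4,4,1,1,1,2,0,1,2,1,3,4,1,2,0,1,0,3,1,4,4,2,3,1,2,1,0,4,1,0,0,0,4,0,3,1,0,3,0,3,2,1,2,0,2,3,0,1,2,0,2,0,3,4,2,1,4,1,2,0,0,3,3,2,0,2,0,2,2,0,0,1,3,1,3,4,3,0,0,2,0,3,2,0,4,2,0,2,1,4,4,0,0,3,2,4,2,0,4,1],
 [2,3,4,3,3,1,1,4,4,2,4,2,3,2,2,3,1,0,0,4,1,2,1,2,3,3,3,0,3,4,1,2,4,2,0,4,2,4,2,2,2,1,2,1,2,3,4,0,3,3,0,0,1,1,4,0,1,3,0,0,3,4,0,2,2,0,2,2,2,4,4,2,4,2,4,1,0,2,3,1,0,2,3,0,2,0,3,3,1,3,2,1,4,0,0,1,0,2,3,3,2,2,3,4,0,2,4,0,3,0,4],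
 [1,1,1,1,4,1,1,0,1,3,0,2,4,3,3,4,1,1,2,1,3,0,3,4,1,0,0,4,4,4,0,2,0,3,0,1,0,2,3,3,4,3,2,1,1,2,3,3,4,2,0,1,1,0,3,0,4,4,0,2,1,1,1,4,3,4,3,2,2,4,4,2,3,2,1,1,2,3,1,4,4,0,0,0,0,4,3,4,2,1,3,1,3,1,4,3,3,1,0,2,0,0,0,0,4,0,4,2,1,1,2],
 [3,2,3,0,3,3,3,2,2,0,3,3,3,4,3,1,3,2,0,1,2,0,4,1,2,3,2,4,0,4,0,2,4,0,2,2,4,0,2,2,4,1,3,2,1,3,2,3,2,0,3,1,4,3,2,4,3,0,3,0,4,1,1,1,1,1,1,0,3,1,3,0,0,0,4,2,0,1,2,0,0,1,4,1,2,1,1,0,0,2,3,4,1,1,2,1,4,4,3,4,3,2,1,3,2,0,0,4,3,4,1],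
 [0,2,4,3,3,0,3,2,3,1,2,3,3,2,1,2,0,2,1,1,3,4,0,4,4,0,0,1,0,2,2,2,2,3,4,1,2,4,1,0,1,3,4,1,1,3,3,4,1,2,2,0,4,0,1,1,0,0,2,4,2,0,1,0,3,0,1,4,3,0,0,1,3,3,3,4,1,3,0,0,4,2,4,0,4,3,4,4,4,0,4,2,0,3,4,2,3,3,2,4,4,1,3,2,1,0,0,3,4,1,0],
 [4,0,0,3,0,4,0,2,3,4,2,0,4,1,0,3,0,2,1,1,2,1,2,1,3,0,1,0,3,4,2,3,1,1,3,0,4,3,3,1,2,4,2,1,2,1,3,3,1,3,3,2,4,4,2,3,2,1,4,0,2,0,1,0,0,0,3,1,0,0,1,2,1,0,0,1,0,2,3,2,3,0,4,1,4,0,3,0,3,0,4,4,3,3,3,0,4,4,0,3,3,0,3,0,1,4,1,1,3,0,2],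
 [0,1,0,3,0,4,3,1,1,1,1,4,3,2,0,0,1,2,3,4,2,1,0,0,4,1,0,0,1,0,1,4,3,0,0,4,3,3,0,4,0,4,4,3,3,3,3,0,3,1,2,2,3,4,0,2,3,0,1,2,4,1,1,0,2,1,3,4,0,4,1,1,2,0,3,2,3,0,1,1,1,0,0,3,0,2,1,3,2,3,2,2,3,3,1,3,1,1,0,4,4,2,1,0,0,3,2,2,0,4,0],
 [1,4,3,3,3,3,4,4,1,3,3,1,4,2,1,1,4,3,4,0,0,1,3,4,4,1,3,4,2,1,0,2,1,0,1,3,1,3,2,3,2,1,3,2,2,1,1,0,0,3,4,4,1,4,2,4,1,2,1,4,3,3,4,1,0,0,3,0,3,3,4,4,3,4,4,2,3,0,1,4,1,4,4,3,3,2,1,3,2,0,3,3,4,2,3,3,0,4,4,4,3,3,1,0,2,3,0,1,2,3,1],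
 [0,3,0,3,2,3,1,3,1,4,2,0,4,2,3,0,1,2,3,2,4,0,4,2,2,1,3,3,0,4,0,4,0,4,2,1,1,2,1,1,3,0,4,3,0,4,3,4,1,2,0,1,4,2,0,2,0,0,0,2,2,0,3,3,0,4,3,3,3,2,2,4,2,3,4,2,1,4,0,3,2,4,1,4,1,1,3,2,4,1,3,2,3,3,4,4,0,2,0,4,4,1,1,0,2,4,2,1,4,4,2],
 [1,2,4,3,0,3,3,4,2,0,0,0,1,3,3,4,3,2,0,3,1,1,4,0,2,0,3,4,2,3,3,2,0,0,3,0,1,1,3,3,4,2,3,2,3,1,4,4,3,2,1,0,4,1,2,2,4,3,4,4,1,1,3,0,4,3,4,1,4,4,3,4,0,0,4,0,4,2,1,1,1,2,2,0,4,2,3,4,1,0,3,0,2,1,1,4,0,0,0,4,4,1,3,2,3,4,0,2,4,1,3],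
 [4,1,3,1,2,1,0,1,1,0,4,4,1,0,2,0,1,0,4,2,0,1,1,2,4,4,1,2,3,4,0,2,1,0,1,1,3,1,3,3,1,2,1,4,1,3,2,2,3,3,4,1,1,2,0,1,2,2,0,0,4,4,4,0,2,1,4,1,0,1,3,3,3,3,1,4,1,3,0,0,2,1,0,1,1,0,4,0,1,4,1,1,3,1,1,0,4,0,0,4,0,4,2,4,1,2,4,3,1,3,4],
 [2,1,0,0,0,4,3,4,3,3,3,2,4,3,0,0,1,2,1,1,3,4,0,0,1,2,0,1,0,0,4,4,4,3,1,2,3,1,0,2,1,1,2,3,4,2,3,3,0,3,3,1,2,1,2,1,4,1,3,0,1,3,0,0,0,3,3,1,3,4,4,1,0,4,1,1,2,0,1,1,3,0,2,4,0,3,1,1,2,3,0,0,2,3,2,0,3,3,0,3,2,0,4,3,1,0,4,2,4,3,2],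
 [1,2,3,4,2,0,0,1,3,3,2,2,2,0,1,3,0,2,0,1,3,4,4,1,2,4,0,1,2,3,0,3,4,1,3,2,0,2,3,2,1,2,1,2,0,2,3,3,2,4,3,1,4,1,3,2,1,2,1,0,2,0,2,1,3,2,1,2,1,3,2,4,3,1,3,3,1,1,1,0,2,4,1,1,0,3,2,2,2,2,1,3,2,0,3,0,2,3,4,4,3,2,2,4,3,0,0,2,3,0,2],
 [1,3,2,2,2,0,4,1,0,0,3,4,4,1,2,3,4,0,1,1,1,1,4,0,4,4,3,2,4,1,4,0,4,0,1,4,3,1,2,4,2,3,0,1,2,1,0,0,2,4,3,0,3,4,2,4,2,2,3,2,0,3,2,1,4,0,2,2,2,4,4,2,4,3,0,3,3,4,1,1,4,0,1,2,1,4,4,3,3,4,3,2,1,1,1,4,1,4,3,4,3,2,4,4,4,3,2,4,3,1,0],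
 [0,4,0,4,1,4,1,0,0,4,2,1,0,1,2,1,3,3,3,4,4,2,1,4,0,0,3,3,3,4,2,2,4,1,1,0,1,4,1,4,2,4,2,0,2,4,1,3,1,1,3,0,3,3,3,0,3,4,4,1,1,3,4,3,2,0,0,2,3,3,0,0,2,4,1,0,3,1,3,4,3,0,1,1,0,2,4,0,2,2,3,2,0,1,4,3,0,2,1,3,2,2,2,0,2,3,1,1,3,4,2],
 [3,3,0,3,2,4,3,3,1,0,3,1,3,4,2,1,3,0,1,2,2,4,3,1,1,1,0,4,3,0,3,0,3,0,2,0,2,0,0,4,3,1,3,2,1,0,3,1,2,2,0,3,4,4,0,3,3,1,2,2,1,3,1,4,4,1,3,4,1,4,2,4,4,4,0,4,0,0,2,0,1,3,1,1,1,2,1,4,4,0,4,2,1,1,3,3,1,1,3,1,1,0,4,2,3,4,0,3,2,2,4],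
 [0,4,0,1,4,1,3,2,2,0,3,3,2,4,3,2,4,4,4,4,0,1,4,3,0,1,1,2,3,4,4,0,1,0,3,2,3,3,1,0,4,0,2,4,3,4,3,0,4,3,1,4,4,2,2,1,1,4,3,4,0,2,2,2,3,2,0,4,2,3,0,0,1,3,1,0,4,2,0,4,1,0,2,2,4,4,2,1,4,0,0,0,0,1,0,0,1,1,4,3,4,0,2,1,4,1,2,0,0,3,1],
 [2,2,4,2,4,0,1,1,3,3,2,4,1,3,1,0,3,0,2,3,4,3,0,4,1,3,1,2,0,3,1,0,4,1,2,4,0,4,2,1,2,4,4,3,3,2,2,4,3,4,1,1,1,0,1,3,1,1,4,1,0,4,4,1,4,1,2,0,0,1,3,0,0,0,4,4,4,1,4,3,1,2,0,0,4,2,3,4,4,4,1,3,0,0,4,3,2,1,0,2,2,4,0,2,3,1,0,3,1,0,0],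
 [2,2,2,1,4,3,4,0,3,3,3,3,3,4,4,2,4,3,1,4,0,0,3,0,0,0,0,3,3,1,4,0,4,3,3,0,0,1,0,3,3,4,4,4,3,1,4,4,1,3,3,2,1,0,2,3,3,4,3,1,3,1,2,0,4,4,3,2,0,1,2,4,1,2,3,1,1,4,4,0,1,1,4,1,4,0,4,0,1,4,2,0,0,2,3,3,0,3,4,1,4,4,0,2,1,4,1,0,2,3,2],
 [4,1,2,3,4,4,2,4,2,4,0,0,0,4,4,1,4,4,1,4,3,3,4,0,2,4,2,1,2,4,3,1,0,3,1,4,2,3,3,0,1,4,3,4,1,2,2,2,0,3,2,2,2,3,0,1,4,0,1,1,2,1,2,4,4,4,3,3,1,4,2,1,3,2,2,4,2,1,3,2,2,4,1,0,3,2,2,1,4,4,2,1,0,0,3,2,1,2,3,3,2,3,4,2,0,1,1,1,0,4,4],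
 [4,3,2,2,3,4,1,4,0,3,2,4,1,2,0,0,2,1,2,3,2,1,1,3,2,1,1,1,2,0,1,2,0,1,2,4,3,1,3,4,4,4,3,3,4,3,3,1,2,3,2,1,2,2,1,2,4,3,3,1,1,1,4,4,3,4,4,3,0,0,3,1,2,3,2,1,0,3,2,2,1,2,4,2,0,4,4,2,0,2,0,3,3,1,0,3,3,3,2,4,2,4,2,3,1,4,2,2,2,0,3],
 [3,2,1,4,1,0,0,1,4,3,2,3,3,0,4,0,4,3,3,0,0,2,1,3,0,4,2,3,3,3,1,4,0,1,1,3,0,0,1,1,1,3,3,3,4,3,3,4,1,2,0,0,0,4,0,1,4,3,1,1,4,2,2,2,0,0,3,0,2,0,1,3,4,1,2,4,4,2,0,2,3,4,1,0,0,0,1,4,0,2,4,4,4,4,4,0,1,4,0,2,0,1,2,1,3,3,4,2,4,3,0],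
 [1,1,1,1,4,1,3,1,4,0,2,3,2,0,2,1,3,3,0,0,4,0,4,0,1,0,0,0,3,4,2,0,2,1,3,4,1,0,0,2,2,1,2,1,0,4,2,4,2,4,1,3,4,2,4,4,4,2,0,4,3,1,3,1,4,3,3,0,1,3,3,2,1,4,4,0,3,0,2,3,3,2,0,0,4,4,3,2,2,4,4,1,4,0,3,1,4,2,2,4,0,1,3,4,0,4,4,2,3,0,3],
 [1,1,2,2,4,3,4,2,1,2,3,0,2,3,3,1,3,4,1,1,2,0,3,2,2,1,3,1,4,3,4,3,3,3,4,1,1,3,2,4,2,2,0,3,1,1,3,4,2,3,0,3,1,1,2,3,1,3,3,4,2,1,0,4,2,0,3,4,2,3,3,4,2,4,2,0,2,2,1,1,3,1,1,0,4,0,1,2,1,0,0,2,1,4,2,4,3,1,3,4,1,2,4,1,1,3,0,0,2,2,1],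
 [3,4,3,3,2,4,0,4,0,2,3,2,2,1,4,0,1,1,4,0,4,0,3,4,3,3,4,3,2,0,0,1,0,1,3,2,2,2,2,3,2,2,2,0,2,0,4,4,0,3,1,4,2,3,0,0,1,1,3,2,0,4,2,4,1,4,0,0,4,2,2,2,2,4,4,3,0,0,3,2,4,0,1,3,2,2,0,3,1,4,4,1,1,3,0,1,0,3,1,2,0,4,4,4,1,2,1,0,0,4,4],
 [1,3,4,2,0,4,2,0,1,4,3,1,0,2,1,2,4,0,3,4,2,0,3,0,0,4,4,3,0,3,1,0,2,2,1,1,1,2,1,3,2,0,4,3,3,1,2,3,2,1,4,2,4,3,0,4,0,2,3,3,1,4,2,2,3,2,3,4,4,0,3,2,2,3,0,0,2,3,2,1,2,4,2,2,3,4,2,4,3,2,3,4,3,2,1,4,0,3,0,1,4,1,3,3,1,2,1,2,4,2,2],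
 [1,1,1,1,4,4,1,4,2,3,0,2,4,1,0,2,4,3,4,2,3,1,4,1,0,0,1,3,2,3,4,1,3,2,1,3,2,4,4,0,4,4,1,3,1,3,2,4,4,0,2,4,1,0,0,4,0,0,4,4,1,2,4,2,0,2,0,2,1,4,0,4,2,3,4,3,1,4,0,4,2,1,0,1,2,2,1,4,0,2,0,0,0,4,2,3,3,3,0,0,1,0,0,3,4,0,3,3,1,2,4],
 [4,1,2,2,2,4,1,4,3,1,0,4,2,2,0,1,0,2,3,0,1,1,0,1,0,4,0,2,1,1,0,0,3,2,1,1,2,2,3,3,2,2,4,2,2,4,3,0,3,2,1,3,2,1,4,3,4,2,2,2,2,0,0,1,4,1,2,0,4,3,4,2,2,2,2,2,0,1,4,1,2,2,2,3,1,0,4,2,3,2,1,4,4,1,2,4,1,1,1,0,3,4,3,3,0,1,0,1,4,4,1],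
 [2,4,1,3,0,4,4,3,2,0,2,1,1,2,2,3,3,1,3,2,4,3,3,0,4,3,4,4,1,0,2,0,3,4,3,0,0,1,1,4,4,3,0,0,4,4,0,1,4,4,1,1,0,1,0,4,3,2,2,0,4,0,0,4,4,1,1,2,2,0,4,3,1,0,4,3,1,0,0,3,0,0,1,3,0,2,1,1,2,0,3,0,2,1,1,2,3,3,4,3,2,4,1,3,0,1,2,4,1,0,2],
 [4,2,0,2,1,2,4,4,4,1,4,1,1,4,4,3,1,2,1,0,2,0,4,3,4,1,1,3,4,1,2,2,0,2,1,0,2,2,2,0,1,1,0,1,4,2,1,1,4,2,1,0,3,0,0,4,4,0,3,4,0,3,0,3,1,1,2,2,0,3,1,2,4,3,3,3,2,4,3,2,0,4,4,2,1,0,3,4,2,1,0,0,4,3,2,4,2,2,1,3,3,1,0,1,4,1,2,1,4,0,4],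
 [3,2,3,4,4,4,4,2,1,2,1,3,4,1,2,0,4,3,4,3,3,1,2,4,2,1,2,3,1,2,4,4,1,0,4,4,1,1,4,0,1,2,3,2,3,1,4,0,4,4,1,4,4,4,1,4,0,4,3,4,0,0,3,4,1,1,3,3,2,0,0,3,0,1,1,2,2,1,3,4,2,0,0,1,0,3,1,4,4,4,2,1,3,4,1,1,4,3,2,1,0,1,2,2,1,0,2,4,0,1,0],
 [3,3,3,1,1,0,3,4,2,0,2,4,4,2,3,0,0,4,0,2,1,0,2,3,2,3,1,1,2,1,1,3,2,0,2,4,2,3,1,1,2,1,4,1,1,1,1,2,1,4,3,2,2,2,0,0,0,1,3,1,3,1,2,0,4,1,4,1,3,2,0,1,2,3,4,1,3,2,3,0,0,4,2,2,3,1,0,2,4,3,0,4,4,1,0,2,4,4,3,0,0,1,3,1,0,1,2,3,3,1,4],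
 [0,4,1,3,1,0,3,2,0,0,3,1,3,2,1,2,0,4,0,3,3,1,3,2,3,0,2,0,4,4,3,3,0,0,1,1,1,2,0,1,4,1,1,1,3,1,2,3,2,0,0,2,1,3,1,3,0,4,3,3,4,3,4,2,0,3,4,3,4,2,0,2,0,1,4,0,3,1,1,4,2,0,4,0,2,1,3,3,1,1,1,2,3,0,0,0,0,0,2,3,1,2,3,0,2,3,0,0,0,3,2],
 [3,2,1,0,4,0,1,2,0,2,0,4,2,0,4,4,1,2,3,0,2,1,4,1,4,3,1,0,0,3,4,1,4,4,4,1,0,3,0,0,0,3,0,2,0,0,4,4,2,2,3,4,3,3,1,1,4,1,2,2,1,2,1,0,0,3,0,3,4,2,4,3,3,1,1,3,0,1,3,1,0,4,1,4,3,1,3,4,0,4,3,4,3,1,1,2,0,4,4,2,3,1,2,2,3,1,4,4,0,0,4],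
 [2,3,3,3,3,1,2,3,2,1,0,4,3,3,0,0,2,3,2,4,0,2,1,1,4,0,1,0,1,0,3,4,3,2,1,3,3,4,4,3,1,2,0,3,2,1,1,1,2,3,1,4,2,1,2,4,2,0,3,1,2,0,1,2,2,2,1,1,2,3,2,4,4,4,2,4,4,3,0,2,0,1,3,0,4,1,3,4,3,1,4,3,3,2,0,3,1,2,0,3,3,3,1,1,2,4,4,2,0,1,4],
 [0,4,4,4,1,4,4,1,2,2,4,4,4,2,2,3,1,2,3,1,1,1,1,0,3,3,3,2,1,2,0,1,4,1,3,4,4,2,3,3,2,4,1,2,3,2,2,4,2,0,3,0,0,2,4,2,3,3,3,2,2,3,3,3,1,1,4,1,2,3,2,1,2,0,1,0,2,0,1,0,0,1,0,2,3,4,2,0,4,1,2,4,0,1,1,3,1,4,3,2,0,4,1,1,1,3,1,0,0,1,1],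
 [3,0,1,3,0,4,0,4,4,4,1,1,2,1,4,1,3,4,3,3,2,2,1,0,4,4,4,3,0,2,2,0,0,3,3,0,0,0,4,1,2,2,3,0,4,3,2,2,4,1,3,2,1,2,3,4,4,1,1,4,3,4,4,2,0,1,4,0,0,2,1,3,2,1,2,0,1,0,0,4,1,4,1,2,0,0,3,2,3,1,4,3,2,4,2,3,3,4,2,1,0,0,1,4,2,1,0,4,1,3,2],
 [3,1,2,2,1,2,2,4,1,2,0,0,3,1,2,2,3,0,0,3,3,3,1,2,4,1,1,1,2,0,1,4,3,0,0,1,0,0,3,0,0,4,3,0,0,4,0,3,1,0,1,4,1,3,0,1,3,2,4,1,2,2,1,3,3,4,0,1,4,4,3,1,4,1,4,1,0,3,1,3,1,4,2,2,3,0,3,1,1,0,1,4,3,0,1,2,1,0,2,1,2,3,4,2,0,1,3,0,4,2,2],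
 [1,0,4,1,3,4,1,4,3,2,3,2,4,1,4,4,4,0,0,3,3,1,2,0,1,2,0,2,0,0,3,3,1,1,2,0,3,3,3,2,2,4,4,3,4,2,4,3,1,3,4,4,2,0,1,3,1,3,3,3,3,2,0,0,3,2,4,3,3,2,4,2,4,0,3,1,4,1,1,3,3,2,0,0,3,2,2,3,3,4,4,2,4,0,3,4,0,1,1,4,2,2,1,3,4,3,2,3,1,2,0],
 [2,0,3,2,2,3,0,3,2,0,1,2,2,0,1,3,1,3,3,3,0,4,2,0,2,0,2,4,1,2,3,1,0,1,3,4,2,4,3,3,3,3,2,1,2,1,1,2,1,2,0,4,0,2,1,3,1,1,4,3,1,4,3,2,3,3,0,1,0,0,3,2,0,2,3,2,1,2,1,0,1,1,1,2,4,4,3,4,4,4,3,2,3,1,3,1,3,1,4,3,4,1,4,2,0,3,3,3,1,3,2],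
 [4,2,2,2,0,0,3,0,4,4,3,4,2,3,3,2,2,2,1,2,0,1,0,3,0,3,3,1,1,1,0,2,1,0,0,3,3,0,1,0,0,0,2,4,3,0,3,0,0,2,1,0,0,2,2,2,1,2,3,2,3,3,4,1,2,0,1,3,2,0,3,4,2,0,0,3,0,0,1,1,4,4,3,1,0,2,1,1,1,3,3,2,4,1,3,4,1,0,4,0,2,2,2,4,1,1,0,0,1,0,3],
 [0,1,2,3,3,4,2,1,2,3,1,1,2,4,3,3,0,4,0,4,2,0,3,2,4,3,1,2,1,2,1,0,1,0,4,4,4,2,2,0,1,1,0,3,0,0,2,1,2,1,2,1,4,4,2,2,4,0,1,1,3,4,0,0,1,1,2,1,2,2,2,4,4,1,1,4,1,2,4,1,3,1,0,2,4,1,2,4,4,2,3,3,2,4,3,4,2,4,2,0,4,4,1,2,2,3,0,0,4,0,3],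
 [1,3,4,1,2,3,4,4,4,1,0,2,4,1,1,2,2,1,4,4,4,3,2,1,1,0,0,2,0,0,0,1,1,2,0,1,2,1,4,2,2,1,4,0,2,3,0,0,1,1,1,4,2,0,0,2,4,4,2,3,2,0,2,2,3,0,4,3,1,2,4,2,0,3,3,3,0,0,0,0,0,4,0,2,0,1,3,2,3,0,4,2,3,0,4,3,3,3,2,4,4,1,2,2,2,4,4,3,0,2,2],
 [0,2,4,0,3,0,1,1,1,1,3,0,4,2,3,3,3,4,2,0,2,3,2,3,4,3,0,2,3,0,4,0,1,2,0,0,3,0,2,3,0,1,0,0,2,3,0,2,4,2,3,0,2,2,3,4,1,4,4,1,3,4,0,2,4,2,2,4,3,4,4,2,0,0,3,1,0,3,4,4,4,4,4,1,3,3,4,0,0,4,3,4,4,4,0,2,2,0,1,4,0,2,2,3,1,2,2,3,3,1,0],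
 [3,4,4,4,1,2,4,1,1,4,0,4,4,4,1,3,0,3,0,3,4,2,2,2,2,2,4,2,3,4,2,4,4,3,4,3,2,2,3,0,3,2,2,1,1,3,0,0,2,2,3,4,1,2,1,3,3,2,4,4,1,4,2,0,3,1,2,3,1,0,2,3,3,4,3,1,1,1,2,4,1,3,3,3,1,2,2,4,3,2,4,3,1,1,3,4,3,1,3,3,2,2,0,0,1,4,2,3,0,3,4],
 [0,3,1,1,0,4,0,4,0,3,3,2,2,2,0,0,4,0,3,2,1,2,0,3,4,0,1,4,2,2,4,0,2,4,2,4,0,0,2,2,3,1,0,4,1,1,1,4,3,1,0,2,2,1,1,4,4,1,3,2,4,4,3,0,3,2,2,3,0,3,4,4,4,2,2,3,3,4,0,4,0,3,1,1,2,0,0,2,1,0,2,4,4,1,1,3,4,0,4,4,2,1,0,0,1,2,3,2,3,0,4],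
 [3,4,2,3,2,1,4,2,1,3,1,0,4,0,0,0,4,2,0,3,4,3,0,2,4,0,2,2,3,0,2,4,2,4,2,2,3,0,4,2,3,0,2,1,1,3,3,3,1,0,0,1,0,0,1,2,4,0,3,2,2,1,4,3,2,3,3,0,1,4,1,0,2,0,0,2,0,2,1,1,4,3,1,4,4,1,1,0,4,1,1,3,1,2,0,2,2,0,3,1,1,4,0,4,3,0,3,1,1,0,4]
]

/-- named matrix 12 -/
def nm12 : List (List ℕ) := [
 [1,4,2,1,2,0,2,1,1,3,4,3,4,4,4,1,3,3,2,0,0,3,1,4,0,1,2,2,4,0,4,3,2,3,3,0,3,3,1,4,3,2,1,4,0,0,3,0,3,4,1,4,4,3,1,4,3,4,2,2,0,2,0,0,2,4,1,1,4,1,0,2,0,1,2,1,4,4,3,4,0,4,1,4,1,0,2,3,3,4,1,2,4,0,1,3,3,2,0,0,3,1,4,3,1,3,2,1,0,2,1],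
 [3,0,0,3,4,2,1,3,4,2,0,1,4,3,0,2,3,2,3,1,3,0,2,0,0,3,2,4,4,3,3,4,0,1,1,2,1,4,2,1,3,0,4,3,3,4,4,0,3,1,3,3,3,1,4,3,3,0,1,0,4,4,0,0,4,4,2,4,0,3,4,4,1,1,3,2,1,2,3,1,1,0,2,2,0,0,0,4,0,1,0,3,1,1,2,2,0,3,3,0,1,3,1,4,1,2,3,0,3,0,0],
 [2,1,4,3,2,4,1,0,3,3,0,4,4,2,3,1,3,0,2,2,3,3,2,4,2,4,0,2,4,3,1,0,3,4,4,0,2,2,1,4,3,1,0,0,4,1,0,0,2,1,3,2,0,0,0,0,0,2,2,1,1,4,0,2,1,2,4,2,4,0,0,3,0,4,2,2,2,1,1,2,1,3,1,4,2,0,0,1,4,3,3,0,2,2,3,0,3,1,0,2,3,4,2,3,3,3,0,1,0,1,4],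
 [3,4,3,4,0,0,3,3,4,2,4,4,3,0,4,3,3,0,4,0,2,1,1,2,1,3,1,0,2,2,1,2,2,2,0,3,4,1,2,3,3,2,0,1,3,4,1,3,1,0,0,2,0,4,1,1,2,1,3,3,0,3,3,2,0,3,4,3,3,3,2,2,1,0,2,4,3,1,0,2,1,4,3,4,4,1,4,4,4,2,0,1,1,3,0,4,3,0,2,3,2,0,4,1,0,3,4,0,3,4,4],
 [3,0,3,3,0,3,1,1,4,3,0,1,2,1,3,0,2,3,4,1,3,1,3,0,0,2,0,4,1,1,3,2,1,4,1,2,1,4,3,2,2,1,2,0,4,2,2,2,2,0,2,2,2,4,0,0,1,1,1,1,4,0,3,4,1,3,4,1,2,0,3,0,0,1,4,2,3,4,2,2,4,3,3,0,4,1,3,1,0,1,2,1,3,2,2,3,1,2,1,2,4,0,4,1,0,2,4,3,1,0,2],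
 [3,1,4,3,1,0,0,3,0,0,3,2,4,1,2,1,0,2,1,4,0,0,0,0,0,4,1,1,1,0,2,2,2,0,4,0,3,3,2,0,4,0,1,0,1,2,0,3,2,0,1,2,1,1,4,2,2,3,3,3,0,0,2,0,0,2,0,2,3,4,4,4,1,1,3,1,3,0,4,3,0,4,2,1,0,3,0,3,0,0,0,4,2,2,0,4,1,1,2,0,4,4,3,0,2,1,1,2,2,2,1],
 [1,3,0,0,0,0,0,3,4,1,2,0,3,3,2,4,4,1,0,2,0,1,0,4,1,0,0,3,0,4,1,2,4,3,1,2,4,3,2,3,0,1,2,1,1,3,1,3,0,3,1,0,4,1,2,1,3,3,3,3,4,0,2,4,1,1,4,3,4,4,4,1,2,3,3,1,3,0,4,3,4,0,3,1,0,1,2,0,4,3,4,3,3,1,3,1,1,2,2,1,4,2,2,3,1,2,1,0,3,2,2],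
 [4,3,1,3,0,2,0,4,1,0,4,4,3,1,0,0,4,3,1,3,2,0,2,4,4,3,3,2,2,4,2,3,2,0,2,4,3,2,4,3,1,4,2,3,1,0,2,2,2,1,3,4,0,0,3,0,1,4,3,2,2,0,4,3,2,0,1,2,1,4,1,3,4,0,4,3,3,3,0,4,1,3,0,0,2,2,2,0,3,3,0,1,4,2,3,1,3,4,4,3,0,2,0,4,1,1,1,0,4,3,4],
 [2,1,4,1,0,3,0,1,1,0,4,2,2,0,4,0,0,1,3,2,2,4,0,1,4,2,2,3,0,3,4,1,0,1,0,2,4,2,4,4,0,2,3,1,0,4,2,0,4,1,3,1,1,0,3,1,2,0,0,1,1,3,2,1,0,4,0,2,3,4,4,0,1,1,0,1,0,2,2,0,3,4,1,1,3,1,3,1,0,4,1,0,4,3,1,0,3,3,4,2,1,3,0,1,2,4,3,0,3,0,4],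
 [1,4,3,3,0,2,1,2,1,2,1,1,2,4,1,2,3,2,2,0,0,0,3,3,3,3,3,0,3,0,0,3,4,4,4,1,2,4,1,0,3,1,3,1,2,1,3,1,2,2,4,1,1,2,4,2,0,1,3,1,1,0,2,4,3,4,0,3,3,3,0,1,3,3,1,1,1,3,4,3,0,3,4,1,0,3,2,2,4,2,1,2,4,4,2,0,1,3,0,1,3,0,4,2,3,3,3,0,2,2,0],
 [2,0,0,1,2,2,3,0,2,3,4,1,0,2,2,2,1,0,1,4,0,1,0,1,4,0,0,4,2,2,2,2,4,3,4,4,0,0,4,2,2,1,2,3,2,1,3,3,4,1,0,0,1,2,4,2,4,4,1,4,4,4,2,2,2,3,0,3,2,0,3,1,3,0,2,2,4,4,2,0,1,3,2,3,1,4,3,4,1,1,1,2,4,3,3,1,0,2,2,2,2,1,1,1,2,1,0,2,4,0,0],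
 [2,1,3,2,1,1,2,4,1,3,3,3,4,2,2,1,0,0,1,4,1,3,3,0,1,1,1,0,4,2,0,1,3,1,0,2,0,0,1,1,4,2,0,0,3,3,2,0,2,2,0,1,3,3,1,4,0,0,2,3,2,2,3,3,1,1,4,2,0,4,3,4,2,3,3,0,0,4,0,2,1,4,4,4,2,3,3,3,0,4,4,1,4,0,1,1,4,3,0,1,3,0,1,4,0,0,0,0,1,4,4],
 [3,1,3,0,0,4,2,2,1,4,0,4,4,2,0,2,2,3,4,3,0,3,1,3,2,1,2,2,2,3,4,3,0,2,2,1,1,2,1,0,4,3,3,1,2,1,2,3,2,4,2,3,4,4,3,3,0,0,0,0,1,0,0,1,1,4,0,1,0,0,1,4,1,3,1,4,2,1,3,0,0,1,0,1,2,2,3,3,3,2,3,1,3,3,4,3,2,2,4,4,0,2,3,3,2,1,2,1,2,2,4],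
 [4,2,0,3,1,0,0,1,0,0,4,2,1,1,1,1,1,3,1,2,3,3,2,0,0,0,0,1,0,2,2,4,3,4,0,4,3,2,2,4,1,1,0,4,4,4,3,3,1,2,4,3,0,0,4,4,0,1,3,1,3,3,0,3,2,1,2,3,4,2,4,2,1,3,3,3,4,4,3,1,4,3,0,0,4,2,1,3,4,0,2,2,4,4,0,3,2,3,3,1,3,3,2,4,3,4,3,1,3,1,2],
 [2,1,2,0,3,0,4,0,2,3,3,3,1,0,1,3,2,2,0,3,4,3,4,1,3,0,4,0,3,2,2,3,3,4,4,3,4,3,3,0,4,1,1,2,3,3,4,3,4,0,1,0,1,4,4,2,0,2,2,4,0,2,3,1,2,2,1,2,2,1,0,0,2,2,4,3,3,4,2,0,3,2,0,3,2,1,2,0,2,1,4,2,0,3,3,2,0,0,0,4,1,0,0,4,3,2,1,2,0,3,1],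
 [1,2,2,4,4,1,4,1,3,0,3,1,1,0,3,2,1,3,3,4,1,1,0,2,1,0,2,2,4,3,4,0,0,3,3,1,2,2,0,0,3,4,3,3,0,1,3,2,1,1,3,0,0,2,4,2,3,3,1,3,1,3,3,2,3,4,2,1,2,0,1,2,4,4,3,2,2,1,3,4,3,4,0,4,3,0,1,0,0,3,2,4,4,1,1,0,0,1,3,4,0,4,4,1,4,4,4,3,4,2,1],
 [1,0,3,3,2,0,4,3,1,0,2,4,4,0,1,2,1,4,1,1,2,0,1,4,0,1,1,2,4,3,3,4,2,2,3,2,4,4,0,0,3,0,0,3,4,2,3,3,3,1,2,0,3,0,3,0,4,2,1,4,4,3,2,2,1,3,0,4,2,3,3,4,4,4,2,4,2,0,3,1,2,2,1,4,2,1,0,1,4,0,4,3,3,4,2,0,0,2,3,1,4,2,0,4,2,0,0,4,1,1,4],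
 [4,2,2,4,0,3,4,4,3,3,2,2,0,3,3,1,1,1,4,1,1,0,2,2,2,4,1,0,4,0,4,0,1,2,0,0,4,3,4,1,2,3,2,4,2,3,4,4,1,1,1,0,2,2,3,1,3,2,0,3,4,4,3,3,1,3,3,3,0,4,0,3,0,2,0,1,1,3,0,3,1,3,2,0,0,4,4,4,3,0,2,2,3,4,4,1,1,1,4,1,4,4,4,2,2,1,0,0,4,4,4],
 [4,1,1,3,0,2,0,4,4,4,3,1,2,0,2,0,3,3,4,0,1,0,0,0,2,4,3,3,3,1,1,1,0,3,3,1,0,4,2,0,1,0,1,2,1,0,1,4,4,3,2,3,3,3,0,4,1,2,3,2,0,2,0,0,2,3,4,1,0,1,1,3,0,0,3,3,0,0,0,4,4,4,4,2,2,4,2,4,4,3,0,3,1,1,3,3,0,1,2,3,3,1,2,2,1,4,1,2,4,2,2],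
 [0,4,0,0,4,2,3,1,3,1,2,3,4,2,4,4,2,1,3,2,2,4,1,3,0,2,4,3,1,3,4,3,3,0,4,2,2,3,1,2,0,0,0,2,3,3,0,1,0,3,1,0,0,4,1,4,3,3,3,3,1,3,0,4,3,2,4,0,2,1,0,4,2,1,1,4,0,3,1,0,2,4,3,4,4,4,3,3,2,1,4,2,2,3,3,3,2,1,3,3,0,0,3,2,0,3,1,3,3,3,1],
 [4,0,2,2,1,2,2,0,4,1,0,4,3,2,2,3,0,2,1,3,4,4,1,2,4,4,1,3,2,0,3,3,4,3,1,1,1,4,0,0,4,2,2,1,3,3,0,3,4,4,4,3,4,1,2,0,2,3,0,0,1,4,0,3,3,4,0,0,3,4,3,3,2,2,4,1,2,1,0,4,3,3,2,2,0,1,3,3,3,1,0,4,1,1,2,3,1,4,1,4,2,4,4,2,2,3,1,3,1,0,3],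
 [3,3,1,1,2,0,4,2,1,0,2,2,3,1,1,1,0,0,2,2,0,3,4,3,2,4,0,0,0,4,1,0,4,1,4,3,1,0,0,3,2,0,1,0,3,4,4,3,1,0,2,3,0,0,1,2,3,2,0,4,1,3,3,0,2,0,4,1,3,4,1,2,1,3,4,3,3,3,4,0,4,0,0,4,1,2,0,4,1,1,3,1,3,3,1,2,3,3,0,4,1,3,1,0,2,0,4,4,3,2,2],
 [1,4,0,1,2,2,1,3,4,1,1,3,0,3,0,4,0,1,0,0,4,3,0,4,1,4,2,4,2,1,1,0,4,4,1,1,2,1,3,3,3,4,3,4,0,1,4,4,2,0,3,1,2,0,1,3,4,4,1,3,3,4,3,2,1,4,0,2,0,4,2,1,1,4,4,1,1,0,2,4,2,4,0,0,4,3,4,4,1,1,2,4,0,3,4,1,0,0,0,1,1,4,0,0,2,0,2,2,2,2,3],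
 [1,1,1,0,2,3,4,4,1,4,1,2,1,4,3,4,4,1,4,2,3,4,0,4,1,4,0,1,2,0,3,0,4,1,3,3,4,4,3,2,2,2,4,0,0,1,1,2,2,2,3,4,3,1,3,2,0,2,1,4,2,0,0,2,3,3,3,1,1,0,0,2,0,0,4,1,2,3,4,0,3,1,0,1,3,1,4,1,3,3,3,0,0,0,3,1,2,1,2,3,2,3,3,2,2,0,2,1,4,3,0],
 [4,4,1,0,0,0,0,3,2,2,1,4,0,2,4,3,1,0,1,2,2,3,0,3,1,1,1,2,1,1,2,2,3,2,0,2,4,1,2,4,2,3,2,3,0,3,2,0,3,2,3,4,3,4,1,0,3,0,1,1,3,1,2,1,0,2,4,3,1,2,2,3,1,4,4,0,4,1,2,4,2,2,4,4,0,2,1,3,1,2,1,0,3,2,3,3,2,4,2,1,4,0,1,3,3,2,2,1,1,1,1],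
 [3,1,3,1,2,4,4,2,0,3,0,4,4,3,3,0,4,2,4,4,3,0,1,2,2,4,4,1,4,4,0,0,4,0,0,2,1,3,1,4,4,1,4,1,3,2,3,4,1,1,3,3,3,3,1,0,3,2,3,0,0,3,3,1,1,2,2,2,1,0,1,2,0,0,3,3,4,4,2,1,1,2,1,3,0,3,3,4,4,0,2,3,0,0,3,2,1,3,4,2,0,4,1,4,2,2,2,0,2,0,1],
 [2,3,3,4,0,3,2,2,4,4,3,4,3,2,2,0,0,3,2,3,2,4,0,2,2,0,3,2,1,1,1,4,4,3,4,0,2,2,0,4,3,3,0,3,2,0,3,0,3,0,4,1,2,0,1,1,2,1,1,2,0,2,3,3,4,3,4,1,1,2,1,4,0,1,4,1,3,4,0,1,4,4,3,1,2,4,3,1,4,4,4,3,1,4,0,3,2,2,4,2,4,3,0,1,4,1,1,1,2,1,3],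
 [1,1,1,2,2,3,3,2,4,2,1,1,3,3,0,1,4,1,2,1,0,2,2,2,2,4,3,0,0,3,3,0,3,1,2,2,1,2,1,3,2,2,2,4,0,3,3,0,3,4,4,1,2,0,3,4,4,2,2,0,3,3,2,3,0,4,0,3,3,2,4,4,2,3,1,2,1,2,1,2,0,4,1,2,2,1,0,4,2,1,2,3,4,4,4,0,2,0,4,4,4,0,0,2,4,3,1,4,0,1,4],
 [0,0,2,2,2,2,1,1,2,1,1,2,1,1,3,4,2,4,0,2,4,1,2,0,3,0,1,4,3,3,3,2,0,1,4,0,0,0,3,3,2,4,4,1,4,1,0,0,0,1,4,2,3,4,1,1,0,3,0,3,4,0,2,2,1,2,2,0,2,2,1,4,3,3,1,1,2,2,3,4,3,4,4,1,4,3,4,1,0,1,0,4,1,4,3,1,0,1,2,1,3,0,1,1,4,1,2,4,4,1,3],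
 [4,4,4,3,4,2,4,4,4,3,1,0,0,0,3,4,0,2,1,0,2,1,2,2,4,2,1,4,4,1,4,3,1,0,2,1,3,4,2,3,4,0,4,3,3,1,4,0,1,1,0,4,3,2,0,4,1,3,3,3,2,0,3,2,4,1,2,2,0,3,1,1,4,1,2,4,4,3,1,4,3,0,2,1,1,2,0,0,4,3,0,2,2,3,4,0,0,0,1,2,0,1,4,1,2,2,3,0,2,1,4],
 [3,3,0,1,1,0,1,1,0,4,4,2,3,1,2,0,1,3,2,3,0,0,1,2,1,3,2,0,1,0,1,2,0,0,1,3,3,4,3,4,1,2,3,0,3,2,4,3,0,1,3,0,2,4,2,4,4,0,4,1,3,4,1,3,0,2,4,2,4,1,2,0,1,3,0,2,2,4,0,2,3,2,0,3,2,4,1,1,3,4,2,4,1,0,3,3,0,1,0,0,0,0,3,0,2,2,1,3,4,3,0],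
 [1,4,4,1,4,3,3,1,0,2,0,3,0,3,4,1,4,0,3,1,4,3,3,1,2,4,0,3,4,2,0,0,3,2,0,2,3,1,4,1,0,1,4,2,3,2,0,1,0,3,2,4,4,4,2,4,2,0,4,4,2,1,4,2,1,1,1,0,1,1,3,0,1,3,3,1,3,4,1,1,2,0,3,4,2,1,3,0,3,4,2,3,2,2,2,4,2,0,1,3,1,3,2,4,0,2,3,1,0,1,3],
 [4,1,2,0,3,4,4,3,4,4,3,1,3,3,3,2,0,1,1,1,3,2,3,3,1,2,3,2,3,3,2,2,2,1,2,4,2,2,2,3,3,2,1,3,0,4,1,0,0,4,1,4,3,2,4,4,4,4,4,2,2,4,4,0,1,2,4,3,3,0,2,0,2,1,4,1,0,1,0,1,4,4,0,4,3,3,4,0,3,1,0,0,4,3,1,1,0,2,2,2,1,0,4,1,0,2,1,3,0,2,1],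
 [3,2,3,4,0,4,1,4,4,3,3,1,2,2,3,2,1,0,4,2,2,4,2,4,3,0,3,4,1,2,2,1,1,1,1,4,1,3,3,2,1,1,1,1,4,4,2,1,3,2,4,0,3,3,1,3,4,3,3,4,0,1,2,0,0,0,2,3,1,1,1,3,4,3,2,1,3,1,1,4,1,1,3,2,4,4,3,0,4,3,2,1,2,0,2,4,3,0,3,3,4,0,3,2,3,3,3,0,3,4,1],
 [4,3,1,1,2,3,3,4,4,1,2,1,2,1,1,2,0,2,4,4,2,0,1,0,4,2,3,0,3,2,2,2,2,1,4,2,2,2,3,4,1,1,1,1,0,4,3,3,3,1,2,2,3,2,3,2,1,4,4,1,3,2,1,2,0,3,4,1,2,1,0,2,0,4,4,2,2,3,3,1,3,4,4,2,4,3,2,1,4,3,0,0,2,4,4,0,2,0,0,1,2,1,2,3,3,2,2,2,3,0,2],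
 [4,1,1,2,4,4,0,4,1,3,4,0,1,2,1,2,3,4,2,1,0,0,2,0,2,1,3,3,1,3,0,2,4,4,0,2,3,3,2,0,2,3,2,0,3,0,2,1,4,3,0,1,3,2,0,3,3,1,2,4,2,2,4,3,1,1,4,1,2,4,1,4,2,0,3,4,1,1,0,2,1,4,4,2,1,4,1,1,3,4,2,2,3,2,3,0,3,1,4,1,0,2,0,3,0,3,1,4,1,4,2],
 [1,4,1,1,0,0,3,0,0,1,4,3,1,4,3,2,3,3,1,2,1,0,0,4,3,1,3,3,1,0,0,0,2,0,1,1,0,0,1,3,3,4,0,2,3,3,4,3,1,0,3,3,4,4,1,1,1,4,3,0,1,1,2,4,1,0,3,1,4,4,0,0,2,3,1,3,2,3,4,4,1,0,3,1,4,3,3,1,1,4,0,3,2,1,3,3,4,3,3,4,3,0,4,0,3,2,1,3,3,3,2],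
 [1,1,0,4,0,1,3,1,3,0,4,0,4,0,0,1,3,4,3,1,3,2,4,3,3,2,0,2,3,3,4,1,0,0,3,1,2,0,0,0,4,3,0,0,0,4,2,1,4,3,3,0,2,1,2,2,4,3,2,4,4,2,4,3,2,3,1,3,3,2,3,2,1,2,0,2,3,1,3,1,2,4,1,3,1,2,1,2,0,3,3,0,0,3,4,3,4,3,0,2,4,1,2,0,0,4,3,2,1,2,1],
 [4,4,0,0,1,2,2,3,0,0,3,2,2,2,0,2,4,4,1,4,0,3,0,1,1,2,0,4,3,3,1,1,4,4,2,2,0,2,1,0,0,1,1,4,2,1,1,1,4,2,1,0,4,4,0,1,4,3,3,1,3,3,4,0,3,2,3,4,1,1,1,1,1,1,3,4,1,4,1,1,4,3,4,3,3,0,0,1,4,4,2,0,2,4,3,3,2,0,1,2,3,2,2,3,1,1,0,0,4,0,2],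
 [1,0,1,1,4,3,3,1,2,3,2,2,3,1,1,2,4,2,2,4,0,2,3,3,1,3,1,3,3,3,2,4,0,4,4,1,1,0,2,0,4,0,0,2,4,0,3,3,2,0,3,0,4,3,0,1,3,4,1,3,2,3,2,2,1,3,2,0,2,1,2,1,1,1,4,1,4,1,1,3,3,1,2,3,0,4,4,0,2,1,2,1,2,1,1,0,4,0,2,3,0,0,3,0,3,2,1,1,0,2,1],
 [2,0,4,0,2,1,0,3,1,2,2,0,3,0,4,2,3,2,2,3,3,1,0,1,1,4,0,1,0,2,4,3,4,3,4,2,0,1,0,4,0,2,2,1,1,4,0,3,3,1,2,4,3,2,3,1,3,0,4,0,4,3,2,3,0,4,1,3,2,4,4,3,4,2,1,2,4,1,1,2,4,0,0,1,3,1,4,3,2,0,3,3,3,3,3,1,2,0,3,4,3,1,3,4,2,1,4,0,3,2,3],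
 [4,0,0,0,2,1,3,3,3,1,2,3,3,3,1,4,1,0,3,3,1,1,4,0,0,3,4,3,1,1,1,4,4,2,1,2,1,4,0,4,3,2,2,2,0,2,4,2,4,0,4,2,4,2,2,3,3,4,0,3,2,4,0,2,4,1,1,1,0,1,3,2,0,0,1,4,3,0,2,3,2,2,1,4,1,2,3,0,0,2,1,0,2,0,1,2,1,4,0,1,1,0,2,0,3,4,3,0,1,1,3],
 [1,0,0,3,0,4,1,3,4,2,4,1,3,4,2,3,4,0,2,3,2,1,0,2,0,2,4,2,3,2,0,0,2,2,1,2,0,2,2,2,4,0,0,3,2,2,1,2,0,4,2,0,1,3,1,3,0,3,4,2,0,0,0,1,1,1,0,4,4,3,3,3,3,1,1,0,4,0,2,0,1,4,1,1,2,1,3,0,0,2,0,1,1,4,1,4,2,1,1,2,4,0,2,1,3,3,4,4,0,4,4],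
 [4,3,0,0,4,0,2,2,3,1,3,2,0,0,2,3,4,0,0,3,1,2,2,3,4,4,1,2,2,4,3,2,1,2,0,0,0,1,4,3,0,0,4,0,0,4,1,2,1,4,2,0,3,1,2,4,2,4,2,0,2,1,1,4,1,0,1,4,1,0,1,1,1,4,2,1,0,2,3,3,4,4,4,3,4,2,2,2,0,0,1,3,2,1,3,1,1,4,0,0,0,3,4,3,0,2,1,1,2,2,3],
 [3,2,2,3,2,4,3,1,2,0,2,2,3,4,1,1,2,0,1,2,1,4,4,1,0,1,4,2,3,2,3,4,2,0,2,1,2,4,4,4,2,1,4,3,3,4,3,3,0,1,1,4,1,2,0,1,0,2,0,4,2,0,0,4,0,1,0,0,2,3,0,2,2,4,4,4,2,2,0,2,3,0,0,2,3,2,1,2,2,3,2,4,2,2,3,0,1,1,2,4,1,3,3,2,4,1,4,3,0,3,1],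
 [0,0,4,3,2,3,4,2,2,2,2,2,0,1,0,3,0,1,1,1,0,4,2,3,4,4,3,4,1,0,2,4,0,3,3,3,1,3,2,3,2,0,1,3,0,1,4,1,2,1,3,0,2,0,3,0,3,2,3,4,0,2,2,3,0,3,0,1,3,1,0,2,4,1,0,0,3,0,0,4,4,0,0,2,4,2,1,2,3,0,2,1,2,1,2,4,4,2,1,3,3,3,3,3,1,2,0,1,1,3,1],
 [4,4,0,1,1,2,3,3,4,2,1,2,0,2,1,2,1,0,1,3,0,4,2,0,2,3,1,1,2,1,3,3,0,4,3,0,2,2,4,2,3,3,2,4,3,0,0,2,0,1,3,2,2,3,2,4,2,3,0,1,0,2,0,2,2,3,3,0,2,3,0,0,0,3,4,4,1,1,1,4,2,4,4,4,3,3,0,2,4,2,2,4,3,1,2,4,4,1,4,3,0,3,1,1,2,2,1,4,4,3,2],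
 [1,2,4,1,1,4,3,3,3,0,2,4,2,0,4,0,0,4,3,1,4,2,0,3,0,0,2,3,4,2,4,2,4,2,4,4,1,1,1,2,2,4,1,4,0,1,0,4,1,3,1,4,3,4,4,0,1,2,1,0,4,4,2,0,1,0,1,3,1,3,1,4,3,2,0,0,0,1,1,4,4,3,4,4,3,3,0,2,0,4,2,1,1,0,1,0,3,2,3,4,4,0,1,0,4,3,2,0,3,2,2],
 [4,4,3,1,2,4,0,3,3,4,0,2,2,1,0,0,2,3,3,1,2,0,1,3,3,1,4,1,3,4,1,4,4,2,4,4,2,4,4,2,4,1,0,3,4,0,1,1,0,1,1,2,1,1,0,4,2,0,4,1,4,4,3,2,2,2,2,3,2,3,3,2,4,0,2,3,2,1,3,3,2,2,2,0,4,1,1,4,0,2,1,3,0,0,1,3,3,3,4,4,0,1,4,1,3,4,1,4,4,0,1],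
 [2,0,0,1,1,1,0,0,3,0,0,3,4,1,0,4,0,3,4,1,4,1,4,3,4,0,2,1,1,1,0,0,4,1,3,1,4,3,1,0,3,1,2,4,0,0,0,4,4,0,3,2,1,3,0,0,3,3,0,2,4,4,2,2,0,4,3,0,4,4,0,1,0,3,2,2,3,2,0,3,2,1,2,4,4,3,1,1,1,4,3,3,4,3,0,1,3,2,2,1,1,2,3,2,0,4,1,0,4,1,0],
 [1,0,1,2,3,1,2,1,4,0,0,1,2,4,0,3,4,4,4,1,1,1,3,1,3,3,1,1,0,1,3,4,2,0,2,1,3,1,1,0,3,1,0,4,2,1,3,2,3,1,0,3,0,1,0,4,0,2,1,2,4,4,4,4,3,1,0,0,4,3,1,4,1,1,0,2,4,1,4,0,1,4,0,3,2,3,2,1,4,0,2,1,3,0,4,4,3,1,1,0,4,2,3,4,1,4,2,1,4,4,0],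
 [4,4,2,0,4,3,4,2,1,0,0,1,1,4,1,3,1,4,3,0,3,2,3,1,3,3,3,2,2,0,3,1,2,2,1,1,1,2,4,3,0,0,0,3,0,1,4,1,2,0,2,2,2,3,3,2,2,2,3,4,1,0,3,0,0,3,3,3,0,2,2,0,2,0,3,0,4,2,3,2,1,4,4,4,1,1,1,1,3,2,0,0,4,1,0,3,1,1,3,3,0,1,4,2,4,0,0,0,4,0,4],
 [1,0,2,2,3,2,0,0,4,2,1,2,4,1,4,4,3,1,0,1,2,0,4,0,1,1,4,4,1,3,3,3,0,2,2,1,4,0,1,2,1,1,4,1,3,4,3,3,3,4,3,0,4,4,3,2,1,3,1,3,2,0,2,0,0,3,4,2,1,3,4,1,1,0,4,1,1,3,2,0,3,1,3,3,1,1,3,2,3,4,0,0,2,2,0,0,0,3,3,3,0,0,4,3,4,0,1,1,3,0,0],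
 [0,4,2,3,1,3,2,3,3,1,4,3,2,0,4,3,0,4,1,2,2,3,2,0,2,1,0,1,4,0,3,2,4,0,4,1,0,1,3,3,1,2,0,2,0,4,0,0,1,0,2,0,0,3,0,3,4,0,3,3,2,1,0,3,4,4,2,0,0,0,1,1,0,1,1,1,0,1,2,2,2,2,0,1,3,0,2,2,3,4,1,0,1,3,1,0,0,3,3,4,3,2,1,1,4,4,0,0,2,1,4],
 [1,1,2,1,3,3,4,2,0,1,0,3,2,3,1,2,4,0,3,2,2,3,1,0,1,3,0,3,3,0,2,0,2,0,1,2,2,4,4,0,0,0,1,2,1,0,1,1,2,2,0,3,1,1,3,2,0,2,2,4,3,0,4,4,1,3,1,4,4,4,3,0,0,2,3,4,3,0,2,2,3,3,4,0,2,1,2,2,0,4,2,0,2,3,2,3,1,4,1,4,3,2,1,1,3,4,2,0,4,4,3],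
 [4,0,3,3,2,3,1,2,2,1,0,0,4,2,0,2,4,2,0,2,0,0,2,0,2,4,2,2,3,4,4,1,4,0,2,4,0,0,0,2,2,4,1,4,1,4,2,1,2,2,1,0,2,0,1,0,2,3,3,0,3,4,3,4,4,3,2,1,0,3,0,0,3,0,3,2,2,0,0,3,4,2,4,3,0,1,3,0,4,1,4,1,3,4,3,4,3,3,1,2,3,0,1,4,1,4,2,4,1,1,2],
 [3,2,1,0,3,2,4,4,0,4,4,3,4,2,2,1,0,0,2,3,4,3,3,4,1,4,1,1,4,3,1,3,2,0,4,0,0,2,1,4,2,3,4,3,0,0,3,0,2,4,1,2,4,1,3,0,3,1,3,2,0,0,4,0,1,1,0,2,3,4,2,3,0,3,2,2,4,4,4,3,4,2,3,1,2,4,4,3,0,3,1,4,4,3,0,1,4,1,0,1,4,0,0,2,1,3,1,2,0,4,2],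
 [0,2,1,3,4,1,3,4,3,2,2,1,4,1,2,4,1,3,0,0,3,4,3,0,4,4,2,1,1,4,3,3,2,3,2,4,2,4,2,2,3,2,1,0,1,1,1,2,4,2,0,0,0,3,2,0,3,2,4,3,2,3,2,1,1,1,0,1,3,1,1,4,1,4,1,2,1,3,1,3,4,2,4,4,0,4,2,0,0,0,1,1,2,4,4,2,3,1,4,0,3,4,3,0,0,2,0,1,4,4,2],
 [4,0,2,4,1,3,1,1,3,2,4,4,2,4,2,1,4,1,0,2,2,4,0,2,0,3,0,3,2,3,0,3,3,0,3,3,3,3,1,4,1,0,3,0,4,2,4,4,2,0,1,4,0,3,4,2,2,2,2,3,1,1,4,1,0,0,3,3,4,1,3,2,0,0,2,1,1,0,2,0,4,4,4,1,4,2,4,2,0,1,0,2,2,3,2,3,0,1,0,1,3,3,0,0,1,4,0,2,1,3,2],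
 [1,1,0,2,1,2,4,0,1,1,1,2,4,4,2,4,1,1,1,3,2,0,2,0,4,1,1,0,3,3,2,4,1,3,0,0,0,3,4,2,0,1,3,4,2,4,3,2,2,0,0,2,0,2,3,3,1,0,3,0,1,2,0,3,4,4,2,1,4,1,3,3,3,1,1,3,4,3,3,1,2,1,4,1,1,2,1,3,3,4,4,2,1,0,0,3,1,0,0,1,1,0,0,1,1,0,3,1,4,3,1],
 [4,4,0,4,1,2,4,0,4,0,2,0,2,0,2,1,4,4,0,1,1,0,0,3,0,4,1,1,0,2,3,0,2,0,4,2,0,4,3,1,1,3,3,1,2,4,1,2,0,3,2,2,3,3,0,3,2,3,0,0,2,1,1,3,2,4,2,0,2,2,1,2,4,3,1,4,3,0,4,2,2,4,0,4,1,3,4,3,0,1,4,1,1,1,2,4,2,3,1,1,0,4,2,3,3,0,3,3,4,3,4],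
 [0,2,3,3,1,4,2,0,1,3,3,4,0,0,1,3,0,0,0,2,2,4,4,4,1,1,3,0,1,1,3,3,1,1,0,2,3,3,2,3,0,1,4,3,1,2,3,1,0,4,0,0,0,1,4,1,2,2,2,1,2,1,0,4,2,1,2,0,0,0,1,2,1,4,0,3,1,4,4,0,2,1,0,1,1,2,3,1,4,4,2,0,4,2,1,2,1,0,4,0,1,3,0,1,1,4,4,2,1,1,3],
 [3,3,3,1,4,4,0,3,4,4,0,4,4,2,2,0,2,4,0,2,0,3,2,0,2,2,0,3,3,4,1,1,1,1,2,2,0,1,3,2,4,4,0,3,4,1,0,3,1,2,1,2,0,3,3,3,3,4,1,0,3,0,3,2,1,2,3,0,3,2,2,1,3,2,1,1,4,2,1,0,3,2,2,4,4,3,4,3,3,3,0,2,2,0,0,4,4,3,0,3,3,4,4,0,1,2,2,4,2,0,2],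
 [4,4,1,1,4,2,3,1,3,3,3,4,4,4,2,3,4,4,1,2,3,3,4,3,3,4,3,2,1,0,0,0,1,0,3,4,2,2,1,0,2,1,4,3,1,2,0,4,4,4,4,2,2,3,3,3,1,2,0,1,4,0,2,4,0,0,2,1,3,3,0,2,2,2,4,3,1,0,2,0,0,3,1,0,4,4,1,3,3,4,4,1,1,4,3,4,1,2,1,4,2,1,1,4,0,4,0,3,2,0,3],
 [2,0,2,4,4,2,1,0,3,1,1,4,2,1,1,2,1,3,2,4,2,2,1,3,3,1,2,0,4,2,1,2,2,2,1,1,0,2,0,2,0,1,4,1,0,2,2,2,4,2,4,2,1,0,0,1,1,0,4,1,3,3,2,3,0,2,4,4,0,1,3,0,4,2,2,2,3,0,1,3,4,0,3,4,1,0,4,2,0,0,1,2,2,1,2,1,3,2,0,4,0,0,2,0,4,1,1,3,3,0,4],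
 [1,1,4,2,1,4,2,2,2,4,2,2,3,2,1,3,3,2,1,2,2,1,4,1,0,3,3,2,2,1,4,4,3,0,3,2,2,4,1,3,4,1,4,0,1,2,0,1,1,1,0,2,2,0,4,4,2,0,4,2,3,0,2,4,1,1,1,2,2,3,1,0,0,1,4,4,3,3,0,2,0,2,3,4,4,1,0,0,2,1,4,3,2,2,3,3,3,2,0,1,1,1,2,2,1,0,4,4,0,0,2],
 [3,3,1,0,4,4,4,4,1,2,1,0,4,4,1,1,3,3,3,2,1,3,1,4,1,1,1,3,0,3,3,1,0,2,1,4,0,3,1,4,1,2,2,2,2,3,0,1,3,3,1,4,1,1,2,3,4,1,2,1,3,4,1,1,3,2,4,3,3,3,4,2,3,4,4,1,2,0,1,1,3,3,4,0,0,1,1,3,4,4,1,0,1,0,2,1,2,0,4,1,4,1,2,4,3,1,1,1,2,1,4],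
 [3,3,0,4,2,3,0,3,1,4,3,2,1,2,1,4,3,1,3,4,3,4,2,0,1,3,2,3,0,4,1,2,0,4,3,1,3,4,0,2,3,1,0,4,2,2,2,3,1,4,1,0,4,1,4,1,3,3,0,0,3,4,2,4,3,3,2,0,2,0,3,0,0,3,3,2,1,1,4,0,2,2,4,3,1,1,3,1,1,1,0,1,1,1,3,4,2,0,0,2,2,0,2,0,4,1,1,0,2,0,3],
 [4,2,1,0,0,0,1,0,4,3,2,0,1,3,4,4,2,2,2,3,4,2,3,4,1,4,0,4,1,4,1,2,0,1,1,0,4,2,0,4,4,0,0,1,4,1,4,3,3,1,2,2,4,2,1,1,0,3,1,4,1,4,0,3,1,0,2,0,2,1,4,0,0,3,3,2,4,0,4,2,4,1,1,2,4,3,0,1,3,0,0,0,0,4,0,0,0,2,3,3,2,4,2,2,2,1,3,3,4,4,2],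
 [4,0,0,1,4,3,2,0,4,0,0,3,1,0,3,4,1,4,1,3,1,4,3,1,4,0,2,4,2,3,2,1,1,2,4,0,2,1,0,4,2,3,4,2,3,0,0,3,0,4,2,2,2,4,1,2,3,0,1,0,3,3,0,4,2,3,4,1,4,4,0,2,2,4,2,3,4,0,0,1,2,1,2,1,4,3,0,0,4,4,1,2,3,4,1,0,3,0,2,4,3,1,3,4,2,0,0,1,1,2,2],
 [0,1,0,0,2,4,3,0,4,4,2,4,3,3,0,3,0,4,3,4,3,4,3,0,3,3,3,3,1,1,1,1,3,4,2,3,3,0,1,2,1,2,3,3,0,1,0,2,4,0,0,4,0,2,1,2,0,0,3,1,1,1,3,0,4,3,4,4,1,1,1,0,2,0,2,4,2,0,1,4,3,0,1,4,2,2,3,1,0,3,3,4,1,2,4,3,2,1,0,4,4,2,1,3,3,3,0,3,4,3,4],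
 [3,0,1,4,3,3,2,1,3,4,2,0,3,2,4,0,4,3,1,2,0,2,2,0,2,0,2,3,1,2,4,4,1,0,4,4,4,3,3,0,3,0,2,1,4,3,0,3,0,3,3,3,4,1,0,2,1,4,2,0,3,3,3,1,4,1,0,2,0,1,2,4,1,2,2,0,2,0,0,1,3,1,0,1,3,0,0,4,1,2,4,4,3,1,1,2,1,4,2,1,4,1,4,2,4,3,1,4,3,2,0],
 [1,4,0,1,3,2,4,3,1,1,4,1,4,4,3,0,1,4,3,3,3,4,3,2,4,3,4,1,4,4,4,2,1,4,0,0,1,0,4,4,2,2,0,2,2,0,4,4,0,3,2,0,4,0,3,4,0,1,0,0,4,2,1,0,2,4,1,0,0,3,2,1,1,1,3,0,0,4,4,4,3,1,2,0,2,2,4,2,4,0,3,3,4,3,0,2,1,1,4,3,4,0,0,4,2,0,0,4,4,3,3],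
 [2,3,4,2,3,2,4,3,0,1,4,0,2,4,4,0,2,2,2,2,0,4,1,0,1,0,2,0,0,4,0,0,3,3,2,1,4,0,2,0,0,1,4,1,1,4,0,4,0,0,2,1,4,1,1,4,4,0,3,3,1,4,2,2,2,2,4,4,0,2,4,3,1,1,4,0,2,1,0,4,1,3,4,2,2,2,3,4,2,0,2,3,3,1,1,4,2,0,4,2,0,4,3,2,0,1,2,3,0,4,4],
 [1,1,2,1,4,0,3,0,0,2,4,2,0,3,4,3,2,0,4,4,2,2,4,2,1,2,3,1,3,2,0,4,2,4,1,0,0,1,0,3,1,3,2,4,0,3,0,3,3,3,0,3,0,4,2,3,2,0,0,3,1,1,0,1,2,3,1,2,1,3,0,4,3,0,2,3,1,2,3,0,2,2,1,3,0,4,4,0,0,1,0,1,4,4,4,2,1,3,4,1,0,3,1,1,2,4,2,4,1,2,0],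
 [4,1,2,0,2,2,3,1,3,2,3,2,2,2,1,1,3,1,4,0,2,0,2,1,1,0,1,2,4,1,1,2,1,1,3,1,2,0,3,0,2,4,1,1,0,3,1,2,4,3,2,2,0,0,4,2,4,1,0,1,0,4,1,2,4,3,1,1,2,3,0,0,2,3,0,3,1,4,3,1,1,3,0,4,0,1,1,3,1,1,3,0,0,4,4,1,2,4,2,0,2,4,0,0,1,1,1,1,1,2,2],
 [1,0,4,1,2,4,2,2,2,2,0,0,4,4,3,1,3,2,4,2,3,0,3,4,0,1,2,0,0,0,0,3,0,4,1,3,3,3,2,3,3,1,1,3,2,4,2,3,4,4,2,3,0,0,2,1,2,1,3,1,1,4,3,1,1,2,0,1,0,1,2,4,1,3,3,3,4,0,0,1,3,1,0,4,4,1,2,4,1,0,4,2,2,4,2,3,1,1,1,3,3,1,0,4,1,0,0,3,0,4,4],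
 [1,3,2,3,2,0,3,1,3,3,3,3,0,1,1,3,1,1,3,3,2,4,2,2,4,2,0,2,0,4,4,2,4,2,0,3,3,0,3,4,4,0,1,4,1,3,2,0,0,2,4,1,1,2,1,3,3,0,0,1,0,4,2,3,2,4,2,4,1,3,4,0,3,4,3,0,0,0,2,3,2,3,1,4,0,1,4,4,4,0,3,1,3,0,2,4,2,1,3,1,4,1,3,2,0,0,0,4,4,2,1],
 [3,3,0,4,3,0,1,1,0,1,0,2,2,3,2,3,1,4,4,2,3,3,3,4,0,2,0,4,4,4,4,3,2,3,1,0,2,1,4,0,4,2,3,4,3,2,3,0,4,1,0,4,2,4,1,2,1,4,2,0,3,2,3,3,3,3,2,4,4,2,0,3,4,0,3,2,2,2,2,4,4,2,0,2,4,1,4,2,1,3,0,1,0,1,1,4,4,1,1,1,3,0,0,3,1,0,1,2,1,0,3],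
 [3,4,1,1,3,2,0,4,2,1,1,0,2,2,0,0,0,3,0,1,0,4,2,2,3,2,3,2,4,4,2,2,1,1,0,4,0,0,3,4,3,3,3,3,0,3,1,1,2,1,4,3,2,0,4,2,3,1,2,4,3,4,0,2,2,2,0,4,4,1,4,4,2,0,1,3,0,4,1,0,3,2,2,2,2,1,2,1,4,3,4,4,2,3,4,0,3,4,2,1,0,3,3,4,3,3,3,0,4,1,2],
 [0,2,3,0,4,1,0,2,2,4,1,2,4,4,2,2,2,4,4,4,4,4,1,0,4,4,2,0,0,4,0,4,0,0,0,3,3,0,2,1,1,1,4,3,1,4,1,0,4,0,3,4,4,3,4,4,2,1,1,2,2,4,4,0,3,0,2,4,0,2,2,3,2,1,3,0,2,3,2,1,2,4,3,0,1,4,0,1,4,4,0,2,2,2,2,1,2,0,0,1,4,3,3,1,2,2,0,1,4,3,1],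
 [3,3,3,2,4,0,2,3,4,4,3,2,3,3,3,0,2,4,4,3,4,2,4,3,1,4,3,3,2,1,3,3,2,3,2,2,1,2,0,4,0,1,0,0,4,3,1,0,3,0,4,4,0,3,3,3,3,0,4,4,3,4,0,2,3,3,0,3,0,3,2,0,1,1,4,3,2,1,0,3,2,2,0,2,0,4,4,2,4,2,2,4,3,0,1,0,3,2,2,0,4,1,2,3,2,0,3,3,1,4,4],
 [4,1,0,0,0,1,1,3,2,0,3,3,4,2,1,4,2,0,4,2,3,1,3,1,2,2,1,2,1,2,1,3,0,4,3,3,3,3,4,1,1,3,2,1,3,3,1,4,0,3,1,3,1,3,3,4,0,2,4,3,0,1,4,1,2,1,1,1,1,1,0,2,0,2,3,3,3,2,3,3,3,4,2,0,3,3,0,4,0,4,1,3,1,3,0,3,2,1,2,4,2,2,0,0,4,1,3,3,4,0,0],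
 [1,0,3,0,1,0,2,0,0,4,0,2,3,0,4,4,4,0,3,0,0,4,0,3,3,4,2,2,1,4,4,1,2,4,1,4,4,3,4,3,1,1,1,2,1,2,2,0,4,1,1,3,2,0,0,0,2,1,0,2,2,2,4,4,1,3,0,3,2,2,3,2,3,1,3,4,2,0,4,2,1,1,0,2,1,3,1,4,4,3,4,0,4,1,1,1,1,3,4,3,0,3,0,2,4,0,0,2,3,0,4],
 [1,1,3,2,4,1,0,2,4,2,0,1,0,1,0,0,1,1,3,4,4,2,1,2,4,4,4,3,1,0,0,4,2,3,1,0,2,0,4,0,0,0,3,2,2,4,0,4,0,1,4,2,2,2,4,3,2,2,0,2,0,0,4,3,3,4,0,2,4,1,4,3,2,0,4,2,0,3,3,0,3,2,0,4,3,2,3,3,4,3,1,0,4,0,2,3,0,3,0,2,3,4,4,2,3,3,1,1,3,4,0],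
 [0,0,0,1,0,4,2,0,3,3,2,0,2,3,0,4,0,3,4,2,1,3,4,3,0,4,4,3,0,0,2,4,3,0,1,4,4,2,2,4,0,3,1,4,0,4,4,3,4,1,0,2,0,2,1,3,3,1,2,2,2,4,1,0,2,2,1,0,3,2,2,2,1,2,4,4,3,3,4,0,0,3,2,2,3,2,2,0,1,4,3,4,0,4,4,2,1,4,2,3,3,4,2,0,4,3,0,2,3,2,2],
 [2,1,4,2,4,3,4,4,4,2,4,2,1,2,4,2,3,4,4,4,3,0,1,4,0,2,2,3,2,0,1,1,4,0,0,0,2,0,1,1,2,0,3,2,2,3,2,3,0,1,1,4,2,4,4,4,1,0,2,4,1,0,2,1,2,3,0,2,1,4,4,0,1,3,3,0,0,3,2,1,3,2,4,3,1,1,4,1,4,2,4,3,1,2,2,3,1,3,1,0,0,1,0,2,0,4,2,4,1,0,4],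
 [1,0,0,3,2,2,2,1,2,3,1,3,1,2,0,1,4,1,0,2,4,3,2,0,3,0,4,0,0,1,2,2,3,2,0,2,3,0,0,2,2,1,0,4,3,3,2,2,3,3,2,0,2,0,1,0,4,0,0,4,0,4,0,2,0,2,4,4,4,3,1,1,4,3,0,2,3,4,3,0,4,4,3,0,0,2,1,3,2,3,4,0,2,2,4,4,1,4,1,1,1,0,1,4,1,2,1,0,4,3,3],
 [2,4,1,3,0,2,3,4,4,1,2,2,1,4,3,3,2,1,2,3,0,4,1,2,0,1,4,4,3,1,1,1,0,1,2,2,3,3,4,3,0,2,2,1,2,0,4,3,2,3,3,2,2,1,2,1,3,3,2,2,4,1,4,0,1,2,0,1,4,2,2,4,0,3,0,1,2,1,3,3,1,2,2,4,2,1,2,3,2,0,2,3,2,3,0,0,3,2,0,3,0,0,1,2,4,2,1,3,0,4,4],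
 [0,2,1,2,4,1,0,0,1,4,1,3,2,2,1,1,1,4,0,2,0,1,2,4,4,4,1,0,3,1,3,3,4,4,4,1,0,0,1,4,1,2,1,1,3,1,0,1,0,3,2,0,0,0,3,0,2,1,0,0,2,2,3,0,0,2,0,2,1,2,3,1,2,4,2,2,0,4,2,3,3,1,1,2,3,2,1,4,4,1,0,4,1,4,3,3,3,2,2,0,4,1,1,1,3,1,3,1,1,1,0],
 [1,1,2,4,3,2,0,2,2,2,4,2,0,2,4,3,2,1,0,3,1,0,0,2,2,0,4,2,3,2,1,4,0,0,1,3,3,2,4,2,0,2,1,1,2,3,2,3,4,0,4,0,2,0,0,0,4,1,0,2,4,1,3,1,0,3,1,0,3,0,1,2,4,4,0,1,4,2,0,3,2,2,3,3,4,0,3,3,1,1,0,4,4,1,3,2,3,1,0,2,1,3,4,3,3,4,0,1,0,2,4],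
 [4,0,1,4,0,0,1,1,3,0,1,4,0,1,2,2,3,3,4,3,3,0,0,4,4,1,2,4,0,4,4,0,3,2,4,2,4,4,3,4,2,4,3,3,0,2,4,2,2,3,3,1,1,2,0,3,1,1,3,0,1,3,4,1,4,1,0,0,3,0,2,3,4,2,2,0,2,0,3,0,0,1,3,3,3,4,1,4,0,3,1,0,2,3,0,2,1,4,2,3,2,1,2,2,2,1,1,3,0,3,2],
 [3,3,0,1,0,3,4,1,1,4,0,3,2,4,1,3,2,3,3,4,2,3,2,3,3,3,2,4,4,0,1,4,2,0,1,3,2,4,1,0,4,4,2,3,1,2,1,3,2,2,1,1,4,1,4,1,3,0,0,2,0,2,4,0,3,0,2,2,3,3,1,1,0,2,1,4,3,4,4,0,3,2,1,4,1,4,1,0,1,3,4,3,2,3,1,0,2,4,3,0,4,2,1,1,3,0,0,2,0,0,1],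
 [0,2,0,4,2,4,2,0,1,2,3,4,2,2,3,4,2,1,2,2,2,0,1,0,2,4,0,2,0,0,1,1,4,2,1,2,2,2,0,4,2,3,4,0,2,0,4,4,3,2,3,2,3,2,2,1,1,2,0,4,4,4,0,0,2,0,0,1,4,0,0,0,4,0,2,4,2,0,0,4,2,4,1,2,2,4,2,4,2,4,1,2,3,4,4,1,0,3,1,4,3,0,1,3,0,1,2,4,4,0,4],
 [1,1,0,2,2,0,3,1,0,4,4,1,2,2,3,4,4,3,2,0,1,2,1,1,2,0,1,3,2,0,2,4,3,3,2,4,2,0,3,1,1,0,3,3,0,3,1,4,1,0,1,4,0,3,0,4,3,3,4,2,0,1,4,4,2,2,3,0,1,2,4,3,2,2,0,0,2,2,2,0,1,4,3,1,4,1,1,1,3,4,2,0,3,1,3,4,0,1,4,3,4,0,3,2,2,4,4,4,3,0,1],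
 [0,4,4,4,2,2,1,0,1,2,0,3,0,1,4,3,3,4,4,4,3,3,0,4,4,1,2,4,4,4,0,2,2,3,3,1,0,2,2,0,4,0,3,2,1,0,0,2,4,0,4,3,1,1,2,3,1,2,4,4,0,1,1,1,2,2,4,3,3,2,0,0,2,0,1,2,1,0,0,1,4,0,2,1,1,3,4,0,3,3,0,2,0,2,2,3,2,3,3,3,0,3,0,3,2,1,4,0,4,3,4],
 [3,2,4,3,1,4,3,2,0,1,4,2,2,0,1,0,0,1,4,1,4,2,2,1,4,4,4,3,4,1,4,4,2,3,3,1,4,0,3,2,0,4,3,0,0,1,4,0,1,3,3,4,3,0,4,4,4,0,1,4,1,2,1,1,3,0,1,1,3,4,2,1,4,2,2,2,1,4,4,1,2,4,4,4,1,4,3,1,1,0,3,2,0,3,2,3,2,3,3,4,1,3,0,4,0,3,1,2,4,2,0],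
 [1,0,0,0,2,2,1,2,4,0,4,2,2,4,2,3,1,4,4,1,2,3,3,0,0,2,0,4,3,0,1,0,1,3,3,4,1,4,4,4,1,3,3,2,1,4,4,2,4,4,2,0,4,0,4,0,1,3,3,4,0,2,4,3,3,0,0,3,2,1,0,4,1,3,1,4,2,4,4,3,2,4,2,1,0,1,3,0,2,0,1,3,3,4,1,2,4,2,0,3,4,3,3,3,3,2,0,0,2,4,2],
 [0,0,4,0,2,2,3,1,4,2,4,2,3,3,4,1,4,1,0,4,1,4,1,3,2,0,4,4,0,0,4,1,4,3,2,3,3,3,4,1,0,1,2,3,3,2,1,3,2,3,1,4,3,1,1,1,1,0,4,3,4,0,2,0,3,3,4,0,2,4,1,4,1,0,3,2,0,3,2,3,4,3,4,3,3,4,4,1,3,1,0,1,4,4,2,1,4,2,3,3,2,0,3,0,3,2,2,0,1,2,3],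
 [1,1,4,4,4,0,0,4,3,1,4,3,3,3,2,0,3,1,0,4,2,4,4,1,0,1,2,2,1,3,4,2,2,3,3,2,0,4,3,3,1,2,4,3,0,1,4,1,2,2,0,1,2,3,4,4,4,1,2,1,2,1,1,2,4,2,1,2,1,1,2,0,1,2,1,0,2,2,1,1,2,3,0,3,2,0,4,0,0,1,1,1,0,4,3,4,4,0,4,0,3,2,1,0,2,1,4,4,4,1,4],
 [1,1,4,0,3,3,4,1,0,2,1,3,3,4,0,0,1,1,3,3,2,1,0,1,4,0,2,1,1,3,2,2,4,1,1,0,3,1,1,3,2,4,3,1,0,3,1,0,2,1,3,3,4,1,1,4,3,4,2,4,1,0,2,4,2,3,3,1,2,2,1,0,1,2,2,4,2,3,1,4,2,4,3,3,2,3,3,1,3,1,4,4,4,1,2,1,0,0,4,1,2,0,1,1,2,2,4,3,2,3,4],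
 [4,1,0,3,3,4,0,3,1,1,3,0,3,3,4,4,4,1,4,0,0,0,1,1,2,2,3,2,3,4,3,4,1,0,2,0,0,1,1,2,2,0,1,4,1,0,4,1,4,3,2,3,4,2,3,0,4,3,4,0,3,4,0,4,2,2,4,3,3,2,4,2,2,1,3,3,4,2,0,2,2,4,1,2,4,3,2,0,1,1,3,2,4,3,3,4,2,3,4,2,4,3,2,0,1,1,4,1,4,2,3],
 [2,0,3,1,3,1,1,0,3,2,0,0,2,1,4,2,1,1,2,2,4,2,2,1,2,3,4,0,4,4,3,1,4,3,2,2,4,0,3,2,3,4,1,0,1,0,3,3,3,2,4,2,0,4,2,3,2,2,3,2,2,1,1,3,3,2,2,3,2,4,2,2,1,1,3,3,4,0,0,3,2,1,0,4,3,2,3,4,1,3,0,3,3,1,4,4,1,0,1,3,3,4,1,0,2,3,2,3,2,4,3],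
 [2,4,4,1,3,4,2,1,2,3,3,2,0,1,1,0,1,1,1,1,2,3,1,2,3,4,2,1,4,4,1,0,0,0,2,4,1,0,1,1,2,3,3,1,3,0,3,3,4,2,4,3,1,0,2,2,0,0,3,0,3,1,0,3,0,1,0,4,4,4,4,4,2,3,0,3,2,1,0,3,1,4,3,2,3,3,0,2,1,3,4,4,1,4,2,3,3,1,1,0,3,0,4,0,2,4,2,2,0,1,1],
 [4,3,0,4,4,1,1,0,0,1,4,1,0,2,1,4,3,4,2,0,2,1,4,4,4,4,0,4,3,3,4,3,4,4,4,2,2,3,0,3,0,4,0,2,3,3,1,4,1,0,4,3,1,3,0,3,4,0,2,2,1,2,1,1,3,0,3,0,1,4,0,3,3,1,3,1,1,2,1,1,2,0,1,2,3,3,2,1,2,0,1,4,2,3,4,1,4,0,1,1,2,4,0,2,1,2,1,3,0,1,3],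
 [0,0,0,2,2,3,2,0,0,1,4,0,1,0,3,2,3,3,1,3,3,4,4,4,3,1,2,0,3,1,3,0,2,0,0,4,3,3,2,0,1,1,1,1,0,1,4,2,0,2,1,0,2,2,2,1,1,3,4,0,2,2,3,1,4,2,0,1,4,4,2,1,4,4,4,0,4,0,4,4,1,0,0,3,3,2,3,2,4,4,0,1,4,0,4,0,4,3,0,1,4,0,3,4,2,1,1,3,4,1,3],
 [3,1,0,1,3,0,2,1,0,1,3,3,1,1,0,1,3,3,2,1,4,1,1,4,4,2,2,4,4,3,3,0,3,0,4,3,4,2,3,2,0,0,2,3,3,0,4,0,3,2,4,0,4,3,3,2,2,4,1,2,1,3,4,2,0,2,1,2,2,3,3,3,4,4,0,1,1,0,2,3,4,4,1,4,3,0,1,0,3,2,4,2,0,1,2,0,3,3,2,1,1,3,3,0,4,0,1,0,3,3,2],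
 [1,1,2,4,4,1,4,1,1,1,0,0,4,0,4,3,1,4,1,4,1,2,1,2,0,1,0,2,4,0,2,1,0,0,1,4,2,0,2,0,0,1,0,4,1,0,1,3,1,3,0,1,4,1,2,2,4,3,3,2,2,0,4,2,1,2,3,2,2,2,2,2,2,4,4,2,1,1,0,1,0,2,3,2,0,2,1,1,1,2,3,0,3,3,4,0,2,0,2,1,3,3,1,1,0,0,0,2,4,0,0],
 [1,4,3,4,4,1,2,3,3,1,4,3,2,2,3,4,3,4,1,4,3,1,2,1,1,2,3,2,0,2,0,2,1,0,4,2,0,4,0,2,4,0,0,0,3,2,4,1,3,3,1,1,2,3,4,3,0,2,4,3,0,2,0,1,0,3,0,4,1,2,0,3,3,0,4,4,3,3,4,0,2,0,3,1,0,0,4,2,1,3,0,0,0,3,0,2,2,4,2,2,0,0,0,2,2,3,0,4,2,2,0],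
 [0,0,3,1,0,2,4,0,3,1,3,0,0,4,0,2,1,2,1,4,0,1,2,4,1,4,3,2,4,0,1,1,0,4,3,1,0,3,1,0,1,3,3,1,0,2,3,3,2,3,1,4,2,0,3,0,4,0,3,2,4,0,0,4,1,3,4,1,3,2,1,0,4,1,4,0,3,1,0,3,1,2,4,1,4,1,1,2,4,1,4,4,4,4,1,0,1,3,3,0,4,0,1,1,1,3,4,0,0,0,4],
 [2,4,1,4,4,4,4,3,4,2,2,0,0,1,4,2,0,4,1,2,3,1,2,0,3,0,0,0,2,0,4,4,3,3,1,0,2,0,2,0,0,3,2,3,1,3,4,4,0,0,1,3,1,0,0,1,0,3,0,3,3,4,1,1,2,4,1,1,2,4,2,2,1,3,3,2,3,2,1,3,0,4,2,1,4,1,4,4,0,3,2,3,4,2,3,0,4,2,1,3,4,0,2,0,2,0,3,1,4,2,1]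
]

/-- named matrix 13 -/
def nm13 : List (List ℕ) := [
 [2,0,4,3,1,0,2,4,3,0,1,1,1,2,3,0,3,3,2,1,3,2,3,0,2,0,1,2,2,4,2,1,0,4,2,4,2,4,1,0,4,4,0,4,2,1,0,2,1,4,2,0,1,4,1,2,4,1,2,4,3,2,3,1,1,0,4,3,1,0,3,1,2,4,4,4,4,4,4,1,4,1,3,1,1,3,3,0,3,4,0,4,0,0,1,4,4,1,0,2,4,3,0,0,4,0,0,2,1,2,3],
 [3,3,1,2,3,4,0,3,1,4,4,3,2,4,2,2,4,4,2,4,1,4,2,4,1,3,2,2,1,3,3,2,3,1,3,2,1,4,4,3,4,4,3,2,0,0,1,0,0,4,2,0,4,0,2,1,3,1,4,4,4,2,2,2,0,3,1,0,1,2,1,1,4,1,2,0,2,4,1,2,1,1,1,3,3,3,4,1,3,3,0,4,2,0,3,4,3,2,2,0,1,0,4,2,4,2,4,1,1,3,4],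
 [1,2,1,3,1,3,4,0,2,1,2,4,1,3,3,1,1,2,1,4,1,3,0,4,1,0,0,3,3,0,0,4,4,0,3,0,0,2,2,4,0,2,0,0,4,2,0,2,3,4,2,3,4,1,0,2,0,0,2,1,1,1,3,3,4,4,2,3,0,4,2,0,4,1,4,0,0,1,3,0,2,1,0,4,1,4,3,1,3,1,1,2,1,0,4,0,2,3,0,3,0,2,3,4,4,3,1,0,2,2,2],
 [0,0,0,0,3,0,2,3,1,3,2,4,1,1,0,1,1,1,3,0,1,2,1,3,0,4,0,4,4,4,1,3,4,2,2,1,4,3,0,3,2,0,2,4,0,1,3,2,3,2,2,0,2,1,3,0,2,0,0,4,1,4,1,3,0,2,1,0,2,1,3,1,2,2,3,0,2,2,4,4,0,3,4,2,2,0,3,3,0,1,2,4,2,2,3,0,2,2,3,1,4,4,1,2,1,0,2,4,0,3,1],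
 [1,2,0,1,3,0,4,1,0,0,3,1,3,0,2,4,0,0,0,1,1,2,4,2,4,1,0,3,4,3,1,2,3,3,2,0,2,2,4,2,0,3,3,2,2,2,3,4,2,3,1,0,1,0,0,0,4,2,1,1,0,1,1,0,1,2,4,1,3,4,0,1,0,0,2,1,0,4,3,4,4,4,4,1,4,0,3,0,0,1,3,3,1,0,4,1,4,4,2,3,4,4,3,1,4,2,1,4,3,1,2],
 [3,0,4,3,3,4,2,2,2,4,4,0,1,2,3,4,0,0,3,2,1,4,3,4,0,2,4,4,2,2,3,1,2,4,0,2,2,4,2,1,4,3,2,1,1,0,0,3,2,0,2,1,4,1,4,1,0,3,0,0,0,4,2,1,1,4,0,4,3,1,3,1,1,4,3,3,2,3,2,2,1,1,4,4,4,3,2,1,2,1,0,4,3,2,4,4,0,2,2,0,2,4,4,0,4,1,3,1,3,4,3],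
 [0,1,4,2,0,2,1,2,2,0,0,4,0,3,1,2,1,1,2,3,1,0,1,2,3,3,1,1,1,3,4,2,1,1,1,4,0,4,4,2,0,2,4,0,4,4,1,4,4,0,4,2,0,3,4,1,1,4,4,3,2,0,2,1,2,2,4,4,3,4,1,0,2,3,4,2,1,0,4,3,0,0,0,2,4,0,3,1,2,4,0,1,3,2,0,2,2,1,1,4,3,4,0,1,0,3,3,1,2,0,4],
 [3,2,4,3,2,0,2,4,0,1,2,0,1,0,3,2,1,0,4,3,0,2,3,3,3,4,1,0,4,2,0,4,2,3,2,4,1,3,2,3,3,3,4,2,1,2,4,3,3,1,2,4,4,0,2,2,2,4,4,2,0,1,3,4,2,3,3,2,2,3,0,1,2,1,2,0,0,4,2,3,3,2,3,1,3,2,0,1,3,2,1,1,0,0,1,1,4,0,2,1,2,3,0,1,3,0,4,2,4,2,2],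
 [3,3,0,2,2,2,0,4,0,3,4,4,0,2,2,0,0,0,2,4,0,3,4,2,0,2,3,4,1,3,3,1,1,3,1,3,4,3,4,0,1,1,4,0,0,0,3,3,0,1,3,3,1,2,0,3,3,3,1,1,0,0,4,0,4,3,2,2,2,3,3,1,4,4,0,2,4,2,0,0,1,0,0,0,1,3,2,3,0,0,4,2,3,1,4,4,0,1,0,4,1,4,1,2,3,4,3,3,2,1,1],
 [1,0,3,0,4,1,1,1,3,1,2,3,4,0,2,4,3,4,1,1,3,3,3,4,0,3,4,3,2,0,3,2,2,4,3,2,4,4,2,0,2,0,1,0,4,0,2,4,0,4,4,1,3,1,3,1,2,4,1,2,1,3,1,3,2,4,0,1,3,0,1,3,0,2,1,3,0,3,4,4,2,4,1,4,0,3,1,1,0,0,4,3,2,1,2,3,0,0,4,2,3,1,4,0,0,0,4,3,4,2,2],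
 [4,0,2,1,4,0,3,4,4,2,0,2,2,1,3,0,1,4,0,0,0,4,2,4,3,0,2,4,1,3,2,0,1,0,3,4,2,4,0,0,0,1,0,3,2,0,4,2,2,3,0,0,1,3,2,2,0,1,0,4,3,1,0,0,1,0,1,4,4,1,1,0,2,0,3,3,0,0,0,1,1,3,1,3,4,0,1,3,0,3,1,0,3,4,0,2,3,1,1,1,3,3,2,1,4,3,4,2,4,0,3],
 [0,0,4,4,4,2,0,3,3,0,2,2,1,0,2,2,1,4,3,0,1,3,1,3,0,1,3,3,4,3,4,4,2,0,0,2,1,4,0,1,3,0,2,2,4,4,4,2,4,1,1,3,4,0,0,3,0,1,4,3,2,2,0,3,1,4,4,3,1,4,4,4,0,4,1,1,2,2,2,2,0,4,3,2,4,2,0,2,2,3,2,4,4,2,1,1,0,3,0,4,3,3,0,4,3,2,2,4,3,1,3],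
 [2,1,3,0,1,0,0,2,1,2,2,1,2,0,4,1,0,2,2,0,1,2,3,2,0,3,4,1,0,1,3,0,4,4,3,4,1,1,4,4,1,1,4,4,4,4,3,2,4,4,4,3,4,2,4,3,2,2,1,2,0,2,1,2,3,3,2,2,2,4,4,3,0,0,3,1,2,2,3,1,4,1,3,3,3,1,3,1,2,4,2,0,1,4,0,1,0,0,4,1,4,0,4,2,1,2,1,0,2,2,0],
 [3,2,4,1,2,4,0,4,4,3,4,0,3,0,0,1,0,1,1,4,0,4,1,0,3,4,2,2,3,0,0,0,3,3,0,1,1,0,2,4,3,3,2,0,1,2,1,1,4,0,1,1,4,0,3,0,3,3,3,0,1,4,1,3,3,4,1,4,2,4,2,3,1,2,0,2,3,4,4,3,2,0,2,4,2,1,1,2,0,2,2,4,4,0,4,0,2,0,3,0,3,0,3,1,0,4,1,1,2,1,0],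
 [3,1,1,0,0,4,3,3,1,1,0,1,3,3,4,4,2,3,1,1,4,0,0,3,4,3,4,4,1,1,1,2,2,4,4,0,2,4,1,1,2,1,0,0,2,0,2,0,2,4,4,0,0,3,2,4,2,2,3,4,4,1,1,2,4,2,3,3,1,2,3,1,3,4,1,4,0,0,0,3,4,2,0,0,4,1,2,0,2,1,0,1,4,4,4,0,1,4,0,1,3,0,4,1,3,4,3,1,1,1,3],
 [0,3,2,2,0,4,2,2,2,3,2,3,4,0,2,4,0,2,1,3,0,1,0,3,0,1,0,4,1,3,3,2,4,1,3,4,3,2,1,4,2,0,0,1,2,0,0,0,3,0,0,3,0,2,1,2,3,1,4,0,3,4,3,3,4,1,1,2,2,0,2,3,1,0,2,0,4,4,1,0,1,4,2,2,1,4,1,1,2,1,3,0,0,2,0,4,1,1,3,3,4,3,1,4,0,2,2,3,3,2,4],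
 [3,4,1,1,4,1,4,2,1,1,1,0,3,3,1,0,0,4,3,2,2,1,2,3,0,4,1,0,4,2,2,1,0,2,0,0,3,1,0,3,4,3,3,0,1,4,0,3,2,0,0,2,1,0,1,0,3,0,1,0,1,0,4,0,4,3,0,3,3,1,4,3,1,0,4,4,0,3,4,3,1,4,1,2,1,1,4,0,1,3,4,3,3,1,3,2,1,3,3,1,2,4,2,4,2,4,1,4,4,2,3],
 [2,4,3,1,3,0,4,3,2,0,0,4,1,2,4,0,4,1,3,4,3,2,3,2,1,3,3,2,1,0,0,0,3,1,0,4,2,4,1,4,3,0,2,3,2,1,2,0,4,3,2,2,2,4,1,0,3,3,3,1,1,0,1,2,0,3,0,1,3,1,2,2,2,1,1,2,2,4,4,3,2,2,1,0,0,2,1,4,2,2,4,1,2,3,0,2,4,3,3,1,1,2,4,0,2,3,3,0,0,1,3],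
 [1,3,2,3,4,1,2,1,3,3,3,1,4,2,3,1,0,0,3,0,2,3,2,4,0,2,0,4,2,3,2,4,3,2,3,4,3,0,1,0,4,2,0,1,0,1,3,0,2,1,2,0,2,2,1,1,1,0,2,1,3,4,1,2,3,1,4,1,2,3,3,2,0,2,4,2,1,0,1,1,3,1,0,3,0,0,3,0,2,4,4,2,0,2,2,0,0,2,1,2,3,1,4,3,3,0,3,4,3,0,2],
 [1,3,2,3,1,3,4,4,0,1,1,0,3,3,0,3,3,4,2,1,2,4,0,1,3,0,0,3,3,1,0,0,1,0,0,1,4,0,0,3,3,3,4,0,4,1,3,3,0,2,0,2,3,2,4,1,1,1,2,0,1,4,2,2,1,4,2,1,1,0,0,3,3,4,3,2,1,3,2,0,3,0,2,1,3,1,3,4,3,4,2,3,4,3,3,4,1,2,0,0,2,0,0,2,3,3,2,2,1,1,0],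
 [1,1,3,3,1,2,4,3,4,1,1,1,4,2,4,4,2,0,2,1,1,2,1,3,1,3,4,1,4,3,3,3,0,3,4,0,3,2,0,3,0,0,2,1,1,3,1,0,3,4,1,4,0,4,1,0,1,1,1,4,1,0,2,1,2,0,2,3,0,1,3,2,4,4,2,3,0,1,3,3,4,0,0,4,1,0,4,1,2,3,2,4,1,4,2,2,4,4,3,2,3,4,0,0,0,2,0,1,4,1,1],
 [2,3,1,1,2,0,0,3,4,1,1,1,0,3,4,3,2,0,2,4,4,4,3,4,1,0,3,4,3,1,4,4,2,1,4,3,3,4,0,4,3,4,0,4,1,4,4,1,0,1,3,2,1,1,1,0,1,0,2,3,3,2,1,0,4,1,2,2,3,0,3,0,3,3,2,4,0,4,4,4,3,1,4,4,0,2,3,2,4,3,2,0,1,1,2,4,3,1,3,1,2,4,3,4,3,2,1,2,3,2,1],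
 [0,0,1,3,0,2,3,2,0,4,0,1,4,3,4,1,3,0,2,1,2,2,3,0,4,3,0,0,3,3,4,1,1,1,4,3,4,0,0,0,4,4,0,1,0,0,3,3,3,2,2,2,2,4,3,4,3,4,4,3,0,2,4,1,1,4,0,2,2,0,4,4,3,0,4,2,1,4,0,2,4,0,0,4,2,2,2,3,0,0,2,3,0,0,4,1,4,1,2,3,1,0,4,0,1,4,1,1,4,1,0],
 [3,3,4,2,0,2,0,4,1,0,4,4,3,1,2,4,2,0,3,3,3,4,2,2,1,4,3,0,1,3,2,0,3,3,1,1,2,1,0,3,1,4,1,2,1,2,4,4,2,1,4,3,4,0,0,1,4,1,3,4,0,1,4,0,4,1,1,3,2,2,0,3,2,1,4,4,1,0,3,0,2,0,3,0,2,0,2,0,3,2,0,1,4,1,3,1,2,3,2,4,0,1,2,4,1,1,1,1,3,0,0],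
 [0,3,1,2,2,4,1,2,0,0,0,1,4,4,1,4,4,2,3,2,1,4,0,0,2,4,4,4,2,2,2,0,4,2,1,4,3,4,1,4,1,1,4,0,4,4,3,1,0,2,3,3,3,1,4,3,2,2,3,2,0,0,3,0,0,4,3,4,1,4,0,3,0,1,4,1,0,3,0,1,0,2,3,4,2,0,4,3,1,3,0,2,1,1,1,2,2,1,1,4,0,0,4,1,1,0,4,1,0,4,1],
 [4,4,4,0,4,3,1,0,1,2,0,2,0,4,1,2,1,3,3,3,3,0,3,2,3,4,4,0,4,4,0,3,2,3,2,1,2,1,4,3,2,1,0,3,0,1,1,4,1,1,3,3,4,3,1,2,1,3,4,4,4,3,3,4,2,3,2,4,0,3,4,3,4,3,2,2,4,0,4,0,3,0,2,3,0,3,4,2,2,3,0,2,3,0,0,2,4,3,4,3,4,0,1,1,0,4,3,4,3,3,3],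
 [2,4,4,2,2,4,4,4,2,4,4,3,1,1,3,1,0,2,3,0,0,2,1,1,0,0,2,3,3,2,3,2,3,4,3,3,1,1,2,0,1,2,1,2,4,4,3,1,4,0,0,2,3,4,1,3,3,0,0,3,1,3,1,3,4,2,0,4,1,3,1,1,0,3,3,3,0,2,4,3,1,4,0,4,3,2,1,1,0,1,1,3,2,3,0,0,4,1,2,1,2,3,0,0,2,1,3,1,3,1,3],
 [4,1,2,1,3,1,0,2,2,1,0,3,2,1,3,1,1,1,1,0,3,4,0,0,3,3,0,4,4,4,4,3,4,1,0,3,0,4,0,4,3,1,1,1,2,3,3,4,2,1,4,3,1,3,3,3,4,4,3,4,3,0,1,0,0,4,3,4,0,0,2,3,4,4,2,3,0,3,2,3,3,2,2,4,4,4,0,3,1,1,3,0,0,0,3,2,2,0,1,2,0,4,3,0,1,3,0,4,1,1,1],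
 [0,1,2,2,2,2,2,3,0,1,3,4,3,4,1,3,3,2,1,0,4,1,0,3,4,3,0,2,3,2,4,1,2,4,4,2,0,2,0,3,3,4,2,2,3,1,1,2,4,0,1,3,1,1,1,3,2,2,4,2,2,4,2,4,0,3,0,1,3,2,1,3,2,2,4,2,1,4,3,0,2,3,1,4,4,4,3,2,1,4,1,2,1,4,2,2,1,0,2,0,0,3,2,3,0,1,4,2,4,2,4],
 [4,0,3,0,2,4,3,4,4,0,2,2,3,3,0,2,3,4,3,4,2,0,0,3,4,2,4,3,1,3,2,1,3,1,2,0,4,1,0,0,0,2,1,3,2,4,1,3,4,4,1,0,3,2,3,3,1,4,4,0,0,3,3,1,0,3,2,0,4,0,3,4,1,4,2,0,0,3,4,0,0,4,3,0,3,0,3,1,3,1,4,4,4,3,3,0,0,2,1,2,2,4,0,4,3,3,1,1,1,0,3],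
 [3,2,2,0,4,3,1,4,0,4,3,1,3,3,2,0,0,1,4,3,4,0,2,4,3,2,0,2,2,4,0,4,1,1,1,2,1,1,3,3,1,0,3,1,0,0,1,0,4,2,3,0,0,1,3,2,3,4,1,4,0,3,0,3,0,0,1,1,1,3,1,4,3,3,3,0,4,0,0,3,4,1,0,0,0,3,0,0,1,4,3,1,4,0,3,2,3,0,3,4,2,2,3,4,2,2,3,0,1,3,2],
 [2,3,3,1,3,1,1,2,0,0,4,0,2,3,3,0,2,4,3,4,2,0,3,1,0,2,0,2,1,1,0,0,0,2,3,0,1,1,2,2,4,1,2,4,3,3,4,4,3,2,4,0,0,1,2,4,2,2,3,1,3,2,4,1,0,4,0,2,0,2,2,2,3,2,4,1,3,0,0,2,4,4,1,3,1,2,3,1,3,3,2,1,3,3,1,3,2,0,4,2,3,1,0,4,0,0,2,3,3,1,1],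
 [3,0,1,0,1,4,3,1,0,2,4,0,0,3,2,4,2,0,2,2,4,1,1,1,2,0,1,3,4,1,2,4,4,0,3,1,4,0,0,1,0,3,2,1,1,3,1,0,2,1,2,3,2,0,3,2,2,4,3,3,3,0,4,2,1,2,3,4,3,2,3,3,2,3,2,0,3,1,0,4,3,4,2,1,3,4,4,1,2,2,2,0,1,2,4,3,4,3,4,2,0,2,2,1,3,1,3,2,2,3,2],
 [0,1,0,2,1,0,3,1,4,0,0,2,2,4,2,2,2,2,0,0,3,3,2,3,3,0,1,3,1,2,2,3,3,1,3,0,1,3,4,4,3,1,1,3,2,1,1,4,4,2,3,2,1,4,3,0,3,2,2,4,3,3,0,0,4,4,2,4,1,3,2,3,4,0,3,2,1,1,3,3,4,2,4,4,4,3,1,2,0,1,0,3,0,1,4,2,0,4,3,1,1,2,0,4,4,1,0,1,3,0,0],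
 [1,0,1,4,0,2,3,2,2,4,0,0,3,3,0,1,2,0,0,1,4,3,0,0,1,4,3,0,3,1,1,3,2,4,4,1,3,3,1,0,4,2,1,3,4,4,0,0,0,3,2,2,3,3,2,1,4,3,4,1,0,3,0,1,0,3,3,1,4,4,3,0,2,0,3,0,1,0,4,3,3,0,4,0,2,1,2,0,1,4,4,0,2,1,0,0,0,3,3,0,3,0,1,1,0,3,1,1,4,1,4],
 [2,1,1,1,1,0,0,3,2,0,4,0,3,3,3,1,3,3,1,2,0,4,0,1,3,0,4,1,3,2,4,0,3,2,0,2,4,4,4,3,0,3,0,0,1,2,4,0,4,2,4,3,3,0,1,2,0,1,0,3,3,1,2,1,0,2,0,0,4,3,3,4,0,3,0,0,4,0,2,4,2,3,3,1,2,0,2,0,3,0,3,3,0,1,1,3,4,0,0,0,3,3,2,2,0,1,0,2,3,3,0],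
 [0,4,2,1,4,4,1,4,0,2,4,1,1,4,0,1,4,0,0,3,1,0,3,1,1,1,3,4,3,0,1,1,4,3,1,4,3,4,3,2,3,0,3,4,1,2,4,3,0,2,3,2,1,3,1,2,0,1,4,2,4,2,0,2,3,3,2,2,2,4,1,0,0,2,1,4,3,3,3,2,1,0,4,2,1,0,1,4,3,1,2,4,1,4,1,3,3,0,4,0,2,3,3,1,4,1,4,1,3,2,0],
 [1,4,2,0,3,0,2,0,4,3,0,3,3,3,0,0,1,3,0,1,2,4,1,0,4,3,2,4,2,0,1,2,4,3,2,3,3,1,3,1,2,4,0,3,4,4,1,3,4,0,4,3,3,3,2,0,3,4,0,2,3,3,2,2,3,3,0,2,2,2,3,4,4,4,4,3,4,0,3,3,1,3,4,3,0,4,0,4,4,2,2,3,3,0,4,4,1,1,4,2,0,3,2,4,0,3,4,0,2,4,0],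
 [3,2,2,4,0,3,3,2,1,1,4,4,4,0,0,1,0,1,4,0,4,4,0,0,2,3,0,4,1,2,3,2,0,4,2,0,2,0,4,1,3,3,2,0,4,3,4,3,2,2,4,1,4,3,3,2,3,2,2,4,2,0,1,2,3,4,2,0,3,3,2,3,2,1,1,2,1,3,4,1,1,0,1,1,1,2,2,2,0,3,2,1,3,1,4,2,1,3,4,1,4,4,1,4,2,1,2,3,2,2,2],
 [1,4,1,2,1,2,2,1,0,4,1,0,0,1,3,0,3,4,4,0,3,1,4,2,0,0,2,2,3,2,2,0,4,1,0,3,3,3,0,4,4,2,0,0,0,0,2,3,4,1,4,2,1,1,0,2,0,0,3,1,2,4,1,0,2,2,3,1,3,1,2,1,1,4,0,0,4,2,4,4,0,2,4,4,1,3,4,0,3,0,0,3,1,2,1,0,1,0,3,0,0,1,0,4,2,1,4,4,2,0,2],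
 [2,0,2,1,4,0,1,0,2,2,2,3,1,2,4,2,0,2,0,1,3,2,0,0,1,0,2,1,0,1,1,1,3,0,3,2,4,1,4,4,4,3,4,0,1,0,2,0,3,1,2,3,4,2,3,1,1,4,4,3,2,2,2,3,0,3,3,2,3,0,4,2,0,1,4,4,3,1,1,1,3,2,1,4,4,4,3,2,2,4,2,1,3,4,0,1,0,0,3,2,3,4,0,1,0,2,0,1,4,0,1],
 [0,0,2,4,2,3,1,2,1,2,1,3,4,4,1,2,2,2,2,0,3,4,1,3,1,4,4,3,4,0,0,0,3,4,1,2,1,2,4,4,0,4,0,0,4,0,0,0,1,0,2,0,2,3,4,0,2,3,4,4,0,2,1,2,3,2,3,4,0,0,1,2,1,0,2,1,1,1,1,1,3,2,4,3,0,2,1,1,3,2,3,4,0,3,0,3,3,1,0,4,4,4,0,1,0,1,4,3,1,1,4],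
 [0,0,3,0,2,1,2,3,4,2,1,4,2,2,2,1,1,1,0,3,3,1,0,4,4,4,1,2,0,1,3,4,3,0,3,3,2,2,0,1,4,2,2,0,4,2,1,2,1,3,4,3,0,3,2,4,2,2,3,3,0,2,4,2,0,0,4,3,2,4,1,0,2,1,3,3,1,0,0,0,2,1,2,3,2,0,2,4,4,3,1,3,0,4,0,4,0,3,0,1,3,4,2,1,4,0,2,1,2,2,3],
 [1,3,4,0,0,2,1,4,2,4,4,1,1,3,1,0,0,0,3,4,3,1,2,1,0,4,2,1,4,4,4,1,1,4,1,3,0,2,3,2,2,3,3,2,4,3,1,2,1,4,2,0,1,2,4,2,0,0,0,4,3,4,4,2,0,3,2,1,1,2,4,0,3,3,2,4,3,2,4,2,1,1,0,2,4,0,3,3,0,3,4,1,2,1,4,0,4,3,0,3,0,0,3,1,2,2,3,0,4,0,3],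
 [4,2,1,1,1,1,3,4,3,0,4,2,0,1,3,3,1,1,3,0,4,1,0,2,3,1,4,1,3,1,2,0,3,0,0,0,0,1,1,2,1,3,4,2,4,0,0,1,0,3,3,1,4,4,4,0,0,1,0,1,0,3,2,1,4,4,4,2,3,4,2,0,4,0,0,3,0,1,4,1,2,4,1,2,3,1,1,2,1,3,3,4,1,3,4,4,1,2,3,2,1,0,1,3,1,2,4,3,4,1,4],
 [3,0,1,4,3,0,2,0,2,1,1,3,3,3,1,2,4,2,2,1,1,3,0,3,1,2,0,2,0,0,2,1,1,1,3,3,0,4,2,3,2,2,0,1,2,3,0,3,4,4,2,1,0,0,2,0,2,4,3,2,3,0,0,0,3,2,1,2,4,0,0,2,0,0,4,4,0,3,0,4,4,2,0,2,3,4,1,2,3,1,2,4,1,4,3,2,4,0,4,4,1,0,0,2,1,0,2,2,2,4,0],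
 [4,0,3,0,3,2,3,0,0,0,4,2,2,4,3,4,2,0,3,3,4,2,2,2,2,4,4,0,0,3,0,4,0,1,4,3,1,1,3,4,4,3,0,4,4,4,4,2,4,1,2,4,0,0,1,0,2,3,4,4,3,0,4,2,2,2,4,3,3,2,4,0,2,0,4,3,4,2,4,2,3,4,0,1,3,1,2,0,1,3,2,0,4,1,4,1,1,1,2,1,4,1,3,1,0,0,0,2,0,0,1],
 [2,4,2,2,2,2,2,4,1,2,2,2,2,0,2,0,0,4,1,4,1,3,4,4,1,3,0,3,3,0,2,2,2,0,0,4,4,3,4,2,0,4,1,2,1,1,0,0,2,0,1,3,4,0,0,0,2,2,2,0,2,3,0,0,2,0,3,2,2,2,4,3,2,0,4,1,1,2,1,2,4,3,0,0,2,1,0,4,1,0,0,3,2,0,1,0,3,4,4,2,1,4,4,1,3,4,4,0,1,2,4],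
 [1,4,2,2,2,4,0,3,2,4,4,2,4,4,1,3,4,2,2,1,1,4,3,3,3,3,4,4,3,0,1,3,4,3,4,1,4,4,1,4,4,0,1,1,1,2,3,0,0,4,2,2,2,1,4,2,0,4,0,3,2,1,2,2,2,2,1,0,1,4,0,4,1,3,4,2,4,3,0,4,0,0,1,3,0,0,3,1,2,3,1,0,3,4,0,1,3,0,2,2,3,2,1,3,4,4,3,0,0,3,4],
 [2,4,3,0,4,0,0,1,4,0,0,3,0,4,0,1,4,3,3,1,2,1,2,0,0,3,1,1,2,1,2,0,1,0,0,3,3,4,2,4,3,3,3,1,2,1,4,0,3,4,2,4,4,0,2,2,2,1,3,2,4,3,4,3,3,2,1,0,0,4,4,0,3,0,2,1,1,2,3,0,4,0,1,2,4,0,3,4,2,4,3,4,2,1,0,2,4,0,2,3,0,1,4,0,3,3,1,3,3,3,1],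
 [3,4,1,4,0,4,0,4,3,4,0,1,3,0,1,1,0,0,0,4,3,4,0,2,3,1,0,3,4,2,3,4,4,0,1,1,0,1,1,0,0,2,0,1,1,4,4,0,3,2,0,0,1,4,0,3,3,0,3,1,4,0,4,2,1,2,4,4,2,3,3,2,3,2,0,4,1,4,1,4,4,4,3,1,3,0,0,2,3,0,4,3,4,0,2,0,1,2,2,2,2,1,2,1,2,1,3,3,4,3,1],
 [3,0,4,3,0,2,2,0,1,1,3,3,3,2,0,0,0,1,3,3,2,2,4,1,4,2,3,2,4,2,0,2,0,4,1,3,0,3,4,1,2,4,0,0,1,1,0,0,0,0,4,3,2,2,2,1,0,3,2,2,0,2,0,0,2,2,0,2,1,4,2,1,2,1,2,2,0,0,3,0,0,3,2,4,1,1,1,2,2,2,0,1,0,1,2,2,0,1,4,1,2,1,3,0,3,2,3,2,3,1,3],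
 [0,3,3,4,1,4,0,0,4,1,0,3,4,0,0,1,3,1,2,0,3,1,1,4,1,1,0,1,1,1,2,3,0,1,4,3,0,1,2,0,2,1,3,0,4,1,2,0,1,2,3,4,4,4,1,2,0,4,3,2,1,2,1,1,3,3,3,3,3,2,2,4,3,3,3,4,3,2,4,3,4,1,0,2,4,0,4,3,0,2,2,4,0,0,2,2,0,1,3,1,0,4,4,0,4,1,2,0,1,3,2],
 [0,0,1,3,2,1,2,2,2,2,3,1,1,1,0,1,2,1,0,2,2,4,0,0,2,1,1,1,1,1,4,3,4,1,2,1,2,1,3,4,3,2,1,1,1,3,2,2,4,4,3,4,4,4,2,0,4,1,2,4,2,0,2,4,4,1,4,3,4,0,0,1,1,4,1,2,0,0,2,3,3,2,2,4,4,1,1,1,0,0,2,4,4,0,3,3,3,3,3,2,4,2,2,1,0,3,3,3,3,2,3],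
 [3,1,4,1,3,4,1,3,1,0,1,2,4,1,1,2,1,3,2,4,4,0,1,0,2,1,4,2,4,4,0,0,2,4,2,0,4,1,1,4,2,4,1,3,0,4,0,4,1,2,0,2,1,2,0,2,3,4,1,1,2,4,4,2,0,1,1,1,0,3,2,3,0,4,3,0,3,4,2,4,1,0,1,1,3,2,3,4,1,2,2,3,2,2,0,1,4,3,3,4,0,3,3,0,0,0,0,4,2,0,4],
 [1,0,0,3,4,3,4,0,4,2,0,0,3,3,2,3,2,1,3,2,1,4,2,1,3,0,1,3,2,4,4,0,0,0,4,0,2,4,2,4,2,1,4,0,2,1,1,0,0,0,1,4,2,3,1,3,1,2,3,4,4,2,2,2,1,4,0,4,0,4,1,0,2,4,2,4,0,4,1,4,1,4,1,4,2,2,2,0,0,0,0,4,4,2,3,1,1,3,2,1,2,0,3,3,2,3,0,3,4,0,2],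
 [4,1,4,3,2,1,4,4,1,1,2,3,4,1,0,4,1,3,4,0,4,1,1,3,3,0,3,4,4,0,2,2,2,4,3,4,0,0,1,3,0,2,4,2,0,4,0,1,2,4,4,4,4,2,3,0,2,2,1,0,2,1,3,1,0,3,3,4,4,2,4,4,1,2,3,3,4,4,4,2,1,3,2,1,2,1,1,0,4,4,1,0,2,4,2,1,4,4,2,4,3,3,0,4,3,0,0,0,4,2,0],
 [0,0,2,4,2,4,2,2,2,3,1,2,2,0,2,2,2,0,0,4,2,1,1,2,2,4,4,3,4,4,4,3,4,2,4,4,3,3,1,3,3,3,4,0,3,1,2,2,3,2,3,2,2,3,3,2,1,4,4,0,1,1,2,2,3,0,4,1,4,0,0,2,4,4,2,3,2,1,1,4,3,4,1,1,4,1,1,3,0,0,1,0,2,0,3,3,3,2,3,4,3,1,3,4,4,1,2,4,1,3,1],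
 [3,1,4,4,0,3,1,4,0,4,3,2,2,3,3,0,0,4,2,4,2,3,2,2,2,1,0,1,2,0,4,4,3,2,2,0,1,2,0,1,1,2,2,2,0,3,2,4,2,1,3,3,3,3,0,3,1,2,0,2,0,3,0,2,0,2,0,3,3,3,3,2,2,3,0,2,4,2,3,1,4,3,0,1,4,3,4,0,4,1,3,3,4,0,2,0,0,2,2,4,0,4,1,4,2,1,2,3,2,3,3],
 [4,0,0,3,2,1,4,3,2,2,3,4,0,0,2,2,3,0,4,4,0,2,1,0,2,0,0,0,3,1,2,3,2,1,1,4,2,3,3,3,1,3,3,3,4,1,1,3,3,3,3,4,2,0,3,0,1,0,2,2,3,3,3,1,4,2,2,4,3,4,2,4,1,3,3,1,1,1,4,2,1,0,1,1,4,3,3,1,0,2,4,4,2,0,0,1,3,4,3,1,4,4,1,2,0,3,4,3,0,1,1],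
 [3,4,1,4,0,1,2,2,2,1,2,3,3,2,1,3,4,1,2,0,1,1,1,2,3,4,0,3,1,2,0,1,4,0,2,3,2,4,2,4,2,4,4,2,2,0,0,4,4,4,2,3,0,0,1,4,0,3,1,0,2,3,4,3,1,3,4,3,0,2,1,3,2,3,3,0,1,2,0,3,1,1,4,2,1,4,3,3,4,3,3,2,1,1,1,0,3,2,3,3,0,2,3,3,3,2,1,0,1,3,2],
 [2,1,1,2,2,1,4,1,1,4,0,3,2,2,3,1,1,4,4,4,3,2,4,0,3,0,2,4,4,2,3,2,0,3,2,0,0,3,1,1,1,1,0,3,1,2,4,0,3,2,2,4,2,1,1,4,4,4,2,3,4,2,2,2,4,1,2,3,1,1,3,2,1,0,1,0,1,2,2,2,2,2,3,3,3,3,2,0,0,4,0,4,3,3,1,0,2,3,1,3,1,2,4,3,3,3,0,2,1,3,0],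
 [1,4,0,4,2,4,4,4,0,4,1,2,1,0,2,4,4,2,0,2,3,1,1,3,3,2,2,4,2,1,4,1,4,1,4,1,0,1,4,4,4,4,0,0,0,3,2,0,3,0,0,1,2,0,2,1,2,1,4,1,3,3,2,1,1,1,1,3,4,4,1,1,3,2,0,3,1,1,2,2,4,3,1,2,1,2,2,3,4,3,1,4,3,0,1,4,3,0,0,3,3,0,1,3,3,2,0,2,2,2,1],
 [4,3,1,4,0,0,0,4,0,3,1,1,3,2,1,2,3,1,0,2,2,0,0,2,1,3,4,3,3,3,1,1,1,2,2,0,2,0,3,3,0,0,4,4,1,4,0,2,2,1,4,1,2,0,0,3,3,0,1,4,2,2,1,0,4,0,0,3,3,4,3,4,1,0,3,3,4,0,4,3,0,0,2,2,4,1,0,0,1,2,3,4,1,0,0,3,4,1,0,2,3,4,1,3,0,4,2,1,4,4,2],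
 [0,1,0,1,4,1,1,3,2,2,2,1,1,2,2,3,1,0,2,3,4,3,4,1,4,0,3,0,3,1,3,1,1,4,1,1,2,3,0,3,0,0,0,2,1,1,2,4,3,4,0,0,0,3,3,4,2,2,1,1,2,0,1,3,1,2,2,3,3,3,2,3,4,3,1,1,4,2,4,0,4,1,2,0,0,3,4,3,1,1,0,2,3,1,4,2,4,0,0,4,2,4,3,4,3,2,0,0,0,2,4],
 [3,0,3,4,3,0,3,3,0,4,4,2,1,0,1,0,4,2,1,0,2,3,0,4,0,4,3,3,2,2,0,0,3,3,0,1,2,4,2,0,0,0,0,4,3,0,1,2,3,4,1,4,3,4,1,2,1,1,3,2,3,0,2,0,1,2,4,3,2,3,2,3,4,3,4,3,1,0,4,2,3,4,2,3,1,2,1,4,1,3,3,0,0,4,4,3,1,0,1,1,2,0,3,0,0,1,2,4,0,3,0],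
 [1,0,4,4,0,1,4,2,0,2,1,4,0,0,1,2,2,1,4,3,0,3,2,1,3,0,0,1,4,1,4,2,0,4,3,0,3,2,0,1,2,1,1,0,3,3,2,3,1,4,0,4,0,4,1,4,2,3,4,3,4,2,0,4,0,4,3,3,3,0,2,0,1,1,1,1,4,0,0,0,4,4,1,0,1,3,2,2,1,2,2,2,0,1,1,4,2,2,0,3,2,1,3,1,0,4,0,0,3,1,3],
 [3,3,1,3,1,3,2,4,2,1,4,4,2,4,4,1,4,0,3,2,1,3,3,0,0,2,0,0,4,1,1,4,2,0,4,3,3,0,0,2,2,1,2,4,0,1,1,4,2,2,1,1,3,2,3,3,4,2,0,3,3,0,0,3,1,4,0,1,3,0,2,2,0,1,1,2,0,1,4,4,3,3,0,3,3,2,2,0,4,2,4,3,3,2,3,3,0,0,0,1,0,3,1,4,4,4,2,0,3,1,2],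
 [2,0,3,2,1,0,3,3,1,3,0,1,4,3,3,2,1,4,0,1,4,0,3,4,1,4,4,3,1,2,0,2,4,2,4,0,4,2,4,0,3,1,4,0,2,1,4,1,0,4,0,4,2,1,2,3,3,2,0,0,4,2,4,2,1,4,3,0,3,0,3,4,1,1,0,2,1,1,4,2,0,3,3,4,4,0,0,4,3,2,0,0,3,0,1,4,0,4,0,2,0,1,2,2,0,2,0,1,1,3,0],
 [1,4,3,1,0,1,4,1,3,3,3,2,0,2,4,0,1,2,0,2,4,2,0,1,3,3,4,2,4,4,0,2,2,0,2,4,0,2,0,1,0,2,2,3,3,1,1,0,3,3,0,4,3,3,3,1,0,4,0,4,4,4,4,4,3,1,1,3,2,3,1,0,3,4,0,4,0,4,2,3,2,4,1,4,2,1,0,1,2,1,0,2,1,3,1,4,0,2,0,4,0,4,3,4,1,1,3,2,3,1,1],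
 [3,1,2,4,1,3,4,2,2,3,0,0,1,2,4,0,1,3,2,2,1,2,2,1,2,3,3,2,3,2,1,0,4,0,0,1,3,0,0,0,2,2,3,3,2,1,2,1,0,3,2,1,4,2,4,0,1,4,1,4,4,3,0,0,2,0,0,4,0,2,1,0,1,3,3,4,1,3,4,1,3,0,0,0,1,4,3,0,2,3,0,2,1,2,2,0,3,4,1,3,0,4,4,4,3,1,3,0,3,0,2],
 [0,3,4,0,2,3,4,4,2,4,3,2,2,3,0,3,4,0,4,3,4,1,0,3,0,3,4,2,1,0,0,3,4,0,4,2,1,3,0,2,3,2,1,4,4,4,4,2,4,1,1,4,0,1,4,3,4,3,3,1,4,2,3,1,0,2,0,4,3,1,4,1,4,4,4,2,4,4,0,0,2,2,1,4,1,4,0,0,0,2,1,1,0,1,2,1,4,2,1,0,1,0,1,3,0,1,3,3,0,2,1],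
 [0,0,1,0,3,4,1,1,3,2,3,3,2,0,1,1,1,4,1,3,4,4,2,2,4,1,4,4,4,3,4,1,2,0,0,4,3,1,2,3,2,2,1,0,3,3,2,3,2,1,4,3,2,3,1,2,1,2,1,0,2,1,0,4,2,1,0,1,3,4,1,4,4,4,1,1,1,1,4,4,1,0,2,0,4,4,2,3,3,3,3,3,0,2,0,1,1,0,2,2,2,4,4,3,0,3,3,2,0,0,0],
 [2,3,1,1,0,3,3,0,3,3,4,3,0,3,4,3,0,2,0,4,0,2,1,0,3,1,4,0,0,4,1,1,3,2,3,4,4,4,3,0,2,0,3,4,0,3,1,3,1,2,3,3,0,2,0,2,0,0,0,4,3,1,3,1,3,0,3,2,1,3,2,4,4,3,1,4,0,4,3,2,1,1,1,3,3,4,1,3,1,0,3,4,3,3,1,2,4,1,0,2,3,0,1,3,3,4,2,2,1,2,1],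
 [3,3,3,3,4,0,0,4,1,2,4,4,4,1,4,3,0,2,0,0,0,4,2,0,0,4,3,0,1,3,2,3,2,1,0,4,0,3,3,0,3,2,4,1,1,4,0,4,3,0,0,3,0,4,0,0,2,0,0,3,0,3,2,0,4,3,3,1,0,3,2,4,1,0,4,2,0,3,4,2,1,4,1,2,4,2,1,3,4,2,1,4,3,4,3,2,3,1,3,3,0,1,1,4,2,2,0,3,3,2,0],
 [4,1,2,1,4,3,0,3,4,3,0,0,3,3,1,0,0,1,3,1,3,4,0,3,1,4,2,1,1,1,0,3,2,1,4,3,4,0,3,3,1,3,1,3,3,4,2,4,4,4,0,4,3,2,1,1,4,4,2,0,0,0,1,4,3,0,2,3,3,2,4,3,4,4,1,4,4,4,2,0,4,2,2,1,0,2,3,4,4,3,3,2,0,1,2,1,0,1,0,2,4,4,2,1,1,0,1,0,3,3,3],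
 [1,2,4,4,1,1,2,0,4,2,1,4,3,2,0,1,1,0,2,2,1,0,4,0,2,4,1,1,4,4,4,4,0,3,2,0,2,0,4,2,4,1,4,1,1,2,3,4,1,0,1,1,2,1,0,4,4,3,0,0,0,0,2,1,3,1,4,0,0,1,2,2,0,1,3,1,2,1,3,1,4,0,0,1,2,4,4,1,4,1,0,2,3,1,3,1,0,0,2,4,2,3,1,0,4,3,4,0,1,4,0],
 [3,1,3,1,2,2,3,0,1,3,0,1,1,1,1,2,0,4,2,1,2,0,3,4,0,1,4,2,0,2,3,4,3,1,3,0,0,4,0,2,1,4,0,0,0,4,0,1,3,4,4,0,4,0,2,4,0,2,2,3,3,0,3,4,0,2,0,1,4,1,3,3,4,0,2,2,3,0,4,1,2,4,1,2,4,0,4,1,4,4,0,1,3,4,1,0,4,4,3,1,2,4,3,1,3,4,1,4,1,3,4],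
 [3,3,0,4,2,3,4,1,0,2,2,2,1,0,4,3,2,1,2,2,0,2,0,2,4,1,4,4,4,0,0,0,2,2,1,4,1,2,4,1,4,4,4,4,2,0,1,4,4,1,2,0,0,4,1,1,3,4,4,1,3,3,2,1,0,1,1,4,4,3,4,1,1,0,4,2,3,4,4,2,2,2,1,4,0,2,4,2,0,4,4,4,0,0,2,3,4,2,4,0,2,3,4,3,2,2,2,2,2,1,3],
 [2,1,2,0,2,2,2,0,0,4,0,1,3,4,0,0,3,0,4,1,4,1,4,1,3,2,3,4,2,4,0,0,4,3,2,3,3,2,2,1,2,1,2,4,4,0,1,2,1,4,3,3,4,2,2,2,0,0,1,4,3,2,4,2,4,4,2,2,4,3,0,2,0,2,0,4,2,1,3,4,1,4,3,0,4,0,0,4,0,2,3,4,0,3,4,0,3,1,3,2,1,3,0,3,0,0,1,1,2,4,1],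
 [4,4,3,3,4,0,3,4,0,0,1,1,0,3,3,0,1,4,1,0,3,3,4,3,0,4,1,0,0,0,1,2,4,0,3,3,3,3,3,3,0,3,3,3,3,3,2,4,3,1,1,1,4,0,0,2,4,2,0,4,3,3,1,2,4,4,0,0,1,2,1,2,2,3,4,3,2,4,4,0,0,1,4,0,3,2,1,4,3,1,3,0,0,3,2,3,0,1,0,0,1,0,0,0,4,2,1,4,3,3,0],
 [4,2,2,2,0,4,1,4,4,3,1,4,2,3,0,4,0,1,3,0,3,4,2,1,3,2,4,1,2,2,0,0,2,1,2,4,0,2,4,0,2,4,3,4,0,2,1,2,3,0,4,3,1,3,2,2,1,3,4,0,3,3,0,1,3,0,0,2,0,3,2,4,1,0,2,2,1,3,0,1,1,0,2,3,3,4,0,4,1,4,3,1,2,3,0,2,4,1,3,0,4,1,3,3,1,0,4,4,4,3,1],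
 [3,4,4,2,2,3,3,3,0,2,2,3,3,4,4,2,2,4,0,0,1,3,1,2,4,1,2,1,4,3,2,0,4,2,2,3,4,4,4,4,2,2,2,3,0,1,2,1,4,1,0,0,2,0,3,2,1,0,0,3,3,0,3,3,2,3,0,0,2,0,3,1,1,0,2,2,4,0,2,3,2,3,1,2,4,3,2,3,4,4,3,1,4,4,0,2,1,2,1,3,2,0,1,4,3,3,4,0,1,3,4],
 [3,1,2,1,0,3,1,2,2,2,3,0,0,2,2,0,2,0,0,0,4,0,3,2,4,1,0,2,4,1,4,0,4,1,0,4,0,3,1,4,2,3,2,4,1,0,0,3,2,2,1,4,3,4,0,4,4,4,4,1,3,2,1,1,2,1,3,4,4,1,1,3,1,1,4,1,2,0,1,4,0,2,1,1,2,0,0,1,4,4,4,3,4,1,2,2,0,1,0,1,3,3,4,2,4,0,3,3,3,4,1],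
 [0,4,4,3,4,3,0,2,0,4,0,4,1,4,4,1,3,3,3,0,1,0,4,0,1,3,3,1,0,3,4,3,3,0,3,4,3,4,2,0,1,4,3,0,1,2,0,1,4,4,0,0,3,1,0,3,4,2,0,1,3,2,2,2,2,4,2,0,2,3,4,4,0,2,4,0,4,1,1,4,2,4,3,4,4,1,0,0,0,1,4,3,3,2,4,2,4,3,2,1,1,3,1,3,3,3,3,2,0,2,3],
 [0,0,1,1,4,1,1,1,0,0,2,3,2,1,4,2,0,4,2,4,2,2,2,3,0,0,1,0,2,3,2,0,4,1,4,3,1,3,1,0,4,1,3,4,4,1,1,1,1,2,4,1,1,2,0,0,0,3,3,3,3,3,0,1,4,0,4,2,2,2,3,0,1,0,2,4,0,1,2,0,1,2,1,3,2,4,0,2,1,0,3,0,3,0,2,4,4,3,4,0,2,1,0,3,4,1,3,3,2,3,1],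
 [4,0,3,0,2,0,1,1,3,4,1,2,0,4,1,0,4,3,0,2,4,3,4,1,4,2,0,4,0,2,2,3,3,3,3,2,4,1,3,1,1,0,2,3,4,2,2,3,4,0,0,0,0,4,2,4,4,1,0,2,2,1,1,3,4,1,2,1,1,3,4,4,0,3,2,0,1,3,2,0,4,3,2,3,4,3,1,2,1,1,1,1,2,2,2,4,0,1,1,0,3,0,3,2,2,1,1,2,0,1,0],
 [3,2,0,1,2,0,0,3,0,3,1,1,0,1,1,2,0,0,1,3,4,1,4,3,0,3,4,0,4,1,3,3,0,0,3,2,0,2,0,3,4,3,3,0,2,0,2,1,1,3,0,1,1,3,4,2,0,1,4,4,2,0,1,0,4,4,1,0,1,3,0,1,3,0,0,1,4,3,0,0,4,3,3,2,4,3,2,2,1,0,0,3,3,3,0,3,4,4,0,0,4,4,4,3,2,3,0,0,4,4,3],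
 [0,1,2,1,2,2,1,4,0,2,1,1,0,2,4,0,1,1,0,3,4,3,3,1,3,4,0,0,2,0,3,0,0,4,3,0,4,3,3,3,3,0,2,4,1,0,3,2,2,0,0,3,4,3,3,1,3,1,4,4,3,1,2,2,0,1,1,1,2,3,2,4,0,1,0,3,2,1,4,1,3,3,2,1,0,0,4,3,3,4,3,2,2,1,1,4,1,2,0,4,0,1,2,4,4,0,4,2,1,2,2],
 [4,2,3,3,4,2,1,4,3,4,2,2,4,3,4,2,1,1,3,2,1,1,4,2,3,3,2,1,2,1,0,4,1,3,1,3,3,0,2,4,2,4,1,3,3,2,4,2,1,4,2,1,0,1,0,2,3,4,3,4,3,2,3,4,4,3,2,1,1,1,0,4,4,1,4,1,4,4,0,0,0,1,3,1,1,1,3,1,3,4,3,3,3,3,0,0,3,3,3,1,0,4,4,0,3,2,2,1,4,0,0],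
 [4,4,2,2,2,0,0,1,1,0,4,0,4,2,2,1,2,4,4,4,3,4,4,3,3,2,1,3,2,2,4,2,3,3,0,1,0,2,4,2,2,3,0,2,0,4,1,1,0,0,0,1,3,3,0,3,0,3,2,4,4,3,3,2,4,4,0,1,3,4,0,0,2,4,2,4,2,0,2,2,4,3,2,0,3,2,0,4,1,1,3,0,0,1,4,3,4,4,3,1,0,0,0,4,2,4,4,3,4,0,1],
 [4,2,2,4,1,0,4,2,2,0,2,0,2,4,2,4,4,3,0,4,4,4,1,0,3,2,0,1,0,3,4,3,4,4,1,0,0,1,0,3,4,0,0,2,0,0,1,3,4,3,4,2,1,2,1,3,0,2,4,0,2,3,2,3,0,0,2,3,2,3,2,2,4,4,0,3,2,3,3,2,3,1,3,4,4,3,0,3,4,1,0,0,2,0,1,4,1,2,0,2,1,2,0,1,4,3,3,3,3,0,0],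
 [2,3,4,0,3,4,0,1,2,3,4,1,3,4,0,0,1,3,4,4,4,1,1,2,0,3,3,0,2,2,0,2,3,4,1,3,2,3,4,2,1,3,4,4,0,2,1,0,1,3,2,3,4,0,0,2,3,2,0,2,0,0,1,4,3,4,1,1,4,1,0,4,3,2,2,2,4,3,1,0,0,1,3,3,0,3,0,1,0,1,3,4,0,3,2,3,4,3,1,1,3,3,0,3,3,4,0,4,4,4,2],
 [1,4,2,0,3,2,0,1,3,1,0,0,4,3,1,0,1,2,4,0,0,4,1,3,0,3,4,0,2,1,2,2,1,4,2,0,2,1,4,4,2,1,2,0,2,4,4,3,4,0,4,0,1,4,3,2,3,1,4,0,3,4,1,1,1,0,1,1,2,2,2,4,3,3,2,1,3,0,0,3,2,1,3,1,2,4,2,3,1,3,0,3,4,3,2,0,4,2,1,1,0,1,2,1,1,1,2,4,4,0,1],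
 [2,0,1,2,1,1,0,3,4,0,2,0,2,1,0,2,3,0,2,4,0,0,0,1,3,0,0,2,2,1,3,3,0,1,4,3,3,0,0,2,2,0,4,0,2,1,3,3,4,1,1,3,1,3,2,0,0,4,4,3,2,4,2,1,4,0,1,1,1,3,1,2,4,3,3,0,3,4,4,4,1,1,3,2,3,2,0,1,4,4,0,3,0,2,4,2,2,2,1,1,2,1,1,1,1,1,1,1,1,0,0],
 [0,0,1,1,1,4,1,0,0,2,4,3,2,3,2,1,3,4,0,3,4,4,0,1,0,4,3,2,2,4,4,1,0,0,4,0,2,4,1,4,2,4,2,4,0,0,2,0,1,4,3,0,2,1,1,2,0,1,4,2,3,0,2,1,4,2,0,4,2,4,3,0,2,0,3,0,4,0,4,3,1,2,3,0,4,1,4,2,2,3,1,2,0,3,1,4,4,4,0,0,3,3,1,4,3,4,2,3,0,4,4],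
 [0,1,0,4,2,0,3,0,0,0,0,1,3,3,1,2,3,1,0,0,3,2,1,4,2,3,2,3,3,2,1,2,2,0,3,3,2,2,3,2,2,3,3,1,4,0,0,3,4,0,0,3,3,3,2,1,0,2,1,3,4,2,2,1,0,1,0,3,0,1,1,3,2,4,0,0,2,1,2,3,2,0,2,3,4,3,2,4,2,4,2,0,1,0,3,2,1,0,1,4,4,0,4,4,2,3,3,1,3,0,1],
 [3,3,4,4,2,2,1,2,4,4,3,1,4,1,1,1,1,1,1,4,0,0,4,2,0,4,4,4,1,0,1,2,2,4,4,1,4,1,4,1,4,3,4,3,4,1,2,0,3,3,4,3,4,4,1,4,2,4,2,2,3,4,0,2,2,4,3,3,4,2,0,4,4,0,0,2,4,1,0,0,1,0,0,4,2,2,1,4,0,4,2,0,3,2,4,1,1,2,4,2,2,2,4,0,2,4,4,3,0,3,3],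
 [4,1,1,0,0,3,1,1,0,0,0,4,0,1,3,1,2,1,4,2,2,3,2,2,0,4,0,1,0,2,0,3,3,3,1,0,0,0,4,4,4,1,0,1,3,2,3,0,0,4,0,1,0,4,0,4,0,4,2,3,1,2,1,2,4,0,2,0,3,3,0,0,2,0,1,1,0,1,0,2,3,2,1,0,4,4,3,3,0,0,1,1,4,4,2,3,3,0,4,1,0,1,1,1,2,0,0,2,3,3,3],
 [0,4,3,3,2,3,1,3,1,4,0,2,1,3,1,3,0,3,3,0,0,2,0,3,0,0,1,0,3,2,1,1,0,2,3,2,3,1,4,3,2,0,4,1,2,4,3,4,3,0,4,3,0,3,1,0,3,0,4,1,1,0,3,3,4,4,0,4,4,2,1,3,2,0,4,4,1,3,2,0,2,4,4,1,3,4,2,4,0,0,3,0,0,1,0,0,0,3,0,4,3,2,1,3,4,3,1,1,4,4,2],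
 [1,2,4,1,4,0,3,3,0,2,0,4,1,1,4,0,1,3,3,1,2,1,0,2,0,3,1,2,0,0,4,3,2,4,4,1,0,2,3,3,0,4,3,4,4,3,1,3,2,3,0,0,4,0,2,2,1,1,3,2,0,0,2,1,0,3,4,1,1,4,4,1,0,0,4,1,3,0,3,3,1,3,1,4,2,0,4,0,2,0,1,4,1,1,1,0,4,2,0,0,3,4,3,2,3,1,3,1,3,1,3],
 [2,4,1,3,1,0,4,4,4,1,2,2,1,3,1,4,2,1,2,4,0,0,1,1,2,0,4,3,4,4,3,2,0,1,2,1,3,4,2,4,0,0,3,0,1,4,3,1,1,0,3,0,3,3,0,0,2,3,3,0,1,4,1,3,4,2,0,1,0,3,4,2,4,0,0,2,0,1,1,3,2,0,2,2,3,0,4,2,1,1,0,4,0,2,3,3,0,2,0,4,3,4,3,0,1,3,3,4,2,1,4],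
 [2,3,1,1,3,1,2,3,4,2,0,1,3,3,0,0,1,1,2,2,2,1,0,1,2,0,3,2,1,0,4,0,1,4,0,0,1,3,2,1,2,3,1,4,0,3,3,3,0,2,2,1,2,1,2,4,0,4,2,4,2,3,3,3,1,1,0,0,0,3,0,0,0,0,1,2,1,1,0,4,0,4,1,2,0,0,3,0,1,1,4,4,1,1,1,2,1,2,0,0,3,2,4,4,0,2,4,2,0,1,3],
 [0,3,3,0,4,0,1,0,3,1,0,1,4,3,0,0,2,2,4,3,1,1,1,3,4,3,0,3,2,4,4,3,1,4,4,1,4,4,4,0,0,1,0,1,4,2,1,3,0,1,0,3,3,0,2,4,0,3,1,2,3,3,3,0,0,1,4,1,4,0,1,0,0,3,2,3,3,1,1,0,3,2,1,4,3,1,1,2,1,0,2,3,1,3,3,0,2,4,4,2,4,1,4,4,2,3,4,1,0,0,4],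
 [3,2,1,0,2,3,4,2,4,1,3,4,0,1,3,2,0,0,0,3,2,2,3,2,1,2,0,4,0,1,0,1,4,0,1,0,3,3,0,3,0,2,1,4,0,2,3,0,3,4,3,1,2,2,1,0,3,1,2,4,3,1,2,0,1,4,1,4,1,2,3,4,2,1,1,0,3,0,0,1,0,3,3,1,3,3,3,0,4,1,3,1,1,2,0,2,4,1,1,4,1,4,0,0,2,0,3,2,0,0,3],
 [1,3,1,2,2,3,4,2,1,3,2,3,0,4,2,1,2,0,4,2,4,2,4,4,4,4,0,4,4,4,4,4,3,0,4,4,1,3,3,2,4,3,3,3,4,3,2,1,1,0,3,1,2,2,4,0,2,0,1,0,4,4,4,4,0,4,0,3,3,0,4,1,2,2,4,2,2,2,4,2,4,0,1,4,2,2,0,4,2,3,2,2,4,3,1,0,0,0,3,0,1,2,4,2,1,3,1,3,1,1,0],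
 [0,4,0,1,3,3,0,4,4,4,1,1,4,4,2,0,2,1,4,1,4,3,0,3,4,4,2,4,0,1,4,3,3,3,4,0,1,0,4,2,3,1,2,2,3,1,2,2,1,2,3,4,1,0,1,1,0,1,0,3,3,2,3,4,4,4,3,3,1,4,1,2,4,0,0,1,2,0,2,3,1,3,2,4,1,1,4,3,1,0,2,1,0,1,4,2,0,3,3,2,0,1,4,2,0,3,0,0,0,3,0],
 [3,2,2,1,0,1,0,3,0,2,0,0,0,2,3,4,3,3,3,1,0,1,4,4,3,1,0,0,2,2,4,1,4,1,3,3,1,0,2,4,1,1,4,2,0,4,4,3,0,0,1,4,0,1,0,3,3,2,0,1,3,1,1,2,1,3,4,4,3,3,2,3,3,1,4,4,2,2,3,1,1,4,2,0,4,1,2,3,1,0,2,3,1,2,3,2,1,4,0,2,2,4,3,4,1,1,3,1,2,1,0],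
 [1,3,1,4,2,4,1,3,2,0,1,2,2,2,1,0,3,2,2,4,2,4,0,2,4,2,2,3,4,3,4,1,1,3,4,0,2,0,0,0,1,0,2,4,0,1,0,3,4,0,4,3,1,0,3,4,4,3,4,0,1,3,0,1,3,3,2,1,0,3,1,3,0,0,1,1,2,2,0,3,1,0,1,4,0,3,2,4,2,4,0,3,3,0,4,4,0,0,3,1,3,2,4,0,2,1,2,1,2,2,1],
 [4,2,1,3,0,1,3,3,4,4,0,0,4,1,3,1,2,2,2,3,0,1,2,3,0,0,3,3,1,2,2,1,2,1,1,3,1,0,3,1,1,3,3,0,3,0,3,2,2,2,3,0,3,0,4,0,3,0,2,2,2,4,2,3,2,2,0,3,2,4,3,2,3,4,1,0,0,4,2,1,2,2,3,3,4,0,2,2,2,1,4,3,2,1,3,3,3,3,1,0,4,0,3,0,2,1,2,3,2,2,4],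
 [1,2,1,4,3,2,1,3,2,2,3,1,1,3,0,1,4,3,0,3,2,2,1,1,1,1,2,0,3,4,0,3,1,1,4,0,4,2,3,0,4,2,1,2,3,1,3,2,3,4,4,2,0,1,0,3,4,2,3,3,1,3,2,1,1,3,0,0,2,2,4,2,3,0,1,4,3,4,1,1,2,1,3,2,4,2,0,4,3,1,3,0,1,0,1,1,1,2,2,3,3,3,2,2,2,4,3,3,2,3,1]
]

/-- named matrix 14 -/
def nm14 : List (List ℕ) := [
 [0,4,4,2,4,0,4,4,1,0,2,0,0,3,1,3,2,0,0,2,4,3,0,0,2,2,3,0,1,4,1,1,0,3,1,4,2,0,1,4,2,3,3,4,0,2,4,1,4,4,3,4,4,0,0,3,4,3,1,0,4,0,4,4,0,2,3,0,2,4,0,0,1,0,4,4,4,0,0,3,0,1,4,0,0,2,2,4,3,3,1,4,4,4,3,3,2,1,1,1,4,4,1,3,3,3,3,2,1,0,0],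
 [1,1,0,3,1,1,2,4,4,3,1,0,2,4,0,1,0,2,2,2,3,0,2,4,0,4,3,0,4,0,1,4,4,2,4,4,1,2,4,0,1,0,4,2,3,1,0,1,0,2,4,1,0,2,1,2,0,4,3,2,2,0,1,3,3,3,1,1,0,3,0,1,1,4,4,3,0,1,3,4,1,1,4,4,0,0,0,2,4,1,0,2,2,3,2,4,4,2,0,2,4,1,4,0,0,2,2,4,3,0,2],
 [0,3,4,2,0,0,1,4,3,4,2,3,2,0,2,3,0,3,1,0,1,1,4,1,2,4,2,2,1,3,3,4,0,0,1,4,4,1,2,0,4,0,0,3,4,2,0,2,4,1,0,2,0,3,0,1,3,3,3,1,0,4,1,1,2,1,0,2,3,4,1,0,4,1,4,0,1,1,0,1,0,3,1,2,0,0,2,0,4,2,3,1,1,4,2,3,0,1,3,3,3,0,2,0,0,0,0,1,1,4,2],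
 [3,4,2,1,2,0,1,2,0,4,2,1,3,1,0,1,0,2,4,4,1,4,0,2,0,3,1,4,1,3,1,1,4,1,4,0,1,2,0,3,3,3,2,1,4,3,0,4,3,0,1,0,2,4,1,4,1,2,4,3,3,3,0,3,0,2,2,3,4,3,2,0,3,4,2,1,0,2,3,3,3,1,4,2,0,1,4,2,2,0,0,0,4,3,1,0,1,0,2,4,2,4,1,1,4,4,1,1,4,3,3],
 [0,2,0,3,1,0,0,3,4,0,3,0,4,4,1,0,3,0,3,0,1,1,3,3,1,2,0,1,3,3,2,2,1,1,1,2,1,3,4,1,2,4,2,0,3,3,3,3,1,4,0,3,4,4,2,3,0,2,1,1,1,3,1,0,2,4,1,3,3,2,0,0,3,4,2,0,3,2,1,2,2,0,1,4,3,2,4,3,4,3,3,2,2,3,1,2,0,4,1,2,0,2,1,3,3,0,4,0,2,0,2],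
 [2,0,4,0,3,3,4,3,0,2,4,3,4,3,1,3,1,3,0,0,2,3,4,4,3,1,1,1,1,3,2,1,2,0,3,4,4,4,0,1,0,1,3,0,2,2,3,3,0,4,0,2,1,3,2,3,4,0,0,4,4,2,3,2,4,2,1,3,3,2,1,0,1,1,2,3,0,0,0,3,2,3,1,1,1,3,4,1,1,0,0,4,3,2,0,0,2,4,3,1,2,0,0,3,1,2,3,2,0,4,3],
 [2,2,2,1,3,3,0,0,2,0,3,2,1,2,4,3,2,0,2,1,1,1,3,4,1,3,4,3,3,1,3,0,0,2,1,4,4,3,3,0,4,2,4,3,4,0,2,2,2,0,2,2,2,1,4,4,2,0,3,2,1,3,4,2,1,2,2,4,1,4,1,2,2,3,0,2,3,3,1,1,4,4,2,0,1,0,2,2,3,1,2,0,2,0,0,4,4,1,2,0,3,3,2,2,0,3,2,3,2,3,1],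
 [0,0,1,4,2,0,2,3,0,2,4,0,3,0,4,1,3,3,1,1,0,3,0,3,4,3,3,1,1,0,2,3,0,2,3,0,3,3,2,0,3,1,2,0,3,2,1,1,3,4,1,1,2,3,0,2,4,3,2,4,3,4,0,4,4,4,1,0,2,1,4,0,0,3,0,1,4,2,3,2,3,4,4,0,3,0,4,1,3,2,0,0,1,0,4,0,2,2,0,0,3,0,0,1,1,1,1,1,0,1,2],
 [3,0,3,1,2,3,3,1,2,3,4,4,4,1,4,4,4,1,3,4,3,4,2,2,3,2,3,3,4,0,0,1,3,3,4,4,3,3,3,1,2,4,2,3,0,1,3,0,4,2,1,4,4,1,0,2,0,1,3,3,4,3,3,3,0,0,0,0,4,4,2,4,4,3,0,2,3,4,2,3,1,4,4,4,0,4,2,2,0,0,1,1,3,3,3,0,2,2,4,2,3,0,0,0,3,1,3,2,0,1,0],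
 [1,1,4,0,2,2,1,3,2,4,1,2,1,3,1,0,2,4,2,1,1,0,3,3,4,2,1,2,1,1,1,0,2,2,4,1,3,3,3,2,1,1,1,2,2,4,4,2,1,4,1,1,2,1,3,1,0,2,2,1,3,1,0,4,1,3,4,0,4,1,0,0,2,1,1,4,4,3,4,4,2,4,2,0,1,3,2,0,4,0,1,3,2,0,3,3,4,4,2,1,3,0,3,1,4,0,2,0,4,4,0],
 [4,2,1,2,3,2,3,0,0,0,1,0,4,3,3,2,1,3,3,4,0,2,0,0,3,0,3,1,1,3,0,2,2,2,2,4,2,1,4,1,1,2,2,0,2,2,3,1,3,4,4,4,3,4,0,3,0,2,2,4,1,1,2,0,1,0,2,0,2,4,4,0,4,1,3,3,2,3,0,0,0,0,1,1,3,1,1,0,4,2,3,3,2,4,4,3,3,0,3,2,3,3,3,0,3,2,3,1,0,3,3],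
 [0,1,0,4,1,1,3,1,4,3,3,3,2,4,3,4,0,0,2,4,2,3,2,2,0,1,1,3,0,3,4,2,1,3,0,3,3,0,0,2,1,2,3,3,3,1,1,2,0,2,1,3,0,3,1,3,0,4,4,1,3,3,0,3,4,4,0,4,1,1,2,2,1,3,1,4,1,1,4,2,3,0,4,1,4,1,0,3,2,0,4,4,4,1,2,3,3,3,4,0,4,2,4,1,3,4,0,3,4,1,2],
 [3,1,0,3,4,1,1,2,0,2,1,2,1,3,3,0,0,2,1,0,1,4,0,2,2,2,4,0,4,4,0,1,1,1,0,0,4,0,3,2,2,4,4,0,2,2,2,1,2,4,1,0,2,2,2,2,4,3,1,0,1,4,2,4,0,0,4,4,1,4,3,3,0,0,0,1,2,3,4,0,2,0,1,1,4,4,3,3,3,4,4,2,1,4,0,4,2,1,4,4,3,0,4,1,1,2,3,4,1,3,1],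
 [1,3,2,1,4,3,4,3,4,3,2,0,3,2,0,3,3,3,1,3,2,2,3,1,0,4,3,0,3,1,2,1,2,4,3,1,4,1,4,2,0,3,1,3,1,4,2,4,2,2,4,3,4,3,4,2,0,1,3,4,0,3,1,3,1,4,2,2,3,3,1,1,3,0,4,4,2,4,1,3,2,3,0,0,0,2,3,0,1,1,1,1,4,1,4,1,1,3,4,1,0,4,4,0,2,0,4,3,0,1,3],
 [0,2,1,4,2,4,0,0,1,0,2,1,1,3,1,2,4,4,3,1,3,0,0,1,0,1,3,0,1,4,1,1,3,4,2,4,2,1,4,1,4,3,1,3,2,2,2,0,2,2,3,4,1,4,4,2,1,0,3,3,2,2,0,1,0,4,3,4,2,2,2,4,2,0,1,2,4,4,3,4,3,4,3,1,0,2,2,3,3,1,3,2,3,1,0,3,2,2,3,1,0,1,2,3,1,4,3,4,3,0,3],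
 [3,4,3,0,2,3,4,2,0,2,2,1,3,1,4,2,2,0,0,2,3,2,4,3,3,1,0,3,1,0,3,2,2,3,1,2,0,1,1,3,0,4,2,1,4,4,1,0,4,4,3,3,4,3,2,1,2,0,0,4,3,4,4,1,4,4,2,0,2,1,1,1,3,4,3,1,4,0,3,3,4,4,0,3,3,1,4,0,2,1,0,2,0,4,2,1,0,1,4,2,4,1,2,3,1,0,0,1,4,4,3],
 [3,3,4,0,1,2,0,0,4,3,0,1,2,4,2,1,2,0,0,0,2,4,0,2,2,4,0,0,3,3,4,4,4,2,1,4,4,0,2,1,2,4,4,1,2,0,1,4,0,0,1,3,2,4,2,1,1,0,2,3,3,0,3,3,3,2,3,4,0,0,0,3,1,0,0,3,3,4,4,3,2,1,2,3,1,3,1,1,4,4,2,3,1,4,0,0,4,1,2,3,1,0,0,2,4,0,4,2,0,4,2],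
 [3,3,4,1,4,0,4,0,0,2,2,1,4,0,0,2,4,4,1,2,3,1,4,4,4,1,0,3,2,2,2,2,3,1,1,3,3,4,2,2,0,4,4,2,3,2,1,4,2,1,0,1,0,2,1,1,1,0,3,1,1,3,3,0,1,2,4,0,3,2,3,2,0,2,0,0,3,4,3,1,2,2,2,4,3,2,0,2,2,2,3,3,1,0,4,2,2,2,3,3,3,1,3,0,3,1,3,2,3,4,4],
 [2,1,2,2,3,4,1,2,1,2,2,2,3,3,0,2,1,4,2,2,2,4,1,3,2,1,4,3,3,3,3,2,4,4,4,4,3,1,0,1,2,3,2,1,2,4,1,1,2,0,1,4,3,1,0,2,0,2,0,4,0,2,0,2,4,4,3,1,2,0,0,1,2,0,0,2,1,4,1,1,2,3,4,0,0,2,1,3,2,1,1,3,2,0,3,3,1,1,3,0,2,4,4,1,3,4,0,4,1,4,1],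
 [4,3,2,4,1,1,4,4,0,2,3,2,3,1,1,4,4,0,4,0,2,2,2,4,1,4,2,4,4,0,4,4,1,0,2,0,0,4,3,4,1,2,2,0,4,2,3,0,0,2,4,0,4,3,0,3,1,4,2,0,0,2,0,3,3,3,2,3,4,3,3,3,0,4,3,4,1,0,2,3,2,3,0,4,4,1,4,1,4,3,1,0,4,0,1,1,0,3,0,3,2,0,0,0,2,2,3,0,4,3,3],
 [2,1,2,0,0,1,1,1,2,3,4,2,3,3,2,4,2,4,0,4,1,0,3,2,0,1,3,3,2,1,2,0,0,1,2,2,3,1,2,2,4,3,2,1,4,2,3,2,3,2,4,2,2,4,1,4,2,1,2,4,2,3,0,4,3,0,3,1,0,0,0,3,0,4,0,2,4,0,3,2,1,3,3,4,3,3,1,4,1,2,3,3,2,1,1,3,2,4,1,0,1,1,1,4,1,4,4,1,1,4,2],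
 [2,2,1,1,4,3,2,1,1,0,0,3,3,1,4,0,2,4,1,4,4,2,2,4,2,4,1,0,2,0,2,1,1,1,2,2,0,3,3,4,3,2,4,1,1,3,3,3,2,3,0,1,3,2,4,3,3,3,2,1,0,4,4,4,0,1,4,0,3,2,0,4,2,2,1,3,4,4,3,3,0,4,2,1,4,0,4,2,2,1,4,3,1,2,1,4,3,1,3,0,0,2,0,1,0,4,3,2,2,1,2],
 [1,1,4,0,2,2,3,3,3,1,1,0,4,0,3,4,3,1,1,2,0,0,4,2,3,4,2,2,1,3,1,3,2,1,2,2,1,1,0,4,3,1,3,4,3,3,0,0,0,1,1,3,3,3,3,1,4,0,0,0,4,3,1,2,3,2,2,1,3,3,4,4,2,0,2,2,2,4,3,3,2,3,4,2,1,2,3,1,1,1,2,1,2,1,2,3,0,3,3,2,2,0,1,0,1,2,4,3,4,4,0],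
 [2,0,0,1,2,1,3,2,1,4,1,1,0,1,4,1,2,1,2,2,0,1,4,4,4,1,1,1,4,3,1,2,3,4,4,2,3,4,4,4,2,0,1,2,3,1,0,4,1,2,0,4,2,4,2,3,1,0,3,4,0,0,4,0,4,0,4,0,3,2,4,0,1,2,3,2,2,1,2,0,1,4,4,0,2,4,1,1,4,4,3,0,1,4,1,1,3,3,0,2,0,3,3,4,3,2,2,1,3,2,0],
 [4,3,2,2,0,4,0,0,2,1,4,4,3,2,4,3,0,2,3,2,4,2,3,2,4,2,4,1,0,2,3,0,0,0,3,2,0,0,1,3,3,3,0,0,3,2,2,2,4,0,1,1,3,0,3,4,3,4,2,1,3,3,0,0,4,3,2,3,2,2,0,4,2,1,0,3,1,4,2,2,3,3,2,0,0,4,2,0,3,0,0,1,3,3,4,4,2,4,1,0,0,0,0,1,0,3,1,3,4,2,4],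
 [4,0,0,0,2,1,2,1,1,3,4,3,3,2,3,4,0,3,4,2,3,1,4,3,1,0,4,0,4,0,1,2,3,1,0,4,1,1,2,2,1,1,0,3,4,1,1,0,1,0,1,2,4,1,4,0,2,1,0,3,1,3,1,4,4,3,3,3,3,2,4,1,3,2,1,4,1,3,1,1,0,4,3,4,4,1,1,0,1,3,2,1,1,1,4,1,3,0,3,3,4,4,2,1,4,2,4,2,4,2,3],
 [1,3,0,0,0,3,4,2,1,4,2,2,3,3,4,3,0,3,4,3,3,2,1,0,1,3,0,2,4,1,0,4,2,0,3,3,4,2,1,0,2,1,3,3,1,4,3,2,2,0,4,2,3,2,4,2,2,4,2,4,0,3,0,0,3,2,0,0,3,1,4,1,1,2,2,2,1,3,3,1,2,4,2,3,2,3,3,1,4,3,3,3,1,0,4,2,4,1,1,3,2,3,0,1,0,4,2,4,2,0,2],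
 [0,1,3,1,1,3,4,4,4,1,3,0,3,2,0,4,1,1,4,2,1,2,2,4,3,4,0,2,2,2,2,2,4,1,2,1,4,2,3,0,0,3,2,3,1,3,0,0,2,3,2,3,0,1,1,3,1,4,0,1,1,4,4,2,2,4,2,3,3,4,3,2,1,0,4,1,0,4,4,2,1,3,2,1,2,2,0,0,3,0,4,0,1,0,0,1,0,3,2,1,1,1,3,2,2,1,2,3,4,2,4],
 [3,1,4,0,3,0,2,3,2,2,3,3,3,0,2,4,4,2,0,4,3,1,3,3,3,0,1,2,4,4,3,0,4,2,2,3,0,2,0,0,2,4,4,3,4,0,2,0,2,1,3,3,4,4,3,0,3,2,0,1,3,3,4,3,0,3,3,3,0,4,4,0,1,2,3,1,2,0,2,0,0,0,4,1,3,3,4,4,3,2,0,2,0,1,3,1,3,4,3,0,0,3,3,1,3,0,4,4,2,1,4],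
 [0,1,1,2,0,0,2,1,0,3,2,2,4,3,2,1,1,3,3,0,3,2,0,1,2,1,1,1,0,1,1,3,4,0,4,0,4,0,1,1,0,1,0,2,1,4,3,0,3,3,3,4,3,3,0,3,0,4,0,4,0,0,3,4,3,4,3,3,4,0,4,4,3,3,2,4,0,2,1,0,2,2,1,3,0,1,2,2,1,4,2,2,0,2,3,1,1,2,1,3,1,3,3,1,3,3,2,2,2,1,0],
 [1,4,3,0,2,3,0,0,3,1,0,2,4,4,3,1,0,3,0,4,4,0,1,3,0,1,3,2,2,4,4,2,2,2,0,4,2,0,1,4,2,3,1,2,3,2,0,0,4,2,1,4,2,4,4,2,0,1,1,4,2,3,3,2,3,0,3,1,0,0,2,4,0,4,4,4,3,2,2,0,0,3,2,0,4,2,4,2,0,1,1,4,4,1,0,2,1,2,4,2,0,0,4,2,2,4,1,0,1,3,1],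
 [2,2,0,1,0,2,4,2,2,3,0,1,3,2,4,0,0,2,4,3,4,3,3,4,4,3,4,3,3,4,1,2,3,0,1,0,2,1,2,3,4,4,4,0,1,3,2,4,0,2,0,3,4,2,1,3,1,1,2,3,2,2,3,1,1,2,1,2,2,4,3,1,2,4,4,1,3,3,0,2,0,2,2,2,4,0,0,1,4,3,3,4,2,2,4,2,4,2,3,0,0,3,1,3,1,1,1,1,1,1,2],
 [3,4,0,0,0,1,3,2,4,1,2,2,3,4,4,2,4,2,0,4,4,0,2,2,0,2,4,1,0,4,2,2,4,2,2,4,4,2,2,1,4,4,1,2,3,4,3,4,3,3,3,4,4,0,3,2,2,2,1,1,1,3,4,0,0,2,4,3,2,3,3,4,2,1,3,3,0,4,1,4,0,2,3,4,4,2,4,1,1,1,2,0,3,1,2,1,4,4,2,1,1,2,2,2,2,4,4,4,1,3,2],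
 [0,4,2,3,4,1,0,4,4,0,4,1,4,0,4,2,1,4,2,1,3,4,2,3,1,1,1,0,3,3,1,0,1,2,0,0,3,2,0,3,4,1,1,2,1,1,3,3,3,2,4,2,3,2,4,1,1,4,2,2,3,0,1,4,3,3,3,3,3,1,0,2,4,1,4,0,0,1,3,2,0,3,1,4,1,2,0,1,0,1,2,1,0,3,0,2,0,1,0,1,2,4,2,3,3,4,2,2,3,3,3],
 [1,1,2,1,0,0,0,4,1,2,2,4,4,2,2,4,0,2,3,4,1,3,4,0,4,4,3,0,1,3,2,3,0,0,0,0,3,0,4,0,4,0,2,3,2,4,1,3,3,2,0,2,2,2,4,2,0,4,1,1,3,2,2,4,4,4,4,4,3,4,2,1,4,4,1,1,1,0,3,3,0,3,0,4,1,4,4,0,1,2,2,4,2,2,4,4,3,0,2,2,1,1,3,1,4,1,2,4,1,3,1],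
 [3,2,4,3,2,3,0,4,1,0,3,4,2,2,3,4,0,2,0,4,0,3,1,1,1,2,2,1,0,4,4,0,1,1,4,2,2,0,2,4,0,1,3,1,0,2,1,0,1,4,3,0,4,4,4,2,0,0,0,2,2,4,3,1,0,0,1,2,1,2,1,4,3,4,2,0,3,1,2,0,1,1,4,3,4,3,4,2,3,2,3,2,0,3,2,2,1,3,1,2,1,2,4,1,3,3,1,3,3,3,1],
 [1,4,0,2,4,1,2,0,1,3,2,1,3,3,2,0,0,3,4,0,2,1,0,0,3,3,2,0,4,0,4,0,4,3,1,0,4,1,2,2,4,4,4,4,1,4,1,4,0,1,3,3,3,3,2,1,3,4,0,4,2,2,4,1,4,0,3,3,0,0,2,3,2,3,0,1,4,2,1,3,3,0,2,4,3,0,3,4,3,2,3,0,3,4,4,2,3,4,3,0,2,0,0,2,3,0,3,3,1,3,1],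
 [3,1,3,4,0,1,3,0,4,0,1,3,4,1,1,1,3,0,2,0,3,1,0,1,2,3,1,2,0,1,2,2,3,2,3,2,2,3,4,0,4,1,4,0,4,4,2,0,4,3,2,4,2,0,1,3,0,3,3,0,4,1,3,0,2,4,2,0,1,0,3,0,1,0,2,3,4,0,1,1,1,2,0,0,3,0,0,2,2,4,1,0,3,0,3,1,0,1,1,4,0,2,3,1,4,4,2,3,0,2,3],
 [1,0,4,0,3,3,3,1,0,3,1,2,2,0,1,2,4,2,3,3,2,2,3,4,1,3,4,3,2,3,1,1,1,1,3,3,1,4,2,0,1,0,3,3,0,1,3,3,1,3,4,0,3,2,3,3,0,3,0,2,3,2,3,0,3,0,4,1,0,4,2,4,4,4,4,3,0,1,0,3,4,4,3,2,3,2,2,1,1,2,2,3,4,4,2,4,1,0,2,4,3,2,1,1,1,3,4,1,2,3,3],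
 [1,1,2,4,2,1,1,0,4,1,2,1,1,3,0,2,1,0,2,0,4,1,4,4,1,1,0,3,1,3,4,0,1,2,1,3,1,3,0,2,0,4,3,0,2,2,1,1,2,0,2,2,4,2,2,3,2,0,3,0,3,3,3,4,4,2,3,3,0,0,1,4,4,3,4,0,1,0,4,2,4,0,0,3,0,2,2,0,3,2,4,3,1,0,3,3,1,0,2,1,1,1,3,1,1,2,2,2,4,2,3],
 [4,3,3,4,3,3,3,3,2,2,2,0,0,2,4,4,2,4,2,4,1,0,1,2,2,4,0,2,2,4,0,3,1,0,3,0,1,3,3,2,2,0,4,4,4,0,4,2,3,1,0,0,3,4,4,2,1,1,4,1,3,2,4,2,0,3,0,1,4,2,2,2,0,3,3,2,3,2,2,4,1,2,2,3,0,1,2,4,2,1,0,4,4,0,3,0,1,0,1,2,2,2,0,1,3,2,3,2,3,4,2],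
 [2,2,2,3,4,3,1,3,3,2,3,4,1,4,1,1,1,0,1,3,0,4,4,3,1,4,3,4,3,0,4,3,2,3,4,0,3,1,4,1,2,3,1,1,2,3,2,4,2,4,4,0,1,3,4,1,1,1,4,2,3,3,3,0,3,1,3,0,2,4,3,3,2,0,3,4,4,2,3,1,2,0,3,1,0,3,4,1,4,3,0,4,0,2,4,1,3,2,3,2,1,0,4,4,2,2,3,2,1,4,2],
 [2,2,1,4,2,0,1,4,1,3,1,1,1,4,2,2,2,4,4,3,4,0,2,2,1,3,1,4,1,3,3,3,1,2,0,0,3,4,2,1,3,0,3,2,3,4,3,0,1,1,2,3,1,1,0,4,3,3,0,1,0,3,3,4,4,2,2,4,3,1,0,4,3,3,3,4,4,0,0,3,4,2,1,2,3,4,4,2,2,3,2,2,1,3,4,2,3,4,3,0,4,3,3,3,0,2,4,3,4,4,1],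
 [0,1,3,1,4,0,4,1,1,4,3,0,3,0,2,3,0,3,1,2,4,0,1,0,0,1,3,1,1,3,1,2,1,3,0,1,0,2,0,4,2,4,4,1,1,0,1,0,4,4,1,1,0,0,2,3,3,3,1,1,1,1,4,0,3,2,2,1,2,4,3,2,4,0,1,1,3,2,0,4,1,4,1,3,3,3,0,3,2,2,1,2,1,0,1,4,0,1,4,1,4,4,2,1,0,4,1,4,2,3,4],
 [4,2,3,1,2,0,0,1,1,1,1,4,1,1,1,0,1,2,4,2,1,4,1,3,0,4,0,3,3,0,2,4,4,2,3,1,1,0,2,2,2,4,0,2,4,2,2,1,0,2,2,4,0,2,0,0,3,3,1,1,2,0,0,4,1,4,1,4,0,2,3,1,1,0,0,3,2,3,3,4,4,3,3,2,3,3,3,2,0,4,4,4,4,4,2,2,2,1,4,2,1,4,3,2,2,1,1,4,4,0,3],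
 [0,3,3,1,4,1,0,0,0,1,0,4,3,1,0,4,2,2,1,4,0,1,2,0,4,1,0,0,0,4,3,1,2,4,2,1,2,4,4,2,3,1,1,3,4,0,3,1,0,1,2,3,0,0,4,4,4,2,2,0,3,1,3,3,0,1,3,3,0,2,0,4,0,0,2,1,0,4,3,3,3,3,3,2,1,2,4,4,4,1,0,3,1,2,0,3,4,1,4,3,2,0,3,1,1,0,0,2,2,4,3],
 [4,3,4,2,4,2,1,4,3,1,1,2,0,0,0,0,2,2,4,0,1,4,2,1,3,2,4,2,2,3,3,0,4,4,1,0,1,4,3,3,3,0,1,0,3,3,0,4,3,4,1,0,4,1,2,3,0,1,2,4,2,4,4,3,3,1,2,0,1,0,4,0,2,2,1,0,0,1,4,2,1,0,2,3,2,2,4,2,1,2,4,4,4,0,3,0,4,4,1,4,4,3,2,2,3,0,3,0,0,1,2],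
 [3,3,4,4,4,2,2,4,0,1,3,1,2,3,1,3,3,1,1,1,3,1,3,3,1,4,4,4,4,0,2,2,2,0,2,0,4,3,0,4,3,3,1,3,0,4,0,2,3,3,3,3,0,0,3,0,3,0,3,2,2,1,2,2,1,4,3,2,1,3,1,0,2,3,4,4,1,3,0,1,2,3,0,1,2,4,3,0,4,4,2,2,0,3,0,4,2,0,1,3,0,4,3,1,2,3,2,1,3,2,2],
 [4,4,4,2,2,3,3,0,2,1,4,1,1,2,4,1,2,1,1,0,4,4,2,2,3,0,4,1,3,2,3,3,3,2,0,1,2,1,0,3,4,1,2,1,3,0,2,1,0,3,0,0,3,0,3,3,1,2,1,4,2,3,1,2,2,3,3,0,2,1,0,2,0,4,2,1,4,3,2,0,4,1,0,2,0,1,1,2,1,0,4,3,1,2,0,4,4,1,3,2,1,4,2,3,1,2,3,0,1,0,2],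
 [2,1,2,4,4,3,2,3,0,2,2,0,2,3,0,4,0,3,3,2,0,4,2,0,0,4,1,2,1,3,1,3,4,1,3,4,1,0,4,3,3,4,3,4,0,4,0,2,2,3,3,2,3,3,0,4,0,4,2,2,3,3,2,4,4,3,0,2,3,0,2,4,2,1,0,2,0,1,4,0,3,4,3,2,4,1,2,3,3,1,2,3,4,1,1,4,2,4,0,3,2,4,0,3,0,4,4,4,4,2,2],
 [0,3,1,3,0,2,2,2,2,3,2,3,4,2,3,0,3,2,3,1,2,3,4,1,0,4,2,4,3,2,4,3,4,0,3,4,2,1,2,2,0,0,0,4,1,2,1,2,4,4,4,3,2,3,4,2,0,0,0,0,1,1,0,0,0,0,1,1,4,1,0,3,4,1,1,1,2,2,3,2,4,2,3,0,4,2,1,2,3,1,2,1,0,1,1,1,1,4,2,2,2,1,0,0,1,1,0,1,0,3,2],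
 [1,3,2,4,3,0,4,0,1,4,2,2,4,3,4,0,0,4,4,4,3,2,2,3,4,4,3,0,1,2,0,0,0,3,0,1,4,2,4,0,0,0,3,0,2,2,1,0,1,0,1,3,1,0,3,3,3,2,3,3,2,2,4,0,4,1,3,1,3,2,2,2,4,1,3,2,3,2,2,0,1,4,1,2,2,1,3,1,4,0,2,1,2,0,4,0,4,0,4,2,4,4,0,0,2,4,2,2,3,1,4],
 [1,3,1,3,4,0,4,4,1,1,0,4,4,1,0,1,0,0,0,1,0,1,2,2,4,1,2,3,3,0,2,0,1,1,2,3,1,0,3,4,4,1,3,4,3,1,2,4,0,1,4,3,1,1,2,2,2,4,4,0,4,4,3,0,4,3,1,4,2,0,4,1,4,2,2,0,2,1,0,3,4,2,3,1,3,2,2,3,3,2,0,3,4,4,0,1,0,3,4,3,0,3,4,0,2,0,1,3,3,0,2],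
 [3,1,4,2,3,1,0,1,4,3,3,1,3,0,0,4,2,4,4,3,2,3,1,1,4,4,4,4,3,1,2,4,3,1,2,3,1,2,1,1,0,1,2,3,2,2,2,2,4,1,4,3,4,4,1,2,2,1,2,0,4,1,3,0,3,3,0,1,1,3,3,1,0,3,0,0,3,3,4,3,2,4,2,1,2,3,0,3,1,3,0,3,3,4,2,4,1,0,0,2,4,3,3,2,0,2,0,3,1,1,4],
 [1,3,2,4,1,2,2,1,4,3,2,4,0,4,2,3,3,1,2,0,0,2,4,1,4,2,3,4,3,1,2,0,1,2,1,4,0,0,0,3,0,2,2,4,3,4,2,0,2,0,0,4,0,0,2,0,1,0,4,1,4,4,3,1,3,3,4,0,0,1,4,0,1,3,4,1,4,4,3,2,4,3,0,2,3,2,4,3,2,4,2,0,3,1,4,0,4,3,4,0,0,0,4,0,0,1,3,0,0,1,2],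
 [2,2,1,0,0,4,3,4,4,4,0,0,3,1,2,2,2,4,2,0,2,1,2,3,4,3,1,0,2,3,4,2,4,0,2,2,4,4,4,0,4,0,0,0,4,2,0,2,4,1,0,4,1,3,3,2,0,1,4,1,2,0,2,3,2,2,3,0,2,3,0,2,1,1,2,3,2,1,2,4,1,3,4,4,0,0,3,2,1,0,1,0,2,1,2,2,2,0,2,0,1,0,2,4,2,1,2,0,4,4,1],
 [3,2,1,2,0,4,0,0,1,4,2,3,3,0,3,3,2,1,1,1,4,4,4,4,4,3,2,4,0,2,2,4,1,3,1,2,3,1,1,3,4,1,0,3,0,3,1,2,0,2,3,3,2,4,4,2,0,3,1,0,1,0,0,3,1,3,4,3,3,0,1,0,0,2,1,0,3,4,4,0,0,0,0,0,0,1,0,4,4,0,2,4,1,3,3,3,2,2,4,3,1,3,2,3,4,2,3,4,3,1,1],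
 [2,4,3,2,2,0,1,1,4,4,0,0,3,3,1,2,2,0,0,3,2,4,0,4,1,2,1,0,0,2,2,4,2,1,3,4,2,4,2,3,0,0,0,0,4,3,1,1,3,4,1,2,4,1,3,4,2,4,1,4,4,2,1,4,2,0,1,1,3,4,2,2,4,1,2,0,2,0,1,3,0,3,3,1,2,0,0,3,4,0,1,4,3,1,3,1,3,3,1,3,4,3,1,3,0,0,4,2,2,3,4],
 [4,3,0,1,3,0,1,0,0,4,0,2,4,0,0,2,3,0,1,0,1,0,0,3,1,2,3,1,0,2,3,1,0,3,4,3,1,0,0,1,1,0,1,4,1,1,1,0,4,1,0,1,2,2,2,4,3,0,1,1,4,3,3,2,1,3,3,3,2,4,0,0,2,0,3,4,2,4,2,3,1,1,0,3,2,2,2,3,3,2,4,4,2,1,2,4,1,0,1,0,0,2,4,0,2,4,0,3,2,3,4],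
 [2,1,4,4,4,3,2,1,3,0,1,0,1,0,3,0,4,0,3,4,3,4,1,1,4,4,0,1,1,3,4,0,4,3,2,0,0,3,1,3,3,0,1,4,3,1,2,3,2,0,4,3,4,1,0,3,2,2,1,3,1,2,2,2,4,1,2,0,0,4,0,1,1,1,4,3,2,0,0,2,2,0,3,2,0,3,4,4,0,4,2,3,1,3,3,2,2,0,4,2,0,2,1,1,1,3,3,3,2,3,3],
 [0,4,4,0,1,1,2,2,3,2,0,3,2,0,4,2,3,2,2,4,1,3,2,0,0,1,2,3,1,0,1,4,4,3,4,0,2,4,1,3,4,0,4,3,2,0,2,0,1,0,3,4,1,3,3,4,4,0,0,3,4,0,2,1,2,1,2,0,4,1,0,3,2,2,3,4,3,1,1,1,3,1,2,0,3,3,0,1,0,4,4,4,0,3,0,0,1,2,4,4,2,4,4,0,0,4,4,4,4,3,4],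
 [0,4,1,4,3,0,1,3,3,3,1,3,3,1,4,0,0,1,2,4,2,0,2,4,2,1,1,4,1,0,0,4,1,3,1,1,4,4,4,3,2,2,2,3,2,3,1,4,3,3,3,2,4,3,2,2,1,1,1,3,3,3,0,3,0,1,1,4,4,3,3,2,4,0,4,3,2,4,0,2,0,0,2,3,4,0,0,4,3,4,3,2,0,4,0,1,4,4,4,3,3,0,3,0,0,2,1,2,4,4,0],
 [3,4,3,4,4,1,1,1,3,0,0,1,2,4,3,1,0,1,3,4,1,1,4,2,4,3,0,1,3,0,3,1,3,2,4,3,4,4,3,4,3,3,3,4,2,3,4,1,0,3,2,3,4,4,1,2,2,1,0,3,4,2,0,1,1,4,0,1,2,1,2,0,4,4,0,1,0,3,3,0,3,4,4,3,3,3,0,0,1,3,3,2,0,1,4,0,2,0,3,1,2,4,2,4,0,4,2,3,3,2,1],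
 [1,4,4,3,2,0,2,1,2,4,4,4,2,4,1,1,0,2,0,1,3,1,2,0,1,1,1,4,4,1,2,2,0,1,0,2,2,2,1,4,0,1,0,4,2,0,1,2,0,1,4,3,3,2,3,0,4,2,0,4,3,3,3,1,4,2,3,4,2,4,3,3,2,0,0,4,3,4,2,4,1,3,0,3,2,2,1,1,1,4,0,1,4,4,4,3,2,2,4,1,3,3,4,0,2,2,2,1,2,2,1],
 [1,2,1,0,1,0,3,4,0,2,4,4,3,4,0,0,2,2,0,1,4,1,4,2,0,2,1,0,1,1,1,2,3,1,1,0,1,0,0,4,1,2,3,4,0,1,1,4,3,1,4,0,0,1,1,2,0,3,1,3,0,2,3,1,2,3,1,1,4,1,4,1,0,2,3,1,4,0,0,3,2,0,4,0,0,2,2,0,1,3,0,4,2,4,2,4,3,1,3,1,3,0,4,4,1,1,2,0,4,2,4],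
 [0,4,4,0,4,3,3,0,2,1,3,2,3,1,2,1,0,1,0,1,0,1,1,1,3,2,1,3,3,4,4,4,4,4,0,2,0,1,2,3,0,1,2,0,0,4,1,4,3,0,4,0,0,1,4,4,1,1,4,2,4,1,2,3,3,1,2,0,4,2,0,3,4,2,2,4,2,4,2,0,3,2,2,0,0,0,3,3,0,1,4,1,3,0,2,1,0,4,2,1,4,3,3,0,0,3,2,2,2,2,3],
 [0,4,3,1,4,4,3,4,3,1,3,3,4,4,2,4,1,2,2,1,1,0,0,0,4,0,2,1,2,0,4,4,4,3,4,1,2,1,0,4,0,2,0,4,3,2,2,3,3,0,0,2,4,2,3,0,2,1,4,0,2,1,0,2,1,0,2,4,1,3,0,4,3,0,0,4,0,0,0,4,0,4,3,2,0,4,1,0,4,1,2,1,0,2,1,0,3,1,2,0,1,0,1,1,2,3,1,2,3,2,2],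
 [2,2,0,3,0,3,0,1,1,3,1,3,1,3,0,4,2,4,2,4,3,0,3,2,2,0,4,4,4,2,2,4,1,0,4,2,2,0,3,4,4,2,4,0,2,2,3,0,3,0,3,0,1,0,0,4,0,3,3,3,1,3,4,0,3,1,1,0,3,2,3,0,4,2,1,0,2,1,4,4,1,1,2,4,1,2,0,0,1,2,2,4,1,2,1,4,0,1,0,3,2,1,1,1,3,0,0,3,0,3,4],
 [3,1,0,1,4,3,1,1,0,3,0,3,4,4,3,3,1,2,2,3,2,4,4,3,4,1,1,0,4,2,2,3,4,1,2,3,2,2,1,0,2,2,2,1,3,4,2,3,4,3,2,2,2,4,4,2,0,2,4,2,4,1,0,0,2,1,4,0,4,2,3,1,2,2,1,3,0,1,3,1,3,2,3,3,1,0,1,4,0,3,4,2,0,1,1,2,2,1,2,3,1,1,1,0,0,2,0,4,2,0,3],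
 [4,2,4,2,2,0,0,0,0,4,1,3,3,0,3,0,1,1,2,2,3,4,4,3,1,1,0,2,2,0,1,3,0,2,2,3,3,4,2,4,3,1,3,2,2,3,2,4,4,1,0,2,1,4,1,0,4,3,4,0,0,1,1,1,2,2,2,4,3,2,3,1,0,4,0,4,0,2,3,1,3,2,2,0,0,1,0,2,1,0,0,4,2,4,3,2,4,3,0,2,2,4,1,4,0,0,3,0,1,1,2],
 [1,1,4,1,3,2,0,2,4,0,0,1,0,1,2,4,2,2,1,0,3,3,1,1,4,4,2,2,1,0,0,3,3,3,1,1,4,0,0,0,3,1,1,1,2,3,0,3,0,4,0,2,1,2,4,0,4,3,1,4,1,0,1,4,2,0,1,2,4,3,3,4,4,0,0,0,3,2,3,3,2,0,1,4,4,3,1,0,2,1,2,1,0,2,2,2,1,3,0,1,1,0,0,0,3,2,2,3,0,2,0],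
 [3,2,1,2,0,0,2,2,0,0,2,2,0,0,3,4,4,3,2,2,1,2,3,1,4,0,2,0,1,3,1,3,0,3,0,3,0,1,2,2,0,2,4,1,3,4,1,4,0,3,3,3,1,0,3,3,3,1,2,4,4,2,0,0,1,2,3,2,1,2,2,0,2,2,1,0,0,1,0,2,0,1,1,1,1,1,0,0,3,2,4,4,1,1,0,3,4,1,3,3,1,3,0,3,0,0,4,3,3,4,0],
 [1,2,1,0,2,4,3,1,1,1,1,3,0,2,2,0,1,4,0,2,0,1,0,1,2,4,1,0,0,3,0,3,4,0,1,0,1,2,4,4,1,0,2,4,1,3,1,4,0,2,0,3,2,4,3,1,2,3,1,2,4,4,3,1,3,4,1,2,2,0,2,1,1,3,2,1,2,0,2,4,4,0,2,1,4,0,4,0,2,2,3,0,1,1,2,0,3,4,3,2,4,1,0,3,1,2,0,2,3,0,3],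
 [1,4,2,4,1,3,0,0,0,2,4,1,4,4,3,1,3,1,0,2,1,1,4,4,0,0,1,0,1,0,2,4,3,1,3,3,0,4,4,1,3,4,0,3,3,4,1,1,3,2,2,0,3,3,0,2,3,4,3,3,2,2,4,3,4,4,2,4,0,2,2,1,3,1,2,1,0,3,2,2,4,2,0,0,2,3,1,3,1,3,2,2,1,4,3,4,1,0,2,3,4,2,4,2,4,3,0,4,4,2,0],
 [4,3,0,2,0,2,2,1,4,4,1,2,1,2,1,0,2,2,3,1,4,1,0,1,1,1,0,1,1,1,0,4,4,0,2,0,0,2,3,4,1,3,1,0,1,2,1,3,2,1,4,3,4,4,3,0,3,1,1,4,2,4,4,1,1,4,2,0,3,3,3,4,3,2,4,3,0,0,3,4,2,1,0,3,1,1,4,0,2,0,2,4,2,3,0,0,3,3,2,0,2,0,2,0,2,3,1,1,2,3,2],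
 [2,1,1,3,2,2,2,4,4,1,1,3,0,3,1,0,2,4,3,1,3,1,2,3,4,1,3,0,2,3,3,0,4,3,4,0,3,2,4,4,4,3,2,2,3,1,1,0,0,4,4,1,2,2,0,1,2,1,2,4,2,1,0,0,0,3,4,1,4,0,2,1,0,2,3,4,0,1,4,0,4,2,2,2,3,1,2,4,1,3,3,4,1,2,1,2,3,1,0,4,2,2,4,1,1,1,0,3,3,2,0],
 [0,4,4,0,3,2,3,3,3,2,4,1,1,1,1,4,1,4,4,3,0,3,4,4,0,2,1,2,0,4,4,3,4,0,1,0,4,2,2,4,0,2,0,0,3,1,4,1,1,3,2,4,2,4,1,0,2,3,1,1,1,2,1,1,0,2,2,1,1,0,3,0,3,2,3,3,1,2,2,3,3,2,3,0,2,0,2,3,3,0,0,2,1,3,4,0,1,2,1,0,1,1,3,3,4,0,3,1,2,1,0],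
 [4,0,2,4,4,1,0,0,3,3,0,1,1,4,3,1,1,2,2,3,0,2,2,1,3,0,3,1,1,1,0,3,2,2,2,3,3,0,0,4,2,1,3,4,3,2,2,4,3,2,0,2,2,1,3,2,0,4,4,2,0,3,4,0,2,4,4,1,1,2,1,2,3,1,2,1,4,4,1,4,2,1,3,2,4,2,1,3,4,0,3,3,4,3,3,1,2,4,4,2,1,1,2,1,3,4,4,3,2,1,2],
 [4,4,3,1,1,3,3,2,4,4,2,3,1,2,4,4,0,2,3,0,4,2,2,2,3,3,0,1,0,3,4,1,0,1,2,2,2,0,1,3,2,4,0,2,0,1,4,2,0,3,4,0,3,3,3,1,3,1,2,4,4,4,2,1,0,3,4,2,4,3,4,4,3,4,4,3,2,2,2,2,3,0,2,4,3,0,0,0,1,3,0,2,1,4,4,2,4,1,1,4,3,3,4,4,3,1,2,4,0,1,4],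
 [4,4,2,3,0,4,2,4,1,1,2,3,0,1,1,2,4,0,1,1,2,0,4,2,1,2,0,1,0,1,4,2,3,0,4,3,4,2,3,1,0,1,4,1,1,4,3,2,3,2,1,3,2,1,1,1,4,2,3,1,1,0,3,4,0,1,2,4,3,4,3,0,0,0,3,0,3,1,4,3,3,0,1,3,1,0,0,0,3,0,0,4,1,0,4,2,2,0,3,2,3,4,1,1,0,3,4,1,4,0,2],
 [1,1,4,0,4,2,1,0,2,0,2,4,0,3,3,4,4,0,4,4,2,3,4,2,2,2,0,1,4,0,3,3,2,1,4,0,0,0,1,4,0,4,0,0,4,4,1,0,1,1,1,2,2,3,4,2,0,2,0,0,3,0,3,4,4,0,0,4,0,4,2,1,0,2,4,1,1,3,4,2,0,1,4,4,3,0,2,2,0,2,0,3,4,1,1,0,2,2,1,0,3,4,3,2,4,0,2,3,0,2,0],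
 [0,1,3,0,2,3,2,1,4,0,4,3,4,0,3,4,4,1,3,2,0,2,4,0,2,2,4,0,0,0,2,3,1,0,4,1,4,0,2,3,1,4,1,2,3,2,3,3,4,0,2,2,0,3,4,4,3,2,2,1,0,1,4,3,2,4,0,1,0,3,2,0,1,3,4,0,0,0,1,2,0,1,0,3,2,4,2,2,1,0,1,1,3,3,4,4,1,0,4,2,2,0,1,0,0,2,0,1,1,0,0],
 [0,2,2,1,4,4,0,3,2,2,3,2,2,2,3,2,1,3,1,1,0,0,0,2,4,4,4,1,2,2,4,0,0,2,0,3,2,1,2,1,4,1,4,3,1,2,4,4,2,2,1,4,2,1,0,3,2,4,1,1,4,0,4,1,3,4,1,2,4,4,4,0,4,2,1,1,0,0,4,2,1,0,4,3,0,1,3,0,2,2,4,4,2,2,3,3,1,3,4,0,0,1,4,0,1,4,3,4,0,0,2],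
 [1,4,3,2,1,3,0,4,0,2,4,0,2,3,0,0,3,2,0,1,4,3,4,4,0,3,1,3,0,2,2,4,3,1,0,3,1,0,4,1,2,0,3,2,3,0,3,2,1,1,3,4,4,0,2,3,0,1,2,1,0,3,2,3,4,0,2,4,4,3,0,1,4,4,3,2,0,1,4,3,4,2,3,0,1,3,1,1,2,0,4,0,1,1,4,4,2,0,3,1,0,4,0,3,0,2,0,0,4,1,0],
 [3,1,3,4,4,4,2,3,4,3,2,4,3,3,4,3,2,0,4,0,3,1,3,0,0,0,1,3,0,0,3,3,4,4,0,1,1,4,0,1,0,3,4,4,2,0,3,3,1,4,3,1,2,4,1,3,0,2,2,1,1,4,1,0,0,3,3,4,1,0,0,0,4,4,2,0,4,0,1,0,4,4,1,2,2,0,1,3,3,0,0,4,0,1,4,3,1,4,0,0,0,0,3,3,0,0,2,1,2,3,0],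
 [0,3,4,0,4,4,2,3,4,0,4,4,0,3,3,3,0,3,2,4,0,1,0,3,0,4,3,0,2,4,4,3,0,0,4,2,1,1,1,3,3,0,3,1,1,0,1,1,0,3,2,1,1,2,4,1,4,3,0,2,4,0,4,2,2,2,0,2,4,4,0,0,2,4,4,3,1,2,4,3,3,1,3,2,1,3,3,1,3,1,0,3,0,2,0,3,0,0,0,0,2,2,2,0,3,3,0,3,4,0,4],
 [2,0,2,4,0,0,1,2,1,3,0,1,1,3,2,4,4,1,0,2,0,0,2,4,1,3,0,0,2,4,0,3,3,0,0,3,0,1,0,3,3,3,2,2,3,3,4,3,4,3,0,1,3,1,1,2,2,3,0,1,3,0,2,2,3,2,4,2,3,4,0,2,0,1,2,4,1,3,4,4,2,4,4,4,4,0,0,0,2,2,0,0,3,3,1,4,3,1,3,2,1,4,4,1,0,1,4,1,0,1,1],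
 [1,1,0,2,3,3,4,0,2,3,4,2,4,1,4,0,0,4,1,2,3,2,2,1,3,1,2,0,1,3,3,0,4,3,3,2,2,1,1,1,3,1,0,3,0,1,2,0,1,0,1,1,1,0,0,1,1,1,0,2,0,1,4,2,4,0,2,2,3,1,1,0,0,3,2,1,3,3,0,1,0,2,3,1,0,2,4,3,2,4,3,3,2,1,3,4,2,2,1,3,4,3,2,0,1,1,2,2,3,4,3],
 [2,1,2,0,0,3,1,2,2,4,0,4,0,3,3,2,2,2,4,1,1,0,3,2,4,1,0,1,4,0,3,3,2,0,4,3,3,4,2,0,3,2,1,2,4,0,2,4,0,3,1,4,2,3,2,3,2,0,1,1,0,0,4,0,2,1,1,2,3,1,4,3,2,3,1,4,1,1,4,2,0,1,4,4,4,0,3,4,4,4,4,1,3,3,0,3,3,0,2,4,3,4,3,3,1,3,4,1,1,1,4],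
 [2,3,2,1,1,3,0,4,3,3,2,3,0,2,2,0,4,4,4,4,3,2,0,4,1,3,4,4,0,1,0,2,3,3,4,3,4,2,1,0,2,3,1,3,0,0,3,2,1,4,4,0,1,3,1,0,4,3,0,0,2,1,0,4,4,4,1,1,1,1,0,3,0,2,1,2,1,1,4,2,0,4,1,0,3,0,1,1,2,0,4,0,0,0,1,3,0,2,3,3,4,1,2,3,1,3,3,3,3,3,4],
 [0,3,0,0,2,2,2,2,3,3,1,2,4,1,4,2,4,2,2,3,3,2,2,1,1,4,2,0,4,0,3,3,1,3,4,3,2,4,1,0,4,0,4,4,1,3,3,0,1,2,2,2,4,4,3,3,0,4,4,4,0,1,2,4,0,4,4,4,2,2,3,3,1,0,0,1,1,0,4,3,2,2,1,2,4,4,1,2,3,0,2,2,2,4,3,0,4,0,1,2,1,1,2,1,4,4,2,3,2,2,3],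
 [0,3,1,4,4,0,1,0,1,2,4,3,3,4,2,1,1,2,0,0,4,2,0,1,3,0,4,2,4,2,4,0,0,3,4,3,2,1,4,3,0,3,3,0,4,4,4,4,1,0,2,3,3,3,1,0,1,0,3,4,3,3,3,3,3,4,4,0,4,0,0,3,1,4,1,2,4,0,3,2,0,4,4,0,3,0,1,1,0,0,2,3,1,1,4,3,3,0,2,1,2,0,4,2,0,3,0,0,3,1,4],
 [4,1,3,3,0,4,1,0,4,2,4,1,2,1,0,3,3,4,4,2,4,4,2,1,1,0,3,2,3,2,1,3,3,4,4,1,2,0,2,1,1,1,1,0,0,0,4,1,2,0,0,1,3,4,0,4,3,4,4,3,3,2,0,4,0,1,1,1,2,2,1,4,4,0,1,4,0,2,0,4,4,1,4,0,1,0,2,2,1,1,2,0,0,2,0,2,4,2,3,3,4,1,2,2,3,2,2,0,2,0,1],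
 [1,2,2,2,1,3,1,3,3,0,0,1,2,4,2,4,0,1,3,2,2,1,1,2,2,4,0,1,1,3,4,3,4,0,3,0,0,3,1,3,0,2,0,0,2,4,0,2,1,1,2,4,1,2,3,1,1,3,0,4,1,3,1,3,2,1,4,3,4,1,1,1,0,2,2,1,1,2,4,2,1,0,3,3,4,1,0,0,0,1,0,0,4,2,0,4,1,3,2,3,3,0,3,0,0,3,4,1,1,4,0],
 [3,3,0,3,2,1,4,0,2,4,1,0,0,0,0,2,1,3,1,3,3,0,2,1,4,3,3,4,4,0,3,1,4,4,4,0,3,0,3,1,1,4,1,2,0,4,1,1,4,1,3,4,0,1,3,4,0,3,2,4,3,4,0,4,4,3,1,1,1,4,0,0,2,3,3,2,2,0,0,4,0,1,4,3,1,1,0,2,3,1,2,1,4,4,2,3,2,1,2,0,2,4,4,4,1,4,0,2,1,1,0],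
 [1,2,3,3,2,4,1,0,3,0,3,3,3,0,2,4,0,1,4,0,0,0,2,1,3,0,1,0,2,0,2,3,2,1,3,3,2,2,4,1,4,3,3,0,2,2,1,3,1,1,4,1,0,3,3,4,3,2,1,0,1,0,2,1,4,0,4,2,4,4,0,4,0,0,0,1,0,0,3,3,0,3,2,3,0,2,2,4,4,2,2,4,0,2,3,1,1,0,3,0,4,2,0,1,4,1,3,1,1,2,0],
 [0,2,1,3,0,2,1,1,3,4,2,1,3,0,4,0,4,1,4,0,2,3,3,3,3,0,2,0,3,4,1,0,0,1,3,3,4,1,0,0,3,1,2,3,1,4,3,1,3,0,4,4,2,0,3,4,4,2,0,1,3,3,3,3,2,4,4,3,3,4,0,1,0,3,2,3,3,0,0,3,0,2,2,2,3,2,0,2,3,2,4,0,1,3,4,0,1,1,3,1,3,0,3,2,3,1,1,4,3,2,1],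
 [2,0,0,4,4,1,4,0,1,3,1,1,2,1,3,3,3,2,3,0,3,0,1,0,0,1,1,3,3,4,3,2,1,2,3,4,1,2,0,1,2,2,1,2,1,3,2,1,0,1,1,3,3,0,2,4,2,2,2,2,4,4,3,1,1,4,1,4,4,1,1,3,4,4,2,1,0,4,3,1,3,4,2,1,2,0,1,0,2,0,2,1,2,4,3,3,3,3,1,4,3,2,1,1,3,2,2,0,2,0,0],
 [4,0,2,2,1,3,3,3,4,3,1,3,3,1,0,4,2,0,4,2,4,1,3,3,3,1,3,2,4,1,4,1,2,2,3,2,2,0,2,3,0,2,4,4,0,4,1,4,1,0,4,1,0,1,2,1,0,2,0,0,1,2,4,1,3,3,0,4,1,1,1,3,1,4,1,2,0,0,4,3,2,0,1,0,2,3,1,1,3,1,3,3,0,0,2,4,4,2,3,1,2,4,3,4,0,2,4,4,3,2,0],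
 [0,1,0,0,4,2,3,3,4,0,1,0,3,3,0,3,0,0,0,1,1,0,0,4,4,1,2,2,1,3,3,0,4,0,1,1,1,4,0,4,4,2,3,2,3,1,4,0,2,4,2,0,1,1,2,1,4,0,3,1,2,4,4,0,0,2,4,1,0,2,1,4,3,3,0,1,3,4,0,0,4,4,2,3,1,1,0,4,2,4,2,0,2,3,3,2,3,4,1,3,0,1,0,1,1,0,1,1,3,2,1],
 [2,0,0,0,3,2,0,3,0,3,3,2,1,0,3,2,0,0,3,3,3,1,4,0,2,0,1,2,2,2,3,4,1,3,2,1,4,1,2,1,0,1,2,2,1,0,0,3,0,2,0,1,1,3,0,2,3,3,4,2,4,1,3,4,3,1,0,1,4,2,0,1,2,0,4,0,1,1,1,3,4,4,3,4,3,1,1,4,3,1,1,1,3,0,0,1,1,2,2,4,4,0,0,1,2,3,4,1,0,2,4],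
 [3,3,1,3,1,3,1,4,3,0,3,3,1,2,3,3,2,4,3,3,3,0,4,2,2,3,2,0,4,3,2,4,4,1,0,2,1,1,3,4,1,4,3,0,4,3,2,0,2,3,3,4,4,2,4,2,1,0,0,2,4,0,3,2,1,4,3,1,2,3,3,2,4,0,3,2,1,3,2,3,4,1,1,4,2,0,4,1,4,0,2,4,4,3,0,1,4,0,4,4,0,2,3,1,1,3,0,4,4,1,3],
 [4,4,0,1,3,2,2,1,2,1,1,4,4,4,3,0,1,4,3,0,0,0,2,4,3,4,0,1,4,4,1,2,4,4,1,0,1,2,1,0,3,2,1,4,1,2,3,0,3,3,1,1,4,2,0,3,2,1,4,3,1,2,2,2,3,4,2,1,3,0,3,0,2,2,3,4,2,2,4,1,4,4,0,0,1,4,2,4,3,4,3,3,0,1,4,0,4,1,0,1,1,0,2,4,4,4,0,0,0,1,0],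
 [1,3,4,0,2,0,4,3,2,0,2,4,0,3,2,3,2,2,4,3,3,1,0,3,4,4,4,4,1,4,4,2,2,4,0,2,3,4,3,0,1,2,3,4,2,1,2,2,4,1,2,1,2,1,4,2,4,2,3,3,4,0,4,2,0,1,0,3,4,0,3,0,0,4,2,1,4,0,1,3,0,3,2,4,0,0,2,0,2,1,2,3,2,2,3,3,1,0,2,2,0,3,2,0,2,3,4,3,4,3,2],
 [3,2,4,4,3,1,3,1,2,0,3,0,1,3,3,2,4,3,1,2,2,0,0,2,4,0,0,1,3,0,2,3,2,1,4,3,4,1,1,3,2,2,0,3,4,4,4,1,4,0,3,3,1,0,2,2,1,2,0,3,2,3,2,4,4,3,1,1,3,1,1,0,4,2,1,1,0,2,0,0,1,1,3,4,1,4,0,2,4,4,3,4,4,2,1,3,4,4,0,3,0,2,4,3,3,4,2,2,4,1,4],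
 [2,2,4,0,4,3,3,0,4,2,4,3,1,4,4,4,4,4,1,3,1,2,3,3,4,0,0,0,3,0,2,4,3,2,4,1,4,0,3,4,0,2,3,3,1,2,4,3,3,0,3,0,3,0,0,4,3,4,3,1,0,2,2,0,0,1,3,3,2,1,2,4,3,1,2,2,4,3,4,1,3,2,1,3,4,2,4,1,4,3,0,0,2,1,1,2,3,2,2,1,4,0,2,1,2,3,3,0,2,2,1],
 [0,4,3,4,4,3,0,4,1,0,1,2,2,3,1,3,0,1,4,4,0,3,2,4,3,4,0,0,3,1,0,2,0,4,1,4,3,4,3,0,0,4,4,1,0,1,2,1,4,3,4,0,4,1,4,4,0,3,2,3,4,2,1,2,4,4,0,0,2,1,2,4,3,4,2,2,0,0,2,2,4,2,1,4,4,2,4,1,0,3,4,3,2,4,2,1,0,1,3,3,4,4,1,4,4,1,3,1,1,2,3],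
 [1,3,1,2,3,1,2,3,4,3,1,4,3,0,3,2,3,4,1,0,1,3,3,2,3,2,0,1,2,0,1,1,2,4,3,1,2,3,1,4,2,3,1,4,1,1,4,1,1,2,2,4,0,3,2,4,1,4,4,4,3,1,1,2,1,0,0,1,2,4,2,0,1,1,0,4,1,0,4,0,2,3,3,4,2,1,2,1,0,1,4,2,4,2,2,2,4,0,4,0,1,1,0,2,3,4,2,4,1,0,4],
 [0,1,2,1,2,4,2,0,3,1,2,2,1,3,1,0,2,1,0,4,2,3,0,4,1,4,0,1,1,3,3,4,4,3,3,4,0,1,2,0,0,2,1,1,1,4,3,0,2,0,2,3,3,1,0,4,1,0,1,1,2,2,1,1,0,1,3,1,4,1,0,3,1,4,0,2,4,1,2,1,3,2,1,3,4,4,3,0,2,0,1,4,4,4,3,3,1,0,3,3,2,0,0,4,0,3,4,2,0,4,2],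
 [4,3,1,4,4,3,0,2,1,1,0,3,1,4,3,0,3,4,4,0,2,2,4,4,3,4,0,2,1,3,0,1,0,0,3,0,2,4,2,3,3,1,0,0,0,1,3,1,0,2,0,0,2,2,1,2,4,4,4,3,4,2,2,1,0,1,3,1,4,4,2,3,1,2,4,4,4,1,3,1,4,1,3,0,2,1,2,3,0,1,1,0,0,2,3,4,3,4,0,1,1,0,3,1,2,4,4,2,3,2,0],
 [2,1,2,4,1,2,4,1,1,2,0,4,4,3,1,4,4,0,4,0,3,2,4,3,4,2,0,2,1,3,2,3,0,4,1,3,4,3,2,3,1,4,3,2,1,4,2,3,3,4,4,0,0,1,3,2,4,0,2,3,1,3,4,2,4,4,1,4,4,4,4,4,0,0,0,3,0,3,3,4,2,4,4,0,0,0,1,3,4,2,3,2,0,4,1,0,3,0,3,3,0,1,0,1,1,3,0,3,3,3,2]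
]

/-- named matrix 15 -/
def nm15 : List (List ℕ) := [
 [0,0,4,3,1,0,1,2,4,3,0,4,2,0,0,4,4,1,1,4,3,4,1,4,0,1,3,2,1,0,1,1,4,2,2,3,3,3,4,2,3,3,2,0,0,1,4,3,1,0,1,1,4,1,0,4,2,3,1,4,1,2,2,4,0,2,2,1,3,4,2,1,4,0,0,3,0,2,2,3,2,1,4,2,4,1,1,4,0,4,2,2,0,3,2,4,3,1,2,4,4,4,3,0,1,3,0,2,4,2,4],
 [3,4,4,3,0,1,0,3,0,0,3,3,0,4,0,0,4,1,3,1,0,2,1,3,0,2,4,1,3,1,1,3,3,0,3,3,3,3,1,3,3,2,1,3,2,0,0,2,2,3,4,1,2,1,0,4,4,2,2,4,3,0,2,2,2,4,0,2,0,1,4,4,0,0,3,1,3,4,3,0,2,3,3,1,2,1,3,4,0,4,2,4,1,3,1,1,4,3,1,3,1,1,1,2,0,0,2,1,0,1,1],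
 [0,4,2,4,0,2,2,4,2,1,1,1,0,2,0,1,1,1,1,1,1,1,3,1,0,3,3,3,0,3,1,3,3,1,1,4,3,1,1,0,3,2,0,0,1,3,2,3,1,0,2,1,4,1,3,3,2,0,4,2,0,3,1,0,4,4,2,4,4,2,2,1,3,1,1,2,1,1,2,0,3,1,3,2,1,2,4,3,1,3,4,3,4,4,1,4,2,4,0,2,3,2,0,1,3,3,2,3,0,4,2],
 [4,4,4,2,4,2,2,0,4,2,2,4,2,2,0,2,3,2,3,1,1,4,2,1,2,2,2,2,2,2,1,4,4,1,2,1,1,0,0,3,0,0,3,0,0,2,4,0,3,4,0,0,2,3,3,4,2,2,3,4,4,3,4,1,2,1,3,2,3,1,2,1,0,4,1,2,0,3,3,2,2,4,0,2,0,1,4,3,3,0,1,0,2,1,3,0,2,1,0,1,3,3,0,2,2,3,0,3,0,4,1],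
 [4,3,3,3,0,1,1,3,3,4,1,2,0,3,4,1,4,4,0,4,3,4,4,0,1,4,2,3,4,4,3,4,1,2,1,4,0,1,0,1,2,4,2,3,4,4,3,4,1,3,4,0,3,1,4,3,3,3,3,2,0,0,0,3,0,4,4,3,0,3,4,2,3,4,1,4,4,2,3,3,0,1,4,3,4,3,0,4,0,1,0,0,0,4,2,0,0,0,1,3,0,3,0,4,4,4,3,1,4,1,2],
 [2,0,2,2,1,0,1,3,2,3,2,3,4,0,0,4,2,1,0,0,1,4,3,2,1,3,3,0,2,4,4,1,1,0,1,0,3,3,2,2,3,2,0,1,0,1,2,3,4,1,3,3,4,1,4,2,2,0,1,0,3,3,3,3,4,3,1,3,1,4,0,0,0,2,4,3,0,1,1,1,2,4,0,2,0,4,2,4,3,2,3,0,0,4,2,4,0,1,4,3,0,3,1,1,2,1,4,3,4,3,4],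
 [2,0,4,4,1,4,1,3,1,0,0,3,2,1,0,2,2,1,4,4,4,1,4,2,1,0,1,0,1,0,1,4,0,0,0,0,2,4,3,3,2,2,1,4,1,4,2,2,2,4,0,3,4,0,2,0,1,1,1,3,4,4,3,3,3,2,4,1,4,3,1,3,2,2,4,4,0,1,0,4,2,1,4,4,3,2,2,0,4,2,0,1,1,0,0,1,4,1,3,0,1,4,1,1,2,3,0,3,2,1,2],
 [4,1,4,3,1,1,4,1,0,2,1,4,0,2,2,4,2,1,1,0,3,4,0,2,0,2,4,0,0,2,1,2,1,2,1,0,2,3,1,4,3,0,1,4,2,3,1,3,0,4,0,0,1,3,1,1,0,1,3,2,1,4,4,0,4,4,2,0,1,0,0,1,0,0,1,3,0,3,2,4,4,1,2,3,2,4,1,3,1,1,4,3,0,2,2,4,3,1,3,4,0,4,3,0,3,4,3,0,0,1,2],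
 [3,0,3,1,4,3,1,2,3,3,3,1,0,1,4,0,4,1,0,3,2,1,4,1,1,1,3,1,0,3,1,1,2,4,2,3,3,2,0,1,0,1,1,4,3,0,3,1,4,3,2,2,1,2,2,3,3,1,1,2,4,0,0,0,4,0,3,2,0,4,2,3,4,2,1,1,2,0,1,2,4,0,1,2,1,4,0,1,4,3,0,3,0,4,4,4,0,3,0,0,3,0,3,3,0,2,1,3,2,2,3],
 [1,2,2,4,4,2,0,4,2,0,1,1,3,2,0,2,3,2,0,0,3,0,4,4,3,1,2,1,4,4,2,4,0,2,4,3,2,3,0,3,2,0,2,2,4,3,4,2,2,4,1,3,1,1,4,3,1,1,3,3,1,1,2,3,1,2,1,4,2,3,1,0,2,4,2,4,2,1,1,2,4,3,2,4,2,3,4,3,0,2,1,1,2,2,1,2,4,3,4,3,2,1,0,0,1,3,0,4,1,1,0],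
 [3,4,2,3,3,0,2,0,3,2,2,3,2,2,4,4,2,2,4,3,2,1,3,0,0,1,0,4,2,4,0,1,0,4,4,4,2,2,1,0,1,4,0,0,2,0,4,1,3,4,2,3,2,2,0,0,1,2,3,0,4,2,0,4,3,4,0,3,3,2,4,2,4,1,0,2,4,1,2,4,2,3,2,1,3,1,4,1,3,3,4,0,2,2,1,1,0,1,1,1,2,2,3,2,4,3,4,0,0,4,3],
 [3,1,3,0,2,4,2,3,4,3,3,4,3,0,0,3,4,0,2,1,4,3,4,4,1,0,1,3,2,1,0,2,1,3,4,0,4,0,1,1,4,0,4,1,4,2,2,2,0,3,2,0,3,3,4,4,3,4,1,1,3,1,4,0,4,2,3,4,0,3,4,2,3,1,4,2,3,2,4,4,2,3,2,4,0,0,1,3,4,3,0,2,1,1,4,4,1,2,1,1,2,4,3,2,1,2,2,3,0,3,3],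
 [4,4,3,1,4,3,0,3,1,2,0,3,1,4,2,1,4,3,1,3,3,1,3,1,3,1,1,3,1,4,0,0,1,1,0,4,3,1,2,1,2,1,4,0,3,3,2,0,3,3,3,3,2,4,0,2,4,4,3,3,4,2,2,0,4,2,0,4,4,1,0,2,4,3,0,2,4,0,3,2,4,0,3,1,1,0,1,4,1,1,3,1,1,0,3,2,3,1,0,2,4,0,1,0,3,3,2,1,1,2,1],
 [0,4,0,0,1,1,2,2,3,1,2,4,2,0,2,1,0,2,4,3,1,3,4,2,3,4,1,3,4,4,2,1,1,0,0,0,4,1,2,0,0,2,2,0,2,1,4,0,3,0,4,0,2,0,0,2,1,2,3,2,1,4,1,4,2,1,2,1,3,0,3,1,4,4,2,2,1,2,1,2,3,1,1,4,4,0,1,4,4,1,0,1,3,4,4,3,1,4,1,2,3,0,4,2,3,4,3,3,3,2,0],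
 [4,3,3,0,2,2,0,0,4,1,3,1,2,2,1,4,4,4,1,2,0,2,3,2,2,0,1,0,2,4,2,0,0,1,0,2,2,3,0,4,0,1,4,1,1,0,1,2,0,2,4,1,1,1,0,1,0,4,1,1,3,3,4,2,1,0,4,1,2,0,0,2,0,3,1,1,4,3,2,0,4,4,1,4,0,3,2,1,4,4,4,0,0,0,3,1,1,2,1,4,1,2,3,1,0,1,3,2,4,3,3],
 [2,4,4,2,0,1,2,0,0,1,2,4,2,2,2,2,3,2,1,0,4,2,3,2,2,3,1,3,0,1,2,3,3,0,2,4,0,3,2,1,3,1,1,2,3,2,3,3,3,4,2,3,1,2,1,2,4,4,2,1,4,3,2,2,4,4,0,4,0,0,1,3,2,3,2,4,2,4,2,2,2,1,0,4,0,4,4,1,0,2,0,0,3,3,2,3,3,0,1,3,3,0,2,2,0,1,1,1,1,3,3],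
 [1,0,3,0,0,0,3,4,4,2,2,4,3,2,0,0,4,1,1,4,0,3,2,4,1,4,2,2,2,0,2,1,2,0,2,2,0,4,0,4,4,4,0,1,3,4,2,1,1,0,4,4,0,3,2,0,0,0,2,2,4,0,3,2,0,2,4,4,2,1,3,1,4,3,1,3,2,2,1,4,0,2,1,4,3,4,1,0,2,2,4,3,3,4,4,4,0,0,2,4,0,0,0,0,1,4,1,4,4,3,2],
 [4,0,4,1,3,2,1,3,2,0,3,3,3,4,0,3,1,1,0,3,1,4,2,0,4,1,3,4,2,0,3,1,1,2,1,0,0,4,1,2,0,1,4,0,0,3,2,1,4,0,3,0,4,4,4,4,3,4,4,2,3,4,2,0,2,0,4,2,4,0,2,2,2,0,3,4,0,4,0,4,0,2,3,3,4,0,1,1,3,2,0,3,2,3,0,4,3,4,1,4,4,0,1,1,3,3,1,3,2,0,0],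
 [4,4,3,1,3,3,2,2,2,0,4,4,4,3,2,3,2,2,2,1,0,1,4,1,3,1,0,2,3,1,4,2,0,0,1,2,4,1,2,3,4,2,0,4,4,1,3,1,2,1,0,4,0,2,4,3,1,2,4,1,2,2,1,4,0,1,4,1,3,3,2,1,0,2,4,0,4,3,1,0,3,4,3,2,2,1,4,4,0,1,0,0,3,4,4,3,3,1,0,4,0,0,1,1,4,1,4,2,0,0,2],
 [2,0,4,2,3,2,0,0,2,1,3,3,2,4,2,2,1,0,2,1,1,0,0,2,4,3,0,4,1,1,0,1,0,1,0,2,3,4,2,3,2,2,1,2,1,3,2,4,3,4,4,1,1,4,1,0,0,3,3,4,3,3,3,4,0,0,2,3,1,2,0,0,3,1,1,2,4,3,2,0,3,1,1,3,3,1,1,2,4,3,0,2,3,2,2,2,2,3,2,2,4,2,2,2,3,3,1,1,2,0,4],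
 [4,1,1,3,4,4,4,4,2,2,3,0,4,2,3,4,1,3,2,2,2,2,4,4,0,2,4,4,2,1,4,1,1,2,2,4,4,3,1,4,3,3,4,4,3,4,0,3,3,4,0,2,4,2,0,2,1,4,2,2,2,3,3,3,3,0,2,0,0,3,3,0,0,4,1,2,3,4,2,1,2,0,4,1,1,4,1,1,2,0,3,4,4,4,1,3,1,1,3,2,1,0,4,0,1,3,1,2,3,1,4],
 [1,3,4,1,1,1,2,1,2,1,2,1,3,2,3,3,1,1,0,4,0,0,4,1,3,1,3,0,0,3,0,1,4,2,4,2,3,1,0,0,4,3,4,0,1,1,1,1,1,3,3,1,3,0,2,1,4,3,2,2,3,3,0,0,1,2,0,1,1,4,4,4,4,1,2,3,4,4,0,2,0,2,4,0,0,3,2,3,3,4,1,4,4,2,3,4,2,1,1,0,3,2,4,2,0,1,4,4,0,0,3],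
 [1,4,2,2,3,3,1,2,3,0,2,0,3,1,0,2,0,3,1,2,0,2,1,0,1,3,4,1,2,3,3,4,3,3,0,3,1,4,4,3,1,3,0,1,2,2,2,2,2,1,1,4,1,4,2,3,2,1,1,2,1,4,0,2,3,2,4,0,1,0,3,1,3,4,2,4,0,2,3,4,2,1,1,3,1,3,4,2,3,0,3,2,3,4,2,4,2,1,2,4,3,0,0,1,4,1,2,0,0,4,0],
 [0,4,1,3,0,4,4,1,0,1,0,3,2,2,2,2,0,0,4,0,0,3,0,3,3,4,1,4,1,2,4,0,4,2,0,0,4,1,1,1,1,3,3,2,1,1,0,1,1,4,3,2,4,0,2,4,3,4,0,2,4,3,1,0,4,3,0,4,2,4,4,1,2,3,3,3,3,1,3,1,3,1,2,3,0,1,4,3,1,4,4,4,1,1,3,1,0,1,3,2,0,1,4,1,3,2,4,1,2,2,3],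
 [4,1,1,0,1,1,0,3,2,2,1,1,2,1,2,1,0,2,2,2,4,3,4,2,1,4,2,1,4,0,1,0,3,4,0,4,2,0,3,4,0,0,3,0,1,0,3,2,3,3,2,4,2,4,1,3,0,2,0,2,4,4,0,3,2,2,1,1,2,3,2,2,0,0,0,4,4,1,4,1,1,4,4,4,3,1,2,4,3,2,4,3,4,0,2,0,3,2,0,1,0,3,2,2,3,2,4,1,2,1,2],
 [1,2,1,0,2,4,2,4,3,4,0,2,3,4,3,1,2,2,1,1,3,2,2,1,1,1,2,1,0,4,2,2,2,0,1,3,2,3,4,3,2,0,4,0,2,0,3,4,0,3,4,4,3,4,2,4,4,4,3,3,1,4,2,3,1,0,3,2,3,3,3,0,4,3,0,3,0,4,2,0,4,3,4,4,3,1,3,2,0,1,1,3,2,2,3,3,2,0,2,0,1,3,4,0,0,2,4,1,4,3,4],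
 [2,3,4,4,3,2,2,2,3,0,2,4,0,0,4,3,2,1,4,2,2,0,3,2,2,1,3,1,2,1,4,2,4,4,4,4,2,1,0,0,3,0,3,3,1,2,3,2,3,3,1,0,4,2,1,0,1,4,4,1,4,4,1,1,4,4,1,1,4,0,1,4,2,0,2,2,0,1,1,0,0,0,1,0,3,2,4,3,0,0,2,3,0,3,2,4,1,2,1,0,4,0,3,3,3,1,3,3,4,1,0],
 [4,2,3,2,0,0,1,0,3,0,2,3,3,3,0,4,2,2,3,4,3,2,1,4,2,1,4,2,3,0,2,0,2,4,0,0,4,2,0,0,2,2,2,3,2,0,0,4,0,1,0,3,1,1,3,4,3,4,1,2,2,4,2,0,1,3,4,3,2,0,4,4,2,4,3,2,1,1,3,4,0,0,1,2,4,1,3,3,3,3,3,4,4,0,2,1,4,3,3,4,2,4,1,4,4,2,0,1,3,4,3],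
 [0,0,0,4,1,4,1,2,1,3,3,3,3,2,4,4,3,3,0,2,2,2,3,1,1,4,2,0,1,2,1,1,2,2,3,2,4,4,0,0,2,1,4,1,2,2,2,0,1,3,4,3,0,4,1,0,2,2,4,4,1,2,3,3,2,4,4,0,0,4,4,0,3,1,0,3,1,3,2,2,4,4,4,3,1,3,2,2,3,2,1,4,1,0,1,4,4,2,1,2,2,2,1,0,3,3,0,3,2,0,1],
 [1,2,3,4,2,3,1,3,1,4,0,2,1,1,3,1,0,1,0,1,4,1,4,1,2,4,0,2,4,1,2,1,0,1,0,3,4,2,3,0,4,3,2,0,4,0,3,2,0,0,1,2,4,3,1,0,3,2,3,3,3,1,1,2,4,1,1,2,4,1,1,2,2,1,1,4,4,2,1,2,3,0,2,2,3,4,1,0,2,0,1,3,4,3,0,0,4,0,1,3,2,0,2,4,0,0,1,4,3,1,1],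
 [2,1,0,3,2,2,3,2,3,1,2,0,0,3,2,4,2,0,3,2,4,1,2,3,0,1,4,1,3,1,1,0,1,0,0,2,4,0,1,0,0,3,4,2,2,2,2,4,0,1,4,4,1,3,3,3,4,1,1,2,1,4,2,0,0,4,2,1,2,1,3,3,2,3,2,1,0,4,3,1,0,1,4,3,2,2,1,0,3,1,0,3,0,0,0,2,4,1,2,2,1,2,2,2,0,4,4,0,2,4,3],
 [0,4,0,1,1,4,3,1,4,1,0,0,4,3,2,1,2,2,0,1,1,2,3,4,1,3,0,4,4,4,1,4,0,3,4,1,4,2,1,1,2,1,3,0,3,3,2,3,4,3,3,3,0,0,2,0,3,2,1,1,1,3,3,4,3,3,1,3,0,1,0,3,3,3,4,2,2,4,3,4,0,0,0,1,0,4,4,4,1,4,1,0,2,3,4,3,2,4,3,1,1,4,0,2,2,4,3,0,2,4,2],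
 [1,1,2,0,0,4,0,3,1,2,3,3,4,2,1,3,0,4,4,4,2,0,3,1,3,0,3,0,3,2,2,1,0,3,1,1,1,4,3,3,1,4,2,3,2,3,4,2,2,2,1,1,0,3,3,3,4,0,0,4,3,2,4,4,0,4,2,4,3,0,0,3,2,4,1,4,4,0,0,2,4,1,4,2,1,4,4,2,4,4,4,3,1,2,1,2,0,1,3,0,2,3,2,1,3,4,0,4,0,2,2],
 [3,3,0,4,0,1,1,4,1,3,1,4,2,1,4,3,2,4,2,3,1,2,0,3,0,3,0,0,3,4,1,0,4,0,0,1,3,1,1,3,2,2,2,1,2,2,3,2,3,4,1,0,4,2,1,1,3,2,4,2,2,0,2,0,1,4,4,0,4,3,3,2,3,4,3,1,4,2,4,3,0,2,0,1,4,2,1,4,2,2,0,4,0,0,3,4,3,1,3,1,0,4,3,3,1,2,1,2,1,0,4],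
 [3,1,0,0,4,3,1,3,1,4,3,0,4,4,4,0,2,0,3,4,4,3,4,1,3,3,0,1,2,0,3,4,3,0,4,0,0,0,0,2,0,3,3,4,2,0,0,3,3,4,2,3,3,3,1,4,4,2,3,1,0,1,2,0,3,2,4,4,3,3,0,3,4,4,1,4,4,2,1,0,4,1,4,0,4,4,1,4,1,2,2,4,0,4,0,4,3,3,1,4,4,4,4,2,4,4,3,2,0,4,0],
 [2,1,0,3,3,1,0,1,3,0,0,2,2,4,4,3,3,0,0,4,1,2,4,4,3,0,0,0,4,2,4,2,1,3,1,0,3,0,0,3,2,3,0,2,0,3,4,0,4,2,2,0,2,1,0,1,2,2,1,2,2,4,3,1,4,1,4,4,1,4,1,0,0,1,4,0,2,2,0,3,0,4,2,1,4,4,1,2,4,1,1,4,0,3,1,4,1,1,4,3,3,4,0,4,1,4,0,1,2,3,4],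
 [3,0,3,4,0,3,2,1,2,3,0,1,0,2,4,4,4,3,1,4,2,2,1,3,1,3,4,2,0,0,2,4,1,1,3,0,1,4,0,4,1,4,0,0,1,3,1,0,0,4,1,4,2,3,4,2,1,2,0,3,4,1,0,0,0,1,3,4,1,2,0,0,2,4,1,0,4,3,1,3,4,4,2,2,3,3,4,3,1,3,0,1,4,3,1,2,2,2,3,2,4,4,3,2,3,1,0,0,1,1,0],
 [4,2,1,0,0,3,3,4,0,2,4,4,4,0,3,2,4,3,1,3,4,3,1,2,2,4,0,4,0,2,0,3,0,1,2,2,4,1,2,1,1,4,2,3,2,2,2,2,1,2,2,3,1,0,0,1,2,3,3,3,2,1,3,4,4,2,4,4,1,1,0,1,3,0,3,0,2,4,2,3,3,3,4,1,4,1,0,0,1,3,3,1,2,1,3,4,1,1,0,4,3,0,1,3,4,2,3,1,0,4,3],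
 [0,2,0,0,2,1,3,4,2,0,4,2,4,1,3,1,1,3,1,3,1,3,0,3,2,0,1,3,1,3,1,4,0,3,0,4,4,4,1,1,2,4,4,3,2,1,0,4,0,3,3,4,3,1,4,1,4,3,0,1,2,4,4,2,1,2,4,2,0,0,1,0,3,1,1,3,3,2,2,0,4,3,3,1,2,0,2,0,0,1,1,2,1,1,4,2,2,0,4,4,0,1,3,4,0,3,1,3,2,0,1],
 [1,3,4,1,4,2,3,4,4,2,1,1,1,4,4,3,3,2,1,0,1,2,3,1,1,3,2,0,0,4,0,4,0,3,3,0,4,4,0,4,0,1,2,4,2,0,4,4,1,3,4,1,4,3,4,1,2,4,3,4,4,1,3,2,4,1,4,2,3,4,1,2,2,3,1,4,3,4,2,4,3,3,4,0,0,0,0,2,2,3,1,2,2,3,0,0,4,3,4,3,3,1,3,0,0,0,1,3,0,1,2],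
 [0,0,4,3,4,3,1,3,4,3,4,1,3,2,4,3,3,0,3,0,0,3,2,0,2,2,4,1,3,2,0,1,4,2,4,3,3,1,0,2,3,3,1,0,0,0,4,1,2,2,2,0,0,2,1,4,2,0,2,3,1,2,1,2,0,4,4,0,2,1,3,1,3,4,0,4,1,1,4,3,1,2,4,4,3,4,3,0,4,0,2,4,0,2,4,3,4,4,2,4,3,2,2,2,2,1,1,1,0,0,1],
 [3,1,3,1,2,4,0,3,1,2,3,0,3,4,0,4,3,1,1,2,4,4,0,3,2,2,4,0,3,2,1,0,0,0,0,3,3,2,0,3,0,1,2,4,0,1,3,4,0,3,1,4,1,3,4,0,4,4,3,4,1,2,0,2,2,4,4,4,2,2,3,1,1,0,3,0,2,2,0,1,4,2,4,3,3,0,4,2,1,1,2,0,4,4,0,1,4,0,0,3,0,4,1,4,2,4,0,2,0,1,2],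
 [4,1,4,3,4,3,4,2,4,0,0,2,0,3,0,2,3,4,1,4,3,0,2,2,3,1,2,0,2,0,0,3,2,4,0,3,3,1,4,0,2,2,3,1,3,1,0,1,0,1,4,4,4,4,1,2,0,1,0,4,3,2,1,1,3,1,2,3,2,1,3,2,1,2,1,1,0,1,0,0,1,2,4,3,2,4,2,0,0,3,0,1,2,3,2,3,0,0,0,4,2,2,1,1,1,0,1,1,3,3,0],
 [0,4,3,2,2,1,3,3,4,0,0,1,2,4,4,1,4,2,2,0,2,3,1,2,1,2,1,4,4,1,2,3,3,2,2,1,4,4,2,2,3,2,0,2,4,1,1,0,2,3,1,4,3,4,1,0,0,2,2,2,2,3,1,1,2,3,2,3,3,0,3,2,0,3,1,1,1,2,0,1,1,2,2,4,0,4,1,3,0,0,4,2,0,1,1,0,2,4,0,2,1,4,1,2,3,2,2,1,1,1,1],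
 [3,4,2,1,3,0,1,0,4,2,1,3,2,1,3,1,3,0,1,4,2,3,2,4,0,0,2,3,1,4,4,1,1,1,0,4,0,4,1,1,4,1,0,2,2,2,4,0,4,1,2,2,3,3,4,0,1,4,1,0,2,4,3,2,0,4,4,4,3,1,2,0,2,0,4,1,3,2,1,3,4,2,3,0,1,1,2,3,0,1,1,1,4,1,4,3,1,4,3,4,3,4,1,1,4,4,3,0,2,0,0],
 [3,2,4,0,2,4,2,2,2,0,3,1,3,4,1,0,1,3,3,4,2,3,1,1,4,1,4,1,2,3,3,0,4,0,2,4,1,2,2,3,4,4,3,0,4,0,1,1,3,3,1,0,3,2,0,4,2,3,4,1,2,3,3,3,0,0,2,2,3,4,3,1,2,4,3,2,0,1,4,4,1,0,1,1,4,3,4,2,3,2,2,1,0,0,2,2,0,2,4,1,4,2,1,0,0,2,4,3,3,1,1],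
 [3,2,0,1,3,0,1,1,2,0,4,3,0,2,4,3,1,2,2,1,0,4,2,3,1,4,4,4,3,0,0,4,0,0,3,1,4,1,4,3,1,0,2,2,2,2,0,0,0,1,0,0,4,0,1,1,3,2,3,1,0,3,1,2,3,3,4,2,1,4,0,2,2,3,3,1,1,3,2,4,0,3,2,4,0,2,1,0,1,0,4,0,4,2,3,4,3,3,2,3,4,2,4,0,4,4,2,2,1,1,3],
 [0,4,1,1,2,3,3,3,2,0,4,4,2,0,1,2,0,1,2,2,2,4,2,3,3,2,3,1,3,3,1,2,3,0,2,2,0,2,0,2,1,3,1,3,2,2,3,4,3,1,1,1,4,2,3,4,4,0,1,0,3,0,4,4,3,0,0,4,4,0,0,3,4,1,3,4,1,0,0,3,1,1,2,1,4,3,3,3,3,2,4,4,2,3,0,3,1,3,0,4,0,2,3,4,4,0,1,2,3,2,3],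
 [0,1,2,2,0,4,3,3,3,1,1,4,2,3,4,3,3,4,3,3,2,3,4,3,3,0,4,2,1,1,2,3,2,2,1,1,3,4,0,1,3,3,1,3,2,2,3,3,3,1,3,4,3,3,4,1,1,3,3,0,0,2,2,3,4,0,0,1,3,3,0,4,2,2,2,3,2,4,2,4,4,0,3,3,1,4,4,4,0,0,4,3,1,2,4,1,0,0,4,1,2,3,4,1,2,3,3,2,4,3,0],
 [0,3,0,3,1,1,2,0,4,0,3,2,2,1,1,4,1,2,1,0,2,3,2,3,0,1,4,0,2,0,1,3,1,2,3,0,2,0,3,3,3,1,4,2,1,0,4,0,2,1,3,3,3,0,0,0,3,2,2,4,1,2,2,2,4,0,3,3,2,0,0,0,0,2,1,0,3,3,2,2,3,4,3,3,0,1,3,1,0,4,0,2,1,1,3,4,4,4,4,4,1,1,3,4,2,1,1,4,1,0,3],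
 [4,3,3,3,2,1,0,4,0,0,3,0,4,0,4,1,4,3,2,3,3,2,2,4,4,2,0,3,0,2,0,1,1,1,1,0,4,0,3,1,3,2,1,1,0,0,0,2,1,2,3,1,4,2,4,0,2,1,2,2,4,0,3,4,2,1,3,2,1,3,0,1,0,0,2,0,1,3,0,0,4,3,4,3,4,2,0,3,1,3,0,2,2,2,4,4,2,0,4,2,2,3,0,1,2,1,3,3,1,0,0],
 [2,3,1,0,2,3,2,1,4,3,4,2,0,2,4,1,4,2,4,1,1,0,3,2,0,0,4,1,3,1,2,2,1,2,2,0,1,3,2,3,0,1,1,4,1,4,4,1,3,4,3,0,3,4,3,2,1,3,3,3,1,3,1,1,3,0,3,0,3,2,2,3,0,0,4,0,4,3,1,2,2,0,3,2,2,4,1,4,4,4,0,2,0,2,4,4,0,0,0,1,3,0,4,3,3,1,0,0,1,2,0],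
 [0,3,0,1,3,4,4,2,2,3,4,2,3,3,3,4,4,2,4,0,0,4,3,2,2,4,3,3,3,0,2,0,2,1,2,1,0,0,2,1,2,4,2,2,4,0,1,4,3,1,1,2,3,0,4,3,2,4,3,0,0,3,2,0,1,1,0,4,2,0,1,2,2,3,2,1,1,4,1,4,0,1,2,0,3,2,1,3,4,2,2,3,1,2,3,2,2,0,4,1,0,2,3,4,1,1,2,2,3,1,2],
 [0,4,4,4,1,2,0,4,4,3,0,1,4,2,4,2,0,1,0,4,2,0,0,3,4,2,1,4,4,0,2,4,4,1,3,4,3,3,1,1,2,1,2,3,1,4,4,2,3,3,0,3,3,4,2,3,0,1,1,0,2,3,4,3,3,3,4,1,4,0,3,0,1,3,0,3,1,2,2,1,0,2,2,4,4,4,4,3,3,4,3,4,0,3,4,0,4,4,4,4,2,0,4,2,1,0,1,4,3,2,1],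
 [1,3,0,2,4,3,0,2,4,2,2,1,2,4,4,4,2,3,1,2,3,3,1,3,1,4,0,1,1,0,4,1,2,1,3,1,2,2,1,3,0,0,2,1,4,0,2,1,2,2,2,0,4,0,3,4,4,4,3,1,3,3,2,1,1,0,0,3,4,4,3,1,4,3,0,4,4,2,0,2,3,1,3,2,1,0,1,0,0,1,2,4,2,1,1,4,2,3,1,1,4,0,3,4,3,4,0,4,3,0,1],
 [3,1,0,1,3,2,3,1,4,2,1,3,2,0,4,3,1,0,2,2,0,0,0,4,3,1,3,3,0,4,3,3,4,4,2,3,1,4,0,1,2,1,2,1,0,1,2,4,2,4,4,0,3,3,2,0,4,3,2,4,1,4,1,2,0,2,0,0,2,2,3,2,3,0,0,3,2,3,0,3,1,1,1,3,4,0,3,3,4,3,0,4,1,4,2,0,1,0,4,1,4,2,2,3,3,2,4,2,2,2,2],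
 [0,3,0,4,1,0,0,0,4,1,4,3,3,1,3,1,2,4,1,2,4,3,0,2,4,2,4,3,0,1,1,3,0,4,3,2,0,3,3,1,1,2,1,0,0,4,3,2,4,1,2,0,0,0,3,3,1,3,1,2,2,4,1,1,1,0,3,4,4,0,1,0,2,0,4,0,1,4,1,4,2,0,4,2,1,4,0,0,1,3,4,0,4,3,2,4,0,2,1,0,1,2,0,0,2,2,4,0,1,2,0],
 [4,1,4,3,4,0,3,4,0,0,3,2,0,3,0,3,4,4,4,0,0,0,1,0,1,4,2,2,3,0,2,0,1,2,0,2,3,3,3,1,4,4,4,4,0,1,1,0,4,0,2,4,1,0,1,4,3,1,2,3,1,0,4,0,1,2,0,0,4,1,0,4,0,4,2,4,1,1,2,4,1,4,3,4,1,3,3,4,1,2,2,2,4,0,2,0,2,0,1,1,2,4,1,3,3,4,3,4,3,1,4],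
 [1,3,1,2,2,3,0,1,3,2,0,1,4,1,4,2,3,1,0,2,0,0,2,0,1,2,1,0,4,4,1,1,1,2,2,1,1,1,1,3,1,0,1,4,2,0,2,4,2,0,0,3,1,4,2,0,0,3,2,1,4,2,3,2,3,1,2,3,2,3,2,4,2,3,3,2,4,1,4,0,4,3,2,3,4,0,4,3,2,1,3,4,0,0,4,1,4,2,3,4,0,1,0,1,1,2,3,4,2,2,0],
 [3,0,1,0,0,4,4,2,2,4,1,4,3,4,2,2,3,0,3,4,3,2,3,0,2,0,4,0,4,3,4,0,4,1,1,4,4,4,1,1,0,4,1,0,4,4,4,4,3,3,4,1,2,3,1,4,3,0,1,2,4,2,1,2,1,3,0,4,0,1,3,3,4,3,4,4,0,0,0,2,1,3,0,1,3,3,0,1,3,3,4,4,0,1,1,0,1,3,4,1,3,2,1,0,3,4,3,3,0,1,2],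
 [2,2,3,1,2,2,1,0,4,3,1,0,2,3,1,4,4,3,4,4,1,0,1,1,3,2,0,1,0,0,4,2,0,3,3,3,3,1,3,0,0,0,2,4,3,1,1,3,2,1,1,2,3,1,1,1,2,4,0,1,2,0,0,0,4,3,3,4,3,2,3,3,2,0,1,4,0,4,4,1,4,2,0,1,0,3,3,4,3,1,3,3,3,3,2,1,0,0,0,4,1,4,4,2,4,1,2,0,1,1,1],
 [1,2,0,0,2,3,4,2,2,2,2,4,0,4,2,1,0,0,3,1,0,2,1,3,4,0,3,4,4,4,0,0,0,1,4,2,3,2,1,0,1,1,0,0,2,0,0,1,3,2,3,0,0,2,1,3,4,2,0,2,0,1,3,4,3,0,0,4,3,4,4,4,2,1,4,0,0,1,3,1,4,1,4,3,1,3,0,1,0,2,2,3,1,4,4,3,0,2,3,1,3,4,3,1,3,4,0,4,3,3,1],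
 [0,3,1,1,4,3,2,4,3,2,1,3,0,0,1,2,2,1,3,1,2,1,2,2,3,4,3,2,3,0,2,3,2,4,4,3,0,0,3,4,1,3,3,0,0,4,0,1,3,1,2,0,4,3,4,4,4,4,2,4,1,4,3,4,4,2,4,2,0,4,3,0,3,0,2,1,2,0,2,4,3,4,1,0,3,3,4,4,3,3,1,0,3,3,1,2,0,3,2,1,4,2,3,3,0,1,4,2,3,1,3],
 [3,2,2,3,4,2,0,1,1,0,4,2,0,3,3,4,4,4,2,4,1,3,1,0,3,4,0,1,1,0,0,0,4,0,1,0,3,4,3,1,1,2,2,1,0,3,2,4,0,3,0,4,2,1,4,3,1,2,1,3,0,3,0,3,2,4,1,1,0,4,0,0,3,3,2,2,4,2,2,1,0,4,0,1,0,2,2,1,4,2,3,4,4,0,2,1,3,2,0,4,3,3,3,2,2,2,0,4,1,0,3],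
 [1,0,3,3,1,1,0,4,3,0,3,3,4,0,2,0,4,4,3,0,2,2,0,4,0,3,3,1,4,1,1,2,1,0,4,2,2,4,1,0,4,2,4,1,4,0,1,0,1,4,2,1,2,1,4,1,4,1,1,3,2,0,0,4,4,4,4,3,2,2,3,4,3,4,2,1,2,0,3,4,3,3,3,3,0,3,0,4,1,2,2,3,3,0,3,4,3,0,0,4,2,2,2,1,4,3,4,0,1,4,4],
 [3,3,1,4,4,1,1,3,4,2,0,0,1,1,0,4,2,1,4,0,0,3,0,2,4,4,1,2,0,1,0,4,4,4,2,1,0,4,4,3,3,2,0,0,2,0,2,1,2,0,4,3,2,1,4,1,1,4,1,4,1,2,2,0,3,4,1,1,3,0,1,3,1,0,0,3,3,3,0,3,0,2,3,2,2,3,1,3,2,1,2,3,0,1,1,1,0,2,0,4,0,1,3,3,1,1,2,1,1,4,4],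
 [0,4,2,3,2,3,0,2,0,4,0,4,1,0,2,2,0,3,0,3,2,4,0,4,1,0,2,0,4,2,0,0,0,1,0,3,4,0,1,3,4,2,2,4,4,2,2,3,0,1,4,1,4,2,2,4,4,2,2,0,2,4,2,3,2,0,4,0,3,4,2,1,1,4,3,1,0,1,1,0,4,0,4,1,3,0,4,4,4,4,1,1,0,4,2,2,4,3,4,3,3,2,3,1,2,4,1,1,0,4,0],
 [4,0,2,1,1,1,2,1,3,3,2,2,2,4,1,0,4,3,2,0,2,0,4,4,3,2,1,2,3,0,0,0,4,2,1,2,0,2,3,0,1,1,2,1,0,0,4,1,4,3,2,1,2,2,1,3,0,1,1,3,1,2,4,2,2,3,3,0,4,0,4,4,4,4,0,3,1,2,1,2,4,4,3,4,0,1,3,2,0,4,1,4,2,0,2,2,2,3,4,2,1,2,2,4,4,4,2,3,4,4,3],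
 [4,0,3,4,1,2,0,1,1,4,2,1,3,4,2,2,1,1,2,3,0,4,3,0,1,1,3,2,4,3,0,2,1,3,2,4,1,1,4,0,2,2,0,4,2,3,4,4,0,2,3,3,0,2,4,3,0,4,3,2,3,4,1,0,4,2,3,4,3,3,2,1,4,3,1,4,1,3,4,4,1,3,1,0,4,3,1,2,3,4,1,2,0,0,1,2,1,4,2,3,3,3,2,2,1,0,4,4,2,4,4],
 [2,1,1,3,3,0,1,0,4,3,0,3,0,3,0,4,4,3,3,2,2,1,0,3,1,4,1,3,4,2,2,0,0,1,0,2,3,0,4,1,0,3,1,1,3,3,0,3,1,3,4,0,0,4,0,0,0,1,1,0,4,0,0,2,2,4,1,1,3,3,3,1,4,0,3,1,0,4,1,0,3,2,0,2,0,4,0,4,1,0,0,0,1,4,2,1,1,2,4,3,4,3,2,1,3,3,1,1,0,3,1],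
 [1,0,1,2,4,3,2,3,3,0,3,3,2,1,0,0,3,4,2,0,0,2,3,4,3,0,4,1,3,2,1,2,0,4,3,1,1,1,1,1,3,1,2,0,4,2,3,2,2,0,4,4,3,3,3,0,2,1,1,3,3,2,3,2,0,1,1,2,4,3,3,2,4,2,4,3,0,2,0,1,4,1,4,3,3,4,1,2,4,0,4,4,4,3,1,4,1,4,4,2,0,1,0,1,0,1,3,3,4,2,3],
 [4,0,3,3,1,0,1,3,1,3,1,0,1,3,0,4,4,0,1,1,1,4,0,0,1,4,2,0,0,3,0,2,1,2,4,1,1,0,2,2,1,0,3,4,1,4,3,1,0,4,0,1,3,2,2,3,2,0,3,3,4,0,1,2,0,4,1,3,0,3,1,4,1,2,0,2,0,1,2,3,4,1,2,2,2,4,3,1,4,1,2,3,2,2,2,2,1,4,2,1,1,4,4,2,1,2,2,1,3,1,3],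
 [3,4,0,3,3,3,0,2,0,3,0,0,3,3,0,1,1,3,0,3,3,0,3,3,0,2,2,1,2,3,1,4,4,2,4,0,2,0,4,0,1,2,1,4,0,3,3,1,0,1,2,1,2,2,1,1,2,2,2,0,0,3,0,4,1,2,3,3,2,3,4,4,2,4,3,1,0,4,3,0,1,3,2,3,4,2,0,2,2,0,3,0,4,1,0,4,0,1,0,0,3,4,1,0,1,3,2,1,2,0,0],
 [3,3,0,4,3,4,4,4,1,3,4,0,3,1,4,4,3,1,0,3,1,0,1,1,0,2,2,4,1,2,4,1,4,3,4,3,0,2,1,3,1,2,4,4,4,0,0,2,0,0,3,3,4,3,1,1,0,1,0,3,2,1,3,1,0,3,0,2,4,4,3,0,4,2,3,0,0,3,0,2,0,4,1,3,0,2,1,2,3,3,4,2,2,4,2,2,3,4,0,1,0,3,2,1,0,1,0,2,2,2,3],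
 [4,4,1,1,0,4,2,1,4,0,0,1,3,3,2,0,4,1,3,4,4,3,1,0,3,0,2,2,2,2,3,1,1,1,4,0,4,4,0,1,1,4,3,0,4,1,3,1,2,3,4,1,4,0,3,4,3,4,4,2,0,0,0,1,3,2,4,3,0,2,3,4,2,3,3,4,3,3,1,1,4,4,3,2,1,3,3,3,3,1,1,4,3,1,3,1,2,3,2,3,3,2,3,1,1,1,1,2,0,0,2],
 [3,2,4,1,0,3,2,0,0,1,0,1,3,2,3,4,1,2,2,4,4,0,4,4,2,4,3,1,0,2,3,0,4,3,2,3,2,2,0,4,4,2,2,0,4,4,1,1,0,2,2,3,1,2,3,0,3,4,2,3,0,0,1,2,4,3,3,0,3,0,0,0,3,1,3,4,2,4,0,1,3,1,1,1,4,3,3,1,3,0,0,4,2,4,4,1,0,3,3,0,0,2,1,2,1,1,3,4,3,4,3],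
 [2,1,1,1,4,2,1,1,1,4,1,0,4,3,1,2,4,0,0,1,1,2,1,1,1,0,0,0,4,0,1,1,3,0,2,1,2,4,3,2,2,4,3,3,0,4,1,0,2,3,3,0,4,0,4,1,4,1,0,3,2,2,1,3,3,1,4,2,0,0,4,3,0,3,2,1,1,2,3,0,4,0,4,0,0,0,4,3,3,0,3,3,3,1,0,4,4,3,1,2,0,4,1,0,1,0,3,0,0,4,3],
 [0,3,0,3,3,0,1,4,3,4,1,3,4,1,4,2,2,1,2,3,4,4,1,0,4,1,4,3,1,2,3,3,3,4,2,1,3,2,3,2,4,0,3,0,1,3,3,4,1,2,2,4,2,4,3,2,0,0,1,4,0,4,0,4,4,4,3,2,1,0,0,4,1,0,1,4,2,1,4,2,4,1,2,3,2,0,2,0,0,4,0,4,0,2,2,0,2,4,1,0,1,2,0,0,1,3,2,1,4,3,0],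
 [3,3,4,4,4,1,4,2,3,4,0,3,3,1,2,3,3,0,4,2,1,2,0,1,4,2,3,3,1,4,3,3,2,0,2,2,3,1,2,2,2,0,3,1,3,4,2,3,3,4,1,2,3,0,0,0,2,1,4,0,4,2,0,4,2,0,1,1,4,3,3,2,0,3,3,1,2,4,3,3,1,1,2,3,0,4,2,3,4,3,3,1,4,4,1,4,0,0,3,0,2,1,3,2,2,4,4,0,0,1,2],
 [4,1,4,1,1,2,3,0,4,0,4,4,3,1,2,3,4,2,1,2,3,2,2,4,1,0,3,4,1,4,3,3,3,0,0,0,4,3,0,4,2,4,4,2,4,4,1,4,1,4,3,0,1,2,4,3,3,1,3,1,4,4,1,2,2,1,4,1,4,3,1,4,2,3,4,4,0,3,4,3,1,4,2,2,2,3,4,4,0,1,3,1,0,4,2,4,1,1,1,4,0,0,4,0,0,3,0,0,0,2,1],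
 [1,0,1,0,1,3,0,2,0,1,0,2,4,4,3,2,2,4,1,4,4,4,0,4,0,2,1,4,0,2,1,3,3,3,4,0,0,0,0,3,3,4,0,2,2,2,0,2,0,4,3,2,2,0,2,3,4,0,2,0,0,1,0,2,4,0,1,0,4,4,0,0,3,3,1,3,3,4,0,1,2,3,2,1,1,4,4,2,0,4,2,2,2,0,2,4,1,0,3,2,0,4,3,0,4,0,4,0,3,2,0],
 [0,1,4,0,1,2,3,0,2,0,0,1,2,2,1,3,1,1,2,0,2,0,2,0,4,1,3,2,1,0,0,2,4,3,4,2,2,0,2,2,0,2,2,2,1,4,2,0,1,2,3,4,3,2,0,1,0,0,2,3,2,0,3,4,3,1,4,3,1,3,4,1,2,4,3,4,4,2,2,4,1,0,2,3,0,4,2,1,3,4,1,1,3,2,2,1,4,2,0,4,2,2,3,3,1,4,4,3,2,0,0],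
 [1,1,4,3,0,0,3,4,1,3,0,3,2,0,0,1,2,1,1,4,1,4,3,3,0,3,4,0,2,2,3,3,1,0,0,0,3,1,4,4,2,4,3,0,0,2,4,1,1,3,3,4,1,2,3,1,4,4,1,3,1,2,1,1,0,3,0,1,0,2,1,4,4,3,0,2,0,0,2,1,2,0,1,1,1,2,2,2,0,1,1,1,1,4,0,4,0,0,4,3,0,4,1,3,4,3,1,2,1,1,1],
 [4,4,3,1,4,3,2,3,1,0,2,4,2,3,1,2,4,2,4,4,1,0,3,3,2,0,1,0,2,4,2,1,2,2,4,4,3,2,3,4,4,4,1,0,4,0,3,1,3,2,3,2,1,1,2,1,0,4,3,0,2,3,1,2,4,4,2,1,1,2,3,1,3,3,2,2,3,3,2,4,3,2,4,3,0,2,1,3,1,2,2,4,0,0,0,2,1,2,3,3,1,4,1,4,0,1,1,1,4,1,1],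
 [3,1,0,2,1,3,0,2,1,0,4,0,2,2,0,4,3,1,0,1,4,4,4,0,2,2,2,2,3,3,2,1,1,0,3,3,1,4,0,4,1,2,0,4,4,1,3,2,3,0,0,1,4,3,1,0,4,0,4,3,3,3,2,4,3,3,1,0,0,3,1,1,2,3,4,2,0,2,0,1,3,2,2,4,1,2,0,2,0,3,4,4,1,1,1,4,0,2,3,1,0,0,1,3,4,1,4,1,0,4,4],
 [0,3,0,1,1,3,1,0,4,2,2,3,3,3,4,4,4,3,2,4,4,4,1,0,1,4,2,2,1,0,0,3,2,1,4,1,4,1,4,1,0,0,1,3,2,3,2,2,4,3,3,1,0,4,3,1,2,4,2,4,0,3,4,1,3,3,4,3,4,3,2,3,4,4,4,3,1,0,1,3,2,4,4,0,0,3,1,0,4,2,1,4,3,2,1,1,4,4,2,2,0,0,0,2,4,2,2,0,1,3,2],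
 [4,2,0,4,4,2,4,3,1,2,2,2,4,1,1,3,0,1,1,1,4,2,1,2,0,1,1,2,2,2,1,4,0,2,1,3,4,0,1,1,1,2,4,3,1,3,1,3,2,2,4,3,4,4,3,4,2,0,1,1,2,1,1,1,3,1,3,2,0,0,2,4,0,2,4,1,1,4,1,1,2,0,0,2,3,2,2,0,3,0,4,4,1,1,2,1,1,4,2,1,2,4,2,0,2,3,3,4,4,4,2],
 [4,0,2,2,3,3,2,0,4,0,4,4,0,4,2,0,2,0,3,4,0,2,4,4,4,0,2,1,2,4,1,1,0,4,3,1,0,2,2,1,4,3,2,1,2,1,2,3,1,2,0,1,1,1,2,0,1,3,0,4,3,4,1,0,2,1,2,2,3,0,3,0,4,4,1,1,0,4,4,1,1,0,2,4,3,4,2,2,2,3,3,4,1,4,1,1,4,4,2,4,4,1,1,3,3,3,2,3,2,2,1],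
 [4,3,3,0,0,2,0,1,1,2,3,2,2,4,4,0,4,2,4,2,2,4,1,4,3,1,3,0,3,1,1,2,4,2,0,0,4,2,0,1,4,4,3,3,4,2,4,4,4,1,4,0,2,2,4,1,0,3,2,2,4,3,3,4,4,1,4,4,1,4,2,4,3,0,3,1,4,2,0,3,4,3,0,3,4,0,0,0,2,1,2,1,3,3,4,4,0,2,0,4,2,4,2,0,3,2,1,3,0,4,4],
 [1,2,1,2,4,2,2,2,4,2,0,4,0,2,0,3,1,1,2,4,0,4,2,1,2,2,2,2,4,2,0,2,1,1,2,1,4,4,3,2,1,0,4,1,3,3,3,2,2,1,4,0,4,2,2,2,0,4,2,1,4,4,4,0,3,1,1,0,4,0,1,4,3,0,0,3,3,0,1,4,0,0,1,3,3,2,3,4,0,0,2,1,3,1,3,3,0,1,2,2,2,1,3,4,0,3,1,2,1,2,1],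
 [1,0,3,1,0,0,3,2,4,2,2,1,2,1,1,0,2,2,0,3,4,2,0,3,4,4,1,0,0,0,2,0,0,4,0,2,0,2,2,0,1,2,1,1,4,0,1,2,2,1,2,2,4,1,4,2,3,3,3,3,2,4,2,4,2,4,3,0,3,0,1,3,4,4,0,0,4,4,0,3,1,1,3,0,3,2,3,0,3,2,2,0,2,2,3,2,4,3,2,0,4,0,0,4,3,3,0,4,0,3,4],
 [2,0,1,4,2,1,3,3,3,0,4,2,4,4,2,3,1,0,2,4,2,1,3,3,0,4,4,3,2,4,0,4,0,3,3,0,1,4,4,0,3,0,1,4,0,3,4,2,0,1,4,2,3,3,3,4,3,1,2,3,1,4,3,4,0,1,1,2,3,2,3,3,4,4,1,4,4,2,1,2,1,1,4,3,2,3,2,1,0,1,4,4,2,4,4,2,1,4,3,0,2,0,2,1,0,4,4,0,3,0,3],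
 [1,4,1,3,1,1,0,1,3,4,3,3,3,1,3,3,4,1,1,3,2,2,1,1,1,0,1,2,0,3,4,4,1,3,4,4,1,0,3,4,2,1,1,2,0,0,1,4,4,4,1,2,1,2,0,1,1,0,3,3,0,1,2,4,3,4,0,3,1,4,4,3,0,1,1,1,1,4,3,0,1,3,4,0,4,2,1,3,1,0,1,3,2,0,0,2,3,2,4,0,2,0,0,2,0,1,0,2,3,1,2],
 [0,4,1,0,4,0,0,4,0,3,2,0,0,2,2,0,3,1,3,4,4,3,1,0,2,0,1,2,2,0,2,0,1,1,4,2,3,0,2,0,1,0,2,0,3,1,4,2,1,4,1,0,0,3,2,1,1,0,3,2,2,4,0,4,1,2,1,3,3,1,3,1,3,0,4,1,2,4,4,1,4,3,1,0,2,4,0,4,0,4,3,2,4,4,4,0,4,3,1,2,0,3,0,3,0,2,1,2,2,2,4],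
 [3,4,3,1,1,3,2,1,4,4,4,3,2,0,0,0,0,2,2,0,0,1,1,4,4,0,2,3,3,2,2,3,1,4,1,2,0,0,2,3,3,2,0,3,4,4,4,1,4,1,0,0,2,3,3,1,2,1,3,1,1,4,2,4,2,3,0,1,3,2,4,0,4,1,4,4,1,0,4,2,1,3,2,4,0,1,4,3,3,4,0,0,0,4,2,4,2,3,2,2,1,2,0,2,4,0,2,1,2,4,3],
 [3,1,3,4,3,1,1,2,4,4,2,2,0,2,3,0,3,0,0,2,4,3,3,0,3,3,3,3,2,1,4,0,3,0,1,1,3,2,2,1,4,2,3,3,3,2,0,4,4,1,1,4,1,4,0,0,3,4,3,2,3,0,3,3,4,3,4,2,2,3,1,4,1,3,0,0,0,1,4,3,3,3,4,0,4,1,0,0,4,3,3,3,0,0,3,2,1,4,2,4,0,1,1,4,1,0,4,0,4,3,2],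
 [4,2,0,4,2,3,2,1,4,2,0,4,2,1,4,2,1,4,2,1,4,1,0,3,3,0,1,0,4,1,1,0,4,2,0,0,0,3,3,0,4,3,0,2,1,4,0,4,2,1,3,1,0,0,2,3,4,3,4,3,3,3,0,4,2,0,4,1,3,4,1,3,4,1,1,4,1,3,3,1,1,0,1,4,2,0,3,4,2,1,1,0,1,2,1,3,1,2,4,2,2,0,2,3,3,2,4,1,0,0,0],
 [3,1,1,1,4,3,2,1,2,1,0,3,0,4,0,0,1,2,3,0,0,4,4,1,3,3,0,4,1,0,2,4,1,3,4,3,3,4,2,0,2,2,1,0,0,3,3,3,3,3,0,0,2,4,4,3,0,3,2,1,1,3,2,1,1,2,2,3,1,1,3,3,1,4,0,3,4,0,2,3,0,0,2,1,1,3,2,1,4,2,4,4,2,2,0,4,3,1,3,2,0,3,0,2,3,0,4,1,0,2,2],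
 [1,1,4,2,1,2,1,2,1,0,0,3,2,4,2,3,2,4,0,2,0,3,3,0,4,3,2,4,2,1,4,3,1,4,0,2,0,1,3,1,0,2,2,3,0,1,1,3,0,0,0,3,2,2,3,4,2,1,0,3,2,0,4,3,0,3,3,2,4,2,0,4,0,1,0,2,0,4,2,1,2,1,2,4,4,2,3,1,1,4,0,3,3,1,4,1,3,2,3,1,0,1,3,2,3,0,0,0,2,1,1],
 [1,3,0,4,1,3,3,4,4,0,3,3,4,3,2,0,3,0,2,0,2,2,4,3,0,2,0,2,1,3,4,0,4,3,0,4,1,1,2,3,2,4,4,3,4,3,1,0,3,4,1,4,4,0,0,3,3,3,0,1,3,2,4,4,0,1,3,0,2,1,0,3,1,4,1,3,0,4,4,1,4,0,4,0,4,1,2,0,1,1,4,0,3,1,2,1,2,2,4,0,3,1,1,1,1,2,2,2,1,2,1],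
 [0,1,0,1,4,3,3,2,4,0,4,1,1,0,0,0,3,0,0,0,2,4,1,4,3,2,4,2,3,0,0,3,1,3,3,1,0,1,1,2,2,4,4,3,0,0,0,4,2,4,4,0,3,4,1,0,1,0,0,1,4,1,3,3,0,4,0,1,4,0,3,1,1,4,3,4,3,3,0,2,2,0,2,3,3,0,0,2,1,1,3,1,0,1,3,3,1,4,2,3,1,2,2,0,0,4,0,4,3,4,0],
 [2,4,3,0,2,4,0,4,2,4,3,1,2,2,4,4,2,0,3,1,4,3,1,3,4,4,0,4,0,3,1,4,3,1,3,0,2,0,2,0,4,3,3,0,3,3,2,1,0,1,0,2,3,0,2,4,4,0,3,1,4,1,0,3,0,1,2,4,4,1,3,0,2,2,0,0,3,3,2,1,1,2,1,4,1,3,1,2,1,3,1,1,1,2,2,1,4,4,0,4,3,2,3,3,1,1,2,4,2,1,1],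
 [2,0,4,0,3,1,2,2,0,2,4,4,0,2,2,4,0,3,3,4,1,4,1,4,0,0,0,1,4,2,1,4,3,4,3,3,1,2,4,1,1,2,4,2,0,0,2,2,3,1,3,1,1,3,2,1,0,3,4,1,1,0,0,0,0,0,0,3,3,3,3,3,0,0,2,2,1,3,4,3,3,3,1,2,3,0,4,3,0,1,2,4,2,0,1,4,0,1,4,1,3,4,3,4,2,3,2,2,1,0,0],
 [3,1,3,2,4,0,2,2,1,3,4,0,1,2,2,2,0,4,0,3,1,1,2,3,2,2,3,1,1,0,2,0,2,0,0,2,0,2,1,2,1,3,2,3,4,3,1,1,0,2,1,3,0,3,0,1,0,4,3,2,4,2,1,3,1,1,2,1,2,3,2,1,0,0,3,3,3,2,1,2,4,4,4,1,4,0,2,4,0,1,4,2,4,3,2,3,3,1,0,1,0,2,0,1,4,0,4,1,2,3,2],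
 [0,4,3,0,3,4,3,0,2,4,3,4,4,4,3,4,3,0,2,3,0,1,2,3,3,4,1,3,1,3,4,3,4,3,1,1,0,1,3,1,1,1,2,2,1,4,2,2,0,0,2,4,4,4,1,3,4,4,0,3,1,4,3,4,1,3,2,0,3,3,2,1,2,0,3,4,0,2,1,4,1,1,4,4,0,1,0,0,0,3,3,4,2,4,1,0,1,4,0,3,3,3,1,3,3,0,3,4,4,2,4],
 [3,1,1,4,0,1,4,1,4,2,4,1,1,4,4,0,1,0,3,1,0,4,2,3,2,0,1,2,3,4,0,2,2,0,2,2,0,1,1,2,2,0,3,4,4,4,1,4,3,4,1,2,4,0,2,2,3,0,2,2,3,3,0,4,4,4,1,1,3,2,0,2,2,4,1,0,4,1,0,1,3,0,1,4,4,4,0,3,4,2,2,3,2,4,0,3,4,1,1,0,2,1,4,2,0,2,1,2,2,0,3],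
 [2,4,0,2,0,4,3,4,1,2,0,1,2,4,4,0,4,0,4,3,1,0,4,2,1,2,3,2,1,2,2,0,1,2,0,2,0,4,1,2,1,4,3,1,1,0,4,3,0,0,1,2,0,4,3,2,4,2,2,4,3,2,0,0,3,0,4,3,4,4,4,2,0,2,2,0,2,1,1,0,3,3,4,1,4,3,4,4,2,1,1,3,0,1,4,3,2,2,0,1,0,0,1,4,1,1,2,4,2,1,1],
 [0,4,2,1,0,3,1,0,2,0,0,1,1,3,0,1,4,4,4,4,0,2,4,2,1,2,3,0,1,4,1,3,2,2,0,0,3,2,1,3,1,2,1,1,3,1,0,1,3,3,1,1,3,1,1,3,4,1,0,2,4,3,3,4,2,0,4,0,3,3,2,2,2,3,3,0,4,3,3,3,4,0,3,2,2,4,1,0,4,4,3,4,0,4,3,0,0,0,3,3,3,0,3,3,4,1,0,0,0,0,2],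
 [2,4,4,4,0,0,0,4,1,3,2,4,2,0,4,4,1,0,2,4,0,4,3,4,2,1,1,3,4,0,0,1,2,4,3,1,0,2,4,0,1,4,1,0,1,3,3,1,0,0,1,0,3,4,3,3,1,0,4,1,4,3,3,4,0,2,3,4,0,2,4,1,1,2,4,4,3,3,1,1,3,1,2,4,0,3,4,0,2,3,2,4,0,3,4,4,1,4,4,2,2,2,4,3,0,4,2,1,4,4,2],
 [3,1,0,0,0,0,0,1,4,2,3,3,1,1,3,0,4,4,4,3,0,2,3,2,1,0,0,4,1,0,3,1,0,4,3,4,1,3,1,3,2,3,3,4,4,4,4,0,1,4,1,2,4,0,2,0,3,0,4,0,4,2,2,1,4,3,1,2,2,0,3,2,2,4,4,0,3,4,1,4,0,4,1,3,4,4,4,2,0,0,4,0,1,3,2,1,2,0,0,4,3,4,2,3,4,0,0,4,3,3,1],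
 [0,2,3,1,1,0,0,0,1,0,0,3,3,4,1,4,0,1,2,3,4,2,0,1,2,3,1,0,1,2,3,1,1,0,0,0,4,2,2,2,0,1,4,3,0,1,2,1,1,0,4,4,4,1,4,0,4,0,3,1,0,3,4,2,1,0,2,4,1,4,4,1,1,4,0,1,1,1,3,1,4,3,3,4,3,3,0,2,3,1,2,1,0,3,3,0,0,0,3,4,4,2,3,2,4,2,2,0,4,0,4]
]

/-- all named matrices -/
def named : List (List (List ℕ)) := [nm0, nm1, nm2, nm3, nm4, nm5, nm6, nm7, nm8, nm9, nm10, nm11, nm12, nm13, nm14, nm15]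

/-- the programs: inputs, products, output -/
def stages : List (List ℕ × List (ℕ × ℕ) × ℕ) := [
  ([0, 1, 2, 3], [(0, 1), (4, 1), (5, 2), (6, 2), (7, 0), (8, 2), (9, 1), (10, 3), (11, 0), (12, 3), (13, 13), (14, 14), (15, 15), (15, 16)], 17),
  ([0, 1, 2, 3, 4, 5, 6, 7, 8, 9, 10], [(2, 0), (11, 4), (12, 4), (13, 0), (14, 2), (15, 1), (16, 2), (17, 3), (18, 2), (7, 8), (20, 7), (21, 6), (22, 7), (23, 5), (24, 9), (25, 9), (26, 5), (27, 7), (10, 19), (28, 29), (10, 30), (31, 31), (31, 32), (32, 32), (33, 34), (19, 35)], 36),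
  ([1, 2, 3, 4, 6, 7, 8, 9, 10], [(2, 1), (9, 3), (10, 0), (11, 2), (12, 2), (13, 1), (14, 3), (7, 5), (16, 6), (17, 6), (18, 4), (19, 7), (20, 5), (21, 6), (8, 15), (22, 23), (8, 24), (25, 25), (25, 26), (26, 26), (27, 28), (28, 28), (29, 30), (15, 31)], 32),
  ([11], [(0, 0)], 1),
  ([1, 2, 3, 4, 6, 7, 8, 9, 10, 11, 12, 13], [(2, 0), (12, 0), (13, 3), (14, 3), (15, 3), (16, 1), (5, 7), (18, 7), (19, 7), (20, 4), (21, 4), (22, 6), (8, 17), (23, 24), (8, 25), (26, 26), (27, 27), (28, 28), (28, 29), (11, 30), (31, 10), (32, 9), (33, 10), (34, 10), (35, 9), (36, 10), (37, 30), (38, 9), (39, 30), (40, 9),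 (41, 10), (42, 10), (43, 9), (44, 30)], 45),
  ([1, 2, 3, 4, 6, 7, 8, 9, 10, 11, 12], [(2, 0), (11, 0), (12, 3), (13, 3), (14, 3), (15, 1), (5, 7), (17, 7), (18, 7), (19, 4), (20, 4), (21, 6), (8, 16), (22, 23), (8, 24), (25, 25), (26, 26), (27, 27), (27, 28), (9, 10), (30, 10), (31, 9), (32, 29), (33, 10), (34, 10), (35, 29), (36, 9), (37, 10), (38, 29), (39, 9), (40, 29), (41, 9), (42, 29), (43, 10), (44, 29), (45, 10)], 46),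
  ([1, 2, 3, 4, 6, 7, 8, 9, 10, 11, 12], [(2, 0), (11, 0), (12, 3), (13, 3), (14, 3), (15, 1), (5, 7), (17, 7), (18, 7), (19, 4), (20, 4), (21, 6), (8, 16), (22, 23), (8, 24), (25, 25), (26, 26), (27, 27), (27, 28), (10, 9), (30, 10), (31, 10), (32, 9), (33, 9), (34, 10), (35, 29), (36, 9), (37, 10), (38, 10), (39, 10), (40, 9), (41, 29), (42, 10), (43, 29)], 44),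
  ([1, 2, 3, 4, 6, 7, 8, 9, 10, 11, 12, 13], [(2, 0), (12, 0), (13, 3), (14, 3), (15, 3), (16, 1), (5, 7), (18, 7), (19, 7), (20, 4), (21, 4), (22, 6), (8, 17), (23, 24), (8, 25), (26, 26), (27, 27), (28, 28), (28, 29), (11, 30), (31, 9), (32, 9), (33, 9), (34, 30), (35, 10), (36, 30), (37, 10), (38, 9), (39, 9), (40, 30), (41, 9), (42, 9), (43, 9)], 44),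
  ([1, 2, 3, 4, 6, 7, 8, 9, 10, 11, 12, 13], [(2, 0), (12, 0), (13, 3), (14, 3), (15, 3), (16, 1), (5, 7), (18, 7), (19, 7), (20, 4), (21, 4), (22, 6), (8, 17), (23, 24), (8, 25), (26, 26), (27, 27), (28, 28), (28, 29), (11, 10), (31, 10), (32, 9), (33, 30), (34, 10), (35, 30), (36, 9), (37, 9), (38, 30), (39, 10), (40, 10), (41, 9), (42, 10), (43, 9), (44, 10), (45, 9)], 46),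
  ([1, 2, 3, 4, 6, 7, 8, 9, 10, 11, 12], [(2, 0), (11, 0), (12, 3), (13, 3), (14, 3), (15, 1), (5, 7), (17, 7), (18, 7), (19, 4), (20, 4), (21, 6), (8, 16), (22, 23), (8, 24), (25, 25), (26, 26), (27, 27), (27, 28), (29, 9), (30, 10), (31, 9), (32, 10), (33, 9), (34, 9), (35, 9), (36, 10), (37, 9), (38, 10), (39, 10), (40, 9), (41, 9), (42, 9), (43, 29)], 44),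
  ([1, 2, 3, 4, 6, 7, 8, 9, 10, 11, 12], [(2, 0), (11, 0), (12, 3), (13, 3), (14, 3), (15, 1), (5, 7), (17, 7), (18, 7), (19, 4), (20, 4), (21, 6), (8, 16), (22, 23), (8, 24), (25, 25), (26, 26), (27, 27), (27, 28), (29, 10), (30, 9), (31, 29), (32, 10), (33, 9), (34, 9), (35, 10), (36, 10), (37, 9), (38, 29), (39, 9), (40, 9), (41, 29), (42, 10), (43, 10), (44, 9)], 45),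
  ([0, 1, 2, 3, 4, 5, 6, 7, 8, 9, 10, 16, 17], [(10, 11), (13, 12), (2, 3), (15, 2), (16, 0), (17, 1), (18, 4), (19, 2), (20, 3), (21, 3), (22, 4), (23, 10), (9, 8), (25, 8), (26, 7), (27, 9), (28, 6), (29, 5), (30, 7), (31, 8), (32, 7), (24, 33), (34, 10), (35, 35), (36, 36), (35, 37), (37, 37), (38, 39), (14, 34), (41, 41), (42, 42), (43, 43), (44, 44), (45, 40)], 46),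
  ([0, 1, 2, 3, 4, 5, 6, 7, 8, 9, 10, 14, 17], [(10, 11), (13, 12), (3, 2), (15, 0), (16, 1), (17, 2), (18, 2), (19, 4), (20, 2), (21, 10), (7, 9), (23, 7), (24, 7), (25, 6), (26, 5), (27, 7), (28, 8), (22, 29), (30, 10), (31, 31), (31, 32), (32, 32), (34, 34), (33, 35), (14, 30), (37, 37), (38, 38), (39, 39), (40, 40), (41, 41), (38, 42), (43, 36)], 44),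
  ([0, 1, 2, 3, 4, 5, 6, 7, 8, 9, 10, 15], [(0, 1), (12, 0), (13, 4), (14, 3), (15, 2), (16, 2), (17, 4), (18, 0), (19, 4), (20, 10), (9, 5), (22, 9), (23, 7), (24, 7), (25, 8), (26, 9), (27, 5), (28, 6), (29, 5), (21, 30), (31, 10), (32, 32), (33, 33), (32, 34), (34, 34), (35, 36), (11, 31), (38, 38), (38, 39), (39, 39), (41, 41), (42, 42), (40, 43), (44, 37)], 45),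
  ([0, 1, 2, 3, 4, 5, 6, 7, 8, 9, 10, 18, 19], [(11, 12), (3, 0), (14, 3), (15, 3), (16, 0), (17, 4), (18, 2), (19, 1), (20, 10), (6, 7), (22, 9), (23, 5), (24, 8), (25, 8), (26, 5), (27, 8), (21, 28), (29, 10), (30, 30), (31, 31), (32, 32), (13, 29), (34, 34), (35, 35), (36, 36), (37, 33)], 38),
  ([0, 1, 2, 4, 5, 6, 7, 9, 10, 14, 16, 18, 20], [(9, 10), (13, 11), (14, 12), (3, 3), (16, 0), (17, 3), (18, 2), (19, 1), (20, 3), (21, 0), (22, 1), (23, 8), (5, 4), (25, 7), (26, 5), (27, 6), (28, 7), (29, 4), (30, 7), (31, 7), (24, 32), (33, 8), (34, 34), (34, 35), (15, 33), (37, 37), (37, 38), (38, 38),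 (40, 40), (39, 41), (42, 36)], 43)
]

/-- positions of the chain generators -/
def xsNamed : List ℕ := [10, 14, 15, 16, 17, 18, 19, 20]

/-- positions of the conjugating elements -/
def conjNamed : List ℕ := [21, 22, 23, 24, 25]

end H44.LyTwo.Data
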