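import Cfsg.Agent.H44.LyTwo.Checks

/-! Generated steps of the certificate. -/

set_option autoImplicit false

namespace H44.LyTwo.Data

/-- steps fixing the generators modulo squares -/
def steps : List Step :=
 [.sq 6,
  .sq 34,
  .prod 1 16,
  .sq 64,
  .prod 1 14,
  .prod 14 16,
  .prod 14 17,
  .sq 128,
  .prod 1 107,
  .prod 107 14,
  .prod 107 15,
  .prod 107 16,
  .prod 107 17,
  .prod 107 30,
  .prod 107 31,
  .sq 130,
  .prod 1 46,
  .prod 100 46,
  .prod 100 47,
  .prod 101 69,
  .prod 101 68,
  .prod 106 46,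
  .prod 106 47,
  .prod 106 69,
  .prod 106 68,
  .prod 106 49,
  .prod 106 48,
  .prod 107 62,
  .prod 107 63,
  .prod 14 46,
  .prod 14 47,
  .round ⟨[0, 8, 4, 32], [], 0⟩ 130 134,
  .prod 130 46,
  .prod 130 47,
  .prod 130 123,
  .prod 134 85,
  .prod 134 189,
  .prod 134 230,
  .round ⟨[0, 16, 4, 32], [], 0⟩ 128 128,
  .prod 128 188,
  .prod 128 195]

/-- the central involution -/
def zIdx : ℕ := 1

/-- fused involutions with the position of a conjugating element -/
def fused : List (ℕ × ℕ) := [(25, 21), (19, 22), (4, 23), (96, 24), (170, 25)]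

/-- products giving the generators -/
def prods : List (ℕ × ℕ) := [(25, 4), (25, 170), (19, 170), (96, 19), (28, 25), (178, 19), (178, 96), (184, 25), (184, 19), (184, 96), (99, 96), (5, 4), (245, 4), (168, 170), (254, 96), (162, 170), (3, 19), (155, 170), (235, 170)]

end H44.LyTwo.Data
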