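import Cfsg.Agent.H44.LyTwo.Packed
import Cfsg.Agent.H44.LyTwo.Named
import Cfsg.Agent.H44.LyTwo.Data
import Cfsg.Agent.H44.LyTwo.Steps
import Cfsg.Agent.H68.Ly.RepWord

/-!
Kernel checks of the relations, the orbit and the fusions on the named matrices.
-/

set_option autoImplicit false
set_option maxRecDepth 100000
set_option Elab.async false

namespace H44.LyTwo

/-- a generator of the chain as a table -/
noncomputable def genT (k : ℕ) : List (List ℕ) :=
  ((List.range 10).map H68.Ly.tab ++ Data.named).getD (Data.xsNamed.getD k 26) []

/-- selected positions below `k` -/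
def bitsW (k i : ℕ) : List ℕ := (List.range k).filter fun j => Nat.testBit i j

/-- a word of chain generators -/
noncomputable def wordT (k i : ℕ) : List (List (List ℕ)) := (bitsW k i).map genT

/-- the square relation -/
noncomputable def sqB (k : ℕ) : Bool := eqT [genT k, genT k] (wordT k (Data.sqL.getD k 0))

/-- the commutation relations -/
noncomputable def pcB (k : ℕ) : Bool :=
  (List.range k).all fun j =>
    eqT [genT k, genT j] (wordT k ((Data.pcL.getD k []).getD j 0) ++ [genT k])

/-- the images of the orbit -/
noncomputable def stepB (k : ℕ) : Bool :=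
  H68.Ly.fz H68.Ly.mask fun m => (List.range 256).all fun i =>
    Nat.beq (push m [H68.Ly.packTab (genT k)] (Data.oL.getD i 0)) (Data.oL.getD ((Data.sgL.getD k 0 >>> (8 * i)) &&& 255) 0)

/-- one conjugation of the central involution -/
noncomputable def fuseB (k : ℕ) : Bool :=
  eqT (((List.range 10).map H68.Ly.tab ++ Data.named).getD (Data.fused.getD k (0, 0)).2 [] ::
      wordT 8 Data.zIdx)
    (wordT 8 (Data.fused.getD k (0, 0)).1 ++
      [((List.range 10).map H68.Ly.tab ++ Data.named).getD (Data.fused.getD k (0, 0)).2 []])

theorem sq0_ok : sqB 0 = true := by decide +kernel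

theorem pc0_ok : pcB 0 = true := by decide +kernel

theorem step0_ok : stepB 0 = true := by decide +kernel

theorem sq1_ok : sqB 1 = true := by decide +kernel

theorem pc1_ok : pcB 1 = true := by decide +kernel

theorem step1_ok : stepB 1 = true := by decide +kernel

theorem sq2_ok : sqB 2 = true := by decide +kernel

theorem pc2_ok : pcB 2 = true := by decide +kernel

theorem step2_ok : stepB 2 = true := by decide +kernel

theorem sq3_ok : sqB 3 = true := by decide +kernel

theorem pc3_ok : pcB 3 = true := by decide +kernel

theorem step3_ok : stepB 3 = true := by decide +kernel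

theorem sq4_ok : sqB 4 = true := by decide +kernel

theorem pc4_ok : pcB 4 = true := by decide +kernel

theorem step4_ok : stepB 4 = true := by decide +kernel

theorem sq5_ok : sqB 5 = true := by decide +kernel

theorem pc5_ok : pcB 5 = true := by decide +kernel

theorem step5_ok : stepB 5 = true := by decide +kernel

theorem sq6_ok : sqB 6 = true := by decide +kernel

theorem pc6_ok : pcB 6 = true := by decide +kernel

theorem step6_ok : stepB 6 = true := by decide +kernel

theorem sq7_ok : sqB 7 = true := by decide +kernel

theorem pc7_ok : pcB 7 = true := by decide +kernel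

theorem step7_ok : stepB 7 = true := by decide +kernel

theorem fuse0_ok : fuseB 0 = true := by decide +kernel

theorem fuse1_ok : fuseB 1 = true := by decide +kernel

theorem fuse2_ok : fuseB 2 = true := by decide +kernel

theorem fuse3_ok : fuseB 3 = true := by decide +kernel

theorem fuse4_ok : fuseB 4 = true := by decide +kernel

theorem sq_ok : ∀ k < 8, sqB k = true := by
  intro k hk
  interval_cases k
  · exact sq0_ok
  · exact sq1_ok
  · exact sq2_ok
  · exact sq3_ok
  · exact sq4_ok
  · exact sq5_ok
  · exact sq6_ok
  · exact sq7_ok

theorem pc_ok : ∀ k < 8, pcB k = true := by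
  intro k hk
  interval_cases k
  · exact pc0_ok
  · exact pc1_ok
  · exact pc2_ok
  · exact pc3_ok
  · exact pc4_ok
  · exact pc5_ok
  · exact pc6_ok
  · exact pc7_ok

theorem step_ok : ∀ k < 8, stepB k = true := by
  intro k hk
  interval_cases k
  · exact step0_ok
  · exact step1_ok
  · exact step2_ok
  · exact step3_ok
  · exact step4_ok
  · exact step5_ok
  · exact step6_ok
  · exact step7_ok

theorem fuse_ok : ∀ k < 5, fuseB k = true := by
  intro k hk
  interval_cases k
  · exact fuse0_ok
  · exact fuse1_ok
  · exact fuse2_ok
  · exact fuse3_ok
  · exact fuse4_ok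

end H44.LyTwo
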