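import Cfsg.Agent.H44.LyTwo.Packed
import Cfsg.Agent.H44.LyTwo.Named
import Cfsg.Agent.H68.Ly.RepWord

/-!
Kernel checks that the named matrices are the values of their programs.
-/

set_option autoImplicit false
set_option maxRecDepth 100000
set_option Elab.async false

namespace H44.LyTwo

/-- the ten matrices followed by the named ones -/
noncomputable def allTabs : List (List (List ℕ)) := (List.range 10).map H68.Ly.tab ++ Data.named

/-- the check of one stage -/
noncomputable def stageB (k : ℕ) : Bool :=
  segB ((Data.stages.getD k ([], [], 0)).1.map fun i => allTabs.getD i [])
    (Data.stages.getD k ([], [], 0)).2.1 (Data.stages.getD k ([], [], 0)).2.2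
    (allTabs.getD (10 + k) [])

theorem stage0_ok : stageB 0 = true := by decide +kernel

theorem stage1_ok : stageB 1 = true := by decide +kernel

theorem stage2_ok : stageB 2 = true := by decide +kernel

theorem stage3_ok : stageB 3 = true := by decide +kernel

theorem stage4_ok : stageB 4 = true := by decide +kernel

theorem stage5_ok : stageB 5 = true := by decide +kernel

theorem stage6_ok : stageB 6 = true := by decide +kernel

theorem stage7_ok : stageB 7 = true := by decide +kernel

theorem stage8_ok : stageB 8 = true := by decide +kernel

theorem stage9_ok : stageB 9 = true := by decide +kernel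

theorem stage10_ok : stageB 10 = true := by decide +kernel

theorem stage11_ok : stageB 11 = true := by decide +kernel

theorem stage12_ok : stageB 12 = true := by decide +kernel

theorem stage13_ok : stageB 13 = true := by decide +kernel

theorem stage14_ok : stageB 14 = true := by decide +kernel

theorem stage15_ok : stageB 15 = true := by decide +kernel

theorem stages_ok : ∀ k < 16, stageB k = true := by
  intro k hk
  interval_cases k
  · exact stage0_ok
  · exact stage1_ok
  · exact stage2_ok
  · exact stage3_ok
  · exact stage4_ok
  · exact stage5_ok
  · exact stage6_ok
  · exact stage7_ok
  · exact stage8_ok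
  · exact stage9_ok
  · exact stage10_ok
  · exact stage11_ok
  · exact stage12_ok
  · exact stage13_ok
  · exact stage14_ok
  · exact stage15_ok

theorem allTabs_ok : allTabs.all H68.Ly.tabOK = true := by decide +kernel

theorem allTabs_length : allTabs.length = 26 := rfl

end H44.LyTwo
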