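import Cfsg.Agent.H44.LyTwo.Data
import Cfsg.Agent.H44.LyTwo.Steps
import Cfsg.Agent.H44.LyTwo.Chain

/-!
Checked tables of a group of order `256`.
-/

set_option autoImplicit false
set_option maxRecDepth 100000

namespace H44.LyTwo.Data

/-- generator table -/
def sgF (k i : ℕ) : ℕ := (sgL.getD k 0 >>> (8 * i)) &&& 255

/-- multiplication table -/
def mtF (i j : ℕ) : ℕ := (mtL.getD (i >>> 4) 0 >>> (8 * (256 * (i &&& 15) + j))) &&& 255

/-- first invariants -/
def tabF (i : ℕ) : List ℕ := tabL.getD i []

/-- no repetition -/
def distinctB : List ℕ → Bool
  | [] => true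
  | a :: t => t.all (fun b => !Nat.beq a b) && distinctB t

theorem nodup_of_distinct : ∀ {L : List ℕ}, distinctB L = true → L.Nodup
  | [], _ => List.nodup_nil
  | a :: t, h => by
      rw [distinctB, Bool.and_eq_true, List.all_eq_true] at h
      refine List.nodup_cons.2 ⟨fun ha => ?_, nodup_of_distinct h.2⟩
      have h1 := h.1 a ha
      simp at h1

theorem std_ok : (List.range 256).all (fun i => Nat.beq (mv sgF 8 0 i) i) = true := by decide +kernel

theorem mt_ok : (List.range 256).all (fun i => (List.range 256).all fun j =>
    Nat.beq (mtF i j) (mv sgF 8 i j)) = true := by decide +kernel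

theorem tab_ok : (List.range 256).all (fun i => col1 256 mtF i == tabF i) = true := by decide +kernel

theorem sg_ok : (List.range 8).all (fun k => (List.range 256).all fun i =>
    decide (sgF k i < 256)) = true := by decide +kernel

theorem fix_ok : fixOK 256 8 mtF tabF steps = true := by decide +kernel

theorem cen_ok : centreOK 256 8 mtF zIdx = true := by decide +kernel

theorem span_ok : spanOK 8 mtF (fused.map Prod.fst) prods = true := by decide +kernel

theorem z_ok : zIdx < 256 := by decide +kernel

theorem fused_lt : fused.all (fun p => decide (p.1 < 256)) = true := by decide +kernel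

theorem distinct_ok : distinctB oL = true := by decide +kernel

theorem length_ok : oL.length = 256 := by decide +kernel

end H44.LyTwo.Data
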