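import Cfsg.Agent.H44.LyTwo.Coded
import Cfsg.Agent.H44.LyTwo.Tables
import Cfsg.Agent.H44.LyTwo.Stages
import Cfsg.Agent.H44.LyTwo.Relations

/-!
The meaning of the kernel checks: named elements in any group mapping onto the ten matrices, and
validity of the coded certificate.
-/

set_option autoImplicit false
set_option maxRecDepth 100000

namespace H44.LyTwo

open H68.Ly (Mat fz fz_eq mask rowsOf toM tabOK)

/-- Run stages of straight-line programs, extending the list of values. -/
def evalS {α : Type*} (mul : α → α → α) (d : α) : List (List ℕ × List (ℕ × ℕ) × ℕ) → List α → List α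
  | [], L => L
  | (ins, prog, pos) :: rest, L =>
      evalS mul d rest (L ++ [(evalP mul d prog (ins.map fun i => L.getD i d)).getD pos d])

theorem evalS_map {α β : Type*} (f : α → α → α) (g : β → β → β) (μ : α → β)
    (hμ : ∀ a b, μ (f a b) = g (μ a) (μ b)) (d : α) :
    ∀ (st : List (List ℕ × List (ℕ × ℕ) × ℕ)) (L : List α),
      (evalS f d st L).map μ = evalS g (μ d) st (L.map μ)
  | [], L => rfl
  | (ins, prog, pos) :: rest, L => by
      show (evalS f d rest (L ++ [_])).map μ = evalS g (μ d) rest (L.map μ ++ [_])
      rw [evalS_map f g μ hμ d rest]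
      refine congrArg _ ?_
      rw [List.map_append, List.map_cons, List.map_nil, ← getD_map μ _ pos d, evalP_map f g μ hμ d,
        List.map_map]
      refine congrArg (fun l => L.map μ ++ [(evalP g (μ d) prog l).getD pos (μ d)]) ?_
      exact List.map_congr_left fun i _ => (getD_map μ L i d).symm

theorem allTabs_ok' : ∀ S ∈ allTabs, tabOK S = true := List.all_eq_true.1 allTabs_ok

theorem getD_ok {i : ℕ} (hi : i < 26) : tabOK (allTabs.getD i []) = true := by
  have hi' : i < allTabs.length := by rw [allTabs_length]; exact hi
  rw [List.getD_eq_getElem _ _ hi']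
  exact allTabs_ok' _ (List.getElem_mem hi')

theorem stages_shape : (Data.stages.all fun st => st.1.all fun i => decide (i < 26)) = true ∧
    Data.stages.length = 16 := by decide +kernel

theorem evalS_named :
    evalS (fun a b : Mat => a * b) 1 Data.stages (((List.range 10).map H68.Ly.tab).map toM) =
      allTabs.map toM := by
  obtain ⟨hshape, hlen⟩ := stages_shape
  simp only [List.all_eq_true, decide_eq_true_eq] at hshape
  have key : ∀ m k, k + m = 16 → (∀ i < k, ∀ x ∈ (Data.stages.getD i ([], [], 0)).1, x < 10 + i) →
      (∀ i < 16, ∀ x ∈ (Data.stages.getD i ([], [], 0)).1, x < 10 + i) →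
      evalS (fun a b : Mat => a * b) 1 (Data.stages.drop k) ((allTabs.take (10 + k)).map toM) =
        allTabs.map toM := by
    intro m
    induction m with
    | zero =>
      intro k hk _ _
      rw [List.drop_of_length_le (by omega), List.take_of_length_le (by rw [allTabs_length]; omega)]
      rfl
    | succ m ih =>
      intro k hk _ hlt
      have hk' : k < 16 := by omega
      have hkl : k < Data.stages.length := by omega
      rw [List.drop_eq_getElem_cons hkl]
      have hst := stages_ok k hk'
      rw [stageB, List.getD_eq_getElem _ _ hkl] at hst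
      have hin : ∀ x ∈ Data.stages[k].1, x < 10 + k := by
        have := hlt k hk'
        rwa [List.getD_eq_getElem _ _ hkl] at this
      obtain ⟨ins, prog, pos, he⟩ :
          ∃ ins prog pos, Data.stages[k] = (ins, prog, pos) := ⟨_, _, _, rfl⟩
      rw [he] at hst hin ⊢
      have hspec := segB_spec (fun S hS => by
          obtain ⟨i, hi, rfl⟩ := List.mem_map.1 hS
          exact getD_ok (by have := hin i hi; omega))
        (getD_ok (by omega)) hst
      show evalS _ _ (Data.stages.drop (k + 1))
        ((allTabs.take (10 + k)).map toM ++ [(evalP (fun a b : Mat => a * b) 1 prog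
          (ins.map fun i => ((allTabs.take (10 + k)).map toM).getD i 1)).getD pos 1]) = _
      have hins : (ins.map fun i => ((allTabs.take (10 + k)).map toM).getD i 1) =
          (ins.map fun i => allTabs.getD i []).map toM := by
        rw [List.map_map]
        refine List.map_congr_left fun i hi => ?_
        have h1 := hin i hi
        have h2 : i < (allTabs.take (10 + k)).length := by
          rw [List.length_take, allTabs_length]; omega
        rw [List.getD_eq_getElem _ _ (by rwa [List.length_map]), List.getElem_map,
          List.getElem_take, Function.comp_apply, List.getD_eq_getElem]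
      rw [hins, hspec]
      have hlt' : 10 + k < allTabs.length := by rw [allTabs_length]; omega
      have htake : (allTabs.take (10 + k)).map toM ++ [toM (allTabs.getD (10 + k) [])] =
          (allTabs.take (10 + (k + 1))).map toM := by
        rw [show 10 + (k + 1) = (10 + k) + 1 from rfl, List.getD_eq_getElem _ _ hlt',
          List.take_add_one, List.getElem?_eq_getElem hlt', List.map_append]
        rfl
      rw [htake]
      exact ih (k + 1) (by omega) (fun i hi => hlt i (by omega)) hlt
  have hall : ∀ i < 16, ∀ x ∈ (Data.stages.getD i ([], [], 0)).1, x < 10 + i := by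
    have h : ((List.range 16).all fun i =>
        (Data.stages.getD i ([], [], 0)).1.all fun x => decide (x < 10 + i)) = true := by
      decide +kernel
    simp only [List.all_eq_true, List.mem_range, decide_eq_true_eq] at h
    exact h
  have h0 := key 16 0 rfl (fun i hi => absurd hi (Nat.not_lt_zero i)) hall
  rw [List.drop_zero] at h0
  rw [← h0]
  refine congrArg _ (congrArg (List.map toM) ?_)
  rw [allTabs, List.take_append_of_le_length (by simp), List.take_of_length_le (by simp)]

theorem wdC_prod (xs : ℕ → Mat) (i : ℕ) : ∀ k,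
    wdC (fun a b : Mat => a * b) 1 xs k i = ((bitsW k i).map xs).prod
  | 0 => rfl
  | k + 1 => by
      rw [wdC, bitsW, List.range_succ, List.filter_append, List.map_append, List.prod_append,
        wdC_prod xs i k, bitsW]
      cases h : Nat.testBit i k <;> simp [h]

/-- packed vectors in range -/
def canonB : Bool :=
  Data.oL.all fun v =>
    Nat.beq (H60.PackMat.pk 111 fun k => (v >>> (32 * k)) % 2 ^ 32) v &&
      (List.range 111).all fun k => decide ((v >>> (32 * k)) % 2 ^ 32 < 5)

theorem canon_ok : canonB = true := by decide +kernel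

/-- the orbit -/
def oV (i : ℕ) : Fin 111 → ZMod 5 := vecOf (Data.oL.getD i 0)

theorem rowPk_oV {i : ℕ} (hi : i < 256) : rowPk (oV i) = Data.oL.getD i 0 := by
  have hlen : i < Data.oL.length := by rw [Data.length_ok]; exact hi
  have h := List.all_eq_true.1 canon_ok _ (List.getElem_mem hlen)
  rw [oV, List.getD_eq_getElem _ _ hlen]
  rw [Bool.and_eq_true, List.all_eq_true] at h
  obtain ⟨h1, h2⟩ := h
  refine Eq.trans (H60.PackMat.pk_congr _ fun k hk => ?_) (Nat.eq_of_beq_eq_true h1)
  have h3 := of_decide_eq_true (h2 k (List.mem_range.2 hk))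
  rw [dif_pos hk, vecOf, ZMod.val_natCast, Nat.mod_eq_of_lt h3]

theorem packTab_rows {S : List (List ℕ)} (hS : tabOK S = true) :
    H68.Ly.packTab S = rowsOf (toM S) := by
  simp only [tabOK, Bool.and_eq_true, beq_iff_eq, List.all_eq_true, decide_eq_true_eq] at hS
  obtain ⟨hlen, hrow⟩ := hS
  refine List.ext_getElem (by simp [H68.Ly.packTab, rowsOf, hlen]) fun i hi _ => ?_
  have hi2 : i < S.length := by simpa [H68.Ly.packTab] using hi
  have hi3 : i < 111 := by omega
  obtain ⟨hrl, hre⟩ := hrow _ (List.getElem_mem hi2)
  simp only [H68.Ly.packTab, rowsOf, List.getElem_map, List.getElem_range, H68.Ly.packRow_eq, hrl]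
  refine H60.PackMat.pk_congr _ fun k hk => ?_
  have hk' : k < S[i].length := by omega
  rw [H68.Ly.entry_of _ hi3 hk, toM, Matrix.of_apply, ZMod.val_natCast, Nat.mod_eq_of_lt]
  · simp [hi2, hk']
  · simp [hi2, hk']; exact hre _ (List.getElem_mem hk')

/-- The certificate, coded by matrices. -/
def theCert : Cert Mat (Fin 111 → ZMod 5) where
  prog := []
  xs := Data.xsNamed
  sq k := Data.sqL.getD k 0
  pc k j := (Data.pcL.getD k []).getD j 0
  sg := Data.sgF
  o := oV
  mt := Data.mtF
  tab := Data.tabF
  steps := Data.steps
  z := Data.zIdx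
  fused := Data.fused
  prods := Data.prods

/-- the matrices of the named elements -/
noncomputable def namedM : List Mat := allTabs.map toM

theorem xs_lt : ((List.range 8).all fun k => decide (Data.xsNamed.getD k 26 < 26)) = true ∧
    (Data.fused.all fun p => decide (p.2 < 26)) = true ∧ Data.fused.length = 5 := by decide +kernel

theorem gen_eq {k : ℕ} (hk : k < 8) :
    theCert.gen 1 namedM k = toM (genT k) ∧ tabOK (genT k) = true := by
  have h := of_decide_eq_true (List.all_eq_true.1 xs_lt.1 k (List.mem_range.2 hk))
  have e : genT k = allTabs.getD (Data.xsNamed.getD k 26) [] := rfl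
  refine ⟨?_, e ▸ getD_ok h⟩
  have hl : Data.xsNamed.getD k 26 < allTabs.length := by rw [allTabs_length]; exact h
  show namedM.getD (Data.xsNamed.getD k namedM.length) 1 = _
  rw [e, namedM, List.length_map, allTabs_length,
    List.getD_eq_getElem _ _ (by rwa [List.length_map]), List.getElem_map,
    List.getD_eq_getElem _ _ hl]

theorem wdC_word {k : ℕ} (hk : k ≤ 8) (i : ℕ) :
    wdC (fun a b : Mat => a * b) 1 (theCert.gen 1 namedM) k i = ((wordT k i).map toM).prod ∧
      ∀ S ∈ wordT k i, tabOK S = true := by
  have hlt : ∀ j ∈ bitsW k i, j < 8 := fun j hj =>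
    lt_of_lt_of_le (List.mem_range.1 (List.mem_filter.1 hj).1) hk
  refine ⟨?_, fun S hS => ?_⟩
  · rw [wdC_prod, wordT, List.map_map]
    exact congrArg List.prod (List.map_congr_left fun j hj => (gen_eq (hlt j hj)).1)
  · obtain ⟨j, hj, rfl⟩ := List.mem_map.1 hS
    exact (gen_eq (hlt j hj)).2

theorem theCert_valid :
    theCert.Valid 8 (fun a b : Mat => a * b) (fun v M => Matrix.vecMul v M) 1 namedM := by
  constructor
  · exact Matrix.vecMul_one _
  · intro k hk
    obtain ⟨e, ok⟩ := gen_eq hk
    obtain ⟨ew, okw⟩ := wdC_word hk.le (Data.sqL.getD k 0)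
    have h := eqT_spec (by simp [ok]) okw (sq_ok k hk)
    simp only [List.map_cons, List.map_nil, List.prod_cons, List.prod_nil, mul_one] at h
    show theCert.gen 1 namedM k * theCert.gen 1 namedM k = _
    rw [e, h]; exact ew.symm
  · intro k hk j hj
    obtain ⟨e, ok⟩ := gen_eq hk
    obtain ⟨ej, okj⟩ := gen_eq (hj.trans hk)
    obtain ⟨ew, okw⟩ := wdC_word hk.le ((Data.pcL.getD k []).getD j 0)
    have h1 := List.all_eq_true.1 (pc_ok k hk) j (List.mem_range.2 hj)
    have h := eqT_spec (by simp [ok, okj]) (fun S hS => (List.mem_append.1 hS).elim (okw S)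
      fun h => by rw [List.mem_singleton.1 h]; exact ok) h1
    simp only [List.map_cons, List.map_nil, List.prod_cons, List.prod_nil, mul_one, List.map_append,
      List.prod_append] at h
    show theCert.gen 1 namedM k * theCert.gen 1 namedM j = wdC _ 1 _ k _ * theCert.gen 1 namedM k
    rw [e, ej, h]
    exact congrArg (· * toM (genT k)) ew.symm
  · intro i hi j hj he
    have h1 : rowPk (oV i) = rowPk (oV j) := congrArg rowPk he
    rw [rowPk_oV hi, rowPk_oV hj,
      List.getD_eq_getElem _ _ (by rw [Data.length_ok]; exact hi),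
      List.getD_eq_getElem _ _ (by rw [Data.length_ok]; exact hj)] at h1
    exact ((Data.nodup_of_distinct Data.distinct_ok).getElem_inj_iff).1 h1
  · intro k hk i hi
    have hlt := of_decide_eq_true
      (List.all_eq_true.1 (List.all_eq_true.1 Data.sg_ok k (List.mem_range.2 hk)) i
        (List.mem_range.2 hi))
    refine ⟨hlt, ?_⟩
    obtain ⟨e, ok⟩ := gen_eq hk
    have h0 := step_ok k hk
    rw [stepB, fz_eq, List.all_eq_true] at h0
    have h1 := Nat.eq_of_beq_eq_true (h0 i (List.mem_range.2 hi))
    rw [packTab_rows ok, ← List.map_singleton (f := rowsOf), ← rowPk_oV hi, push_rows,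
      List.prod_singleton] at h1
    show Matrix.vecMul (oV i) (theCert.gen 1 namedM k) = oV (Data.sgF k i)
    rw [e]
    exact rowPk_inj (h1.trans (rowPk_oV hlt).symm)
  · intro i hi
    exact Nat.eq_of_beq_eq_true (List.all_eq_true.1 Data.std_ok i (List.mem_range.2 hi))
  · intro i hi j hj
    exact Nat.eq_of_beq_eq_true
      (List.all_eq_true.1 (List.all_eq_true.1 Data.mt_ok i (List.mem_range.2 hi)) j
        (List.mem_range.2 hj))
  · intro i
    exact eq_of_beq (List.all_eq_true.1 Data.tab_ok i.1 (List.mem_range.2 i.2))
  · exact Data.fix_ok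
  · exact Data.z_ok
  · exact Data.cen_ok
  · exact Data.span_ok
  · intro p hp
    refine ⟨of_decide_eq_true (List.all_eq_true.1 Data.fused_lt p hp), ?_⟩
    obtain ⟨q, hq, rfl⟩ := List.getElem_of_mem (show p ∈ Data.fused from hp)
    have hp2 := of_decide_eq_true (List.all_eq_true.1 xs_lt.2.1 _ (List.getElem_mem hq))
    obtain ⟨ez, okz⟩ := wdC_word (le_refl 8) Data.zIdx
    obtain ⟨ep, okp⟩ := wdC_word (le_refl 8) Data.fused[q].1
    have hl : Data.fused[q].2 < allTabs.length := by rw [allTabs_length]; exact hp2
    have eg : namedM.getD Data.fused[q].2 1 = toM (allTabs.getD Data.fused[q].2 []) := by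
      rw [namedM, List.getD_eq_getElem _ _ (by rwa [List.length_map]), List.getElem_map,
        List.getD_eq_getElem _ _ hl]
    have h0 := fuse_ok q (by rw [← xs_lt.2.2]; exact hq)
    rw [fuseB, List.getD_eq_getElem _ _ hq] at h0
    have h := eqT_spec (fun S hS => (List.mem_cons.1 hS).elim (fun h => h ▸ getD_ok hp2) (okz S))
      (fun S hS => (List.mem_append.1 hS).elim (okp S)
        fun h => by rw [List.mem_singleton.1 h]; exact getD_ok hp2) h0
    simp only [List.map_cons, List.map_nil, List.prod_cons, List.prod_nil, mul_one, List.map_append,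
      List.prod_append] at h
    show namedM.getD Data.fused[q].2 1 * wdC _ 1 _ 8 Data.zIdx =
      wdC _ 1 _ 8 Data.fused[q].1 * namedM.getD Data.fused[q].2 1
    rw [eg, ez, ep]
    exact h

end H44.LyTwo
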