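import Mathlib

/-!
Boolean checks on a multiplication table of a finite 2-group given on indices.
-/

set_option autoImplicit false

namespace H44.LyTwo

/-- Count of indices below `N` with a property. -/
def cnt (N : ℕ) (P : ℕ → Bool) : ℕ := (List.range N).countP P

/-- Do two indices commute? -/
def comB (mt : ℕ → ℕ → ℕ) (i j : ℕ) : Bool := Nat.beq (mt i j) (mt j i)

/-- Number of square roots, centraliser order, and the same for the square. -/
def col1 (N : ℕ) (mt : ℕ → ℕ → ℕ) (i : ℕ) : List ℕ :=
  [cnt N (fun j => Nat.beq (mt j j) i), cnt N (comB mt i),
    cnt N (fun j => Nat.beq (mt j j) (mt i i)), cnt N (comB mt (mt i i))]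

/-- A colour: first invariants, invariants of counted partners (empty for none), their number. -/
structure Colour where
  own : List ℕ
  partner : List ℕ
  num : ℕ

/-- A step building elements fixed modulo squares. -/
inductive Step where
  | sq (a : ℕ)
  | prod (i j : ℕ)
  | round (c : Colour) (x y : ℕ)

/-- Has the index the colour? `tab` lists the first invariants. -/
def colB (N : ℕ) (mt : ℕ → ℕ → ℕ) (tab : ℕ → List ℕ) (c : Colour) (i : ℕ) : Bool :=
  (tab i == c.own) &&
    (c.partner.isEmpty || Nat.beq (cnt N (fun j => comB mt i j && (tab j == c.partner))) c.num)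

/-- Run the steps. -/
def runSteps (N : ℕ) (mt : ℕ → ℕ → ℕ) (tab : ℕ → List ℕ) : List Step → List ℕ → Option (List ℕ)
  | [], V => some V
  | Step.sq a :: rest, V =>
      if decide (a < N) then runSteps N mt tab rest (mt a a :: V) else none
  | Step.prod i j :: rest, V =>
      if V.elem i && V.elem j then runSteps N mt tab rest (mt i j :: V) else none
  | Step.round c x y :: rest, V =>
      if decide (x < N) && decide (y < N) && colB N mt tab c x && colB N mt tab c y &&
          (List.range N).all (fun z => !colB N mt tab c z ||
            (V.elem z || V.any (fun v => Nat.beq (mt x v) z) || V.any (fun v => Nat.beq (mt y v) z)))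
      then runSteps N mt tab rest (x :: y :: V) else none

/-- Products within a list of indices. -/
def runProd (mt : ℕ → ℕ → ℕ) : List (ℕ × ℕ) → List ℕ → Option (List ℕ)
  | [], K => some K
  | (i, j) :: rest, K =>
      if K.elem i && K.elem j then runProd mt rest (mt i j :: K) else none

/-- The index `z` is the only non-trivial central one. -/
def centreOK (N n : ℕ) (mt : ℕ → ℕ → ℕ) (z : ℕ) : Bool :=
  (List.range N).all fun i => Nat.beq i 0 || Nat.beq i z ||
    !((List.range n).all fun k => comB mt i (2 ^ k))

/-- The generators are fixed modulo squares. -/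
def fixOK (N n : ℕ) (mt : ℕ → ℕ → ℕ) (tab : ℕ → List ℕ) (steps : List Step) : Bool :=
  match runSteps N mt tab steps [0] with
  | none => false
  | some V => (List.range n).all fun k => V.elem (2 ^ k)

/-- The generators are products of the fused elements. -/
def spanOK (n : ℕ) (mt : ℕ → ℕ → ℕ) (fused : List ℕ) (prods : List (ℕ × ℕ)) : Bool :=
  match runProd mt prods fused with
  | none => false
  | some K => (List.range n).all fun k => K.elem (2 ^ k)

end H44.LyTwo
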