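import Cfsg.Agent.H44.LyTwo.Criterion

/-!
The criterion for a group given by a faithful coding, with certificates given by straight-line
programs in coded generators.
-/

set_option autoImplicit false
set_option linter.unusedSectionVars false

namespace H44.LyTwo

open Cfsg

/-- Run a straight-line program of products, extending the list of values. -/
def evalP {α : Type*} (mul : α → α → α) (d : α) : List (ℕ × ℕ) → List α → List α
  | [], L => L
  | (i, j) :: rest, L => evalP mul d rest (L ++ [mul (L.getD i d) (L.getD j d)])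

theorem getD_map {α β : Type*} (μ : α → β) (L : List α) (i : ℕ) (d : α) :
    (L.map μ).getD i (μ d) = μ (L.getD i d) := List.getD_map ..

theorem evalP_map {α β : Type*} (f : α → α → α) (g : β → β → β) (μ : α → β)
    (hμ : ∀ a b, μ (f a b) = g (μ a) (μ b)) (d : α) :
    ∀ (prog : List (ℕ × ℕ)) (L : List α),
      (evalP f d prog L).map μ = evalP g (μ d) prog (L.map μ)
  | [], L => rfl
  | (i, j) :: rest, L => by
      show (evalP f d rest (L ++ [_])).map μ = evalP g (μ d) rest (L.map μ ++ [_])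
      rw [evalP_map f g μ hμ d rest]
      congr 1
      rw [List.map_append, List.map_cons, List.map_nil, hμ, getD_map, getD_map]

/-- Coded version of the exponent-vector products. -/
def wdC {C : Type*} (cm : C → C → C) (one : C) (xs : ℕ → C) : ℕ → ℕ → C
  | 0, _ => one
  | k + 1, i => if Nat.testBit i k then cm (wdC cm one xs k i) (xs k) else wdC cm one xs k i

variable {G : Type*} [Group G] [Finite G] {C : Type*} {μ : G → C} {cm : C → C → C}

theorem wdC_spec (hμ : ∀ g h, μ (g * h) = cm (μ g) (μ h)) {x : ℕ → G} {xs : ℕ → C}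
    (hx : ∀ k, μ (x k) = xs k) (i : ℕ) : ∀ k, μ (wd x k i) = wdC cm (μ 1) xs k i
  | 0 => rfl
  | k + 1 => by
      show μ (wd x k i * _) = _
      rw [hμ, wdC]
      split
      · rw [wdC_spec hμ hx i k, hx]
      · rw [← hμ, mul_one, wdC_spec hμ hx i k]

/-- The data of a certificate. -/
structure Cert (C V : Type*) where
  prog : List (ℕ × ℕ)
  xs : List ℕ
  sq : ℕ → ℕ
  pc : ℕ → ℕ → ℕ
  sg : ℕ → ℕ → ℕ
  o : ℕ → V
  mt : ℕ → ℕ → ℕ
  tab : ℕ → List ℕ
  steps : List Step
  z : ℕ
  fused : List (ℕ × ℕ)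
  prods : List (ℕ × ℕ)

variable {V : Type*}

/-- Position `k` of the chain generators. -/
def Cert.gen (d : Cert C V) (one : C) (Lc : List C) (k : ℕ) : C := Lc.getD (d.xs.getD k Lc.length) one

/-- The checks on coded values. -/
structure Cert.Valid (d : Cert C V) (n : ℕ) (cm : C → C → C) (av : V → C → V) (one : C)
    (Lc : List C) : Prop where
  one_act : av (d.o 0) one = d.o 0
  sq : ∀ k < n, cm (d.gen one Lc k) (d.gen one Lc k) = wdC cm one (d.gen one Lc) k (d.sq k)
  pc : ∀ k < n, ∀ j < k, cm (d.gen one Lc k) (d.gen one Lc j) =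
    cm (wdC cm one (d.gen one Lc) k (d.pc k j)) (d.gen one Lc k)
  inj : ∀ i < 2 ^ n, ∀ j < 2 ^ n, d.o i = d.o j → i = j
  step : ∀ k < n, ∀ i < 2 ^ n, d.sg k i < 2 ^ n ∧ av (d.o i) (d.gen one Lc k) = d.o (d.sg k i)
  std : ∀ i < 2 ^ n, mv d.sg n 0 i = i
  mt : ∀ i < 2 ^ n, ∀ j < 2 ^ n, d.mt i j = mv d.sg n i j
  tab : ∀ i : Fin (2 ^ n), col1 (2 ^ n) d.mt i.1 = d.tab i.1
  fix : fixOK (2 ^ n) n d.mt d.tab d.steps = true
  z_lt : d.z < 2 ^ n
  cen : centreOK (2 ^ n) n d.mt d.z = true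
  span : spanOK n d.mt (d.fused.map Prod.fst) d.prods = true
  fused : ∀ p ∈ d.fused, p.1 < 2 ^ n ∧
    cm (Lc.getD p.2 one) (wdC cm one (d.gen one Lc) n d.z) =
      cm (wdC cm one (d.gen one Lc) n p.1) (Lc.getD p.2 one)

/-- A valid coded certificate gives simplicity of the 2-fusion system. -/
theorem isSimple_of_coded (hinj : Function.Injective μ) (hμ : ∀ g h, μ (g * h) = cm (μ g) (μ h))
    (av : V → C → V) (hav : ∀ v g h, av v (cm (μ g) (μ h)) = av (av v (μ g)) (μ h))
    (gens : List G) (d : Cert C V) {n : ℕ} (hn : n ≠ 0) {Lc : List C}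
    (hLc : evalP cm (μ 1) d.prog (gens.map μ) = Lc) (hd : d.Valid n cm av (μ 1) Lc)
    {m : ℕ} (hm : Odd m) (hcard : Nat.card G = 2 ^ n * m) (S : Sylow 2 G) :
    (groupFusionSystem (S : Subgroup G)).IsSimple 2 := by
  set L := evalP (fun a b : G => a * b) 1 d.prog gens
  have hL : L.map μ = Lc := by rw [← hLc]; exact evalP_map _ _ μ hμ 1 _ _
  have hlen : L.length = Lc.length := by rw [← hL, List.length_map]
  set x : ℕ → G := fun k => L.getD (d.xs.getD k Lc.length) 1
  have hget : ∀ i, μ (L.getD i 1) = Lc.getD i (μ 1) := fun i => by rw [← hL, getD_map]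
  have hx : ∀ k, μ (x k) = d.gen (μ 1) Lc k := fun k => hget _
  have hw : ∀ k i, μ (wd x k i) = wdC cm (μ 1) (d.gen (μ 1) Lc) k i := fun k i => wdC_spec hμ hx i k
  have R : Rels x n :=
    ⟨fun k hk => ⟨d.sq k, hinj (by rw [hμ, hx, hw, hd.sq k hk])⟩,
      fun k hk j hj => ⟨d.pc k j, hinj (by rw [hμ, hμ, hx, hx, hw, hd.pc k hk j hj])⟩⟩
  have O : Regular x n (fun v g => av v (μ g)) d.sg d.o :=
    { act_one := hd.one_act
      act_mul := fun v g h => by show av v (μ (g * h)) = _; rw [hμ, hav]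
      inj := hd.inj
      step := fun k hk i hi => ⟨(hd.step k hk i hi).1, by
        show av (d.o i) (μ (x k)) = _
        rw [hx]
        exact (hd.step k hk i hi).2⟩
      std := hd.std }
  set T := Table.mk' R O hd.mt hd.tab
  refine isSimple_of_table T hn hm hcard hd.fix hd.z_lt hd.cen hd.span ?_ S
  intro y hy
  obtain ⟨p, hp, rfl⟩ := List.mem_map.mp hy
  obtain ⟨hlt, he⟩ := hd.fused p hp
  refine ⟨hlt, L.getD p.2 1, ?_⟩
  have h1 : (T.el ⟨d.z, hd.z_lt⟩ : G) = wd x n d.z := rfl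
  have h2 : (T.el ⟨p.1, hlt⟩ : G) = wd x n p.1 := rfl
  rw [h1, h2, mul_inv_eq_iff_eq_mul]
  exact hinj (by rw [hμ, hμ, hget, hw, hw, he])

end H44.LyTwo
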