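import Cfsg.Agent.H44.LyTwo.Chain
import Cfsg.Agent.H44.LyTwo.Checks
import Cfsg.Agent.H87.TwoSylowSimple

/-!
Simplicity of the 2-fusion system from a table of a Sylow 2-subgroup and fused elements.
-/

set_option autoImplicit false
set_option linter.unusedSectionVars false
set_option linter.style.haveILetI false

namespace H44.LyTwo

open Cfsg H87

theorem cnt_eq (N : ℕ) (P : ℕ → Bool) : cnt N P = Nat.card {i : Fin N // P i = true} := by
  have h1 : ((Finset.range N).filter fun i => P i = true).card = cnt N P := by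
    rw [cnt, List.countP_eq_length_filter, Finset.card_def, Finset.filter_val, Finset.range_val,
      Multiset.range, Multiset.filter_coe, Multiset.coe_card]
    congr 1
    exact List.filter_congr fun i _ => by simp
  rw [← h1, ← Nat.card_eq_finsetCard]
  exact Nat.card_congr
    { toFun := fun i => ⟨⟨i.1, Finset.mem_range.1 (Finset.mem_filter.1 i.2).1⟩,
        (Finset.mem_filter.1 i.2).2⟩
      invFun := fun i => ⟨i.1.1, Finset.mem_filter.2 ⟨Finset.mem_range.2 i.1.2, i.2⟩⟩
      left_inv := fun _ => rfl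
      right_inv := fun _ => rfl }

section Colours

variable {S : Type*} [Group S]

/-- Number of square roots. -/
noncomputable def rtS (s : S) : ℕ := Nat.card {t : S // t * t = s}

/-- Order of the centraliser. -/
noncomputable def cenS (s : S) : ℕ := Nat.card {t : S // s * t = t * s}

/-- The first invariants. -/
noncomputable def col1S (s : S) : List ℕ := [rtS s, cenS s, rtS (s * s), cenS (s * s)]

/-- The colour, semantically. -/
def colS (c : Colour) (s : S) : Prop :=
  col1S s = c.own ∧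
    (c.partner = [] ∨ Nat.card {t : S // s * t = t * s ∧ col1S t = c.partner} = c.num)

theorem col1S_map (φ : MulAut S) (s : S) : col1S (φ s) = col1S s := by
  have h1 : ∀ a : S, rtS (φ a) = rtS a := fun a =>
    (Nat.card_congr (φ.toEquiv.subtypeEquiv fun t => by simp [← map_mul])).symm
  have h2 : ∀ a : S, cenS (φ a) = cenS a := fun a =>
    (Nat.card_congr (φ.toEquiv.subtypeEquiv fun t => by simp [← map_mul])).symm
  rw [col1S, col1S, ← map_mul, h1, h1, h2, h2]

theorem colS_map (φ : MulAut S) (c : Colour) {s : S} (h : colS c s) : colS c (φ s) := by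
  refine ⟨(col1S_map φ s).trans h.1, h.2.imp_right fun h2 => ?_⟩
  rw [← h2]
  exact (Nat.card_congr (φ.toEquiv.subtypeEquiv fun t => by simp [← map_mul, col1S_map])).symm

end Colours

variable {G : Type*} [Group G] [Finite G]

/-- A certified table of a chain. -/
structure Table (x : ℕ → G) (n : ℕ) (mt : ℕ → ℕ → ℕ) (tab : ℕ → List ℕ) where
  el : Fin (2 ^ n) ≃ chain x n
  gen : ∀ k, ∀ h : k < n, ((el ⟨2 ^ k, Nat.pow_lt_pow_right Nat.one_lt_two h⟩ : chain x n) : G) = x k
  el_zero : el ⟨0, Nat.two_pow_pos n⟩ = 1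
  mul : ∀ i j, ∀ h : mt i.1 j.1 < 2 ^ n, el i * el j = el ⟨mt i.1 j.1, h⟩
  lt : ∀ i < 2 ^ n, ∀ j < 2 ^ n, mt i j < 2 ^ n
  tab_eq : ∀ i : Fin (2 ^ n), col1 (2 ^ n) mt i.1 = tab i.1

theorem wd_two_pow (x : ℕ → G) {k : ℕ} : ∀ n, k < n → wd x n (2 ^ k) = x k
  | 0, h => absurd h (Nat.not_lt_zero _)
  | n + 1, h => by
      show wd x n (2 ^ k) * _ = x k
      rcases Nat.lt_succ_iff_lt_or_eq.mp h with h | rfl
      · rw [wd_two_pow x n h, Nat.testBit_two_pow_of_ne (Nat.ne_of_lt h), if_neg Bool.false_ne_true,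
          mul_one]
      · rw [Nat.testBit_two_pow_self, if_pos rfl, wd_congr x k (i' := 0) fun j hj => by
          simp [Nat.testBit_two_pow_of_ne (Nat.ne_of_gt hj)]]
        have : ∀ m, wd x m 0 = (1 : G) := by
          intro m
          induction m with
          | zero => rfl
          | succ m ih => simp [wd, ih]
        rw [this, one_mul]

/-- A regular orbit and checked tables give a certified table. -/
noncomputable def Table.mk' {x : ℕ → G} {n : ℕ} {α : Type*} {act : α → G → α} {sg : ℕ → ℕ → ℕ}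
    {o : ℕ → α} {mt : ℕ → ℕ → ℕ} {tab : ℕ → List ℕ} (R : Rels x n) (O : Regular x n act sg o)
    (hmt : ∀ i < 2 ^ n, ∀ j < 2 ^ n, mt i j = mv sg n i j)
    (htab : ∀ i : Fin (2 ^ n), col1 (2 ^ n) mt i.1 = tab i.1) : Table x n mt tab where
  el := Equiv.ofBijective _ (el_bijective R O)
  gen k h := wd_two_pow x n h
  el_zero := H44.LyTwo.el_zero (x := x) (n := n)
  mul i j h := by
    show H44.LyTwo.el x n i * H44.LyTwo.el x n j = H44.LyTwo.el x n ⟨mt i.1 j.1, h⟩
    rw [el_mul R O]
    congr 1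
    exact Fin.ext (hmt _ i.isLt _ j.isLt).symm
  lt i hi j hj := by
    rw [hmt i hi j hj]
    exact mv_lt O hi j n le_rfl
  tab_eq := htab

variable {x : ℕ → G} {n : ℕ} {mt : ℕ → ℕ → ℕ} {tab : ℕ → List ℕ}

theorem Table.isPGroup (T : Table x n mt tab) : IsPGroup 2 (chain x n) :=
  IsPGroup.of_card (n := n) (by rw [← Nat.card_congr T.el, Nat.card_fin])

theorem Table.card (T : Table x n mt tab) : Nat.card (chain x n) = 2 ^ n := by
  rw [← Nat.card_congr T.el, Nat.card_fin]

theorem Table.sq_iff (T : Table x n mt tab) (i j : Fin (2 ^ n)) :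
    T.el j * T.el j = T.el i ↔ Nat.beq (mt j.1 j.1) i.1 = true := by
  rw [T.mul j j (T.lt _ j.2 _ j.2), T.el.injective.eq_iff, Fin.ext_iff, Nat.beq_eq]

theorem Table.comm_iff (T : Table x n mt tab) (i j : Fin (2 ^ n)) :
    T.el i * T.el j = T.el j * T.el i ↔ comB mt i.1 j.1 = true := by
  rw [T.mul i j (T.lt _ i.2 _ j.2), T.mul j i (T.lt _ j.2 _ i.2), T.el.injective.eq_iff, Fin.ext_iff,
    comB, Nat.beq_eq]

theorem Table.col1_eq (T : Table x n mt tab) (i : Fin (2 ^ n)) : col1S (T.el i) = tab i.1 := by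
  rw [← T.tab_eq i, col1, col1S, cnt_eq, cnt_eq, cnt_eq, cnt_eq]
  have h1 : ∀ a : Fin (2 ^ n), rtS (T.el a) =
      Nat.card {j : Fin (2 ^ n) // Nat.beq (mt j.1 j.1) a.1 = true} := fun a =>
    (Nat.card_congr (T.el.subtypeEquiv fun j => (T.sq_iff a j).symm)).symm
  have h2 : ∀ a : Fin (2 ^ n), cenS (T.el a) =
      Nat.card {j : Fin (2 ^ n) // comB mt a.1 j.1 = true} := fun a =>
    (Nat.card_congr (T.el.subtypeEquiv fun j => (T.comm_iff a j).symm)).symm
  rw [T.mul i i (T.lt _ i.2 _ i.2), h1, h1, h2, h2]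

theorem Table.colB_iff (T : Table x n mt tab) (c : Colour) (i : Fin (2 ^ n)) :
    colB (2 ^ n) mt tab c i.1 = true ↔ colS c (T.el i) := by
  rw [colB, Bool.and_eq_true, Bool.or_eq_true, beq_iff_eq, colS, T.col1_eq i, List.isEmpty_iff,
    Nat.beq_eq, cnt_eq]
  refine and_congr_right fun _ => or_congr_right ?_
  have : Nat.card {j : Fin (2 ^ n) // (comB mt i.1 j.1 && (tab j.1 == c.partner)) = true} =
      Nat.card {t : chain x n // T.el i * t = t * T.el i ∧ col1S t = c.partner} :=
    Nat.card_congr (T.el.subtypeEquiv fun j => by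
      rw [Bool.and_eq_true, beq_iff_eq, T.comm_iff, T.col1_eq])
  rw [this]

theorem Table.runSteps_spec (T : Table x n mt tab) {φ : MulAut (chain x n)} {m : ℕ} (hm : Odd m)
    (hφ : φ ^ m = 1) : ∀ (steps : List Step) (V W : List ℕ),
    runSteps (2 ^ n) mt tab steps V = some W →
    (∀ v ∈ V, ∃ h : v < 2 ^ n, T.el ⟨v, h⟩ ∈ fixMod φ) →
    ∀ v ∈ W, ∃ h : v < 2 ^ n, T.el ⟨v, h⟩ ∈ fixMod φ := by
  intro steps
  induction steps with
  | nil => intro V W h hV; simp only [runSteps, Option.some.injEq] at h; exact h ▸ hV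
  | cons s rest ih =>
    intro V W h hV
    cases s with
    | sq a =>
      rw [runSteps] at h
      split_ifs at h with hc
      refine ih _ _ h fun v hv => ?_
      rcases List.mem_cons.mp hv with rfl | hv
      · have ha : a < 2 ^ n := of_decide_eq_true hc
        refine ⟨T.lt _ ha _ ha, ?_⟩
        rw [← T.mul ⟨a, ha⟩ ⟨a, ha⟩ (T.lt _ ha _ ha), ← pow_two]
        exact sqSubgroup_le_fixMod φ (sq_mem_sqSubgroup _)
      · exact hV v hv
    | prod i j =>
      rw [runSteps] at h
      split_ifs at h with hc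
      rw [Bool.and_eq_true] at hc
      refine ih _ _ h fun v hv => ?_
      rcases List.mem_cons.mp hv with rfl | hv
      · obtain ⟨hi, hi'⟩ := hV i (List.elem_iff.mp hc.1)
        obtain ⟨hj, hj'⟩ := hV j (List.elem_iff.mp hc.2)
        refine ⟨T.lt _ hi _ hj, ?_⟩
        rw [← T.mul ⟨i, hi⟩ ⟨j, hj⟩ (T.lt _ hi _ hj)]
        exact mul_mem hi' hj'
      · exact hV v hv
    | round c a b =>
      rw [runSteps] at h
      split_ifs at h with hc
      simp only [Bool.and_eq_true, List.all_eq_true, Bool.or_eq_true, Bool.not_eq_true',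
        decide_eq_true_eq, List.any_eq_true, List.mem_range] at hc
      obtain ⟨⟨⟨⟨ha, hb⟩, hac⟩, hbc⟩, hall⟩ := hc
      have hboth := mem_fixMod_of_two_cosets hm hφ (colS c) (fun z hz => colS_map φ c hz)
        (T.el ⟨a, ha⟩) (T.el ⟨b, hb⟩) ((T.colB_iff c ⟨a, ha⟩).mp hac)
        ((T.colB_iff c ⟨b, hb⟩).mp hbc) ?_
      · refine ih _ _ h fun v hv => ?_
        rcases List.mem_cons.mp hv with rfl | hv
        · exact ⟨ha, hboth.1⟩
        rcases List.mem_cons.mp hv with rfl | hv
        · exact ⟨hb, hboth.2⟩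
        · exact hV v hv
      · intro z hz
        obtain ⟨p, rfl⟩ := T.el.surjective z
        have hp : colB (2 ^ n) mt tab c p.1 = true := (T.colB_iff c p).mpr hz
        have step : ∀ w, ∀ hw : w < 2 ^ n, (∃ v ∈ V, Nat.beq (mt w v) p.1 = true) →
            (T.el ⟨w, hw⟩)⁻¹ * T.el p ∈ fixMod φ := by
          rintro w hw ⟨v, hv, he⟩
          obtain ⟨hv', hv''⟩ := hV v hv
          have e : T.el ⟨w, hw⟩ * T.el ⟨v, hv'⟩ = T.el p := by
            rw [T.mul _ _ (T.lt _ hw _ hv')]
            congr 1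
            exact Fin.ext (Nat.eq_of_beq_eq_true he)
          rw [← e, inv_mul_cancel_left]
          exact hv''
        rcases hall p.1 p.2 with h' | (h' | h') | h'
        · rw [hp] at h'; exact Bool.noConfusion h'
        · obtain ⟨hv', hv''⟩ := hV _ (List.elem_iff.mp h')
          exact Or.inl hv''
        · exact Or.inr (Or.inl (step a ha h'))
        · exact Or.inr (Or.inr (step b hb h'))

theorem Table.oddTrivial (T : Table x n mt tab) {steps : List Step}
    (h : fixOK (2 ^ n) n mt tab steps = true) : OddNormalizerTrivial (chain x n) := by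
  intro g hg m hm hgm y hy
  set φ : MulAut (chain x n) := (chain x n).normalizerMonoidHom ⟨g, hg⟩ with hφdef
  have hφ : φ ^ m = 1 := by
    rw [hφdef, ← map_pow, show (⟨g, hg⟩ : Subgroup.normalizer ((chain x n) : Set G)) ^ m = 1 from
      Subtype.ext (by simpa using hgm), map_one]
  rw [fixOK] at h
  split at h
  · exact Bool.noConfusion h
  · rename_i W hW
    simp only [List.all_eq_true, List.mem_range] at h
    have hfix := T.runSteps_spec hm hφ steps [0] W hW (fun v hv => by
      rw [List.mem_singleton.mp hv]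
      exact ⟨Nat.two_pow_pos n, by rw [T.el_zero]; exact one_mem _⟩)
    have hle : chain x n ≤ (fixMod φ).map (chain x n).subtype := by
      refine (Subgroup.closure_le _).mpr ?_
      rintro _ ⟨k, hk, rfl⟩
      obtain ⟨hlt, hmem⟩ := hfix (2 ^ k) (List.elem_iff.mp (h k hk))
      exact ⟨_, hmem, T.gen k hk⟩
    have htop : fixMod φ = ⊤ := by
      rw [eq_top_iff]
      intro w _
      obtain ⟨τ, hτ, he⟩ := hle w.2
      rwa [show w = τ from Subtype.ext he.symm]
    exact congrArg Subtype.val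
      (DFunLike.congr_fun (eq_one_of_fixMod_eq_top T.isPGroup hm hφ htop) ⟨y, hy⟩)

theorem Table.noClosed (T : Table x n mt tab) {z : ℕ} (hzlt : z < 2 ^ n)
    (hcen : centreOK (2 ^ n) n mt z = true) {fused : List ℕ} {prods : List (ℕ × ℕ)}
    (hspan : spanOK n mt fused prods = true)
    (hfus : ∀ y ∈ fused, ∃ h : y < 2 ^ n, ∃ g : G,
      g * (T.el ⟨z, hzlt⟩ : G) * g⁻¹ = (T.el ⟨y, h⟩ : G)) :
    NoClosedSubgroup (chain x n) := by
  haveI : Fact (Nat.Prime 2) := ⟨Nat.prime_two⟩
  set K := chain x n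
  intro U hUK hU
  by_cases hbot : U = ⊥
  · exact Or.inl hbot
  refine Or.inr (le_antisymm hUK ?_)
  have hK : IsPGroup 2 K := T.isPGroup
  letI : MulAction K U :=
    { smul := fun k t => ⟨(k : G) * t * (k : G)⁻¹, hU t t.2 k
        (K.mul_mem (K.mul_mem k.2 (hUK t.2)) (K.inv_mem k.2))⟩
      one_smul := fun t => Subtype.ext (by show (1 : G) * t * (1 : G)⁻¹ = t; simp)
      mul_smul := fun a b t => Subtype.ext (by
        show ((a : G) * b) * t * ((a : G) * b)⁻¹ = (a : G) * ((b : G) * t * (b : G)⁻¹) * (a : G)⁻¹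
        group) }
  have hUp : IsPGroup 2 U := hK.to_le hUK
  haveI : Nontrivial U := (Subgroup.nontrivial_iff_ne_bot U).2 hbot
  obtain ⟨m, hm, hUc⟩ := hUp.nontrivial_iff_card.1 this
  obtain ⟨t, ht, ht1⟩ := hK.exists_fixed_point_of_prime_dvd_card_of_fixed_point U
    (by rw [hUc]; exact dvd_pow_self 2 (by omega)) (a := (1 : U))
    (fun k => Subtype.ext (by show (k : G) * 1 * (k : G)⁻¹ = 1; simp))
  obtain ⟨p, hp⟩ := T.el.surjective ⟨t, hUK t.2⟩
  have hzU : (T.el ⟨z, hzlt⟩ : G) ∈ U := by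
    simp only [centreOK, List.all_eq_true, List.mem_range, Bool.or_eq_true, Bool.not_eq_true',
      List.all_eq_false] at hcen
    rcases hcen p.1 p.2 with (h1 | h1) | h1
    · exfalso
      apply ht1
      have e : p = ⟨0, Nat.two_pow_pos n⟩ := Fin.ext (Nat.eq_of_beq_eq_true h1)
      have h' : (T.el p : G) = t := congrArg Subtype.val hp
      rw [e, T.el_zero] at h'
      exact Subtype.ext h'
    · rw [show (⟨z, hzlt⟩ : Fin (2 ^ n)) = p from Fin.ext (Nat.eq_of_beq_eq_true h1).symm, hp]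
      exact t.2
    · exfalso
      obtain ⟨k, hk, hnc⟩ := h1
      apply hnc
      refine (T.comm_iff p ⟨2 ^ k, Nat.pow_lt_pow_right Nat.one_lt_two hk⟩).mp ?_
      apply Subtype.ext
      rw [Subgroup.coe_mul, Subgroup.coe_mul, hp, T.gen k hk]
      have h3 : x k * (t : G) * (x k)⁻¹ = t := congrArg Subtype.val (ht ⟨x k, gen_mem_chain x hk⟩)
      exact (mul_inv_eq_iff_eq_mul.1 h3).symm
  have hrun : ∀ (l : List (ℕ × ℕ)) (V W : List ℕ), runProd mt l V = some W →
      (∀ v ∈ V, ∃ h : v < 2 ^ n, (T.el ⟨v, h⟩ : G) ∈ U) →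
      ∀ v ∈ W, ∃ h : v < 2 ^ n, (T.el ⟨v, h⟩ : G) ∈ U := by
    intro l
    induction l with
    | nil => intro V W hW hV; simp only [runProd, Option.some.injEq] at hW; exact hW ▸ hV
    | cons s rest ih =>
      intro V W hW hV
      obtain ⟨i, j⟩ := s
      rw [runProd] at hW
      split_ifs at hW with hc
      rw [Bool.and_eq_true] at hc
      refine ih _ _ hW fun v hv => ?_
      rcases List.mem_cons.mp hv with rfl | hv
      · obtain ⟨hi, hi'⟩ := hV i (List.elem_iff.mp hc.1)
        obtain ⟨hj, hj'⟩ := hV j (List.elem_iff.mp hc.2)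
        refine ⟨T.lt _ hi _ hj, ?_⟩
        rw [← T.mul ⟨i, hi⟩ ⟨j, hj⟩ (T.lt _ hi _ hj), Subgroup.coe_mul]
        exact U.mul_mem hi' hj'
      · exact hV v hv
  rw [spanOK] at hspan
  split at hspan
  · exact Bool.noConfusion hspan
  · rename_i W hW
    simp only [List.all_eq_true, List.mem_range] at hspan
    have hin := hrun prods fused W hW fun y hy => by
      obtain ⟨hlt, g, hg⟩ := hfus y hy
      refine ⟨hlt, ?_⟩
      rw [← hg]
      exact hU _ hzU g (by rw [hg]; exact (T.el ⟨y, hlt⟩).2)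
    refine (Subgroup.closure_le _).mpr ?_
    rintro _ ⟨k, hk, rfl⟩
    obtain ⟨hlt, hmem⟩ := hin (2 ^ k) (List.elem_iff.mp (hspan k hk))
    rwa [T.gen k hk] at hmem

/-- The assembled criterion. -/
theorem isSimple_of_table (T : Table x n mt tab) (hn : n ≠ 0) {m : ℕ} (hm : Odd m)
    (hcard : Nat.card G = 2 ^ n * m) {steps : List Step}
    (hfix : fixOK (2 ^ n) n mt tab steps = true) {z : ℕ} (hzlt : z < 2 ^ n)
    (hcen : centreOK (2 ^ n) n mt z = true) {fused : List ℕ} {prods : List (ℕ × ℕ)}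
    (hspan : spanOK n mt fused prods = true)
    (hfus : ∀ y ∈ fused, ∃ h : y < 2 ^ n, ∃ g : G,
      g * (T.el ⟨z, hzlt⟩ : G) * g⁻¹ = (T.el ⟨y, h⟩ : G))
    (S : Sylow 2 G) : (groupFusionSystem (S : Subgroup G)).IsSimple 2 := by
  have hidx : (chain x n).index = m := by
    have := Subgroup.card_mul_index (chain x n)
    rw [T.card, hcard] at this
    exact Nat.eq_of_mul_eq_mul_left (by positivity) this
  refine isSimple_two_of_sylow _ T.isPGroup (hidx ▸ hm) ?_ (T.oddTrivial hfix)
    (T.noClosed hzlt hcen hspan hfus) S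
  intro hbot
  have := T.card
  rw [hbot, Subgroup.card_bot] at this
  exact hn (Nat.pow_right_injective le_rfl (this.symm.trans (pow_zero 2).symm))

end H44.LyTwo
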