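import Cfsg.Agent.H44.LyTwo.Main
import Cfsg.Agent.H68.Ly.RepHom
import Cfsg.Prelude.Def_Sporadic

/-!
The presented Lyons group: its ten distinguished elements in the 111-dimensional representation,
and simplicity of its 2-fusion system once it is known to be simple of the Lyons order.
-/

set_option autoImplicit false
set_option maxRecDepth 100000

namespace H44.LyTwo

open Cfsg
open H68.Ly (Mat toM)

/-- a distinguished element -/
noncomputable def lyGen (g : Cfsg.Spor.Ly.Gen) : Cfsg.Spor.Ly := PresentedGroup.of g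

/-- `a, b, c, d, z` and their inverses -/
noncomputable def lyGens : List Cfsg.Spor.Ly :=
  [lyGen .a, lyGen .b, lyGen .c, lyGen .d, lyGen .z,
    (lyGen .a)⁻¹, (lyGen .b)⁻¹, (lyGen .c)⁻¹, (lyGen .d)⁻¹, (lyGen .z)⁻¹]

theorem rep_gen (g : Cfsg.Spor.Ly.Gen) : H68.Ly.rep (lyGen g) = H68.Ly.img g :=
  PresentedGroup.toGroup.of _

theorem rep_gen_inv (g : Cfsg.Spor.Ly.Gen) (k : ℕ) (hk : k < 5) (hg : H68.Ly.genWord g = [k]) :
    ((H68.Ly.rep (lyGen g) : GL (Fin 111) (ZMod 5)) : Mat) = toM (H68.Ly.tab k) ∧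
      ((H68.Ly.rep (lyGen g)⁻¹ : GL (Fin 111) (ZMod 5)) : Mat) = toM (H68.Ly.tab (k + 5)) := by
  have h : H68.Ly.rep (lyGen g) = H68.Ly.U k := by
    rw [rep_gen, H68.Ly.img, hg]
    simp [H68.Ly.W]
  refine ⟨by rw [h, H68.Ly.coe_U (by omega)], ?_⟩
  rw [map_inv, h, ← H68.Ly.U_inv (by omega), H68.Ly.coe_U (H68.Ly.invLetter_lt (by omega)),
    H68.Ly.invLetter, if_pos hk]

theorem lyGens_map :
    lyGens.map (fun g => (H68.Ly.rep g : Mat)) = ((List.range 10).map H68.Ly.tab).map toM := by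
  obtain ⟨a, a'⟩ := rep_gen_inv .a 0 (by norm_num) rfl
  obtain ⟨b, b'⟩ := rep_gen_inv .b 1 (by norm_num) rfl
  obtain ⟨c, c'⟩ := rep_gen_inv .c 2 (by norm_num) rfl
  obtain ⟨d, d'⟩ := rep_gen_inv .d 3 (by norm_num) rfl
  obtain ⟨z, z'⟩ := rep_gen_inv .z 4 (by norm_num) rfl
  rw [show (List.range 10) = [0, 1, 2, 3, 4, 5, 6, 7, 8, 9] from rfl]
  simp only [lyGens, List.map_cons, List.map_nil, a, a', b, b', c, c', d, d', z, z']

theorem rep_injective [IsSimpleGroup Cfsg.Spor.Ly] : Function.Injective H68.Ly.rep := by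
  refine (MonoidHom.ker_eq_bot_iff _).mp ?_
  refine (H68.Ly.rep.normal_ker.eq_bot_or_eq_top).resolve_right fun h => ?_
  exact H68.Ly.rep_a_ne_one (MonoidHom.mem_ker.mp (h.symm ▸ Subgroup.mem_top _))

theorem two_pow_dvd_card [Finite Cfsg.Spor.Ly] : 256 ∣ Nat.card Cfsg.Spor.Ly :=
  dvd_card H68.Ly.rep lyGens lyGens_map

/-- With the order and simplicity of the presented group, its 2-fusion system is simple. -/
theorem isSimple_of_isLy (hLy : Cfsg.IsLy Cfsg.Spor.Ly) {G : Type*} [Group G] [Finite G]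
    (hG : Cfsg.Spor.IsoLy G) (S : Sylow 2 G) :
    (groupFusionSystem (S : Subgroup G)).IsSimple 2 := by
  obtain ⟨hsimple, hcard⟩ := hLy
  obtain ⟨e⟩ := hG
  haveI := hsimple
  refine isSimple_of_rep (H68.Ly.rep.comp e.toMonoidHom) (rep_injective.comp e.injective)
    (lyGens.map e.symm) ?_ (m := 202207730484375) (by decide) ?_ S
  · rw [List.map_map, ← lyGens_map]
    refine List.map_congr_left fun g _ => ?_
    simp
  · rw [Nat.card_congr e.toEquiv, hcard]

end H44.LyTwo
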