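import Cfsg.Agent.H44.LyTwo.SylowTwo

/-!
The 2-fusion system of a group of Lyons order generated inside the 111-dimensional representation.
-/

set_option autoImplicit false
set_option maxRecDepth 100000

namespace H44.LyTwo

open Cfsg
open H68.Ly (Mat toM tabOK)

/-- A finite group with a faithful representation sending some elements to the ten matrices, of
order `256` times an odd number, has simple 2-fusion system. -/
theorem isSimple_of_rep {G : Type*} [Group G] [Finite G] (ρ : G →* GL (Fin 111) (ZMod 5))
    (hinj : Function.Injective ρ) (gens : List G)
    (hgens : gens.map (fun g => (ρ g : Mat)) = ((List.range 10).map H68.Ly.tab).map toM)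
    {m : ℕ} (hm : Odd m) (hcard : Nat.card G = 256 * m) (S : Sylow 2 G) :
    (groupFusionSystem (S : Subgroup G)).IsSimple 2 := by
  refine isSimple_of_coded (μ := fun g => (ρ g : Mat)) (cm := fun a b : Mat => a * b)
    (fun g h e => hinj (Units.ext e)) (fun g h => by rw [map_mul, Units.val_mul])
    (fun v M => Matrix.vecMul v M) (fun v g h => (Matrix.vecMul_vecMul _ _ _).symm)
    (namedG gens) theCert (n := 8) (by norm_num) rfl ?_ hm hcard S
  rw [coe_one', show evalP (fun a b : Mat => a * b) 1 theCert.prog
    ((namedG gens).map fun g => (ρ g : Mat)) = (namedG gens).map fun g => (ρ g : Mat) from rfl,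
    namedG_map ρ gens hgens]
  exact theCert_valid

end H44.LyTwo
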