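import Cfsg.Agent.H68.Ly.Fast
import Cfsg.Agent.H44.LyTwo.Coded

/-!
Packed products, vector images and straight-line programs for the 111-dimensional matrices.
-/

set_option autoImplicit false

namespace H44.LyTwo

open H60.PackMat (pk pk_lt pk_congr pk_inj)
open H68.Ly (Mat fz fz_eq mask redWith dot entry rowsOf toM tabOK)

/-- `∑ vᵢ Yᵢ` for packed `v` -/
noncomputable def dotP (Y : List ℕ) : ℕ → ℕ :=
  List.rec (motive := fun _ => ℕ → ℕ) (fun _ => 0)
    (fun y _ ih v => fz v fun v => Nat.add (Nat.mul (Nat.land v 4294967295) y) (ih (Nat.shiftRight v 32))) Y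

/-- bit mask of one row -/
def rmask : ℕ := 2 ^ (32 * 111) - 1

/-- the rows of a packed matrix -/
noncomputable def rowsK (rm Y : ℕ) (n : ℕ) : ℕ → (List ℕ → Bool) → Bool :=
  Nat.rec (motive := fun _ => ℕ → (List ℕ → Bool) → Bool) (fun _ k => k [])
    (fun _ ih off k => fz (Nat.land (Nat.shiftRight Y off) rm) fun r =>
      ih (Nat.add off 3552) fun l => k (r :: l)) n

/-- the product of two packed matrices -/
noncomputable def mulN (cm rm m X Y : ℕ) (k : ℕ → Bool) : Bool :=
  rowsK rm Y 111 0 fun R => H68.Ly.sumK cm X R 0 0 fun Z => fz (redWith m Z) k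

/-- packed matrices from tables -/
noncomputable def baseN (cm m i : ℕ) (tabs : List (List (List ℕ))) (k : List ℕ → Bool) : Bool :=
  List.rec (motive := fun _ => (List ℕ → Bool) → Bool) (fun k => k [])
    (fun S _ ih k => H68.Ly.runR cm m [H68.Ly.packTab S] i fun X => ih fun l => k (X :: l)) tabs k

/-- run a straight-line program of products -/
noncomputable def progN (cm rm m i : ℕ) (prog : List (ℕ × ℕ)) (L : List ℕ) (k : List ℕ → Bool) :
    Bool :=
  List.rec (motive := fun _ => List ℕ → Bool) k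
    (fun p _ ih L => mulN cm rm m (L.getD p.1 i) (L.getD p.2 i) fun Z => ih (L ++ [Z])) prog L

/-- the whole-matrix mask for reductions -/
def bigMask : ℕ := H60.PackMat.rep (111 * 111) 65535

/-- a program ends with the given matrix -/
noncomputable def segB (ins : List (List (List ℕ))) (prog : List (ℕ × ℕ)) (pos : ℕ)
    (out : List (List ℕ)) : Bool :=
  fz H68.Ly.cmask fun cm => fz rmask fun rm => fz bigMask fun m => fz H68.Ly.idN fun i =>
    baseN cm m i ins fun L => progN cm rm m i prog L fun L' =>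
      H68.Ly.runR cm m [H68.Ly.packTab out] i fun O => Nat.beq (L'.getD pos i) O

/-- two words in tables give the same product -/
noncomputable def eqT (w1 w2 : List (List (List ℕ))) : Bool :=
  fz H68.Ly.cmask fun cm => fz bigMask fun m => fz H68.Ly.idN fun i =>
    H68.Ly.runR cm m (w1.map H68.Ly.packTab) i fun A =>
      H68.Ly.runR cm m (w2.map H68.Ly.packTab) i fun B => Nat.beq A B

/-- image of a packed vector under a list of matrices, first matrix first -/
noncomputable def push (m : ℕ) (w : List (List ℕ)) : ℕ → ℕ :=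
  List.rec (motive := fun _ => ℕ → ℕ) (fun v => v)
    (fun Y _ ih v => fz (redWith m (dotP Y v)) ih) w

/-- the vector with given packed fields -/
def vecOf (v : ℕ) : Fin 111 → ZMod 5 := fun i => ((v >>> (32 * i.val) % 2 ^ 32 : ℕ) : ZMod 5)

/-- packed fields of a vector -/
def rowPk (u : Fin 111 → ZMod 5) : ℕ := pk 111 fun k => if h : k < 111 then (u ⟨k, h⟩).val else 0

theorem val_lt5 (u : Fin 111 → ZMod 5) (k : ℕ) :
    (if h : k < 111 then (u ⟨k, h⟩).val else 0) < 5 := by
  split
  · exact ZMod.val_lt _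
  · norm_num

theorem rowPk_inj {u u' : Fin 111 → ZMod 5} (h : rowPk u = rowPk u') : u = u' := by
  funext i
  have h2 := pk_inj 111 (fun k _ => (val_lt5 u k).trans (by norm_num))
    (fun k _ => (val_lt5 u' k).trans (by norm_num)) h i.val i.2
  simp only [dif_pos i.2] at h2
  exact ZMod.val_injective 5 h2

theorem dotP_cons (y : ℕ) (t : List ℕ) (v : ℕ) :
    dotP (y :: t) v = (v &&& 4294967295) * y + dotP t (v >>> 32) := by
  show fz v (fun v => Nat.add (Nat.mul (Nat.land v 4294967295) y) (dotP t (Nat.shiftRight v 32))) = _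
  rw [fz_eq]
  rfl

theorem dotP_eq : ∀ (Y : List ℕ) (f : ℕ → ℕ), (∀ k < Y.length, f k < 2 ^ 32) →
    dotP Y (pk Y.length f) = dot ((List.range Y.length).map f) Y := by
  intro Y
  induction Y with
  | nil => intro f _; rfl
  | cons y t ih =>
    intro f hf
    have h0 : f 0 < 2 ^ 32 := hf 0 (by simp)
    have hpk : pk (t.length + 1) f = f 0 + 2 ^ 32 * pk t.length (fun k => f (k + 1)) := rfl
    rw [List.length_cons, List.range_succ_eq_map, List.map_cons, List.map_map, H68.Ly.dot_cons,
      dotP_cons, hpk]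
    have e1 : (f 0 + 2 ^ 32 * pk t.length fun k => f (k + 1)) &&& 4294967295 = f 0 := by
      rw [show (4294967295 : ℕ) = 2 ^ 32 - 1 from rfl, Nat.and_two_pow_sub_one_eq_mod,
        Nat.add_mul_mod_self_left, Nat.mod_eq_of_lt h0]
    have e2 : (f 0 + 2 ^ 32 * pk t.length fun k => f (k + 1)) >>> 32 =
        pk t.length fun k => f (k + 1) := by
      rw [Nat.shiftRight_eq_div_pow, Nat.add_mul_div_left _ _ (by positivity), Nat.div_eq_of_lt h0,
        zero_add]
    rw [e1, e2, ih _ fun k hk => hf (k + 1) (by simp; omega)]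
    rfl

theorem rowsOf_length (M : Mat) : (rowsOf M).length = 111 := by simp [rowsOf]

theorem redP_row (u : Fin 111 → ZMod 5) (M : Mat) :
    redWith mask (dotP (rowsOf M) (rowPk u)) = rowPk (Matrix.vecMul u M) := by
  set f : ℕ → ℕ := fun k => if h : k < 111 then (u ⟨k, h⟩).val else 0 with hf
  have h1 := dotP_eq (rowsOf M) f fun k _ => (val_lt5 u k).trans (by norm_num)
  rw [rowsOf_length] at h1
  rw [rowPk, h1]
  have h2 := H68.Ly.dot_eq 111 ((List.range 111).map f) (entry M)
  rw [List.length_map, List.length_range] at h2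
  rw [show rowsOf M = (List.range 111).map fun i => pk 111 (entry M i) from rfl, h2]
  have hget : ∀ l < 111, ((List.range 111).map f).getD l 0 = f l := fun l hl => by
    rw [List.getD_eq_getElem _ _ (by simpa using hl)]
    simp
  rw [H68.Ly.red_pk]
  · refine pk_congr _ fun k hk => ?_
    rw [dif_pos hk, ← ZMod.val_natCast]
    refine congrArg ZMod.val ?_
    rw [Nat.cast_sum, Matrix.vecMul, dotProduct, Finset.sum_range]
    refine Finset.sum_congr rfl fun l _ => ?_
    rw [hget l.val l.2, H68.Ly.entry_of M l.2 hk, Nat.cast_mul, ZMod.natCast_zmod_val]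
    simp only [hf, dif_pos l.2, ZMod.natCast_zmod_val]
  · intro k _
    calc ∑ l ∈ Finset.range 111, ((List.range 111).map f).getD l 0 * entry M l k
        ≤ ∑ _l ∈ Finset.range 111, 4 * 4 := Finset.sum_le_sum fun l hl =>
          Nat.mul_le_mul (by
              rw [hget l (Finset.mem_range.1 hl)]
              have : f l < 5 := val_lt5 u l
              omega)
            (by have := H68.Ly.entry_lt M l k; omega)
      _ = 1776 := by simp

theorem rowsOf_row (M : Mat) : rowsOf M = (List.range 111).map fun i =>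
    if h : i < 111 then rowPk (M ⟨i, h⟩) else 0 := by
  refine List.map_congr_left fun i hi => ?_
  have hi' : i < 111 := List.mem_range.1 hi
  rw [dif_pos hi', rowPk]
  refine pk_congr _ fun k hk => ?_
  rw [H68.Ly.entry_of M hi' hk, dif_pos hk]

/-- the table of a matrix -/
def tabOf (M : Mat) : List (List ℕ) :=
  (List.range 111).map fun i => (List.range 111).map fun j => entry M i j

theorem tabOf_ok (M : Mat) : tabOK (tabOf M) = true := by
  simp only [tabOK, tabOf, Bool.and_eq_true, beq_iff_eq, List.all_eq_true, decide_eq_true_eq,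
    List.length_map, List.length_range, List.mem_map, List.mem_range]
  refine ⟨trivial, ?_⟩
  rintro r ⟨i, -, rfl⟩
  refine ⟨by simp, ?_⟩
  intro e he
  obtain ⟨j, -, rfl⟩ := List.mem_map.1 he
  exact H68.Ly.entry_lt M i j

theorem toM_tabOf (M : Mat) : toM (tabOf M) = M := by
  funext i j
  have h : ((tabOf M).getD i.val []).getD j.val 0 = entry M i.val j.val := by
    simp [tabOf]
  rw [toM, Matrix.of_apply, h, H68.Ly.entry_fin, ZMod.natCast_zmod_val]

theorem packTab_tabOf (M : Mat) : H68.Ly.packTab (tabOf M) = rowsOf M := by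
  rw [H68.Ly.packTab, tabOf, List.map_map]
  refine List.map_congr_left fun i _ => ?_
  rw [Function.comp_apply, H68.Ly.packRow_eq]
  simp only [List.length_map, List.length_range]
  refine pk_congr _ fun k hk => ?_
  simp [hk]

theorem rowsK_eq (rm Y : ℕ) : ∀ (n off : ℕ) (k : List ℕ → Bool),
    rowsK rm Y n off k = k ((List.range n).map fun j => (Y >>> (off + 3552 * j)) &&& rm) := by
  intro n
  induction n with
  | zero => intro off k; rfl
  | succ n ih =>
    intro off k
    show fz ((Y >>> off) &&& rm) (fun r => rowsK rm Y n (off + 3552) fun l => k (r :: l)) = _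
    rw [fz_eq, ih, List.range_succ_eq_map, List.map_cons, List.map_map, Nat.mul_zero, Nat.add_zero]
    refine congrArg (fun l => k (_ :: l)) (List.map_congr_left fun j _ => ?_)
    rw [Function.comp_apply, Nat.mul_succ, Nat.add_assoc, Nat.add_comm 3552]

theorem qk_digit (W : ℕ) : ∀ (n : ℕ) (f : ℕ → ℕ), (∀ i < n, f i < 2 ^ W) → ∀ j < n,
    (H68.Ly.qk W n f >>> (W * j)) &&& (2 ^ W - 1) = f j
  | 0, _, _, j, hj => absurd hj (Nat.not_lt_zero j)
  | n + 1, f, hf, j, hj => by
    rw [Nat.and_two_pow_sub_one_eq_mod, Nat.shiftRight_eq_div_pow, H68.Ly.qk]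
    cases j with
    | zero =>
      rw [Nat.mul_zero, pow_zero, Nat.div_one, Nat.add_mul_mod_self_left,
        Nat.mod_eq_of_lt (hf 0 (Nat.succ_pos n))]
    | succ j =>
      have h := qk_digit W n (fun i => f (i + 1)) (fun i hi => hf (i + 1) (Nat.succ_lt_succ hi)) j
        (Nat.lt_of_succ_lt_succ hj)
      rw [Nat.and_two_pow_sub_one_eq_mod, Nat.shiftRight_eq_div_pow] at h
      rw [Nat.mul_succ, Nat.add_comm (W * j), pow_add, ← Nat.div_div_eq_div_mul,
        Nat.add_mul_div_left _ _ (Nat.two_pow_pos W), Nat.div_eq_of_lt (hf 0 (Nat.succ_pos n)),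
        zero_add]
      exact h

theorem rmask_eq : rmask = 2 ^ (32 * 111) - 1 := rfl

theorem rowsK_St (M : Mat) (k : List ℕ → Bool) :
    rowsK rmask (H68.Ly.St M) 111 0 k = k (rowsOf M) := by
  rw [rowsK_eq]
  refine congrArg k (List.map_congr_left fun j hj => ?_)
  have hd := qk_digit (32 * 111) 111 (fun i => pk 111 (entry M i))
    (fun i _ => pk_lt 111 fun k _ => (H68.Ly.entry_lt M i k).trans (by norm_num))
    j (List.mem_range.1 hj)
  rw [zero_add, rmask_eq]
  exact hd

theorem mulN_St (A B : Mat) (k : ℕ → Bool) :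
    mulN H68.Ly.cmask rmask bigMask (H68.Ly.St A) (H68.Ly.St B) k = k (H68.Ly.St (A * B)) := by
  rw [mulN, rowsK_St, H68.Ly.sumK_eq, fz_eq, zero_add, ← packTab_tabOf B]
  rw [bigMask, H68.Ly.step_St (tabOf_ok B) A, toM_tabOf]

theorem baseN_eq : ∀ (tabs : List (List (List ℕ))), (∀ S ∈ tabs, tabOK S = true) →
    ∀ k : List ℕ → Bool, baseN H68.Ly.cmask bigMask H68.Ly.idN tabs k =
      k ((tabs.map toM).map H68.Ly.St) := by
  intro tabs
  induction tabs with
  | nil => intro _ k; rfl
  | cons S tabs ih =>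
    intro h k
    show H68.Ly.runR H68.Ly.cmask bigMask ([S].map H68.Ly.packTab) H68.Ly.idN
      (fun X => baseN H68.Ly.cmask bigMask H68.Ly.idN tabs fun l => k (X :: l)) = _
    rw [H68.Ly.idN_eq, bigMask, H68.Ly.runR_eq [S] (fun x hx => by
      rw [List.mem_singleton.1 hx]; exact h S List.mem_cons_self), one_mul, ← bigMask,
      ← H68.Ly.idN_eq, ih (fun x hx => h x (List.mem_cons_of_mem _ hx))]
    simp

theorem progN_eq : ∀ (prog : List (ℕ × ℕ)) (L : List Mat) (k : List ℕ → Bool),
    progN H68.Ly.cmask rmask bigMask H68.Ly.idN prog (L.map H68.Ly.St) k =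
      k ((evalP (fun a b : Mat => a * b) 1 prog L).map H68.Ly.St) := by
  intro prog
  induction prog with
  | nil => intro L k; rfl
  | cons p rest ih =>
    intro L k
    show mulN H68.Ly.cmask rmask bigMask ((L.map H68.Ly.St).getD p.1 H68.Ly.idN)
      ((L.map H68.Ly.St).getD p.2 H68.Ly.idN)
      (fun Z => progN H68.Ly.cmask rmask bigMask H68.Ly.idN rest (L.map H68.Ly.St ++ [Z]) k) = _
    rw [H68.Ly.idN_eq, getD_map, getD_map, mulN_St, ← List.map_singleton (f := H68.Ly.St),
      ← List.map_append, ← H68.Ly.idN_eq, ih]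
    rfl

theorem segB_spec {ins : List (List (List ℕ))} {prog : List (ℕ × ℕ)} {pos : ℕ}
    {out : List (List ℕ)} (hins : ∀ S ∈ ins, tabOK S = true) (hout : tabOK out = true)
    (h : segB ins prog pos out = true) :
    (evalP (fun a b : Mat => a * b) 1 prog (ins.map toM)).getD pos 1 = toM out := by
  have h' : baseN H68.Ly.cmask bigMask H68.Ly.idN ins (fun L =>
      progN H68.Ly.cmask rmask bigMask H68.Ly.idN prog L fun L' =>
        H68.Ly.runR H68.Ly.cmask bigMask [H68.Ly.packTab out] H68.Ly.idN
          fun O => Nat.beq (L'.getD pos H68.Ly.idN) O) = true := by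
    simpa [segB, fz_eq] using h
  rw [baseN_eq ins hins, progN_eq, H68.Ly.idN_eq, ← List.map_singleton (f := H68.Ly.packTab),
    bigMask, H68.Ly.runR_eq [out] (fun x hx => by rw [List.mem_singleton.1 hx]; exact hout),
    one_mul, getD_map] at h'
  simpa using H68.Ly.St_inj (Nat.eq_of_beq_eq_true h')

theorem eqT_spec {w1 w2 : List (List (List ℕ))} (h1 : ∀ S ∈ w1, tabOK S = true)
    (h2 : ∀ S ∈ w2, tabOK S = true) (h : eqT w1 w2 = true) :
    (w1.map toM).prod = (w2.map toM).prod := by
  have h' : H68.Ly.runR H68.Ly.cmask bigMask (w1.map H68.Ly.packTab) H68.Ly.idN (fun A =>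
      H68.Ly.runR H68.Ly.cmask bigMask (w2.map H68.Ly.packTab) H68.Ly.idN
        fun B => Nat.beq A B) = true := by
    simpa [eqT, fz_eq] using h
  rw [H68.Ly.idN_eq, bigMask, H68.Ly.runR_eq w1 h1, H68.Ly.runR_eq w2 h2, one_mul, one_mul] at h'
  exact H68.Ly.St_inj (Nat.eq_of_beq_eq_true h')

theorem push_rows : ∀ (ws : List Mat) (u : Fin 111 → ZMod 5),
    push mask (ws.map rowsOf) (rowPk u) = rowPk (Matrix.vecMul u ws.prod) := by
  intro ws
  induction ws with
  | nil => intro u; simp [push]
  | cons A ws ih =>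
    intro u
    show fz (redWith mask (dotP (rowsOf A) (rowPk u))) (push mask (ws.map rowsOf)) = _
    rw [fz_eq, redP_row, ih, Matrix.vecMul_vecMul, List.prod_cons]

theorem rowsOf_table {S : List (List ℕ)} (hS : tabOK S = true) :
    rowsOf (toM S) = S.map fun r => redWith mask (dot r H68.Ly.idRows) := by
  rw [H68.Ly.idRows_eq, H68.Ly.step_rows hS, mul_one]

end H44.LyTwo
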