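import Cfsg.Agent.H44.LyTwo.Check

/-!
A group mapping onto the ten matrices has order divisible by `256`; if faithfully, the named
elements give a valid certificate.
-/

set_option autoImplicit false
set_option maxRecDepth 100000

namespace H44.LyTwo

open H68.Ly (Mat toM tabOK)

variable {G : Type*} [Group G] (ρ : G →* GL (Fin 111) (ZMod 5))

theorem coe_one' : ((ρ (1 : G) : GL (Fin 111) (ZMod 5)) : Mat) = 1 := by rw [map_one, Units.val_one]

/-- the named elements of the group -/
def namedG (gens : List G) : List G := evalS (fun a b : G => a * b) 1 Data.stages gens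

theorem namedG_map (gens : List G)
    (hgens : gens.map (fun g => (ρ g : Mat)) = ((List.range 10).map H68.Ly.tab).map toM) :
    (namedG gens).map (fun g => (ρ g : Mat)) = namedM := by
  rw [namedG, evalS_map (fun a b : G => a * b) (fun a b : Mat => a * b) (fun g => (ρ g : Mat))
    (fun a b => by rw [map_mul, Units.val_mul]) 1, hgens, coe_one', evalS_named]
  rfl

theorem dvd_card_of_injective [Finite G] (hinj : Function.Injective ρ) (gens : List G)
    (hgens : gens.map (fun g => (ρ g : Mat)) = ((List.range 10).map H68.Ly.tab).map toM) :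
    256 ∣ Nat.card G := by
  set μ : G → Mat := fun g => (ρ g : Mat)
  have hd := theCert_valid
  have h1 : μ 1 = 1 := coe_one' ρ
  have hμ : ∀ g h, μ (g * h) = μ g * μ h := fun g h => by
    show ((ρ (g * h) : GL (Fin 111) (ZMod 5)) : Mat) = _
    rw [map_mul, Units.val_mul]
  have hi : Function.Injective μ := fun g h e => hinj (Units.ext e)
  set L := namedG gens
  have hL : L.map μ = namedM := namedG_map ρ gens hgens
  set x : ℕ → G := fun k => L.getD (theCert.xs.getD k namedM.length) 1
  have hx : ∀ k, μ (x k) = theCert.gen 1 namedM k := fun k => by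
    show μ (L.getD _ 1) = _
    rw [← getD_map μ L _ 1, hL, h1]
    rfl
  have hw : ∀ k i, μ (wd x k i) =
      wdC (fun a b : Mat => a * b) 1 (theCert.gen 1 namedM) k i := fun k i => by
    have h := wdC_spec hμ hx i k
    rwa [h1] at h
  have R : Rels x 8 :=
    ⟨fun k hk => ⟨theCert.sq k, hi (by rw [hμ, hx, hw]; exact hd.sq k hk)⟩,
      fun k hk j hj => ⟨theCert.pc k j,
        hi (by rw [hμ, hμ, hx, hx, hw]; exact hd.pc k hk j hj)⟩⟩
  have O : Regular x 8 (fun v g => Matrix.vecMul v (μ g)) theCert.sg theCert.o :=
    { act_one := by show Matrix.vecMul (theCert.o 0) (μ 1) = _; rw [h1, Matrix.vecMul_one]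
      act_mul := fun v g h => by
        show Matrix.vecMul v (μ (g * h)) = _
        rw [hμ, ← Matrix.vecMul_vecMul]
      inj := hd.inj
      step := fun k hk i hi => ⟨(hd.step k hk i hi).1, by
        show Matrix.vecMul (theCert.o i) (μ (x k)) = _
        rw [hx]
        exact (hd.step k hk i hi).2⟩
      std := hd.std }
  have h := card_chain R O
  have h2 := Subgroup.card_subgroup_dvd_card (chain x 8)
  rwa [h, show (2 : ℕ) ^ 8 = 256 from rfl] at h2

/-- A finite group mapping to the ten matrices has order divisible by `256`. -/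
theorem dvd_card [Finite G] (gens : List G)
    (hgens : gens.map (fun g => (ρ g : Mat)) = ((List.range 10).map H68.Ly.tab).map toM) :
    256 ∣ Nat.card G := by
  have h := dvd_card_of_injective ρ.range.subtype Subtype.val_injective
    (gens.map fun g => (⟨ρ g, g, rfl⟩ : ρ.range)) (by rw [List.map_map]; exact hgens)
  exact h.trans (Subgroup.card_range_dvd ρ)

end H44.LyTwo
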